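import Cfsg.Agent.Cit.LongSp

/-!
# Fact (F1) of node NI for matrix groups: a long `SL₂` in `PSL_n(F)`, `PSU_n(q)`, `PSp_{2n}(F)`

`Long X F'`: an involution `j ∈ J ≤ C_X(j)`, `J` subnormal in `C_X(j)`, `J ≃ SL₂(F')`.
-/

set_option autoImplicit false

namespace Cfsg.Agent.OddHalf.NI.F1Mat

open Subgroup Cfsg Matrix Cfsg.Agent.Cit.LongAbs Cfsg.Agent.Cit.LongBlock Cfsg.Agent.Cit.LongQuot
  Cfsg.Agent.Cit.LongMain Cfsg.Agent.Cit.LongModel Cfsg.Agent.Cit.LongInst

/-- a long `SL₂(F')` in `X`: it contains an involution `j` and is subnormal in `C(j)` -/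
def Long (X : Type*) [Group X] (F' : Type*) [Field F'] : Prop :=
  ∃ (j : X) (J : Subgroup X), orderOf j = 2 ∧ j ∈ J ∧ J ≤ centralizer {j} ∧
    (J.subgroupOf (centralizer {j})).IsSubnormal ∧ Nonempty (J ≃* SpecialLinearGroup (Fin 2) F')

/-- transport -/
theorem Long.congr {X Y : Type*} [Group X] [Group Y] {F' : Type*} [Field F'] (h : Long X F')
    (e : X ≃* Y) : Long Y F' := by
  obtain ⟨j, J, h1, h2, h3, h4, ⟨f⟩⟩ := h
  have hC : (centralizer {j}).map e.toMonoidHom = centralizer {e j} := by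
    ext y
    rw [mem_centralizer_singleton_iff]
    constructor
    · rintro ⟨x, hx, rfl⟩
      have := mem_centralizer_singleton_iff.1 hx
      change e x * e j = e j * e x
      rw [← map_mul, this, map_mul]
    · intro hy
      refine ⟨e.symm y, ?_, by simp⟩
      apply mem_centralizer_singleton_iff.2
      apply e.injective
      rw [map_mul, map_mul, e.apply_symm_apply, hy]
  refine ⟨e j, J.map e.toMonoidHom, ?_, mem_map_of_mem _ h2, ?_, ?_,
    ⟨(J.equivMapOfInjective e.toMonoidHom e.injective).symm.trans f⟩⟩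
  · rw [MulEquiv.orderOf_eq]; exact h1
  · rw [← hC]; exact Subgroup.map_mono h3
  · rw [← hC]
    set C := centralizer ({j} : Set X) with hCdef
    let g : C ≃* C.map e.toMonoidHom := C.equivMapOfInjective e.toMonoidHom e.injective
    have h5 := h4.map (f := g.toMonoidHom) g.surjective
    have h6 : (J.subgroupOf C).map g.toMonoidHom =
        (J.map e.toMonoidHom).subgroupOf (C.map e.toMonoidHom) := by
      ext y
      rw [mem_subgroupOf]
      constructor
      · rintro ⟨x, hx, rfl⟩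
        exact ⟨x, mem_subgroupOf.1 hx, rfl⟩
      · rintro ⟨x, hx, hxy⟩
        refine ⟨⟨x, h3 hx⟩, mem_subgroupOf.2 hx, Subtype.ext hxy⟩
    rwa [h6] at h5

variable {Γ : Type*} [Group Γ] {F : Type*} [Field F] {κ : Type*} [Fintype κ] [DecidableEq κ]

theorem z0_order (R : Rep Γ F κ) [Nonempty κ] (h2 : (2 : F) ≠ 0) : orderOf (z0 R) = 2 := by
  refine orderOf_eq_prime (by rw [pow_two]; exact z0_mul) ?_
  intro h
  have h5 : R.t ∈ center Γ := pr_eq_one.1 h
  have h6 := congrArg R.ρ (E1_center R R.t_mem h5)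
  rw [R.t_eq, map_one, ← fromBlocks_one, fromBlocks_inj] at h6
  have h7 := congrFun (congrFun h6.1 0) 0
  simp at h7
  apply h2
  have : (1 : F) + 1 = 0 := by nth_rewrite 1 [← h7]; ring
  rw [← this]; norm_num

/-- the general statement: `R.E1 ≃ SL₂(F')` gives `Long (Γ ⧸ Z(Γ)) F'` -/
theorem long_of_rep (R : Rep Γ F κ) [Nonempty κ] (h2 : (2 : F) ≠ 0) {F' : Type*} [Field F']
    (e : Nonempty (R.E1 ≃* SpecialLinearGroup (Fin 2) F')) : Long (Γ ⧸ center Γ) F' := by
  obtain ⟨e⟩ := e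
  exact ⟨z0 R, D1 R, z0_order R h2, z0_mem, D1_le_CC, D1_subnormal R h2, ⟨(D1Equiv R).symm.trans e⟩⟩

theorem long_of_model {R : Rep Γ F κ} {T : Set (F →+* F)} (hR : WModel R T) [Nonempty κ]
    (h2 : (2 : F) ≠ 0) {F' : Type*} [Field F']
    (e : Nonempty (Un T (Fin 2) ≃* SpecialLinearGroup (Fin 2) F')) : Long (Γ ⧸ center Γ) F' := by
  obtain ⟨f⟩ := hR.equiv1
  obtain ⟨e⟩ := e
  exact long_of_rep R h2 ⟨f.trans e⟩

/-- `PSL_n(F)`, `n ≥ 3` -/
theorem psl {F : Type*} [Field F] [Fintype F] (ho : Odd (Fintype.card F)) {n : ℕ} (hn : 3 ≤ n) :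
    Long (ProjectiveSpecialLinearGroup (Fin n) F) F := by
  obtain ⟨k, rfl⟩ : ∃ k, n = 2 + k := ⟨n - 2, by omega⟩
  have : Nonempty (Fin k) := ⟨⟨0, by omega⟩⟩
  exact long_of_model (slRep_model F k).toW
    (SignalizersComponents.SLQuasisimple.two_ne_zero_of_odd ho) (un_empty_equiv F _)

/-- `PSU_n(q)`, `n ≥ 3` -/
theorem psu {F : Type*} [Field F] [Fintype F] {q : ℕ} (hF : Fintype.card F = q ^ 2)
    (ho : Odd (Fintype.card F)) {n : ℕ} (hn : 3 ≤ n) : Long (PSU n F q) (KK hF) := by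
  obtain ⟨k, rfl⟩ : ∃ k, n = 2 + k := ⟨n - 2, by omega⟩
  have : Nonempty (Fin k) := ⟨⟨0, by omega⟩⟩
  exact long_of_model (suRep_model hF k (by omega)).toW
    (SignalizersComponents.SLQuasisimple.two_ne_zero_of_odd ho) (un2_equiv hF)

/-! ### `PSp_{2n}(F)` -/

/-- if the matrices `fromBlocks P 0 0 1` in the range of `ρ` are those with `det P = 1` then `E₁ ≃ SL₂(F)` -/
theorem e1_equiv (R : Rep Γ F κ) (h : ∀ P, (∃ g, R.ρ g = fromBlocks P 0 0 1) ↔ P.det = 1) :
    Nonempty (R.E1 ≃* SpecialLinearGroup (Fin 2) F) := by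
  have h0 : ∀ x : R.E1, R.ρ x = fromBlocks (R.ρ x).toBlocks₁₁ 0 0 1 ∧ (R.ρ x).toBlocks₁₁.det = 1 := by
    rintro ⟨x, P, hP⟩
    rw [hP, toBlocks_fromBlocks₁₁]
    exact ⟨rfl, (h P).1 ⟨x, hP⟩⟩
  let φ : R.E1 →* SpecialLinearGroup (Fin 2) F :=
    { toFun := fun x => ⟨(R.ρ x).toBlocks₁₁, (h0 x).2⟩
      map_one' := by
        apply Subtype.ext
        change (R.ρ ((1 : R.E1) : Γ)).toBlocks₁₁ = 1
        rw [Subgroup.coe_one, map_one, ← fromBlocks_one, toBlocks_fromBlocks₁₁]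
      map_mul' := by
        intro x y
        apply Subtype.ext
        change (R.ρ ((x * y : R.E1) : Γ)).toBlocks₁₁ = (R.ρ x).toBlocks₁₁ * (R.ρ y).toBlocks₁₁
        rw [Subgroup.coe_mul, map_mul]
        nth_rewrite 1 [(h0 x).1, (h0 y).1]
        rw [fromBlocks_multiply, toBlocks_fromBlocks₁₁]
        simp }
  refine ⟨MulEquiv.ofBijective φ ⟨?_, ?_⟩⟩
  · intro x y hxy
    have h1 : (R.ρ x).toBlocks₁₁ = (R.ρ y).toBlocks₁₁ :=
      congrArg (fun A : SpecialLinearGroup (Fin 2) F => (A.1 : Matrix (Fin 2) (Fin 2) F)) hxy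
    apply Subtype.ext
    apply R.inj
    rw [(h0 x).1, (h0 y).1, h1]
  · rintro ⟨M, hM⟩
    obtain ⟨g, hg⟩ := (h M).2 hM
    refine ⟨⟨g, M, hg⟩, ?_⟩
    apply Subtype.ext
    change (R.ρ g).toBlocks₁₁ = M
    rw [hg, toBlocks_fromBlocks₁₁]

section Sp

variable (F) (k : ℕ)

/-- the index equivalence -/
def eS : Fin (1 + k) ⊕ Fin (1 + k) ≃ Fin 2 ⊕ (Fin k ⊕ Fin k) :=
  ((Equiv.sumCongr finSumFinEquiv.symm finSumFinEquiv.symm).trans
    (Equiv.sumSumSumComm (Fin 1) (Fin k) (Fin 1) (Fin k))).trans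
    (Equiv.sumCongr finSumFinEquiv (Equiv.refl _))

theorem J_eq : (fromBlocks (Cit.LongSp.jj F) 0 0 (J (Fin k) F)).submatrix (eS k) (eS k) =
    J (Fin (1 + k)) F := by
  ext i j
  rcases i with i | i <;> rcases j with j | j <;>
    obtain ⟨i, rfl⟩ := finSumFinEquiv.surjective i <;>
    obtain ⟨j, rfl⟩ := finSumFinEquiv.surjective j <;>
    rcases i with i | i <;> rcases j with j | j <;>
    simp [J, Cit.LongSp.jj, eS, Matrix.one_apply, Fin.ext_iff]
  all_goals first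
    | omega
    | (fin_cases i; fin_cases j; rfl)

theorem mul_submatrix_iff (M : Matrix (Fin 2 ⊕ (Fin k ⊕ Fin k)) (Fin 2 ⊕ (Fin k ⊕ Fin k)) F) :
    M.submatrix (eS k) (eS k) ∈ symplecticGroup (Fin (1 + k)) F ↔
      M * fromBlocks (Cit.LongSp.jj F) 0 0 (J (Fin k) F) * Mᵀ =
        fromBlocks (Cit.LongSp.jj F) 0 0 (J (Fin k) F) := by
  rw [SymplecticGroup.mem_iff, ← J_eq, transpose_submatrix, submatrix_mul_equiv, submatrix_mul_equiv]
  constructor
  · intro h
    have := congrArg (fun N => N.submatrix (eS k).symm (eS k).symm) h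
    simpa using this
  · intro h
    rw [h]

theorem sp_block (P : Matrix (Fin 2) (Fin 2) F) :
    (fromBlocks P 0 0 (1 : Matrix (Fin k ⊕ Fin k) (Fin k ⊕ Fin k) F)).submatrix (eS k) (eS k) ∈
      symplecticGroup (Fin (1 + k)) F ↔ P.det = 1 := by
  rw [mul_submatrix_iff, fromBlocks_transpose, fromBlocks_multiply, fromBlocks_multiply, fromBlocks_inj]
  simp only [Matrix.zero_mul, Matrix.mul_zero, add_zero, zero_add, transpose_zero, transpose_one,
    Matrix.one_mul, Matrix.mul_one, Cit.LongSp.mul_jj, and_true]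
  constructor
  · intro h
    have := congrFun (congrFun h 1) 0
    simpa [Cit.LongSp.jj] using this
  · intro h; rw [h, one_smul]

/-- `Sp_{2+2k}(F)` -/
def spRepG : Rep (symplecticGroup (Fin (1 + k)) F) F (Fin k ⊕ Fin k) where
  ρ :=
    { toFun := fun g => g.1.submatrix (eS k).symm (eS k).symm
      map_one' := submatrix_one_equiv _
      map_mul' := fun g h => (submatrix_mul_equiv g.1 h.1 _ (eS k).symm _).symm }
  inj := by
    intro g h hgh
    have h1 : g.1.submatrix (eS k).symm (eS k).symm = h.1.submatrix (eS k).symm (eS k).symm := hgh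
    apply Subtype.ext
    have h2 := congrArg (fun N => N.submatrix (eS k) (eS k)) h1
    simpa using h2
  cen := by
    intro g hg
    rw [LieClassical.SympCenter.mem_center_iff] at hg
    obtain ⟨c, hc⟩ := hg
    refine ⟨c, ?_⟩
    change g.1.submatrix (eS k).symm (eS k).symm = c • 1
    rw [hc]
    ext i j
    simp [Matrix.one_apply]
  t := ⟨(fromBlocks (-1) 0 0 1 : Matrix _ _ F).submatrix (eS k) (eS k),
    (sp_block F k (-1)).2 (by rw [det_neg]; simp)⟩
  t_eq := by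
    change Matrix.submatrix (Matrix.submatrix _ _ _) _ _ = _
    simp

theorem spRepG_e1 : Nonempty ((spRepG F k).E1 ≃* SpecialLinearGroup (Fin 2) F) := by
  refine e1_equiv _ fun P => ?_
  rw [← sp_block F k]
  constructor
  · rintro ⟨g, hg⟩
    have h1 : g.1.submatrix (eS k).symm (eS k).symm = fromBlocks P 0 0 1 := hg
    rw [← h1]
    simp
  · intro h
    refine ⟨⟨_, h⟩, ?_⟩
    change Matrix.submatrix (Matrix.submatrix _ _ _) _ _ = _
    simp

end Sp

/-- `PSp_{2n}(F)`, `n ≥ 2` -/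
theorem psp {F : Type*} [Field F] [Fintype F] (ho : Odd (Fintype.card F)) {n : ℕ} (hn : 2 ≤ n) :
    Long (PSp n F) F := by
  obtain ⟨k, rfl⟩ : ∃ k, n = 1 + k := ⟨n - 1, by omega⟩
  have : Nonempty (Fin k ⊕ Fin k) := ⟨Sum.inl ⟨0, by omega⟩⟩
  exact long_of_rep (spRepG F k) (SignalizersComponents.SLQuasisimple.two_ne_zero_of_odd ho)
    (spRepG_e1 F k)

end Cfsg.Agent.OddHalf.NI.F1Mat
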