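import Cfsg.Agent.OddHalf.D3.Inst

/-!
# LEMMA P: components of `C(e) ∩ C(z)` and the pump-ups in `C(e)`

`CompIn H K`: `K` is a component of the subgroup `H`. `Dg K D x`: `K = {d d^x : d ∈ D}`, `D` commutes with
`D^x ≠ D` (no injectivity).
-/

set_option autoImplicit false
set_option linter.style.haveILetI false

namespace Cfsg.Agent.OddHalf.NI

open Subgroup Cfsg Cfsg.Agent.SignalizersComponents Cfsg.Agent.OddHalf.D3
open scoped commutatorElement

section CompIn

variable {G : Type*} [Group G]

/-- `K` is a component of `H`. -/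
structure CompIn (H K : Subgroup G) : Prop where
  le : K ≤ H
  comp : IsComponent (K.subgroupOf H)

theorem compIn_of_comp {t : G} {K : Subgroup G} (h : Comp t K) :
    CompIn (centralizer ({t} : Set G)) K := ⟨h.le, h.comp⟩

theorem CompIn.toComp {t : G} {K : Subgroup G} (h : CompIn (centralizer ({t} : Set G)) K) :
    Comp t K := ⟨h.le, h.comp⟩

theorem CompIn.quasi {H K : Subgroup G} (h : CompIn H K) : IsQuasisimple K :=
  (Components.isQuasisimple_congr (Subgroup.subgroupOfEquivOfLe h.le)).mp h.comp.2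

theorem CompIn.perfect {H K : Subgroup G} (h : CompIn H K) : ⁅K, K⁆ = K :=
  Subgroup.isPerfect_iff.mp h.quasi.1

/-- A component of `H` contained in `H' ≤ H` is a component of `H'`. -/
theorem CompIn.mono {H H' K : Subgroup G} (h : CompIn H K) (hK : K ≤ H') (hH : H' ≤ H) :
    CompIn H' K := by
  refine ⟨hK, ?_, ?_⟩
  · have h1 : K.subgroupOf H' = (K.subgroupOf H).comap (Subgroup.inclusion hH) := rfl
    rw [h1]
    exact h.comp.1.comap _
  · exact Components.isQuasisimple_of_mulEquiv (Subgroup.subgroupOfEquivOfLe hK).symm h.quasi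

theorem CompIn.comm {H K L : Subgroup G} (hK : CompIn H K) (hL : CompIn H L) (hne : K ≠ L) :
    K ≤ centralizer (L : Set G) := by
  have h1 : K.subgroupOf H ≠ L.subgroupOf H := by
    intro h
    apply hne
    have := congrArg (Subgroup.map H.subtype) h
    rwa [Subgroup.map_subgroupOf_eq_of_le hK.le, Subgroup.map_subgroupOf_eq_of_le hL.le] at this
  have h2 := Components.component_le_centralizer_of_ne hK.comp hL.comp h1
  intro x hx
  rw [mem_centralizer_iff]
  intro y hy
  have h3 := h2 (show (⟨x, hK.le hx⟩ : H) ∈ K.subgroupOf _ from hx)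
  exact congrArg Subtype.val (mem_centralizer_iff.mp h3 ⟨y, hL.le hy⟩ hy)

/-- A component of `H` contained in a quasisimple subgroup `L` of `H` is equal to `L`. -/
theorem CompIn.eq_of_le {H K L : Subgroup G} (hK : CompIn H K) (hL : IsQuasisimple L) (hLH : L ≤ H)
    (hKL : K ≤ L) : K = L := by
  have h1 := (hK.mono hKL hLH).comp
  rcases Components.quasisimple_subnormal hL h1.1 with h | h
  · exact le_antisymm hKL (by rwa [Subgroup.subgroupOf_eq_top] at h)
  · exfalso
    apply Components.quasisimple_center_ne_top h1.2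
    rw [eq_top_iff]
    intro x _
    rw [mem_center_iff]
    intro g
    apply Subtype.ext
    exact mem_center_iff.mp (h x.2) g

theorem CompIn.conj {H K : Subgroup G} (h : CompIn H K) (g : G) : CompIn (cj g H) (cj g K) :=
  ⟨cj_mono h.le, DistinctComponents.isComponent_subgroupOf_conj h.le h.comp g⟩

theorem CompIn.conj_of_norm {H K : Subgroup G} (h : CompIn H K) {g : G} (hg : cj g H = H) :
    CompIn H (cj g K) := by
  have h1 := h.conj g
  rwa [hg] at h1

/-- Transport to the group `↥X`. -/
theorem CompIn.subgroupOf {X H K : Subgroup G} (h : CompIn H K) (hHX : H ≤ X) :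
    CompIn (H.subgroupOf X) (K.subgroupOf X) := by
  refine ⟨?_, ?_, ?_⟩
  · intro x hx
    exact h.le hx
  · let ι : (H.subgroupOf X) →* H := (Subgroup.subgroupOfEquivOfLe hHX).toMonoidHom
    have h2 : (K.subgroupOf X).subgroupOf (H.subgroupOf X) = (K.subgroupOf H).comap ι := rfl
    rw [h2]
    exact h.comp.1.comap ι
  · have hle : K.subgroupOf X ≤ H.subgroupOf X := fun x hx => h.le hx
    have e1 := Subgroup.subgroupOfEquivOfLe hle
    have e2 := Subgroup.subgroupOfEquivOfLe (h.le.trans hHX)
    exact Components.isQuasisimple_of_mulEquiv (e1.trans e2).symm h.quasi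

/-- The other direction. -/
theorem compIn_map {X : Subgroup G} {H K : Subgroup X} (h : CompIn H K) :
    CompIn (H.map X.subtype) (K.map X.subtype) := by
  have hle : K.map X.subtype ≤ H.map X.subtype := Subgroup.map_mono h.le
  refine ⟨hle, ?_, ?_⟩
  · let e := (H.equivMapOfInjective X.subtype (Subgroup.subtype_injective X))
    have h2 : (K.map X.subtype).subgroupOf (H.map X.subtype) =
        (K.subgroupOf H).comap e.symm.toMonoidHom := by
      ext x
      rw [Subgroup.mem_subgroupOf, Subgroup.mem_comap, Subgroup.mem_subgroupOf]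
      obtain ⟨y, rfl⟩ := e.surjective x
      have h3 : e.symm.toMonoidHom (e y) = y := e.symm_apply_apply y
      rw [h3]
      change X.subtype (y : X) ∈ K.map X.subtype ↔ (y : X) ∈ K
      exact Subgroup.mem_map_iff_mem (Subgroup.subtype_injective X)
    rw [h2]
    exact h.comp.1.comap _
  · have e1 := Subgroup.subgroupOfEquivOfLe hle
    have e2 := K.equivMapOfInjective X.subtype (Subgroup.subtype_injective X)
    exact Components.isQuasisimple_of_mulEquiv (e2.trans e1.symm) h.quasi

theorem subgroupOf_inf_cs {X : Subgroup G} (x : X) :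
    (X ⊓ centralizer ({(x : G)} : Set G)).subgroupOf X = centralizer ({x} : Set X) := by
  ext y
  rw [Subgroup.mem_subgroupOf, mem_inf, mem_cs, mem_cs]
  constructor
  · intro h
    exact Subtype.ext h.2
  · intro h
    exact ⟨y.2, congrArg Subtype.val h⟩

/-- A component of `C_X(x)` as a component of the centralizer of `x` in the group `↥X`. -/
theorem CompIn.comp_of {X K : Subgroup G} {x : G} (hx : x ∈ X)
    (h : CompIn (X ⊓ centralizer ({x} : Set G)) K) :
    Comp (⟨x, hx⟩ : X) (K.subgroupOf X) := by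
  have h1 := h.subgroupOf (X := X) inf_le_left
  have h2 := subgroupOf_inf_cs (⟨x, hx⟩ : X)
  change (X ⊓ centralizer ({x} : Set G)).subgroupOf X = _ at h2
  rw [h2] at h1
  exact h1.toComp

theorem compIn_of_comp_sub {X : Subgroup G} {x : X} {K : Subgroup X} (h : Comp x K) :
    CompIn (X ⊓ centralizer ({(x : G)} : Set G)) (K.map X.subtype) := by
  have h1 := compIn_map (compIn_of_comp h)
  rw [← subgroupOf_inf_cs x, Subgroup.map_subgroupOf_eq_of_le inf_le_left] at h1
  exact h1

/-- Components of components. -/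
theorem CompIn.trans {H K L : Subgroup G} (h1 : CompIn K L) (h2 : CompIn H K) : CompIn H L := by
  refine ⟨h1.le.trans h2.le, ?_, ?_⟩
  · have h5 : (L.subgroupOf H) ≤ K.subgroupOf H := fun x hx => h1.le hx
    refine Subgroup.IsSubnormal.trans h5 ?_ h2.comp.1
    have h6 : (L.subgroupOf H).subgroupOf (K.subgroupOf H) =
        (L.subgroupOf K).comap (Subgroup.subgroupOfEquivOfLe h2.le).toMonoidHom := rfl
    rw [h6]
    exact h1.comp.1.comap _
  · exact Components.isQuasisimple_of_mulEquiv (Subgroup.subgroupOfEquivOfLe (h1.le.trans h2.le)).symm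
      h1.quasi

end CompIn

section Dg

variable {G : Type*} [Group G]

/-- `K = {d d^x : d ∈ D}`, where `D` commutes with `D^x ≠ D`. -/
structure Dg (K D : Subgroup G) (x : G) : Prop where
  quasi : IsQuasisimple D
  xx : x * x = 1
  xK : x ∈ centralizer (K : Set G)
  ne : cj x D ≠ D
  comm : D ≤ centralizer ((cj x D : Subgroup G) : Set G)
  mem : ∀ d ∈ D, d * (x * d * x⁻¹) ∈ K
  ex : ∀ k ∈ K, ∃ d ∈ D, k = d * (x * d * x⁻¹)

theorem Dg.cj_cj {K D : Subgroup G} {x : G} (h : Dg K D x) : cj x (cj x D) = D := by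
  rw [D3.cj_cj, h.xx, cj_one]

/-- `D` does not commute with `K`. -/
theorem Dg.not_comm {K D : Subgroup G} {x : G} (h : Dg K D x) :
    ¬ D ≤ centralizer (K : Set G) := by
  intro h1
  apply not_comm_self h.quasi
  intro d hd
  rw [mem_centralizer_iff]
  intro e he
  have h2 : d * (e * (x * e * x⁻¹)) = (e * (x * e * x⁻¹)) * d := comm_elt h1 hd (h.mem e he)
  have h3 : d * (x * e * x⁻¹) = (x * e * x⁻¹) * d := comm_elt h.comm hd (conj_mem_cj he)
  calc e * d = (e * (x * e * x⁻¹)) * ((x * e * x⁻¹)⁻¹ * d) := by group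
    _ = (e * (x * e * x⁻¹)) * (d * (x * e * x⁻¹)⁻¹) := by
        congr 1
        rw [inv_mul_eq_iff_eq_mul, ← mul_assoc, eq_mul_inv_iff_mul_eq, h3]
    _ = ((e * (x * e * x⁻¹)) * d) * (x * e * x⁻¹)⁻¹ := by group
    _ = (d * (e * (x * e * x⁻¹))) * (x * e * x⁻¹)⁻¹ := by rw [h2]
    _ = d * e := by group

theorem Dg.not_comm' {K D : Subgroup G} {x : G} (h : Dg K D x) :
    ¬ cj x D ≤ centralizer (K : Set G) := by
  rw [not_comm_conj h.xK]
  exact h.not_comm

/-- Components of `C(y)` other than `D`, `D^x` commute with `K`. -/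
theorem Dg.comm_of_ne {K D E : Subgroup G} {x y : G} (h : Dg K D x) (hxy : x * y = y * x)
    (hD : Comp y D) (hE : Comp y E) (h1 : E ≠ D) (h2 : E ≠ cj x D) :
    E ≤ centralizer (K : Set G) := by
  have c1 := hE.comm hD h1
  have c2 := hE.comm (hD.conj_of_comm hxy) h2
  intro e he
  rw [mem_centralizer_iff]
  intro k hk
  obtain ⟨d, hd, rfl⟩ := h.ex k hk
  have e1 : e * d = d * e := comm_elt c1 he hd
  have e2 : e * (x * d * x⁻¹) = (x * d * x⁻¹) * e := comm_elt c2 he (conj_mem_cj hd)
  calc d * (x * d * x⁻¹) * e = d * ((x * d * x⁻¹) * e) := by group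
    _ = (d * e) * (x * d * x⁻¹) := by rw [← e2]; group
    _ = e * (d * (x * d * x⁻¹)) := by rw [← e1]; group

/-- The components of `C(y)` not commuting with `K` are `D` and `D^x`. -/
theorem Dg.eq_or_eq {K D E : Subgroup G} {x y : G} (h : Dg K D x) (hxy : x * y = y * x)
    (hD : Comp y D) (hE : Comp y E) (hn : ¬ E ≤ centralizer (K : Set G)) : E = D ∨ E = cj x D := by
  by_contra hcon
  push Not at hcon
  exact hn (h.comm_of_ne hxy hD hE hcon.1 hcon.2)

/-- `C(y) ∩ C(K)` permutes `D` and `D^x`. -/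
theorem Dg.perm {K D : Subgroup G} {x y q : G} (h : Dg K D x) (hxy : x * y = y * x)
    (hD : Comp y D) (hqy : q * y = y * q) (hq : q ∈ centralizer (K : Set G)) :
    (cj q D = D ∧ cj q (cj x D) = cj x D) ∨ (cj q D = cj x D ∧ cj q (cj x D) = D) := by
  have h1 := h.eq_or_eq hxy hD (hD.conj_of_comm hqy) (by rw [not_comm_conj hq]; exact h.not_comm)
  have h2 := h.eq_or_eq hxy hD ((hD.conj_of_comm hxy).conj_of_comm hqy)
    (by rw [not_comm_conj hq]; exact h.not_comm')
  rcases h1 with h1 | h1
  · rcases h2 with h2 | h2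
    · exfalso
      apply h.ne
      apply cj_injective q
      rw [h1, h2]
    · exact Or.inl ⟨h1, h2⟩
  · rcases h2 with h2 | h2
    · exact Or.inr ⟨h1, h2⟩
    · exfalso
      apply h.ne
      apply cj_injective q
      rw [h1, h2]

/-- An element of `C(y) ∩ C(K)` which normalizes `D` centralizes `D`. -/
theorem Dg.centralizes {K D : Subgroup G} {x y q : G} (h : Dg K D x) (hxy : x * y = y * x)
    (hD : Comp y D) (hqy : q * y = y * q) (hq : q ∈ centralizer (K : Set G)) (hqD : cj q D = D) :
    q ∈ centralizer (D : Set G) := by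
  have hq2 : cj q (cj x D) = cj x D := by
    rcases h.perm hxy hD hqy hq with h1 | h1
    · exact h1.2
    · exact absurd (h1.1.symm.trans hqD) h.ne
  have hqn : q ∈ normalizer (D : Set G) := mem_normalizer_iff_cj.mpr hqD
  let α : D ≃* D := D.normalizerMonoidHom ⟨q, hqn⟩
  have hα : ∀ d : D, ((α d : D) : G) = q * d * q⁻¹ := fun d => rfl
  have key : ∀ d : D, α d * d⁻¹ ∈ Subgroup.center D := by
    intro d
    have hd : (d : G) ∈ D := d.2
    set e : G := x * d * x⁻¹ with he
    have heD : e ∈ cj x D := conj_mem_cj hd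
    have he' : q * e * q⁻¹ ∈ cj x D := by
      have := conj_mem_cj (g := q) heD
      rwa [hq2] at this
    have hk : ((d : G) * e) * q = q * ((d : G) * e) := mem_centralizer_iff.mp hq _ (h.mem d hd)
    -- q d q⁻¹ * q e q⁻¹ = d e
    have h1 : (q * d * q⁻¹) * (q * e * q⁻¹) = d * e := by
      calc (q * d * q⁻¹) * (q * e * q⁻¹) = q * (d * e) * q⁻¹ := by group
        _ = d * e := by rw [← hk]; group
    have h2 : (α d : G) * (d : G)⁻¹ = (d : G) * (e * (q * e * q⁻¹)⁻¹) * (d : G)⁻¹ := by
      rw [hα]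
      have : q * d * q⁻¹ = (d : G) * e * (q * e * q⁻¹)⁻¹ := by
        rw [← h1]; group
      rw [this]; group
    have hz : e * (q * e * q⁻¹)⁻¹ ∈ cj x D := mul_mem heD (inv_mem he')
    rw [mem_center_iff]
    intro g
    apply Subtype.ext
    change (g : G) * ((α d : G) * (d : G)⁻¹) = ((α d : G) * (d : G)⁻¹) * g
    rw [h2]
    have c1 := comm_elt h.comm hd hz
    have c2 := comm_elt h.comm g.2 hz
    have e3 : (d : G) * (e * (q * e * q⁻¹)⁻¹) * (d : G)⁻¹ = e * (q * e * q⁻¹)⁻¹ := by
      rw [c1]; group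
    rw [e3, c2]
  have hfix := Cfsg.Agent.S1304.result (hD.quasi.1.commutator_eq_top) α key
  rw [mem_centralizer_iff]
  intro d hd
  have h1 := congrArg Subtype.val (hfix ⟨d, hd⟩)
  change q * d * q⁻¹ = d at h1
  calc d * q = (q * d * q⁻¹) * q := by rw [h1]
    _ = q * d := by group

/-- A perfect subgroup of `C(y) ∩ C(K)` centralizes `D`. -/
theorem Dg.perfect_centralizes {K D B : Subgroup G} {x y : G} (h : Dg K D x) (hxy : x * y = y * x)
    (hD : Comp y D) (hBy : B ≤ centralizer ({y} : Set G)) (hBK : B ≤ centralizer (K : Set G))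
    (hB : ⁅B, B⁆ = B) : B ≤ centralizer (D : Set G) := by
  have key : ⁅B, B⁆ ≤ normalizer (D : Set G) := by
    rw [commutator_le]
    intro u hu v hv
    rw [mem_normalizer_iff_cj, commutatorElement_def, ← D3.cj_cj, ← D3.cj_cj, ← D3.cj_cj]
    have hu' := h.perm hxy hD (mem_cs.mp (hBy hu)) (hBK hu)
    have hv' := h.perm hxy hD (mem_cs.mp (hBy hv)) (hBK hv)
    have ui : ∀ {E F : Subgroup G}, cj u E = F → cj u⁻¹ F = E := by
      rintro E F rfl
      exact cj_inv_cj u E
    have vi : ∀ {E F : Subgroup G}, cj v E = F → cj v⁻¹ F = E := by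
      rintro E F rfl
      exact cj_inv_cj v E
    rcases hu' with ⟨u1, u2⟩ | ⟨u1, u2⟩ <;> rcases hv' with ⟨v1, v2⟩ | ⟨v1, v2⟩
    · rw [vi v1, ui u1, v1, u1]
    · rw [vi v2, ui u2, v2, u1]
    · rw [vi v1, ui u2, v2, u2]
    · rw [vi v2, ui u1, v1, u2]
  rw [hB] at key
  intro b hb
  exact h.centralizes hxy hD (mem_cs.mp (hBy hb)) (hBK hb) (mem_normalizer_iff_cj.mp (key hb))

end Dg

section Pump

variable {G : Type*} [Group G] [Finite G]

/-- The pump-up in `C(e)` of a component of `C(e) ∩ C(z)`. -/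
theorem pump2 (hFT : FT G) (hB : BL G) {e z : G} (he : orderOf e = 2) (hz : orderOf z = 2)
    (hez : e * z = z * e) {K : Subgroup G}
    (hK : CompIn (centralizer ({e} : Set G) ⊓ centralizer ({z} : Set G)) K) :
    ∃ D : Subgroup G, Comp e D ∧ (K = D ∨ (K < D ∧ cj z D = D) ∨ Dg K D z) := by
  set Y : Subgroup G := centralizer ({e} : Set G) with hY
  have hzY : z ∈ Y := mem_cs.mpr hez.symm
  have hKY : K ≤ Y := hK.le.trans inf_le_left
  have hKz : K ≤ centralizer ({z} : Set G) := hK.le.trans inf_le_right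
  have hzK : z ∈ centralizer (K : Set G) := by
    rw [mem_centralizer_iff]
    intro x hx
    exact mem_cs.mp (hKz hx)
  have h1 : Comp (⟨z, hzY⟩ : Y) (K.subgroupOf Y) := hK.comp_of hzY
  have hz' : orderOf (⟨z, hzY⟩ : Y) = 2 := by rw [Subgroup.orderOf_mk, hz]
  have h2 : 2 ∣ Nat.card (K.subgroupOf Y) := hFT.even' h1.quasi
  have h3 := le_layer (hB e he) hz' h1 h2
  have hsq : (⟨z, hzY⟩ : Y) * ⟨z, hzY⟩ = 1 := sq_of_order hz'
  obtain ⟨D, hD, hcase⟩ := trichotomy_of_le_layer (⟨z, hzY⟩ : Y) hsq (K.subgroupOf Y) h1 h3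
  have hDc : Comp e (D.map Y.subtype) := comp_map hD
  refine ⟨D.map Y.subtype, hDc, ?_⟩
  have hKm : (K.subgroupOf Y).map Y.subtype = K := Subgroup.map_subgroupOf_eq_of_le hKY
  have hlt : ∀ D' : Subgroup G, Comp e D' → K ≤ D' → cj z D' = D' := by
    intro D' hD' hle
    by_contra hne
    have h4 := hD'.comm (hD'.conj_of_comm hez.symm) (fun h => hne h.symm)
    apply not_comm_self hK.quasi
    intro x hx
    rw [mem_centralizer_iff]
    intro y hy
    have hy' : y ∈ cj z D' := by
      have := conj_mem_cj (g := z) (hle hy)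
      rwa [← mem_centralizer_iff.mp hzK y hy, mul_inv_cancel_right] at this
    exact (comm_elt h4 (hle hx) hy').symm
  rcases hcase with h | h | ⟨h4, h5, h6⟩
  · left
    rw [← h, hKm]
  · right; left
    have := (Subgroup.map_lt_map_iff_of_injective (Subgroup.subtype_injective Y)).mpr h
    rw [hKm] at this
    exact ⟨this, hlt _ hDc this.le⟩
  · right; right
    have hne : cj z (D.map Y.subtype) ≠ D.map Y.subtype := by
      intro h7
      apply h4
      have h8 := cj_map_subtype D (⟨z, hzY⟩ : Y)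
      change (cj (⟨z, hzY⟩ : Y) D).map Y.subtype = cj z (D.map Y.subtype) at h8
      rw [h7] at h8
      exact Subgroup.map_injective (Subgroup.subtype_injective Y) h8
    refine ⟨hDc.quasi, sq_of_order hz, hzK, hne,
      hDc.comm (hDc.conj_of_comm hez.symm) (fun h => hne h.symm), ?_, ?_⟩
    · rintro _ ⟨d, hd, rfl⟩
      exact h5 d hd
    · intro k hk
      obtain ⟨d, hd, hkd⟩ := h6 ⟨k, hKY hk⟩ hk
      exact ⟨d, ⟨d, hd, rfl⟩, congrArg Subtype.val hkd⟩

/-- An involution `z` of `C(e)` which centralizes a component `L` of `C(e)`: then `L` is a component of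
`C(e) ∩ C(z)`. -/
theorem compIn_of_centralizes {e z : G} {L : Subgroup G} (hL : Comp e L)
    (hz : z ∈ centralizer (L : Set G)) :
    CompIn (centralizer ({e} : Set G) ⊓ centralizer ({z} : Set G)) L := by
  refine (compIn_of_comp hL).mono (le_inf hL.le ?_) inf_le_left
  intro x hx
  exact mem_cs.mpr (mem_centralizer_iff.mp hz x hx)

/-- **LEMMA P**.  `e`, `z` commuting involutions, `A ≠ B` components of `C(e) ∩ C(z)`, `e ∈ A`, `b ∈ B`,
`z ∈ {b, e b}`: either `A` is a component of `C(e)`, or `A`, `B` lie in one component `L = L^z` of `C(e)`,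
`e ∈ Z(L)`, `b` is not in `Z(L)`, and `A`, `B` are components of `C_L(b)`. -/
theorem lemmaP (hFT : FT G) (hB : BL G) {e z b : G} (he : orderOf e = 2) (hz : orderOf z = 2)
    (hez : e * z = z * e) {A B : Subgroup G}
    (hA : CompIn (centralizer ({e} : Set G) ⊓ centralizer ({z} : Set G)) A)
    (hBc : CompIn (centralizer ({e} : Set G) ⊓ centralizer ({z} : Set G)) B) (hne : A ≠ B)
    (heA : e ∈ A) (hbB : b ∈ B) (hzb : z = b ∨ z = e * b) :
    Comp e A ∨ ∃ L : Subgroup G, Comp e L ∧ A < L ∧ B < L ∧ e ∈ L ∧ b ∈ L ∧ cj z L = L ∧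
      b ∉ centralizer (L : Set G) ∧ CompIn (L ⊓ centralizer ({b} : Set G)) A ∧
      CompIn (L ⊓ centralizer ({b} : Set G)) B := by
  have hAB : A ≤ centralizer (B : Set G) := hA.comm hBc hne
  have hBA : B ≤ centralizer (A : Set G) := comm_symm hAB
  have hBe : B ≤ centralizer ({e} : Set G) := hBc.le.trans inf_le_left
  -- if `b` centralizes a component `L` of `C(e)`, so does `z`
  have hzL : ∀ L : Subgroup G, Comp e L → b ∈ centralizer (L : Set G) →
      z ∈ centralizer (L : Set G) := by
    intro L hL hb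
    rcases hzb with h | h
    · rw [h]; exact hb
    · rw [h]; exact mul_mem hL.mem hb
  obtain ⟨L, hL, hcase⟩ := pump2 hFT hB he hz hez hA
  rcases hcase with h | ⟨hlt, hzn⟩ | h
  · left
    rw [h]; exact hL
  · -- `A < L`
    right
    -- `z` does not centralize `L`
    have hnz : z ∉ centralizer (L : Set G) := by
      intro hc
      have h1 := compIn_of_centralizes hL hc
      exact hlt.ne (hA.eq_of_le hL.quasi h1.le hlt.le)
    have hnb : b ∉ centralizer (L : Set G) := fun hc => hnz (hzL L hL hc)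
    -- the pump-up of `B`
    have hBL : B ≤ L := by
      obtain ⟨D, hD, hcaseD⟩ := pump2 hFT hB he hz hez hBc
      by_contra hBL
      apply hnb
      rcases hcaseD with h | ⟨hlt', -⟩ | h
      · have hDL : D ≠ L := by
          intro h'
          exact hBL (by rw [h, h'])
        exact hD.comm hL hDL (h ▸ hbB)
      · have hDL : D ≠ L := by
          intro h'
          exact hBL (by rw [← h']; exact hlt'.le)
        exact hD.comm hL hDL (hlt'.le hbB)
      · have hDL : D ≠ L := by
          intro h'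
          rw [h'] at h
          exact h.ne hzn
        have hDL' : cj z D ≠ L := by
          intro h'
          apply hDL
          apply cj_injective z
          rw [h', hzn]
        obtain ⟨d, hd, hbd⟩ := h.ex b hbB
        rw [hbd]
        exact mul_mem (hD.comm hL hDL hd)
          ((hD.conj_of_comm hez.symm).comm hL hDL' (conj_mem_cj hd))
    have hBlt : B < L := by
      refine lt_of_le_of_ne hBL ?_
      intro h
      rw [h] at hAB
      exact not_comm_self hA.quasi
        (fun x hx => mem_centralizer_iff.mpr fun y hy => mem_centralizer_iff.mp (hAB hx) y (hlt.le hy))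
    have hle : L ⊓ centralizer ({b} : Set G) ≤
        centralizer ({e} : Set G) ⊓ centralizer ({z} : Set G) := by
      rintro x ⟨hx, hxb⟩
      have hxe : x * e = e * x := mem_cs.mp (hL.le hx)
      have hxb' : x * b = b * x := mem_cs.mp hxb
      refine ⟨mem_cs.mpr hxe, mem_cs.mpr ?_⟩
      rcases hzb with h | h
      · rw [h]; exact hxb'
      · rw [h, ← mul_assoc, hxe, mul_assoc, hxb', mul_assoc]
    have hAb : A ≤ centralizer ({b} : Set G) := fun x hx => mem_cs.mpr (comm_elt hAB hx hbB)
    have hBb : B ≤ centralizer ({b} : Set G) := by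
      intro x hx
      have hxe : x * e = e * x := mem_cs.mp (hBe hx)
      have hxz : x * z = z * x := mem_cs.mp ((hBc.le hx).2)
      rw [mem_cs]
      rcases hzb with h | h
      · rw [← h]; exact hxz
      · have hb : b = e⁻¹ * z := by rw [h]; group
        have hxe' : x * e⁻¹ = e⁻¹ * x := by
          rw [mul_inv_eq_iff_eq_mul, mul_assoc, hxe, inv_mul_cancel_left]
        rw [hb, ← mul_assoc, hxe', mul_assoc, hxz, mul_assoc]
    exact ⟨L, hL, hlt, hBlt, hlt.le heA, hBL hbB, hzn, hnb, hA.mono (le_inf hlt.le hAb) hle,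
      hBc.mono (le_inf hBL hBb) hle⟩
  · -- diagonal
    exfalso
    have h1 := h.perfect_centralizes hez.symm hL hBe hBA hBc.perfect
    have h2 := hzL L hL (h1 hbB)
    exact h.ne (cj_eq_of_mem_centralizer h2)

end Pump

end Cfsg.Agent.OddHalf.NI
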