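import Cfsg.Agent.OddHalf.Iface
import Cfsg.Agent.OddHalf.NI.LemmaP
import Cfsg.Agent.OddHalf.NI.FrameDef

/-!
# Node NI: the exact Props (text bb ODD #10203, ruling #10287, THEOREM X #10142/#10318; editor helper824)

* `IsSL J`: `J ≅ SL₂(F)`, `|F| > 3` odd.
* `F1`: a long `SL₂(q)` in every quasisimple `K` with `K / Z(K)` of Lie type over `F_q`, `q > 3` odd.
* `F2' S7`: two components `A ∋ c`, `B ∋ d` of `C_N(d)`, `c ∈ Z(N)`; `S7` is whatever the chart gives besides.
* `AutM S7`: automorphisms trivial on `A`, `B`, `A'`.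
* `Sol S7`: Solomon's configuration is impossible.
* `NotBig`: the entrance: the component `N` of `C(y)` over `J` with `N / Z(N)` not of Lie type over `F_q`, `q > 3`.
* `NIV`: the node theorem.
-/

set_option autoImplicit false

namespace Cfsg.Agent.OddHalf.NI

open Subgroup Cfsg Cfsg.Agent.OddHalf.Iface
open Cfsg.Agent.OddHalf.D3 (cj Comp)

universe u

/-- `J ≅ SL₂(F)` with `|F| > 3` odd. -/
def IsSL (J : Type*) [Group J] : Prop :=
  ∃ (F : Type) (_ : Field F) (_ : Fintype F), Odd (Fintype.card F) ∧ 3 < Fintype.card F ∧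
    Nonempty (J ≃* Matrix.SpecialLinearGroup (Fin 2) F)

/-- `A ≅ B ≅ SL₂(F)` with the same `F`, `|F| > 3` odd. -/
def SameSL (A B : Type*) [Group A] [Group B] : Prop :=
  ∃ (F : Type) (_ : Field F) (_ : Fintype F), Odd (Fintype.card F) ∧ 3 < Fintype.card F ∧
    Nonempty (A ≃* Matrix.SpecialLinearGroup (Fin 2) F) ∧ Nonempty (B ≃* Matrix.SpecialLinearGroup (Fin 2) F)

/-- **(F1)**: a long `SL₂(q)`. -/
def F1 : Prop :=
  ∀ (K : Type u) [Group K] [Finite K], IsQuasisimple K → IsPGroup 2 ↥(center K) → LieBig (K ⧸ center K) →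
    ∃ (j : K) (J : Subgroup K), orderOf j = 2 ∧ j ∈ J ∧ J ≤ centralizer ({j} : Set K) ∧
      (J.subgroupOf (centralizer ({j} : Set K))).IsSubnormal ∧ IsSL ↥J

/-- **(F2')**: `c ∈ Z(N)`, `d` involutions, `A ∋ c` and `B ∋ d` two components of `C_N(d)`, both `SL₂(F)`: there is a
third component `A' ∋ c d`, and no other (`N = Spin₇(F)`). `S7 N c d A B A'` is the additional output
(the chart of type `B₃`, or the map to `Ω₇(F)`). -/
def F2' (S7 : ∀ (N : Type u) [Group N], N → N → Subgroup N → Subgroup N → Subgroup N → Prop) : Prop :=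
  ∀ (N : Type u) [Group N] [Finite N], IsQuasisimple N → IsPGroup 2 ↥(center N) → LieOdd (N ⧸ center N) →
    ∀ (c d : N) (A B : Subgroup N), c ∈ center N → orderOf c = 2 → orderOf d = 2 → c ∈ A → d ∈ B → A ≠ B →
      CompIn (centralizer ({d} : Set N)) A → CompIn (centralizer ({d} : Set N)) B → SameSL ↥A ↥B →
      ∃ A' : Subgroup N, CompIn (centralizer ({d} : Set N)) A' ∧ c * d ∈ A' ∧ IsSL ↥A' ∧
        (∀ K : Subgroup N, CompIn (centralizer ({d} : Set N)) K → K = A ∨ K = B ∨ K = A') ∧ S7 N c d A B A'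

/-- The automorphisms of `N = Spin₇(F)` trivial on `A`, `B`, `A'` have square `1`. -/
def AutM (S7 : ∀ (N : Type u) [Group N], N → N → Subgroup N → Subgroup N → Subgroup N → Prop) : Prop :=
  ∀ (N : Type u) [Group N] [Finite N] (c d : N) (A B A' : Subgroup N), S7 N c d A B A' →
    ∀ α : MulAut N, (∀ x ∈ A, α x = x) → (∀ x ∈ B, α x = x) → (∀ x ∈ A', α x = x) → α ^ 2 = 1

/-- **(Sol)**: Solomon's configuration is impossible (in any finite group `X`). -/
def Sol (S7 : ∀ (N : Type u) [Group N], N → N → Subgroup N → Subgroup N → Subgroup N → Prop) : Prop :=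
  ∀ (X : Type u) [Group X] [Finite X] (u v : X) (Lu Lv Ju Jv Jw : Subgroup X), orderOf u = 2 → orderOf v = 2 →
    u ≠ v → u * v = v * u → Comp u Lu → Comp v Lv → u ∈ Ju → v ∈ Jv → u * v ∈ Jw →
    SameSL ↥Ju ↥Jv → Ju ≤ Lu → Jv ≤ Lu → Jw ≤ Lu → Ju ≤ Lv → Jv ≤ Lv → Jw ≤ Lv →
    (∀ (hu : u ∈ Lu) (hv : v ∈ Lu), S7 ↥Lu ⟨u, hu⟩ ⟨v, hv⟩ (Ju.subgroupOf Lu) (Jv.subgroupOf Lu) (Jw.subgroupOf Lu)) →
    (∀ (hu : u ∈ Lv) (hv : v ∈ Lv), S7 ↥Lv ⟨v, hv⟩ ⟨u, hu⟩ (Jv.subgroupOf Lv) (Ju.subgroupOf Lv) (Jw.subgroupOf Lv)) →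
    False

/-- **(EX) + NI(3)**: the entrance. `J ≅ SL₂(q)`, `q > 3`, component of `C(t) ∩ C(y)`, `y ∈ J`, lies in the component
`N ≠ J` of `C(y)`, `N = N^t`; then `N / Z(N)` is of Lie type over a field of odd order `> 3`, of rank at least 2 or
`U₃`. -/
def NotBig : Prop :=
  ∀ (G : Type u) [Group G], Ctx G → ∀ (t y : G) (J N : Subgroup G), orderOf t = 2 → orderOf y = 2 →
    t ≠ y → t * y = y * t → CompIn (centralizer ({t} : Set G) ⊓ centralizer ({y} : Set G)) J → y ∈ J → IsSL ↥J →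
    Comp y N → J < N → cj t N = N → ¬ LieBig (↥N ⧸ center ↥N) → False

/-- **NIV**: the node theorem: `SL₂(q) = J ∋ y`, `q > 3` odd, is never a component of the centralizer of a four-group
`⟨t, y⟩`. -/
def NIV : Prop :=
  ∀ (G : Type u) [Group G], Ctx G → ∀ (t y : G) (J : Subgroup G), orderOf t = 2 → orderOf y = 2 → t ≠ y →
    t * y = y * t → CompIn (centralizer ({t} : Set G) ⊓ centralizer ({y} : Set G)) J → y ∈ J → ¬ IsSL ↥J

/-- **The order-free form for `q > 3`**: no component of an involution centralizer has a quotient of Lie type over a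
field of odd order `> 3` (rank at least 2, or `U₃`). It gives U2 and D6 (rank at least 2) for `q > 3`. -/
def NoBig : Prop :=
  ∀ (G : Type u) [Group G], Ctx G → ∀ (t : G) (K : Subgroup G), orderOf t = 2 → CompOf t K →
    ¬ LieBig (↥K ⧸ center ↥K)

end Cfsg.Agent.OddHalf.NI
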