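import Cfsg.Agent.OddHalf.NI.Props
import Cfsg.Agent.OddHalf.Soft
import Cfsg.Agent.SignalizersComponents.SLQuasisimple

/-!
# Node NI: the order-free form

`noBig : F1 → NIV → NoBig`.
-/

set_option autoImplicit false

namespace Cfsg.Agent.OddHalf.NI.Final

open Subgroup Cfsg Cfsg.Agent.OddHalf.Iface Cfsg.Agent.SignalizersComponents
open Cfsg.Agent.OddHalf.D3 (cj Comp mem_cs)

universe u

section Gen

variable {G : Type u} [Group G]

theorem comp_of_compOf {t : G} {K : Subgroup G} (h : CompOf t K) : Comp t K := ⟨h.1, h.2⟩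

theorem compOf_of_comp {t : G} {K : Subgroup G} (h : Comp t K) : CompOf t K := ⟨h.le, h.comp⟩

/-- A component of `L ∩ M`, `L` a component of `H ≥ M`, is a component of `M`. -/
theorem CompIn.of_inf {H L M K : Subgroup G} (hL : CompIn H L) (hM : M ≤ H) (hK : CompIn (L ⊓ M) K) :
    CompIn M K := by
  have hKM : K ≤ M := hK.le.trans inf_le_right
  refine ⟨hKM, ?_, ?_⟩
  · have h1 : (L.subgroupOf H).IsSubnormal := hL.comp.1
    have h2 : ((L ⊓ M).subgroupOf M).IsSubnormal := by
      have h3 := h1.comap (Subgroup.inclusion hM)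
      have h4 : (L.subgroupOf H).comap (Subgroup.inclusion hM) = (L ⊓ M).subgroupOf M := by
        ext x
        simp only [mem_comap, mem_subgroupOf, mem_inf, Subgroup.coe_inclusion]
        exact ⟨fun h => ⟨h, x.2⟩, fun h => h.1⟩
      rwa [h4] at h3
    have h5 : (K.subgroupOf M) ≤ (L ⊓ M).subgroupOf M := fun x hx => hK.le hx
    refine Subgroup.IsSubnormal.trans h5 ?_ h2
    have h6 : (K.subgroupOf M).subgroupOf ((L ⊓ M).subgroupOf M) =
        (K.subgroupOf (L ⊓ M)).comap (Subgroup.subgroupOfEquivOfLe inf_le_right).toMonoidHom := rfl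
    rw [h6]
    exact hK.comp.1.comap _
  · exact Components.isQuasisimple_of_mulEquiv (subgroupOfEquivOfLe hKM).symm hK.quasi

theorem isSL_congr {A B : Type*} [Group A] [Group B] (e : A ≃* B) (h : IsSL A) : IsSL B := by
  obtain ⟨F, i1, i2, h1, h2, ⟨f⟩⟩ := h
  exact ⟨F, i1, i2, h1, h2, ⟨e.symm.trans f⟩⟩

theorem isSL_quasi {A : Type*} [Group A] (h : IsSL A) : IsQuasisimple A := by
  obtain ⟨F, i1, i2, h1, h2, ⟨f⟩⟩ := h
  exact Components.isQuasisimple_of_mulEquiv f.symm
    (SLQuasisimple.isQuasisimple_two (by rw [Nat.card_eq_fintype_card]; omega))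

/-- `SL₂(q)`, `q > 3`, is never a component of `C(z)`, `z ∈ J`. -/
theorem not_isSL (C : Ctx G) {z : G} (hz : orderOf z = 2) {J : Subgroup G} (hJ : Comp z J) (hzJ : z ∈ J) :
    ¬ IsSL ↥J := by
  rintro ⟨F, i1, i2, h1, h2, ⟨f⟩⟩
  have := C.fin
  refine C.classical z J hz ⟨hJ.le, hzJ, hJ.comp.1⟩ (Or.inl ⟨F, i1, i2, h1, ?_⟩)
  -- the core of `J` is trivial
  have hO : oddCore ↥J = ⊥ := by
    have h3 := Soft.CompOf.center_isPGroup (C.bal z hz) (compOf_of_comp hJ)
    have hq := hJ.quasi
    have : Fact (Nat.Prime 2) := ⟨Nat.prime_two⟩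
    have : (oddCore ↥J).Normal := pPrimeCore_normal 2 ↥J
    have hcop : (Nat.card (oddCore ↥J)).Coprime 2 := Lib.Cores.pPrimeCore_coprime 2
    rcases Components.quasisimple_normal hq (oddCore ↥J) inferInstance with h4 | h4
    · exfalso
      have h5 : 2 ∣ Nat.card ↥J := by
        have h6 : orderOf (⟨z, hzJ⟩ : ↥J) = 2 := by rw [Subgroup.orderOf_mk, hz]
        exact h6 ▸ orderOf_dvd_natCard _
      rw [h4, Subgroup.card_top, Nat.coprime_two_right] at hcop
      exact (Nat.not_even_iff_odd.mpr hcop) (even_iff_two_dvd.mpr h5)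
    · have h5 : IsPGroup 2 ↥(oddCore ↥J) := h3.to_le h4
      obtain ⟨n, hn⟩ := IsPGroup.iff_card.mp h5
      rw [← Subgroup.card_eq_one, hn]
      rw [hn, Nat.coprime_two_right] at hcop
      rcases Nat.eq_zero_or_pos n with h6 | h6
      · rw [h6, pow_zero]
      · exact absurd (Nat.even_pow.mpr ⟨even_two, h6.ne'⟩) (Nat.not_even_iff_odd.mpr hcop)
  exact ⟨((QuotientGroup.quotientMulEquivOfEq hO).trans QuotientGroup.quotientBot).trans f⟩

end Gen

/-- **The order-free form of NI, `q > 3`.** -/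
theorem noBig (hF : F1.{u}) (hN : NIV.{u}) : NoBig.{u} := by
  intro G _ C t K ht hK hbig
  have := C.fin
  have hq := Soft.CompOf.quasisimple hK
  have hz := Soft.CompOf.center_isPGroup (C.bal t ht) hK
  obtain ⟨j, J, hj, hjJ, hJ, hsub, hSL⟩ := hF ↥K hq hz hbig
  -- `J` in `G`
  have hjo : orderOf (j : G) = 2 := by rw [Subgroup.orderOf_coe, hj]
  have hSL' : IsSL ↥(J.map K.subtype) :=
    isSL_congr (J.equivMapOfInjective K.subtype K.subtype_injective) hSL
  have hquasi : IsQuasisimple ↥J := isSL_quasi hSL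
  have hcJ : Comp j J := ⟨hJ, hsub, Components.isQuasisimple_of_mulEquiv (subgroupOfEquivOfLe hJ).symm hquasi⟩
  have h1 : CompIn (K ⊓ centralizer ({(j : G)} : Set G)) (J.map K.subtype) := compIn_of_comp_sub hcJ
  have h2 : CompIn (centralizer ({t} : Set G)) K := compIn_of_comp (comp_of_compOf hK)
  have h3 : CompIn (centralizer ({t} : Set G) ⊓ centralizer ({(j : G)} : Set G)) (J.map K.subtype) := by
    refine CompIn.of_inf h2 inf_le_left ?_
    refine h1.mono ?_ ?_
    · exact le_inf (map_subtype_le J) (le_inf ((map_subtype_le J).trans hK.1) (h1.le.trans inf_le_right))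
    · exact le_inf inf_le_left (inf_le_right.trans inf_le_right)
  have hjJ' : (j : G) ∈ J.map K.subtype := mem_map_of_mem K.subtype hjJ
  by_cases htj : t = j
  · -- `K = J` is classical
    have h4 : K ⊓ centralizer ({(j : G)} : Set G) = K := by
      rw [← htj]; exact inf_eq_left.mpr hK.1
    rw [h4] at h1
    have h5 : J.map K.subtype = K := by
      have hq' := h1.eq_of_le hq le_rfl h1.le
      exact hq'
    refine not_isSL C ht (comp_of_compOf hK) ?_ ?_
    · rw [htj]; exact j.2
    · rw [h5] at hSL'; exact hSL'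
  · refine hN G C t j (J.map K.subtype) ht hjo htj ?_ h3 hjJ' hSL'
    have h4 := mem_centralizer_singleton_iff.mp (hK.1 j.2)
    exact h4.symm

end Cfsg.Agent.OddHalf.NI.Final
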