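import Cfsg.Agent.OddHalf.Soft
import Cfsg.Agent.OddHalf.Stmts
import Cfsg.Agent.Cit.ParabSL2
import Cfsg.Agent.Lib.PSL2Inv

/-!
# The quotient step of the node "no intrinsic component" (helper803)

`L` finite quasisimple, `b ∉ Z(L)` an involution, `B ∋ b` subnormal in `C_L(b)`, `B ≅ SL(2,F)`, `F` finite of odd
order. Then `b` is a classical involution of `L / Z(L)`; so S1310 says that `L / Z(L)` is of Lie type in odd
characteristic or `M₁₁`.
-/

set_option autoImplicit false
set_option linter.style.haveILetI false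

namespace Cfsg.Agent.OddHalf.NI.Quot

open Subgroup Cfsg Cfsg.Agent.OddHalf.Iface

universe u

section

variable {L : Type u} [Group L] {b : L}

/-- the preimage of `C_{L/Z}(b)` -/
def CZ (b : L) : Subgroup L :=
  (centralizer ({(b : L ⧸ center L)} : Set (L ⧸ center L))).comap (QuotientGroup.mk' (center L))

theorem mem_CZ {x : L} : x ∈ CZ b ↔ ∃ c ∈ center L, x * b = b * x * c := by
  rw [CZ, mem_comap, mem_centralizer_singleton_iff, QuotientGroup.mk'_apply, ← QuotientGroup.mk_mul,
    ← QuotientGroup.mk_mul, eq_comm, QuotientGroup.eq]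
  constructor
  · intro h
    exact ⟨_, h, by group⟩
  · rintro ⟨c, hc, h⟩
    rw [h]
    simpa [mul_assoc] using hc

theorem le_CZ : centralizer ({b} : Set L) ≤ CZ b := fun x hx =>
  mem_CZ.mpr ⟨1, one_mem _, by rw [mul_one]; exact mem_centralizer_singleton_iff.mp hx⟩

theorem normal_subgroupOf : ((centralizer ({b} : Set L)).subgroupOf (CZ b)).Normal := by
  refine ⟨fun g hg x => ?_⟩
  rw [mem_subgroupOf, mem_centralizer_singleton_iff] at hg ⊢
  obtain ⟨c, hc, h⟩ := mem_CZ.mp (CZ b |>.inv_mem x.2)
  have hcc : ∀ y : L, y * c = c * y := fun y => mem_center_iff.mp hc y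
  have h1 : ((x : L)⁻¹) * b * (x : L) = b * c := by
    rw [h, mul_assoc (b * (x : L)⁻¹), ← hcc, mul_assoc, ← mul_assoc _ (x : L) c, inv_mul_cancel, one_mul]
  change ((x : L) * g * (x : L)⁻¹) * b = b * ((x : L) * g * (x : L)⁻¹)
  have h2 : (x : L)⁻¹ * b = b * c * (x : L)⁻¹ := by
    rw [← h1]; group
  have h3 : b * (x : L) = (x : L) * (b * c) := by
    rw [← h1]; group
  calc ((x : L) * g * (x : L)⁻¹) * b = (x : L) * g * ((x : L)⁻¹ * b) := by group
    _ = (x : L) * (g * b) * c * (x : L)⁻¹ := by rw [h2]; group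
    _ = (x : L) * (b * g) * c * (x : L)⁻¹ := by rw [hg]
    _ = (x : L) * b * (g * c) * (x : L)⁻¹ := by group
    _ = (x : L) * b * (c * g) * (x : L)⁻¹ := by rw [hcc]
    _ = ((x : L) * (b * c)) * g * (x : L)⁻¹ := by group
    _ = b * ((x : L) * g * (x : L)⁻¹) := by rw [← h3]; group

theorem subnormal_CZ {B : Subgroup L} (hB : B ≤ centralizer ({b} : Set L))
    (hs : (B.subgroupOf (centralizer ({b} : Set L))).IsSubnormal) : (B.subgroupOf (CZ b)).IsSubnormal := by
  have hle : centralizer ({b} : Set L) ≤ CZ b := le_CZ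
  have h1 : B.subgroupOf (CZ b) ≤ (centralizer ({b} : Set L)).subgroupOf (CZ b) := fun x hx => hB hx
  refine IsSubnormal.trans h1 ?_ normal_subgroupOf.isSubnormal
  have h2 := hs.comap (subgroupOfEquivOfLe hle).toMonoidHom
  convert h2 using 1
  ext x
  rfl

theorem subnormal_map {B : Subgroup L} (hB : B ≤ centralizer ({b} : Set L))
    (hs : (B.subgroupOf (centralizer ({b} : Set L))).IsSubnormal) :
    (((B.map (QuotientGroup.mk' (center L))).subgroupOf
      (centralizer ({(b : L ⧸ center L)} : Set (L ⧸ center L))))).IsSubnormal := by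
  have hsur := MonoidHom.subgroupComap_surjective_of_surjective (QuotientGroup.mk' (center L))
    (centralizer ({(b : L ⧸ center L)} : Set (L ⧸ center L))) (QuotientGroup.mk'_surjective _)
  have h1 := (subnormal_CZ hB hs).map hsur
  convert h1 using 1
  ext x
  constructor
  · intro hx
    obtain ⟨y, hy, hyx⟩ := mem_subgroupOf.mp hx
    exact ⟨⟨y, le_CZ (hB hy)⟩, hy, Subtype.ext hyx⟩
  · rintro ⟨y, hy, rfl⟩
    exact ⟨y, hy, rfl⟩

end

/-- An involution of a group isomorphic to `SL(2,F)` is the only one, and it is central. -/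
theorem sl_center {B : Type*} [Group B] {F : Type} [Field F] [Fintype F] (hF : Odd (Fintype.card F))
    (e : B ≃* Matrix.SpecialLinearGroup (Fin 2) F) {b : B} (hb : orderOf b = 2) {x : B} (hx : x ∈ center B) :
    x = 1 ∨ x = b := by
  have h2 : (2 : F) ≠ 0 := by
    intro h
    have h1 : ringChar F ≠ 2 := by
      intro h3
      have h4 := FiniteField.even_card_of_char_two h3
      rw [Nat.odd_iff] at hF
      omega
    exact h1 (by
      haveI := ringChar.charP F
      have : ringChar F ∣ 2 := (CharP.cast_eq_zero_iff F (ringChar F) 2).mp (by exact_mod_cast h)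
      rcases (Nat.dvd_prime Nat.prime_two).mp this with h4 | h4
      · exfalso
        exact CharP.char_ne_one F (ringChar F) h4
      · exact h4)
  have hsq : ∀ y : B, y * y = 1 → y = 1 ∨ e y = -1 := by
    intro y hy
    have h3 : e y * e y = 1 := by rw [← map_mul, hy, map_one]
    rcases Lib.PSL2Inv.sq_eq_one h2 h3 with h4 | h4
    · left
      exact e.injective (by rw [h4, map_one])
    · exact Or.inr h4
  have hb1 : b ≠ 1 := by
    rintro rfl
    rw [orderOf_one] at hb
    exact absurd hb (by decide)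
  have hbb : e b = -1 := by
    rcases hsq b (by rw [← pow_two, ← hb, pow_orderOf_eq_one]) with h | h
    · exact absurd h hb1
    · exact h
  have hx1 : e x ∈ center (Matrix.SpecialLinearGroup (Fin 2) F) := by
    rw [mem_center_iff] at hx ⊢
    intro g
    have := congrArg e (hx (e.symm g))
    simpa using this
  rw [Cfsg.Agent.TwoFusion.QuatCoverSL.center_eq_zpowers hF] at hx1
  have h3 : e x * e x = 1 := by
    have h4 := orderOf_dvd_of_mem_zpowers hx1
    rw [Cfsg.Agent.TwoFusion.QuatCoverSL.orderOf_neg_one hF] at h4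
    rw [← pow_two]
    exact orderOf_dvd_iff_pow_eq_one.mp h4
  rcases hsq x (e.injective (by rw [map_mul, h3, map_one])) with h4 | h4
  · exact Or.inl h4
  · exact Or.inr (e.injective (by rw [h4, hbb]))

/-- **The quotient step.** -/
theorem lieOdd_of_classical (P : Stmts.P1310.{u}) {L : Type u} [Group L] [Finite L] (hq : IsQuasisimple L)
    {b : L} (hb : orderOf b = 2) (hbZ : b ∉ center L) {B : Subgroup L} (hB : B ≤ centralizer ({b} : Set L))
    (hbB : b ∈ B) (hs : (B.subgroupOf (centralizer ({b} : Set L))).IsSubnormal)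
    {F : Type} [Field F] [Fintype F] (hF : Odd (Fintype.card F))
    (e : ↥B ≃* Matrix.SpecialLinearGroup (Fin 2) F) :
    (∃ p : ℕ, p.Prime ∧ p ≠ 2 ∧ IsLieTypeChar p (L ⧸ center L)) ∨ Spor.IsoM11 (L ⧸ center L) := by
  haveI := hq.2
  have hna := Soft.quo_na hq
  set X := L ⧸ center L with hX
  let π : L →* X := QuotientGroup.mk' (center L)
  have hinj : ∀ x ∈ B, x ∈ center L → x = 1 := by
    intro x hx hxZ
    have h1 : (⟨x, hx⟩ : ↥B) ∈ center ↥B := by
      rw [mem_center_iff]
      intro g
      exact Subtype.ext (mem_center_iff.mp hxZ g)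
    rcases sl_center hF e (b := ⟨b, hbB⟩) (by rw [← orderOf_coe]; exact hb) h1 with h2 | h2
    · exact congrArg Subtype.val h2
    · exfalso
      apply hbZ
      rw [← show x = b from congrArg Subtype.val h2]
      exact hxZ
  have hb1 : b ≠ 1 := by
    rintro rfl
    rw [orderOf_one] at hb
    exact absurd hb (by decide)
  have hzo : orderOf (π b) = 2 := by
    refine orderOf_eq_prime ?_ ?_
    · rw [← map_pow, ← hb, pow_orderOf_eq_one, map_one]
    · intro h
      exact hbZ ((QuotientGroup.eq_one_iff b).mp h)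
  let r : ↥B →* X := π.comp B.subtype
  have hr : Function.Injective r := by
    rw [injective_iff_map_eq_one]
    intro x hx
    exact Subtype.ext (hinj x x.2 ((QuotientGroup.eq_one_iff (x : L)).mp hx))
  have hrange : r.range = B.map π := by
    rw [MonoidHom.range_comp, range_subtype]
  let e1 : ↥B ≃* ↥(B.map π) := (MonoidHom.ofInjective hr).trans (MulEquiv.subgroupCongr hrange)
  let e2 : ↥(B.map π) ≃* Matrix.SpecialLinearGroup (Fin 2) F := e1.symm.trans e
  have hcore : oddCore ↥(B.map π) = ⊥ := by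
    have h1 := Cit.ParabSL2.oddCore_sl hF
    have h2 := Lib.Cores.map_equiv_pPrimeCore e2 2
    rw [eq_bot_iff]
    intro x hx
    have h3 : e2 x ∈ (oddCore ↥(B.map π)).map e2.toMonoidHom := ⟨x, hx, rfl⟩
    rw [show (oddCore ↥(B.map π)).map e2.toMonoidHom = oddCore _ from h2, h1, mem_bot] at h3
    rw [mem_bot]
    exact e2.injective (by rw [h3, map_one])
  let e3 : ↥(B.map π) ⧸ oddCore ↥(B.map π) ≃* Matrix.SpecialLinearGroup (Fin 2) F :=
    (QuotientGroup.quotientMulEquivOfEq hcore).trans (QuotientGroup.quotientBot.trans e2)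
  have hmain := P (G := X) (Known.isSimple_congr (Soft.fstarEquiv hna).symm inferInstance) (by
      intro h
      apply hna
      refine ⟨⟨fun a c => ?_⟩⟩
      have h1 := h.is_comm.comm ((Soft.fstarEquiv hna).symm a) ((Soft.fstarEquiv hna).symm c)
      have h2 := congrArg (Soft.fstarEquiv hna) h1
      simpa using h2) (π b) hzo (B.map π) (by
      rintro _ ⟨x, hx, rfl⟩
      rw [mem_centralizer_singleton_iff, ← map_mul, ← map_mul, mem_centralizer_singleton_iff.mp (hB hx)])
    ⟨b, hbB, rfl⟩ (subnormal_map hB hs) (Or.inl ⟨F, inferInstance, inferInstance, hF, ⟨e3⟩⟩)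
  rcases hmain with ⟨p, hp, hp2, h⟩ | h
  · left
    exact ⟨p, hp, hp2, Known.isLieTypeChar_congr (Soft.fstarEquiv hna) h⟩
  · right
    obtain ⟨f⟩ := h
    exact ⟨(Soft.fstarEquiv hna).symm.trans f⟩

end Cfsg.Agent.OddHalf.NI.Quot
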