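import Cfsg.Agent.OddHalf.NI.Fibre

/-!
# Covers from closedness (node NI, (T'))

`L` perfect without perfect central extensions by 2-groups (`Closed2`), `N` perfect, `Z(N)` a 2-group,
`N / Z(N) ≅ L / Z(L)`. Then `N` is a quotient of `L` by a central subgroup.
-/

set_option autoImplicit false

namespace Cfsg.Agent.OddHalf.NI.CoverOf

open Subgroup

universe u v

/-- `L` has no perfect central extension by a 2-group (in universe `u`). -/
def Closed2 (L : Type v) [Group L] : Prop :=
  ∀ (E : Type u) [Group E] [Finite E] (f : E →* L), Function.Surjective f → f.ker ≤ center E →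
    IsPGroup 2 f.ker → commutator E = ⊤ → Function.Injective f

/-- **the cover** -/
theorem exists_cover {N : Type u} {L : Type v} [Group N] [Finite N] [Group L] [Finite L]
    (hN : commutator N = ⊤) (h2 : IsPGroup 2 ↥(center N)) (hL : commutator L = ⊤)
    (hcl : Closed2.{max u v, v} L) (e : N ⧸ center N ≃* L ⧸ center L) :
    ∃ φ : L →* N, Function.Surjective φ ∧ φ.ker ≤ center L := by
  let f : N →* L ⧸ center L := e.toMonoidHom.comp (QuotientGroup.mk' (center N))
  let g : L →* L ⧸ center L := QuotientGroup.mk' (center L)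
  have hf : Function.Surjective f := e.surjective.comp (QuotientGroup.mk'_surjective _)
  have hg : Function.Surjective g := QuotientGroup.mk'_surjective _
  have kf' : ∀ x : N, f x = 1 → x ∈ center N := by
    intro x hx
    have h1 : (QuotientGroup.mk' (center N)) x = 1 := e.injective (by rw [map_one]; exact hx)
    exact (QuotientGroup.eq_one_iff x).mp h1
  have kf : f.ker ≤ center N := fun x hx => kf' x hx
  have kg : g.ker ≤ center L := by
    intro x hx
    exact (QuotientGroup.eq_one_iff x).mp hx
  have hinj : Function.Injective (Fibre.toL f g) := by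
    refine hcl (Fibre.M f g) (Fibre.toL f g) (Fibre.toL_surjective hf hL) (Fibre.ker_toL kf kg) ?_
      (Fibre.perfect hf hg kf kg hN)
    rintro ⟨m, hm⟩
    have hm1 : Fibre.toL f g m = 1 := hm
    have h1 : f (Fibre.toN f g m) = 1 := by rw [Fibre.comm, hm1, map_one]
    obtain ⟨k, hk⟩ := h2 ⟨Fibre.toN f g m, kf' _ h1⟩
    have hk' : Fibre.toN f g m ^ 2 ^ k = 1 := congrArg Subtype.val hk
    refine ⟨k, Subtype.ext (Subtype.ext (Prod.ext ?_ ?_))⟩
    · exact hk'
    · change Fibre.toL f g m ^ 2 ^ k = 1
      rw [hm1, one_pow]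
  let i : Fibre.M f g ≃* L := MulEquiv.ofBijective (Fibre.toL f g) ⟨hinj, Fibre.toL_surjective hf hL⟩
  refine ⟨(Fibre.toN f g).comp i.symm.toMonoidHom, (Fibre.toN_surjective hg hN).comp i.symm.surjective, ?_⟩
  intro l hl
  have h1 : Fibre.toN f g (i.symm l) = 1 := hl
  have h3 : g (Fibre.toL f g (i.symm l)) = 1 := by rw [← Fibre.comm, h1, map_one]
  have h4 : Fibre.toL f g (i.symm l) = l := i.apply_symm_apply l
  rw [h4] at h3
  exact kg h3

end Cfsg.Agent.OddHalf.NI.CoverOf
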