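import Cfsg.Agent.OddHalf.NI.Blocks
import Cfsg.Agent.S0248

/-!
# NODE NI, (T') for type `A_n`: the frame of the image of `-1` in a quotient of `SL_n(F)`
-/

set_option autoImplicit false

namespace Cfsg.Agent.OddHalf.NI.FrameSL

open Matrix Subgroup Cfsg
open Blocks (negOne)

variable {F : Type} [Field F] {m : ℕ}

/-- block diagonal matrices -/
def bd (m : ℕ) (F : Type) [Field F] :
    (Fin m → Matrix.SpecialLinearGroup (Fin 2) F) →* Matrix.SpecialLinearGroup (Fin 2 × Fin m) F where
  toFun A := ⟨blockDiagonal fun k => (A k : Matrix (Fin 2) (Fin 2) F), by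
    rw [det_blockDiagonal]
    exact Finset.prod_eq_one fun k _ => (A k).det_coe⟩
  map_one' := by
    apply Subtype.ext
    exact blockDiagonal_one
  map_mul' A B := by
    apply Subtype.ext
    exact blockDiagonal_mul (fun k => (A k : Matrix (Fin 2) (Fin 2) F)) (fun k => (B k : Matrix (Fin 2) (Fin 2) F))

theorem bd_apply (A : Fin m → Matrix.SpecialLinearGroup (Fin 2) F) (p q : Fin 2 × Fin m) :
    (bd m F A : Matrix (Fin 2 × Fin m) (Fin 2 × Fin m) F) p q = if p.2 = q.2 then A p.2 p.1 q.1 else 0 := rfl

/-- the blocks -/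
def e (i : Fin m) : Matrix.SpecialLinearGroup (Fin 2) F →* Matrix.SpecialLinearGroup (Fin 2 × Fin m) F :=
  (bd m F).comp (MonoidHom.mulSingle (fun _ => Matrix.SpecialLinearGroup (Fin 2) F) i)

theorem e_apply (i : Fin m) (a : Matrix.SpecialLinearGroup (Fin 2) F) : e i a = bd m F (Pi.mulSingle i a) := rfl

theorem e_coe (i : Fin m) (a : Matrix.SpecialLinearGroup (Fin 2) F) (p q : Fin 2 × Fin m) :
    (e i a : Matrix (Fin 2 × Fin m) (Fin 2 × Fin m) F) p q =
      if p.2 = q.2 then (if p.2 = i then a p.1 q.1 else (1 : Matrix (Fin 2) (Fin 2) F) p.1 q.1) else 0 := by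
  rw [e_apply, bd_apply]
  by_cases h : p.2 = q.2
  · rw [if_pos h, if_pos h]
    by_cases hi : p.2 = i
    · rw [if_pos hi, hi, Pi.mulSingle_eq_same]
    · rw [if_neg hi, Pi.mulSingle_eq_of_ne hi]
      simp
  · rw [if_neg h, if_neg h]

/-- the sign of a block -/
theorem e_negOne (i : Fin m) : (e i (negOne F) : Matrix (Fin 2 × Fin m) (Fin 2 × Fin m) F) =
    diagonal fun p => if p.2 = i then -1 else 1 := by
  ext p q
  rw [e_coe, diagonal_apply]
  by_cases hpq : p = q
  · subst hpq
    by_cases h : p.2 = i <;> simp [h]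
  · rw [if_neg hpq]
    by_cases h : p.2 = q.2
    · have h1 : p.1 ≠ q.1 := fun h1 => hpq (Prod.ext h1 h)
      rw [if_pos h]
      by_cases hi : p.2 = i <;> simp [hi, h1]
    · rw [if_neg h]

/-- `-1` -/
def neg (m : ℕ) (F : Type) [Field F] : Matrix.SpecialLinearGroup (Fin 2 × Fin m) F := bd m F fun _ => negOne F

theorem neg_coe : (neg m F : Matrix (Fin 2 × Fin m) (Fin 2 × Fin m) F) = -1 := by
  ext p q
  rw [neg, bd_apply]
  by_cases hpq : p = q
  · subst hpq; simp
  · by_cases h : p.2 = q.2
    · have h1 : p.1 ≠ q.1 := fun h1 => hpq (Prod.ext h1 h)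
      simp [h, h1, hpq]
    · simp [h, hpq]

theorem ext_scalar {A : Matrix.SpecialLinearGroup (Fin 2 × Fin m) F} (hA : A ∈ center (Matrix.SpecialLinearGroup (Fin 2 × Fin m) F))
    (p : Fin 2 × Fin m) (hp : (A : Matrix (Fin 2 × Fin m) (Fin 2 × Fin m) F) p p = -1) : A = neg m F := by
  obtain ⟨r, -, hr⟩ := Matrix.SpecialLinearGroup.mem_center_iff.mp hA
  apply Subtype.ext
  have h1 : r = -1 := by
    rw [← hp, ← hr]
    simp
  change (A : Matrix (Fin 2 × Fin m) (Fin 2 × Fin m) F) = (neg m F : Matrix (Fin 2 × Fin m) (Fin 2 × Fin m) F)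
  rw [← hr, h1, neg_coe, map_neg, map_one]

/-- **the blocks of `SL_{2m}(F)`** -/
def blocks (h2 : (2 : F) ≠ 0) (hm : 2 ≤ m) : Blocks (Matrix.SpecialLinearGroup (Fin 2 × Fin m) F) F m (neg m F) where
  e := e
  comm i j hij a b := by
    have := (Pi.mulSingle_commute (f := fun _ : Fin m => Matrix.SpecialLinearGroup (Fin 2) F) hij a b).eq
    rw [e_apply, e_apply, ← map_mul, ← map_mul, this]
  norm i g hg a := by
    -- `g` commutes with the projection `P`
    set P : Matrix (Fin 2 × Fin m) (Fin 2 × Fin m) F := diagonal fun p => if p.2 = i then 1 else 0 with hP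
    have hg' := congrArg (fun A : Matrix.SpecialLinearGroup (Fin 2 × Fin m) F =>
      (A : Matrix (Fin 2 × Fin m) (Fin 2 × Fin m) F)) hg
    simp only [Matrix.SpecialLinearGroup.coe_mul, e_negOne] at hg'
    have hgP : (g : Matrix (Fin 2 × Fin m) (Fin 2 × Fin m) F) * P = P * g := by
      ext p q
      have h1 := congrFun (congrFun hg' p) q
      rw [mul_diagonal, diagonal_mul] at h1
      rw [hP, mul_diagonal, diagonal_mul]
      by_cases hp : p.2 = i <;> by_cases hq : q.2 = i
      · simp [hp, hq]
      · rw [if_pos hp, if_neg hq] at h1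
        have : (g : Matrix (Fin 2 × Fin m) (Fin 2 × Fin m) F) p q = 0 := by
          have h3 : 2 * (g : Matrix (Fin 2 × Fin m) (Fin 2 × Fin m) F) p q = 0 := by linear_combination h1
          exact (mul_eq_zero.mp h3).resolve_left h2
        rw [this]; simp
      · rw [if_neg hp, if_pos hq] at h1
        have : (g : Matrix (Fin 2 × Fin m) (Fin 2 × Fin m) F) p q = 0 := by
          have h3 : 2 * (g : Matrix (Fin 2 × Fin m) (Fin 2 × Fin m) F) p q = 0 := by linear_combination (-1 : F) * h1
          exact (mul_eq_zero.mp h3).resolve_left h2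
        rw [this]; simp
      · simp [hp, hq]
    set E : Matrix (Fin 2 × Fin m) (Fin 2 × Fin m) F := ↑(e i a) with hE
    have hE1 : P * (E - 1) * P = E - 1 := by
      ext p q
      rw [hP, mul_diagonal, diagonal_mul, Matrix.sub_apply, hE, e_coe]
      by_cases hp : p.2 = i <;> by_cases hq : q.2 = i
      · simp [hp, hq]
      · have hpq : p.2 ≠ q.2 := fun h => hq (h ▸ hp)
        have hpq' : p ≠ q := fun h => hpq (h ▸ rfl)
        rw [if_neg hpq, Matrix.one_apply_ne hpq']
        simp
      · have hpq : p.2 ≠ q.2 := fun h => hp (h.trans hq)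
        have hpq' : p ≠ q := fun h => hpq (h ▸ rfl)
        simp [hp, hpq, Matrix.one_apply_ne hpq']
      · by_cases hpq : p.2 = q.2
        · rw [if_neg hp, if_pos hpq, if_neg hp, if_neg hq]
          by_cases h1 : p.1 = q.1
          · have : p = q := Prod.ext h1 hpq
            subst this; simp
          · have hpq' : p ≠ q := fun h => h1 (h ▸ rfl)
            simp [Matrix.one_apply_ne h1, Matrix.one_apply_ne hpq']
        · have hpq' : p ≠ q := fun h => hpq (h ▸ rfl)
          simp [hp, hpq, Matrix.one_apply_ne hpq']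
    set B := g * e i a * g⁻¹ with hB
    have hgi : (g : Matrix (Fin 2 × Fin m) (Fin 2 × Fin m) F) * ((g⁻¹ : Matrix.SpecialLinearGroup (Fin 2 × Fin m) F) :
        Matrix (Fin 2 × Fin m) (Fin 2 × Fin m) F) = 1 := by
      rw [← Matrix.SpecialLinearGroup.coe_mul, mul_inv_cancel, Matrix.SpecialLinearGroup.coe_one]
    have hig : ((g⁻¹ : Matrix.SpecialLinearGroup (Fin 2 × Fin m) F) : Matrix (Fin 2 × Fin m) (Fin 2 × Fin m) F) *
        (g : Matrix (Fin 2 × Fin m) (Fin 2 × Fin m) F) = 1 := by
      rw [← Matrix.SpecialLinearGroup.coe_mul, inv_mul_cancel, Matrix.SpecialLinearGroup.coe_one]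
    set G : Matrix (Fin 2 × Fin m) (Fin 2 × Fin m) F := ↑g with hG
    set G' : Matrix (Fin 2 × Fin m) (Fin 2 × Fin m) F :=
      ↑(g⁻¹ : Matrix.SpecialLinearGroup (Fin 2 × Fin m) F) with hG'
    have hBc : (B : Matrix (Fin 2 × Fin m) (Fin 2 × Fin m) F) = G * E * G' := by
      rw [hB, Matrix.SpecialLinearGroup.coe_mul, Matrix.SpecialLinearGroup.coe_mul]
    have hPG' : G' * P = P * G' := by
      calc G' * P = G' * P * (G * G') := by rw [hgi, Matrix.mul_one]
        _ = G' * (P * G) * G' := by simp only [Matrix.mul_assoc]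
        _ = G' * (G * P) * G' := by rw [hgP]
        _ = (G' * G) * P * G' := by simp only [Matrix.mul_assoc]
        _ = P * G' := by rw [hig, Matrix.one_mul]
    have hB1 : P * ((B : Matrix (Fin 2 × Fin m) (Fin 2 × Fin m) F) - 1) * P = B - 1 := by
      have h3 : (B : Matrix (Fin 2 × Fin m) (Fin 2 × Fin m) F) - 1 = G * (E - 1) * G' := by
        rw [hBc, Matrix.mul_sub, Matrix.sub_mul, Matrix.mul_one, hgi]
      rw [h3]
      calc P * (G * (E - 1) * G') * P = (P * G) * (E - 1) * (G' * P) := by simp only [Matrix.mul_assoc]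
        _ = (G * P) * (E - 1) * (P * G') := by rw [hgP, hPG']
        _ = G * (P * (E - 1) * P) * G' := by simp only [Matrix.mul_assoc]
        _ = G * (E - 1) * G' := by rw [hE1]
    -- the block of `B`
    have hBe : ∀ p q : Fin 2 × Fin m, ¬ (p.2 = i ∧ q.2 = i) →
        (B : Matrix (Fin 2 × Fin m) (Fin 2 × Fin m) F) p q = (1 : Matrix (Fin 2 × Fin m) (Fin 2 × Fin m) F) p q := by
      intro p q hpq
      have h1 := congrFun (congrFun hB1 p) q
      rw [hP, mul_diagonal, diagonal_mul, Matrix.sub_apply] at h1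
      have h3 : (if p.2 = i then (1 : F) else 0) * ((B : Matrix (Fin 2 × Fin m) (Fin 2 × Fin m) F) p q -
          (1 : Matrix (Fin 2 × Fin m) (Fin 2 × Fin m) F) p q) * (if q.2 = i then (1 : F) else 0) = 0 := by
        by_cases hp : p.2 = i
        · have hq : ¬ q.2 = i := fun hq => hpq ⟨hp, hq⟩
          simp [hq]
        · simp [hp]
      rw [h3] at h1
      exact (sub_eq_zero.mp h1.symm)
    let b : Matrix (Fin 2) (Fin 2) F := fun x y => B (x, i) (y, i)
    have hBb : (B : Matrix (Fin 2 × Fin m) (Fin 2 × Fin m) F) =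
        blockDiagonal (Function.update (1 : Fin m → Matrix (Fin 2) (Fin 2) F) i b) := by
      ext ⟨x, k⟩ ⟨y, l⟩
      rw [blockDiagonal_apply]
      by_cases hk : k = i <;> by_cases hl : l = i
      · subst hk; subst hl
        rw [if_pos rfl, Function.update_self]
      · have hkl : k ≠ l := fun h => hl (h ▸ hk)
        rw [hBe (x, k) (y, l) (fun h => hl h.2)]
        simp [hkl, Matrix.one_apply_ne]
      · have hkl : k ≠ l := fun h => hk (h.trans hl)
        rw [hBe (x, k) (y, l) (fun h => hk h.1)]
        simp [hkl, Matrix.one_apply_ne]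
      · rw [hBe (x, k) (y, l) (fun h => hk h.1)]
        by_cases hkl : k = l
        · subst hkl
          simp only [if_true, Function.update_of_ne hk, Pi.one_apply]
          by_cases hxy : x = y
          · subst hxy; simp
          · have : ((x, k) : Fin 2 × Fin m) ≠ (y, k) := fun h => hxy (congrArg Prod.fst h)
            rw [Matrix.one_apply_ne this, Matrix.one_apply_ne hxy]
        · have : ((x, k) : Fin 2 × Fin m) ≠ (y, l) := fun h => hkl (congrArg Prod.snd h)
          simp [hkl, Matrix.one_apply_ne this]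
    have hb : b.det = 1 := by
      have h1 := B.det_coe
      rw [hBb, det_blockDiagonal, ← Finset.mul_prod_erase _ _ (Finset.mem_univ i), Function.update_self] at h1
      rw [Finset.prod_eq_one, mul_one] at h1
      · exact h1
      · intro k hk
        rw [Function.update_of_ne (Finset.ne_of_mem_erase hk)]
        simp
    refine ⟨⟨b, hb⟩, ?_⟩
    apply Subtype.ext
    change _ = (B : Matrix (Fin 2 × Fin m) (Fin 2 × Fin m) F)
    rw [hBb]
    ext ⟨x, k⟩ ⟨y, l⟩
    have := e_coe i (⟨b, hb⟩ : Matrix.SpecialLinearGroup (Fin 2) F) (x, k) (y, l)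
    rw [this, blockDiagonal_apply]
    by_cases hkl : k = l
    · subst hkl
      by_cases hk : k = i
      · subst hk; simp
      · simp [hk]
    · simp [hkl]
  one i a ha := by
    obtain ⟨r, -, hr⟩ := Matrix.SpecialLinearGroup.mem_center_iff.mp ha
    obtain ⟨k, hk⟩ : ∃ k : Fin m, k ≠ i := by
      by_contra hcon
      push Not at hcon
      have : Subsingleton (Fin m) := ⟨fun x y => (hcon x).trans (hcon y).symm⟩
      have := Fintype.card_le_one_iff_subsingleton.mpr this
      rw [Fintype.card_fin] at this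
      omega
    have h1 : r = 1 := by
      have := congrFun (congrFun hr (0, k)) (0, k)
      rw [e_coe] at this
      simpa [hk] using this
    apply Subtype.ext
    ext x y
    have := congrFun (congrFun hr (x, i)) (y, i)
    rw [e_coe, h1] at this
    simp only [if_true] at this
    rw [← this]
    by_cases hxy : x = y
    · subst hxy; simp
    · have h3 : ((x, i) : Fin 2 × Fin m) ≠ (y, i) := fun h => hxy (congrArg Prod.fst h)
      simp [hxy]
  two i j hij h := by
    refine ext_scalar h (0, i) ?_
    rw [Matrix.SpecialLinearGroup.coe_mul, e_negOne, e_negOne, diagonal_mul_diagonal]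
    simp [hij]
  three i j k hij hik hjk h := by
    refine ext_scalar h (0, i) ?_
    rw [Matrix.SpecialLinearGroup.coe_mul, Matrix.SpecialLinearGroup.coe_mul, e_negOne, e_negOne, e_negOne,
      diagonal_mul_diagonal, diagonal_mul_diagonal]
    simp [hij, hik]
  gen := by
    have key : ∀ S : Finset (Fin m), bd m F (fun k => if k ∈ S then negOne F else 1) ∈
        closure (Set.range fun i : Fin m => e i (negOne F)) := by
      intro S
      induction S using Finset.induction_on with
      | empty =>
        have : (fun k : Fin m => if k ∈ (∅ : Finset (Fin m)) then negOne F else 1) = 1 := by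
          funext k; simp
        rw [this, map_one]
        exact one_mem _
      | insert k S hk ih =>
        have : (fun l : Fin m => if l ∈ insert k S then negOne F else 1) =
            Pi.mulSingle k (negOne F) * fun l => if l ∈ S then negOne F else 1 := by
          funext l
          rw [Pi.mul_apply]
          by_cases hl : l = k
          · subst hl
            simp [hk]
          · simp [hl]
        rw [this, map_mul]
        exact mul_mem (subset_closure ⟨k, rfl⟩) ih
    have h1 := key Finset.univ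
    simpa [neg] using h1

/-- reindexing -/
def reidx {α β : Type*} [Fintype α] [DecidableEq α] [Fintype β] [DecidableEq β] (f : α ≃ β) :
    Matrix.SpecialLinearGroup α F ≃* Matrix.SpecialLinearGroup β F where
  toFun g := ⟨reindex f f g.1, by rw [det_reindex_self]; exact g.2⟩
  invFun g := ⟨reindex f.symm f.symm g.1, by rw [det_reindex_self]; exact g.2⟩
  left_inv g := by
    apply Subtype.ext
    ext i j
    simp
  right_inv g := by
    apply Subtype.ext
    ext i j
    simp
  map_mul' g h := by
    apply Subtype.ext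
    change reindex f f (g.1 * h.1) = reindex f f g.1 * reindex f f h.1
    simp [reindex_apply, submatrix_mul_equiv]

/-- **(T') for type `A_n`** : `φ : SL_n(F) → N` surjective with central kernel, `z` an even central involution of `N`:
there is a frame for `z`. -/
theorem frame [Fintype F] (hodd : Odd (Fintype.card F)) (h3 : 3 < Fintype.card F) {n : ℕ} (hn : 3 ≤ n)
    {N : Type*} [Group N] (φ : Matrix.SpecialLinearGroup (Fin n) F →* N) (hs : Function.Surjective φ)
    (hk : φ.ker ≤ center (Matrix.SpecialLinearGroup (Fin n) F)) {z : N} (hz : z ∈ center N) (h8 : Even8 z) :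
    Nonempty (Frame N z) := by
  obtain ⟨ho, u, x, hu, -, hux⟩ := h8
  have hz1 : z ≠ 1 := by
    rintro rfl
    rw [orderOf_one] at ho
    omega
  have h2 : (2 : F) ≠ 0 := Blocks.two_ne_zero_of_odd hodd
  obtain ⟨c, hc, rfl, hev⟩ := LinEnd.sl_main φ hs hk (Cfsg.Agent.S0248.result n hn) hz hux (hu ▸ hz) hz1
  obtain ⟨m, hm⟩ := hev h2
  rw [Fintype.card_fin] at hm
  let f : Fin 2 × Fin m ≃ Fin n := finProdFinEquiv.trans (finCongr (by omega))
  let ψ : Matrix.SpecialLinearGroup (Fin 2 × Fin m) F →* N := φ.comp (reidx f).toMonoidHom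
  have hψs : Function.Surjective ψ := hs.comp (reidx f).surjective
  have hψk : ψ.ker ≤ center (Matrix.SpecialLinearGroup (Fin 2 × Fin m) F) := by
    intro g hg
    have h4 : reidx f g ∈ center (Matrix.SpecialLinearGroup (Fin n) F) := hk hg
    rw [mem_center_iff] at h4 ⊢
    intro y
    apply (reidx f).injective
    rw [map_mul, map_mul]
    exact h4 _
  have hcc : reidx f (neg m F) = c := by
    apply Subtype.ext
    change reindex f f (neg m F : Matrix (Fin 2 × Fin m) (Fin 2 × Fin m) F) = (c : Matrix (Fin n) (Fin n) F)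
    rw [neg_coe, hc]
    ext i j
    simp [Matrix.one_apply]
  have hψc : ψ (neg m F) = φ c := by
    change φ (reidx f (neg m F)) = φ c
    rw [hcc]
  have := (blocks (F := F) h2 (show 2 ≤ m by omega)).frame (by omega) hodd h3 ψ hψs hψk (by rw [hψc]; exact hz1)
  rw [hψc] at this
  exact this

end Cfsg.Agent.OddHalf.NI.FrameSL
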