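import Cfsg.Agent.OddHalf.NI.Mult
import Cfsg.Agent.OddHalf.NI.CoverOf
import Cfsg.Agent.OddHalf.NI.FrameSL
import Cfsg.Agent.Nodes.RGDTypeA

/-!
# `SL_n(F)`, `|F|` odd, has no perfect central extension by a 2-group; (T') for `N / Z(N) ≅ PSL_n(F)`

* `emb a b` : `SL₂(F)` on the coordinates `a`, `b`;
* `inj` : `E` perfect, `f : E → SL_{n+1}(F)` onto, `ker f` a central 2-group ⟹ `f` injective (from `Mult.exists_of_ker`);
* `frame` : the literal form of (T') for type `A_n`.
-/

set_option autoImplicit false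
set_option linter.unusedSectionVars false

namespace Cfsg.Agent.OddHalf.NI.ClosedSL

open Matrix Subgroup CoxeterSystem Cfsg.Agent.ChevalleyStructure.CoxeterGeom
open Cfsg.Agent.TitsThree.KSideA (tv tv_of_ne)
open Cfsg.Agent.Nodes
open Cfsg.Agent.LieRecognition.BNCox (cA)
open Cfsg.Agent.OddHalf.NI.Mult (up lo dg Coord)

section Emb

variable {ι F : Type*} [Fintype ι] [DecidableEq ι] [Field F]

/-- the coordinates `a`, `b` first -/
noncomputable def eqv {a b : ι} (hab : a ≠ b) : Fin 2 ⊕ {c : ι // c ≠ a ∧ c ≠ b} ≃ ι :=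
  Equiv.ofBijective (Sum.elim ![a, b] Subtype.val) (by
    constructor
    · rintro (x | x) (y | y) hxy
      · fin_cases x <;> fin_cases y <;> simp_all
      · exfalso
        fin_cases x
        · exact y.2.1 hxy.symm
        · exact y.2.2 hxy.symm
      · exfalso
        fin_cases y
        · exact x.2.1 hxy
        · exact x.2.2 hxy
      · exact congrArg Sum.inr (Subtype.ext hxy)
    · intro c
      by_cases h1 : c = a
      · exact ⟨Sum.inl 0, h1.symm⟩
      by_cases h2 : c = b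
      · exact ⟨Sum.inl 1, h2.symm⟩
      exact ⟨Sum.inr ⟨c, h1, h2⟩, rfl⟩)

theorem eqv_eq_left {a b : ι} (hab : a ≠ b) (x : Fin 2 ⊕ {c : ι // c ≠ a ∧ c ≠ b}) :
    eqv hab x = a ↔ x = Sum.inl 0 :=
  ⟨fun h => (eqv hab).injective (h.trans rfl), fun h => h ▸ rfl⟩

theorem eqv_eq_right {a b : ι} (hab : a ≠ b) (x : Fin 2 ⊕ {c : ι // c ≠ a ∧ c ≠ b}) :
    eqv hab x = b ↔ x = Sum.inl 1 :=
  ⟨fun h => (eqv hab).injective (h.trans rfl), fun h => h ▸ rfl⟩

@[simp] theorem eqv_zero {a b : ι} (hab : a ≠ b) : eqv hab (Sum.inl 0) = a := rfl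
@[simp] theorem eqv_one {a b : ι} (hab : a ≠ b) : eqv hab (Sum.inl 1) = b := rfl
@[simp] theorem eqv_inr {a b : ι} (hab : a ≠ b) (c : {c : ι // c ≠ a ∧ c ≠ b}) : eqv hab (Sum.inr c) = c.1 := rfl

/-- `SL₂(F)` on the coordinates `a`, `b` -/
noncomputable def emb {a b : ι} (hab : a ≠ b) : Matrix.SpecialLinearGroup (Fin 2) F →* Matrix.SpecialLinearGroup ι F where
  toFun g := ⟨reindex (eqv hab) (eqv hab) (fromBlocks (g : Matrix (Fin 2) (Fin 2) F) 0 0 1), by
    rw [det_reindex_self, det_fromBlocks_zero₂₁, det_one, mul_one]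
    exact g.2⟩
  map_one' := by
    apply Subtype.ext
    change reindex (eqv hab) (eqv hab) (fromBlocks (1 : Matrix (Fin 2) (Fin 2) F) 0 0 1) = 1
    rw [fromBlocks_one]
    simp
  map_mul' g k := by
    apply Subtype.ext
    change reindex (eqv hab) (eqv hab) (fromBlocks (g.1 * k.1 : Matrix (Fin 2) (Fin 2) F) 0 0 1) =
      reindex (eqv hab) (eqv hab) (fromBlocks g.1 0 0 1) * reindex (eqv hab) (eqv hab) (fromBlocks k.1 0 0 1)
    rw [reindex_apply, reindex_apply, reindex_apply, submatrix_mul_equiv, fromBlocks_multiply]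
    simp

theorem emb_apply {a b : ι} (hab : a ≠ b) (g : Matrix.SpecialLinearGroup (Fin 2) F)
    (x y : Fin 2 ⊕ {c : ι // c ≠ a ∧ c ≠ b}) :
    (emb hab g : Matrix ι ι F) (eqv hab x) (eqv hab y) =
      (fromBlocks (g : Matrix (Fin 2) (Fin 2) F) 0 0 1 : Matrix _ _ F) x y := by
  change reindex (eqv hab) (eqv hab) (fromBlocks (g : Matrix (Fin 2) (Fin 2) F) 0 0 1) _ _ = _
  simp

theorem ext_emb {a b : ι} (hab : a ≠ b) (g : Matrix.SpecialLinearGroup (Fin 2) F)
    (M : Matrix.SpecialLinearGroup ι F)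
    (h : ∀ x y, (fromBlocks (g : Matrix (Fin 2) (Fin 2) F) 0 0 1 :
      Matrix (Fin 2 ⊕ {c : ι // c ≠ a ∧ c ≠ b}) (Fin 2 ⊕ {c : ι // c ≠ a ∧ c ≠ b}) F) x y =
      (M : Matrix ι ι F) (eqv hab x) (eqv hab y)) : emb hab g = M := by
  apply Subtype.ext
  ext i j
  obtain ⟨x, rfl⟩ := (eqv hab).surjective i
  obtain ⟨y, rfl⟩ := (eqv hab).surjective j
  exact (emb_apply hab g x y).trans (h x y)

theorem emb_up {a b : ι} (hab : a ≠ b) (t : F) : emb hab (up t) = tv a b t := by
  apply ext_emb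
  intro x y
  have h1 : ((tv a b t : Matrix.SpecialLinearGroup ι F) : Matrix ι ι F) = 1 + single a b t :=
    RGDTypeA.tv_val hab t
  have h2 : (a = eqv hab x) ↔ x = Sum.inl 0 := by rw [eq_comm, eqv_eq_left]
  have h3 : (b = eqv hab y) ↔ y = Sum.inl 1 := by rw [eq_comm, eqv_eq_right]
  simp only [h1, Matrix.add_apply, Matrix.one_apply, single_apply, EmbeddingLike.apply_eq_iff_eq, h2, h3]
  rcases x with x | x <;> rcases y with y | y
  · fin_cases x <;> fin_cases y <;> simp
  · simp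
  · simp
  · simp [Matrix.one_apply]

theorem emb_lo {a b : ι} (hab : a ≠ b) (t : F) : emb hab (lo t) = tv b a t := by
  apply ext_emb
  intro x y
  have h1 : ((tv b a t : Matrix.SpecialLinearGroup ι F) : Matrix ι ι F) = 1 + single b a t :=
    RGDTypeA.tv_val hab.symm t
  have h2 : (b = eqv hab x) ↔ x = Sum.inl 1 := by rw [eq_comm, eqv_eq_right]
  have h3 : (a = eqv hab y) ↔ y = Sum.inl 0 := by rw [eq_comm, eqv_eq_left]
  simp only [h1, Matrix.add_apply, Matrix.one_apply, single_apply, EmbeddingLike.apply_eq_iff_eq, h2, h3]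
  rcases x with x | x <;> rcases y with y | y
  · fin_cases x <;> fin_cases y <;> simp
  · simp
  · simp
  · simp [Matrix.one_apply]

theorem emb_dg {a b : ι} (hab : a ≠ b) (t : Fˣ) : (emb hab (dg t) : Matrix ι ι F) =
    diagonal fun c => if c = a then (t : F) else if c = b then ((t⁻¹ : Fˣ) : F) else 1 := by
  ext i j
  obtain ⟨x, rfl⟩ := (eqv hab).surjective i
  obtain ⟨y, rfl⟩ := (eqv hab).surjective j
  rw [emb_apply]
  simp only [diagonal_apply, EmbeddingLike.apply_eq_iff_eq, eqv_eq_left, eqv_eq_right]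
  rcases x with x | x <;> rcases y with y | y
  · fin_cases x <;> fin_cases y <;> simp
  · simp
  · simp
  · simp [Matrix.one_apply]

end Emb

section Torus

variable {F : Type*} [Field F] {n : ℕ}

/-- `diag(t₀, t₁/t₀, …, 1/t_{n-1})` -/
def dm (t : Fin n → Fˣ) : Fin (n + 1) → Fˣ :=
  (Fin.snoc (α := fun _ => Fˣ) t 1 : Fin (n + 1) → Fˣ) * (Fin.cons (α := fun _ => Fˣ) 1 t : Fin (n + 1) → Fˣ)⁻¹

theorem dm_apply (t : Fin n → Fˣ) (j : Fin (n + 1)) :
    dm t j = (Fin.snoc (α := fun _ => Fˣ) t 1 : Fin (n + 1) → Fˣ) j *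
      ((Fin.cons (α := fun _ => Fˣ) 1 t : Fin (n + 1) → Fˣ) j)⁻¹ := rfl

theorem prod_dm (t : Fin n → Fˣ) : ∏ j, dm t j = 1 := by
  simp only [dm_apply]
  rw [Finset.prod_mul_distrib, Finset.prod_inv_distrib, Fin.prod_snoc, Fin.prod_cons]
  simp

theorem snoc_mul (s t : Fin n → Fˣ) (j : Fin (n + 1)) :
    (Fin.snoc (α := fun _ => Fˣ) (s * t) 1 : Fin (n + 1) → Fˣ) j =
      (Fin.snoc (α := fun _ => Fˣ) s 1 : Fin (n + 1) → Fˣ) j * (Fin.snoc (α := fun _ => Fˣ) t 1 : Fin (n + 1) → Fˣ) j := by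
  induction j using Fin.lastCases with
  | last => simp
  | cast j => simp

theorem cons_mul (s t : Fin n → Fˣ) (j : Fin (n + 1)) :
    (Fin.cons (α := fun _ => Fˣ) 1 (s * t) : Fin (n + 1) → Fˣ) j =
      (Fin.cons (α := fun _ => Fˣ) 1 s : Fin (n + 1) → Fˣ) j * (Fin.cons (α := fun _ => Fˣ) 1 t : Fin (n + 1) → Fˣ) j := by
  induction j using Fin.cases with
  | zero => simp
  | succ j => simp

theorem dm_mul (s t : Fin n → Fˣ) (j : Fin (n + 1)) : dm (s * t) j = dm s j * dm t j := by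
  rw [dm_apply, dm_apply, dm_apply, snoc_mul, cons_mul, mul_inv]
  exact mul_mul_mul_comm _ _ _ _

/-- the torus of `SL_{n+1}(F)` -/
def th (n : ℕ) (F : Type*) [Field F] : (Fin n → Fˣ) →* Matrix.SpecialLinearGroup (Fin (n + 1)) F where
  toFun t := ⟨diagonal fun j => ((dm t j : Fˣ) : F), by
    rw [det_diagonal]
    have h := congrArg (Units.val) (prod_dm t)
    simpa using h⟩
  map_one' := by
    apply Subtype.ext
    change (diagonal fun j => ((dm (1 : Fin n → Fˣ) j : Fˣ) : F)) = 1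
    rw [← diagonal_one]
    congr 1
    funext j
    have h1 : dm (1 : Fin n → Fˣ) j * dm (1 : Fin n → Fˣ) j = dm (1 : Fin n → Fˣ) j := by
      rw [← dm_mul, mul_one]
    rw [mul_eq_left.mp h1]
    rfl
  map_mul' s t := by
    apply Subtype.ext
    change (diagonal fun j => ((dm (s * t) j : Fˣ) : F)) = (diagonal fun j => ((dm s j : Fˣ) : F)) *
      (diagonal fun j => ((dm t j : Fˣ) : F))
    rw [diagonal_mul_diagonal]
    congr 1
    funext j
    rw [dm_mul, Units.val_mul]

theorem th_coe (t : Fin n → Fˣ) : ((th n F t : Matrix.SpecialLinearGroup (Fin (n + 1)) F) :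
    Matrix (Fin (n + 1)) (Fin (n + 1)) F) = diagonal fun j => ((dm t j : Fˣ) : F) := rfl

theorem th_injective {t : Fin n → Fˣ} (h : th n F t = 1) : t = 1 := by
  have h1 : ∀ j, dm t j = 1 := by
    intro j
    have h2 := congrArg (fun A : Matrix.SpecialLinearGroup (Fin (n + 1)) F =>
      (A : Matrix (Fin (n + 1)) (Fin (n + 1)) F) j j) h
    simp only [th_coe, diagonal_apply_eq, Matrix.SpecialLinearGroup.coe_one, one_apply_eq] at h2
    exact Units.ext h2
  have h2 : ∀ j : Fin n, t j = (Fin.cons (α := fun _ => Fˣ) 1 t : Fin (n + 1) → Fˣ) j.castSucc := by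
    intro j
    have h3 := h1 j.castSucc
    rw [dm_apply, Fin.snoc_castSucc] at h3
    exact mul_inv_eq_one.mp h3
  cases n with
  | zero => exact Subsingleton.elim _ _
  | succ n =>
    funext j
    induction j using Fin.induction with
    | zero =>
      rw [h2 0, Fin.castSucc_zero, Fin.cons_zero]
      rfl
    | succ j ih =>
      rw [h2 j.succ, ← Fin.succ_castSucc, Fin.cons_succ, ih]
      rfl

theorem th_mulSingle (i : Fin n) (t : Fˣ) :
    th n F (Pi.mulSingle i t) = emb (Fin.castSucc_lt_succ (i := i)).ne (dg t) := by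
  apply Subtype.ext
  change (diagonal fun j => ((dm (Pi.mulSingle i t) j : Fˣ) : F)) =
    (emb (Fin.castSucc_lt_succ (i := i)).ne (dg t) : Matrix (Fin (n + 1)) (Fin (n + 1)) F)
  rw [emb_dg]
  congr 1
  funext j
  have h1 : (Fin.snoc (α := fun _ => Fˣ) (Pi.mulSingle i t) 1 : Fin (n + 1) → Fˣ) j =
      if j = i.castSucc then t else 1 := by
    induction j using Fin.lastCases with
    | last =>
      rw [Fin.snoc_last, if_neg (Fin.castSucc_lt_last i).ne']
    | cast j =>
      rw [Fin.snoc_castSucc]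
      by_cases h : j = i
      · subst h; simp
      · rw [Pi.mulSingle_eq_of_ne h, if_neg (fun h' => h (Fin.castSucc_injective _ h'))]
  have h2 : (Fin.cons (α := fun _ => Fˣ) 1 (Pi.mulSingle i t) : Fin (n + 1) → Fˣ) j =
      if j = i.succ then t else 1 := by
    induction j using Fin.cases with
    | zero =>
      rw [Fin.cons_zero, if_neg (Fin.succ_ne_zero i).symm]
    | succ j =>
      rw [Fin.cons_succ]
      by_cases h : j = i
      · subst h; simp
      · rw [Pi.mulSingle_eq_of_ne h, if_neg (fun h' => h (Fin.succ_injective _ h'))]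
  rw [dm_apply, h1, h2]
  by_cases hj : j = i.castSucc
  · have hj' : j ≠ i.succ := fun h => (Fin.castSucc_lt_succ (i := i)).ne (hj.symm.trans h)
    rw [if_pos hj, if_neg hj', if_pos hj]
    simp
  · rw [if_neg hj, if_neg hj]
    by_cases hj' : j = i.succ
    · rw [if_pos hj', if_pos hj']
      simp
    · rw [if_neg hj', if_neg hj']
      simp

end Torus

section Closed

variable {F : Type*} [Field F] [Finite F] {n : ℕ}

/-- the coordinates of the root group datum of `SL_{n+1}(F)` -/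
theorem coord : Coord (RGDTypeA.X F) (fun _ : Fin n => F) (fun i => emb (Fin.castSucc_lt_succ (i := i)).ne) where
  up i := by
    rw [RGDTypeA.X_sr]
    ext g
    simp only [emb_up]
    rfl
  lo i := by
    rw [RGDTypeA.X_neg_sr]
    ext g
    simp only [emb_lo]
    rfl

/-- **`SL_{n+1}(F)`, `|F|` odd, has no perfect central extension by a 2-group.** -/
theorem inj {p : ℕ} [Fact p.Prime] [CharP F p] (hp : p ≠ 2) {E : Type*} [Group E] [Finite E]
    (f : E →* Matrix.SpecialLinearGroup (Fin (n + 1)) F) (hs : Function.Surjective f) (hc : f.ker ≤ center E)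
    (h2 : IsPGroup 2 f.ker) (hE : commutator E = ⊤) : Function.Injective f := by
  have : Finite (cA n).Group := RootsA.finite_W (cA n).toCoxeterSystem (RootsA.isCartan n)
  obtain ⟨s', θ', -, -, -, h⟩ := Mult.exists_of_ker hp
    (RGDTypeA.rgd (F := F) (p := p) (cA n).toCoxeterSystem (RootsA.isCartan n))
    (RGDTypeA.G1_eq_top (cA n).toCoxeterSystem (RootsA.isCartan n)) coord (th n F)
    (fun i t => th_mulSingle i t) hs hc h2 hE
  rw [injective_iff_map_eq_one]
  intro z hz
  obtain ⟨t, rfl, ht⟩ := h z hz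
  rw [th_injective ht, map_one]

end Closed

section Literal

universe u

/-- `SL_n(F)`, `|F|` odd, is closed. -/
theorem closed {F : Type} [Field F] [Fintype F] (hodd : Odd (Fintype.card F)) {n : ℕ} (hn : 1 ≤ n) :
    CoverOf.Closed2.{u, 0} (Matrix.SpecialLinearGroup (Fin n) F) := by
  obtain ⟨n, rfl⟩ : ∃ k, n = k + 1 := ⟨n - 1, by omega⟩
  obtain ⟨p, hp⟩ := CharP.exists F
  have : Fact p.Prime := ⟨CharP.char_is_prime F p⟩
  have hp2 : p ≠ 2 := by
    rintro rfl
    exact Blocks.two_ne_zero_of_odd hodd (by exact_mod_cast CharP.cast_eq_zero F 2)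
  intro E _ _ f hs hc h2 hE
  exact inj hp2 f hs hc h2 hE

/-- **(T') for `N / Z(N) ≅ PSL_n(F)`**, `|F| > 3` odd, `n ≥ 3`. -/
theorem frame {N : Type u} [Group N] [Finite N] (hq : Cfsg.IsQuasisimple N) (h2 : IsPGroup 2 ↥(center N))
    {F : Type} [Field F] [Fintype F] (hodd : Odd (Fintype.card F)) (h3 : 3 < Fintype.card F) {n : ℕ}
    (hn : 3 ≤ n) (e : N ⧸ center N ≃* Matrix.ProjectiveSpecialLinearGroup (Fin n) F) {z : N}
    (hz : z ∈ center N) (h8 : Even8 z) : Nonempty (Frame N z) := by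
  obtain ⟨φ, hs, hk⟩ := CoverOf.exists_cover hq.1.commutator_eq_top h2 (Cfsg.Agent.S0248.result n hn)
    (closed hodd (by omega)) e
  exact FrameSL.frame hodd h3 hn φ hs hk hz h8

end Literal

end Cfsg.Agent.OddHalf.NI.ClosedSL
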