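import Cfsg.Agent.GH.Cov.QuatLift
import Cfsg.Agent.GH.Cov.SLCore
import Cfsg.Agent.Lib.PSL2Inv
import Cfsg.Agent.TwoFusion.QuatCoverSL

/-!
# Perfect central 2-extensions of `SL₂(q)` and `L₂(q)`, `q` odd

* `gen_odd` : a finite perfect group is generated by its elements of odd order;
* `injective_of_sl` : a perfect central 2-extension of a subgroup of `SL₂(F)` is trivial;
* `equiv_sl` : a finite perfect group `N` with `Z(N) ≠ 1` a 2-group and `N / Z(N) ≃ PSL₂(F)` is `SL₂(F)`
  (fibre product with `SL₂(F)`).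
-/

set_option autoImplicit false
set_option linter.style.haveILetI false

namespace Cfsg.Agent.OddHalf.NI.CovTwo

open Subgroup

/-- a finite perfect group is generated by its elements of odd order -/
theorem gen_odd {A : Type*} [Group A] [Finite A] (h : commutator A = ⊤) :
    closure {y : A | Odd (orderOf y)} = ⊤ := by
  haveI : Fact (Nat.Prime 2) := ⟨Nat.prime_two⟩
  set N := closure {y : A | Odd (orderOf y)} with hN
  haveI hn : N.Normal := by
    rw [hN]
    refine ⟨fun x hx g => ?_⟩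
    refine closure_induction (p := fun x _ => g * x * g⁻¹ ∈ closure {y : A | Odd (orderOf y)}) ?_ ?_ ?_ ?_ hx
    · intro x hx
      apply Subgroup.subset_closure
      change Odd (orderOf (g * x * g⁻¹))
      have h1 : orderOf (g * x * g⁻¹) = orderOf x :=
        orderOf_injective (MulAut.conj g).toMonoidHom (MulAut.conj g).injective x
      rw [h1]
      exact hx
    · rw [mul_one, mul_inv_cancel]
      exact one_mem _
    · intro x y _ _ hx hy
      have : g * (x * y) * g⁻¹ = (g * x * g⁻¹) * (g * y * g⁻¹) := by group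
      rw [this]
      exact mul_mem hx hy
    · intro x _ hx
      have : g * x⁻¹ * g⁻¹ = (g * x * g⁻¹)⁻¹ := by group
      rw [this]
      exact inv_mem hx
  have hp : IsPGroup 2 (A ⧸ N) := by
    intro q
    obtain ⟨x, rfl⟩ := QuotientGroup.mk_surjective q
    obtain ⟨k, m, hm, hk⟩ := Nat.exists_eq_two_pow_mul_odd (orderOf_pos x).ne'
    refine ⟨k, ?_⟩
    rw [← QuotientGroup.mk_pow, QuotientGroup.eq_one_iff]
    apply Subgroup.subset_closure
    change Odd (orderOf (x ^ 2 ^ k))
    rw [orderOf_pow, hk, Nat.gcd_mul_right_left, Nat.mul_div_cancel_left _ (by positivity)]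
    exact hm
  haveI : Group.IsNilpotent (A ⧸ N) := hp.isNilpotent
  have hc : commutator (A ⧸ N) = ⊤ := by
    have h1 := Subgroup.map_commutator (⊤ : Subgroup A) ⊤ (QuotientGroup.mk' N)
    rw [← _root_.commutator_def, h, ← MonoidHom.range_eq_map, MonoidHom.range_eq_top.mpr (QuotientGroup.mk'_surjective N)]
      at h1
    exact h1.symm
  by_contra hne
  haveI : Nontrivial (A ⧸ N) := by
    rw [← not_subsingleton_iff_nontrivial]
    intro hs
    exact hne (QuotientGroup.subgroup_eq_top_of_subsingleton N hs)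
  exact (Group.IsSolvable.commutator_lt_top_of_nontrivial (A ⧸ N)).ne hc

section

variable {F : Type*} [Field F] [Fintype F]

/-- a perfect central 2-extension of a subgroup of `SL₂(F)` is trivial -/
theorem injective_of_sl (hF : Odd (Fintype.card F)) {A : Type*} [Group A] [Finite A] (h : commutator A = ⊤)
    (f : A →* Matrix.SpecialLinearGroup (Fin 2) F) (hc : f.ker ≤ center A) (h2 : IsPGroup 2 f.ker) :
    Function.Injective f :=
  GH.Cov.QuatLift.injective (gen_odd h) hc h2 (t := -1)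
    (fun _ hy => Lib.PSL2Inv.sq_eq_one (TwoFusion.QuatCoverSL.two_ne_zero_of_odd hF) hy)

/-- the centre of `SL₂(F)` -/
theorem mem_center_sl (hF : Odd (Fintype.card F)) {s : Matrix.SpecialLinearGroup (Fin 2) F}
    (hs : s ∈ center (Matrix.SpecialLinearGroup (Fin 2) F)) : s = 1 ∨ s = -1 := by
  rw [TwoFusion.QuatCoverSL.center_eq_zpowers hF] at hs
  refine Lib.PSL2Inv.sq_eq_one (TwoFusion.QuatCoverSL.two_ne_zero_of_odd hF) ?_
  have h4 := orderOf_dvd_of_mem_zpowers hs
  rw [TwoFusion.QuatCoverSL.orderOf_neg_one hF] at h4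
  rw [← pow_two]
  exact orderOf_dvd_iff_pow_eq_one.mp h4

/-- **`Z(N) ≠ 1` a 2-group, `N / Z(N) ≃ PSL₂(F)`: then `N ≃ SL₂(F)`.** -/
theorem equiv_sl (hF : Odd (Fintype.card F)) {N : Type*} [Group N] [Finite N] (hp : commutator N = ⊤)
    (h2 : IsPGroup 2 (center N)) (φ : N ⧸ center N ≃* Matrix.ProjectiveSpecialLinearGroup (Fin 2) F) {y : N}
    (hy : y ∈ center N) (hy1 : y ≠ 1) : Nonempty (N ≃* Matrix.SpecialLinearGroup (Fin 2) F) := by
  let S := Matrix.SpecialLinearGroup (Fin 2) F
  let P := Matrix.ProjectiveSpecialLinearGroup (Fin 2) F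
  let π : S →* P := QuotientGroup.mk' (center S)
  let f : N →* P := φ.toMonoidHom.comp (QuotientGroup.mk' (center N))
  have hf1 : ∀ n : N, f n = 1 ↔ n ∈ center N := by
    intro n
    change φ (QuotientGroup.mk' (center N) n) = 1 ↔ _
    rw [map_eq_one_iff φ φ.injective]
    exact QuotientGroup.eq_one_iff n
  have hπ1 : ∀ s : S, π s = 1 ↔ s ∈ center S := fun s => QuotientGroup.eq_one_iff s
  have hsq : ∀ s : S, s * s = 1 → s = 1 ∨ s = -1 := fun s hs =>
    Lib.PSL2Inv.sq_eq_one (TwoFusion.QuatCoverSL.two_ne_zero_of_odd hF) hs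
  have hneg : (-1 : S) * -1 = 1 := by
    rw [neg_mul_neg, one_mul]
  have hfE : GH.Cov.Lft.CExt f := by
    refine ⟨φ.surjective.comp (QuotientGroup.mk'_surjective _), fun c hc x => ?_, fun c hc => ?_⟩
    · exact (mem_center_iff.mp ((hf1 c).mp hc) x).symm
    · obtain ⟨k, hk⟩ := h2 ⟨c, (hf1 c).mp hc⟩
      exact ⟨k, congrArg Subtype.val hk⟩
  have hπE : GH.Cov.Lft.CExt π := by
    refine ⟨QuotientGroup.mk'_surjective _, fun c hc x => ?_, fun c hc => ?_⟩
    · exact (mem_center_iff.mp ((hπ1 c).mp hc) x).symm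
    · refine ⟨1, ?_⟩
      rcases mem_center_sl hF ((hπ1 c).mp hc) with h | h
      · rw [h, one_pow]
      · rw [h, pow_one, pow_two, hneg]
  let K : Subgroup (N × S) := closure {p : N × S | f p.1 = π p.2 ∧ Odd (orderOf p)}
  have hKE : ∀ p ∈ K, f p.1 = π p.2 := by
    have h1 : K ≤ (f.comp (MonoidHom.fst N S)).eqLocus (π.comp (MonoidHom.snd N S)) := by
      rw [closure_le]
      rintro p ⟨hp1, -⟩
      exact hp1
    intro p hp
    exact h1 hp
  haveI : Finite S := inferInstance
  have hinj : ∀ p ∈ K, p.2 = 1 → p = 1 := by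
    intro p hp hp2
    refine GH.Cov.QuatLift.injOn (K := K) (f := MonoidHom.snd N S) (t := -1) ?_ ?_ ?_ ?_ hp hp2
    · rw [closure_le]
      rintro q ⟨h1, h3⟩
      exact subset_closure ⟨subset_closure ⟨h1, h3⟩, h3⟩
    · intro c hc hc1 q _
      have h3 : f c.1 = 1 := by
        rw [hKE c hc, show c.2 = 1 from hc1, map_one]
      refine Prod.ext (mem_center_iff.mp ((hf1 _).mp h3) _).symm ?_
      change c.2 * q.2 = q.2 * c.2
      rw [show c.2 = 1 from hc1, one_mul, mul_one]
    · intro c hc hc1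
      have h3 : f c.1 = 1 := by
        rw [hKE c hc, show c.2 = 1 from hc1, map_one]
      obtain ⟨k, hk⟩ := hfE.two _ h3
      refine ⟨k, Prod.ext hk ?_⟩
      change c.2 ^ 2 ^ k = 1
      rw [show c.2 = 1 from hc1, one_pow]
    · intro q _ hq
      exact hsq _ hq
  have hord : ∀ (n : N) (s : S), Odd (orderOf n) → Odd (orderOf s) → Odd (orderOf ((n, s) : N × S)) := by
    intro n s h3 h4
    rw [Prod.orderOf_mk]
    exact (h3.mul h4).of_dvd_nat (Nat.lcm_dvd_mul _ _)
  have hsnd : ∀ s : S, ∃ p ∈ K, p.2 = s := by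
    intro s
    have h1 : (⊤ : Subgroup S) ≤ K.map (MonoidHom.snd N S) := by
      rw [← GH.Cov.SLCore.sl_gen hF, closure_le]
      intro s hs
      have hs' : Odd (orderOf s) := hs
      obtain ⟨n, hn1, hn2⟩ := hfE.exists_lift (a := π s) (hs'.of_dvd_nat (orderOf_map_dvd π s))
      refine ⟨(n, s), subset_closure ⟨hn1, hord n s ?_ hs'⟩, rfl⟩
      rw [hn2]
      exact hs'.of_dvd_nat (orderOf_map_dvd π s)
    obtain ⟨p, hp1, hp2⟩ := h1 (mem_top s)
    exact ⟨p, hp1, hp2⟩
  have hfst : ∀ n : N, ∃ p ∈ K, p.1 = n := by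
    intro n
    have h1 : (⊤ : Subgroup N) ≤ K.map (MonoidHom.fst N S) := by
      rw [← gen_odd hp, closure_le]
      intro n hn
      have hn' : Odd (orderOf n) := hn
      obtain ⟨s, hs1, hs2⟩ := hπE.exists_lift (a := f n) (hn'.of_dvd_nat (orderOf_map_dvd f n))
      refine ⟨(n, s), subset_closure ⟨hs1.symm, hord n s hn' ?_⟩, rfl⟩
      rw [hs2]
      exact hn'.of_dvd_nat (orderOf_map_dvd f n)
    obtain ⟨p, hp1, hp2⟩ := h1 (mem_top n)
    exact ⟨p, hp1, hp2⟩
  let g : K →* S := (MonoidHom.snd N S).comp K.subtype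
  let g' : K →* N := (MonoidHom.fst N S).comp K.subtype
  have hgb : Function.Bijective g := by
    constructor
    · rw [injective_iff_map_eq_one]
      intro p hp'
      exact Subtype.ext (hinj p p.2 hp')
    · intro s
      obtain ⟨p, hpK, rfl⟩ := hsnd s
      exact ⟨⟨p, hpK⟩, rfl⟩
  have hyK : ∃ p ∈ K, p.1 = y ∧ p.2 = -1 := by
    obtain ⟨p, hpK, hpy⟩ := hfst y
    refine ⟨p, hpK, hpy, ?_⟩
    have h1 : π p.2 = 1 := by rw [← hKE p hpK, hpy]; exact (hf1 y).mpr hy
    rcases mem_center_sl hF ((hπ1 _).mp h1) with h | h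
    · exfalso
      apply hy1
      rw [← hpy, hinj p hpK h]
      rfl
    · exact h
  have hgb' : Function.Bijective g' := by
    constructor
    · rw [injective_iff_map_eq_one]
      intro p hp1
      have hp1' : (p : N × S).1 = 1 := hp1
      have h1 : π (p : N × S).2 = 1 := by rw [← hKE p p.2, hp1', map_one]
      refine Subtype.ext (hinj p p.2 ?_)
      rcases mem_center_sl hF ((hπ1 _).mp h1) with h | h
      · exact h
      · exfalso
        obtain ⟨q, hq, hq1, hq2⟩ := hyK
        have h3 := hinj (p * q) (mul_mem p.2 hq) (by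
          change (p : N × S).2 * q.2 = 1
          rw [h, hq2, hneg])
        have h4 : (p : N × S).1 * q.1 = 1 := congrArg Prod.fst h3
        rw [hp1', hq1, one_mul] at h4
        exact hy1 h4
    · intro n
      obtain ⟨p, hpK, rfl⟩ := hfst n
      exact ⟨⟨p, hpK⟩, rfl⟩
  exact ⟨(MulEquiv.ofBijective g' hgb').symm.trans (MulEquiv.ofBijective g hgb)⟩

end

end Cfsg.Agent.OddHalf.NI.CovTwo
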