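import Mathlib
import Cfsg.Agent.Nodes.ZRel
import Cfsg.Agent.Cit.Defs
import Cfsg.Agent.OddHalf.NI.FrameDef
import Cfsg.Agent.LieClassical.SLTwoSylowTwo

/-!
# Frames from charts (node NI, (T'); bb ODD #10406)

Let `c` be any chart (`Nodes/Chart.Cls`) and `z₀ ≠ 1` an element of the group generated by the involutions `z r`,
`r ∈ R`. Then `z₀` lies in `⟨z r : r ∈ S⟩` for a nonempty finite set `S ⊆ R` of pairwise orthogonal roots such that
the `z r`, `r ∈ S`, are independent (`exists_family`): take `S` of minimal cardinality. No root system is used.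

* `exists_family` : the combinatorial statement;
* `exists_frame_cls` : the frame (`FrameDef.Frame`) from `Cls` with `K_r ≃ SL₂(F)` subnormal in `C(z r)`;
* `exists_frame`, `exists_frame_of_hyp` : the same for charts.
-/

set_option autoImplicit false
set_option linter.unusedSectionVars false
set_option linter.dupNamespace false

namespace Cfsg.Agent.OddHalf.NI.FrameMin

open CoxeterSystem Cfsg.Agent.ChevalleyStructure.CoxeterGeom Cfsg.Agent.Tits.Roots Cfsg.Agent.Tits.Core
  Cfsg.Agent.Tits.RootComb Cfsg.Agent.Nodes.Comb Cfsg.Agent.Nodes.Reps Cfsg.Agent.Nodes.BNOf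
  Cfsg.Agent.Nodes.RGDLib Cfsg.Agent.Nodes.Chart Cfsg.Agent.Nodes.Coroot Cfsg.Agent.Nodes.Perp
  Cfsg.Agent.Nodes.ZRel

variable {I W Y : Type*} [Fintype I] [DecidableEq I] [Group W] [Fintype W] [Group Y] {M : CoxeterMatrix I}
  {cs : CoxeterSystem M W} {A : I → I → ℤ} {h : IsCartan M A} {p : ℕ} {T : Subgroup Y} {n : I → Y}
  {X : (I → ℤ) → Subgroup Y} {R : Set (I → ℤ)} {Z : (I → ℤ) → Subgroup Y} {z : (I → ℤ) → Y}

/-- Roots of the same length, not orthogonal and not equal up to sign, generate a root system of type `A₂`. -/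
theorem cpr_mul {r s : I → ℤ} (hr : IsRoot cs h r) (hs : IsRoot cs h s)
    (hl : form cs h r r = form cs h s s) (h0 : form cs h r s ≠ 0) (hne : s ≠ r) (hne' : s ≠ -r) :
    cpr cs h s r * cpr cs h r s = 1 := by
  have h1 := two_form_cpr cs h s hr
  have h2 := two_form_cpr cs h r hs
  have hpos := form_pos cs h hr.ne_zero
  rw [form_comm cs h s r] at h1
  rw [← hl] at h2
  have hcc : cpr cs h s r = cpr cs h r s := by
    have : (cpr cs h s r - cpr cs h r s) * form cs h r r = 0 := by linarith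
    rcases mul_eq_zero.1 this with h3 | h3 <;> omega
  set c := cpr cs h s r with hc
  rw [← hcc]
  have hc0 : c ≠ 0 := by
    intro h3; rw [h3, zero_mul] at h1; omega
  -- `v = c r - 2 s`
  have hv : c • r - (2 : ℤ) • s ≠ 0 := by
    intro h3
    have h4 : (2 : ℤ) • s = c • r := (sub_eq_zero.1 h3).symm
    have h5 : form cs h ((2 : ℤ) • s) ((2 : ℤ) • s) = form cs h (c • r) (c • r) := by rw [h4]
    rw [form_smul_left, form_smul_right, form_smul_left, form_smul_right, ← hl] at h5
    have h6 : (4 - c * c) * form cs h r r = 0 := by linarith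
    have h7 : (2 - c) * (2 + c) = 0 := by
      rcases mul_eq_zero.1 h6 with h8 | h8
      · linarith
      · omega
    rcases mul_eq_zero.1 h7 with h8 | h8
    · apply hne
      have h9 : c = 2 := by omega
      rw [h9] at h4
      exact smul_right_injective (I → ℤ) (show (2 : ℤ) ≠ 0 by norm_num) h4
    · apply hne'
      have h9 : c = -2 := by omega
      rw [h9] at h4
      apply smul_right_injective (I → ℤ) (show (2 : ℤ) ≠ 0 by norm_num)
      show (2 : ℤ) • s = (2 : ℤ) • (-r)
      rw [h4]; module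
  have h3 := form_pos cs h hv
  have h4 : form cs h (c • r - (2 : ℤ) • s) (c • r - (2 : ℤ) • s) = (4 - c * c) * form cs h r r := by
    rw [form_sub_left, form_sub_right, form_sub_right, form_smul_left, form_smul_left, form_smul_left,
      form_smul_left, form_smul_right, form_smul_right, form_smul_right, form_smul_right, ← hl, form_comm cs h s r]
    have : 2 * form cs h r s = c * form cs h r r := h1
    linear_combination (-2 * c) * this
  rw [h4] at h3
  have h5 : 0 < 4 - c * c := pos_of_mul_pos_left h3 hpos.le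
  have h6 : -2 < c ∧ c < 2 := ⟨by nlinarith, by nlinarith⟩
  have h7 : c = 1 ∨ c = -1 := by omega
  rcases h7 with h8 | h8 <;> rw [h8] <;> norm_num

section Cls

variable (C : Cls cs h p T n X R Z z)

include C

theorem closure_le_T {S : Set (I → ℤ)} (hS : S ⊆ R) : Subgroup.closure (z '' S) ≤ T := by
  rw [Subgroup.closure_le]
  rintro _ ⟨r, hr, rfl⟩
  exact C.z_torus r (hS hr)

/-- The group generated by the involutions of `insert r S`. -/
theorem mem_closure_insert {S : Set (I → ℤ)} (hS : S ⊆ R) {r : I → ℤ} (hr : r ∈ R) {x : Y}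
    (hx : x ∈ Subgroup.closure (z '' insert r S)) :
    x ∈ Subgroup.closure (z '' S) ∨ z r * x ∈ Subgroup.closure (z '' S) := by
  set H := Subgroup.closure (z '' S) with hH
  have hcm : ∀ x ∈ H, z r * x = x * z r := fun x hx => C.z_T r hr x (closure_le_T C hS hx)
  have hzz := C.z_sq r hr
  induction hx using Subgroup.closure_induction with
  | mem x hx =>
    obtain ⟨s, hs, rfl⟩ := hx
    rcases hs with rfl | hs
    · right; rw [hzz]; exact one_mem _
    · left; exact Subgroup.subset_closure ⟨s, hs, rfl⟩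
  | one => left; exact one_mem _
  | mul x y _ _ ihx ihy =>
    rcases ihx with ihx | ihx <;> rcases ihy with ihy | ihy
    · left; exact mul_mem ihx ihy
    · right
      have : z r * (x * y) = x * (z r * y) := by rw [← mul_assoc, hcm x ihx, mul_assoc]
      rw [this]; exact mul_mem ihx ihy
    · right; rw [← mul_assoc]; exact mul_mem ihx ihy
    · left
      have h1 := hcm _ ihx
      have h2 : z r * x * (z r * y) = x * y := by
        have h3 : z r * x * z r = x := by
          rw [← h1, ← mul_assoc, hzz, one_mul]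
        rw [← mul_assoc, h3]
      rw [← h2]; exact mul_mem ihx ihy
  | inv x _ ihx =>
    rcases ihx with ihx | ihx
    · left; exact inv_mem ihx
    · right
      have h1 := hcm _ ihx
      have h2 : z r * x⁻¹ = (z r * x)⁻¹ := by
        have h3 : x * z r = z r * x := by
          have h4 : z r * x * z r = x := by rw [← h1, ← mul_assoc, hzz, one_mul]
          calc x * z r = (z r * x * z r) * z r := by rw [h4]
            _ = z r * x * (z r * z r) := by group
            _ = z r * x := by rw [hzz, mul_one]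
        rw [← h3, mul_inv_rev, z_inv' C hr]
      rw [h2]; exact inv_mem ihx

/-- **Independent orthogonal families.** -/
theorem exists_family (hp : p.Prime) (hodd : p ≠ 2) (hu : Uniq R Z z)
    (hlen : ∀ x ∈ R, ∀ y ∈ R, form cs h x x = form cs h y y) {z₀ : Y} (h0 : z₀ ∈ Subgroup.closure (z '' R))
    (h1 : z₀ ≠ 1) :
    ∃ S : Finset (I → ℤ), S.Nonempty ∧ (∀ r ∈ S, r ∈ R) ∧
      (∀ r ∈ S, ∀ s ∈ S, r ≠ s → form cs h r s = 0) ∧
      (∀ r ∈ S, z r ∉ Subgroup.closure (z '' ((S : Set (I → ℤ)) \ {r}))) ∧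
      (∀ S' : Finset (I → ℤ), S' ⊂ S → z₀ ∉ Subgroup.closure (z '' (S' : Set (I → ℤ)))) ∧
      z₀ ∈ Subgroup.closure (z '' (S : Set (I → ℤ))) := by
  classical
  -- a finite set exists
  have hex : ∃ S : Finset (I → ℤ), (∀ r ∈ S, r ∈ R) ∧ z₀ ∈ Subgroup.closure (z '' (S : Set (I → ℤ))) := by
    clear h1
    induction h0 using Subgroup.closure_induction with
    | mem x hx =>
      obtain ⟨s, hs, rfl⟩ := hx
      exact ⟨{s}, by simpa using hs, Subgroup.subset_closure ⟨s, by simp, rfl⟩⟩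
    | one => exact ⟨∅, by simp, one_mem _⟩
    | mul x y _ _ ihx ihy =>
      obtain ⟨S, hS, hx⟩ := ihx
      obtain ⟨S', hS', hy⟩ := ihy
      refine ⟨S ∪ S', ?_, mul_mem ?_ ?_⟩
      · intro r hr
        rcases Finset.mem_union.1 hr with hr | hr
        · exact hS r hr
        · exact hS' r hr
      · exact Subgroup.closure_mono (Set.image_mono (by simp)) hx
      · exact Subgroup.closure_mono (Set.image_mono (by simp)) hy
    | inv x _ ihx =>
      obtain ⟨S, hS, hx⟩ := ihx
      exact ⟨S, hS, inv_mem hx⟩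
  -- minimal cardinality
  let P : ℕ → Prop := fun k => ∃ S : Finset (I → ℤ), S.card = k ∧ (∀ r ∈ S, r ∈ R) ∧
    z₀ ∈ Subgroup.closure (z '' (S : Set (I → ℤ)))
  have hP : ∃ k, P k := by
    obtain ⟨S, hS, hz⟩ := hex
    exact ⟨S.card, S, rfl, hS, hz⟩
  obtain ⟨S, hcard, hSR, hz⟩ := Nat.find_spec hP
  have hmin : ∀ S' : Finset (I → ℤ), (∀ r ∈ S', r ∈ R) → S'.card < S.card →
      z₀ ∉ Subgroup.closure (z '' (S' : Set (I → ℤ))) := by
    intro S' hS' hlt hz'
    rw [hcard] at hlt
    exact Nat.find_min hP hlt ⟨S', rfl, hS', hz'⟩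
  have hmin' : ∀ S' : Finset (I → ℤ), S' ⊂ S → z₀ ∉ Subgroup.closure (z '' (S' : Set (I → ℤ))) := fun S' hS' =>
    hmin S' (fun r hr => hSR r (hS'.1 hr)) (Finset.card_lt_card hS')
  refine ⟨S, ?_, hSR, ?_, ?_, hmin', hz⟩
  · -- nonempty
    rw [Finset.nonempty_iff_ne_empty]
    rintro rfl
    apply h1
    simpa using hz
  · -- orthogonal
    intro r hr s hs hrs
    by_contra hf
    have hrR := hSR r hr
    have hsR := hSR s hs
    set S₀ := (S.erase r).erase s with hS₀
    have hs' : s ∈ S.erase r := Finset.mem_erase.2 ⟨Ne.symm hrs, hs⟩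
    have hS₀R : ((S₀ : Finset (I → ℤ)) : Set (I → ℤ)) ⊆ R := fun x hx =>
      hSR x (Finset.mem_of_mem_erase (Finset.mem_of_mem_erase (Finset.mem_coe.1 hx)))
    have hS₁R : ((S.erase r : Finset (I → ℤ)) : Set (I → ℤ)) ⊆ R := fun x hx =>
      hSR x (Finset.mem_of_mem_erase (Finset.mem_coe.1 hx))
    have hcard₀ : S₀.card + 2 = S.card := by
      have h2 := Finset.card_erase_add_one hr
      have h3 := Finset.card_erase_add_one hs'
      rw [← hS₀] at h3
      omega
    have hins : (S : Set (I → ℤ)) = insert r ((S.erase r : Finset (I → ℤ)) : Set (I → ℤ)) := by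
      rw [← Finset.coe_insert, Finset.insert_erase hr]
    have hins' : ((S.erase r : Finset (I → ℤ)) : Set (I → ℤ)) = insert s (S₀ : Set (I → ℤ)) := by
      rw [← Finset.coe_insert, hS₀, Finset.insert_erase hs']
    -- `z₀` involves `z r` and `z s`
    have h2 : z r * z₀ ∈ Subgroup.closure (z '' ((S.erase r : Finset (I → ℤ)) : Set (I → ℤ))) := by
      rw [hins] at hz
      rcases mem_closure_insert C hS₁R hrR hz with h3 | h3
      · exact absurd h3 (hmin' _ (Finset.erase_ssubset hr))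
      · exact h3
    have h3 : z s * (z r * z₀) ∈ Subgroup.closure (z '' (S₀ : Set (I → ℤ))) ∨
        z r * z₀ ∈ Subgroup.closure (z '' (S₀ : Set (I → ℤ))) := by
      rw [hins'] at h2
      exact (mem_closure_insert C hS₀R hsR h2).symm
    -- in each case a smaller set
    have key : ∀ x ∈ R, z x * z₀ ∈ Subgroup.closure (z '' (S₀ : Set (I → ℤ))) → False := by
      intro x hx h4
      refine hmin (insert x S₀) ?_ ?_ ?_
      · intro y hy
        rcases Finset.mem_insert.1 hy with rfl | hy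
        · exact hx
        · exact hS₀R (Finset.mem_coe.2 hy)
      · have := Finset.card_insert_le x S₀
        omega
      · have h5 : z₀ = z x * (z x * z₀) := by rw [← mul_assoc, C.z_sq x hx, one_mul]
        rw [h5, Finset.coe_insert]
        refine mul_mem (Subgroup.subset_closure ⟨x, Set.mem_insert _ _, rfl⟩) ?_
        exact Subgroup.closure_mono (Set.image_mono (Set.subset_insert _ _)) h4
    rcases h3 with h3 | h3
    · by_cases hneg : s = -r
      · -- `z s * z r = 1`
        rw [hneg, C.z_neg r hrR, ← mul_assoc, C.z_sq r hrR, one_mul] at h3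
        refine hmin S₀ (fun x hx => hS₀R (Finset.mem_coe.2 hx)) (by omega) h3
      · have h4 := cpr_mul (C.root r hrR) (C.root s hsR) (hlen r hrR s hsR) hf (Ne.symm hrs) hneg
        have h5 := z_refl C hp hodd hu hrR hsR (Ne.symm hrs) hneg h4
        have h6 := refl_mem C hsR (C.root r hrR)
        refine key _ h6 ?_
        rw [h5, z_comm C hrR hsR, mul_assoc]
        exact h3
    · exact key r hrR h3
  · -- independent
    intro r hr hzr
    have hrR := hSR r hr
    have hS₁R : ((S.erase r : Finset (I → ℤ)) : Set (I → ℤ)) ⊆ R := fun x hx =>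
      hSR x (Finset.mem_of_mem_erase (Finset.mem_coe.1 hx))
    have hins : (S : Set (I → ℤ)) = insert r ((S.erase r : Finset (I → ℤ)) : Set (I → ℤ)) := by
      rw [← Finset.coe_insert, Finset.insert_erase hr]
    rw [← Finset.coe_erase] at hzr
    apply hmin' _ (Finset.erase_ssubset hr)
    rw [hins] at hz
    rcases mem_closure_insert C hS₁R hrR hz with h3 | h3
    · exact h3
    · have h5 : z₀ = z r * (z r * z₀) := by rw [← mul_assoc, C.z_sq r hrR, one_mul]
      rw [h5]
      exact mul_mem hzr h3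

/-! ### The frame of `Cls` -/

/-- All classical roots have the same length if they are conjugate. -/
theorem len_of_trans (trans : ∀ r ∈ R, ∀ s ∈ R, ∃ w, s = rep cs h w r) :
    ∀ x ∈ R, ∀ y ∈ R, form cs h x x = form cs h y y := by
  intro x hx y hy
  obtain ⟨w, rfl⟩ := trans x hx y hy
  rw [form_rep]

/-- If one of the involutions is not trivial then none is. -/
theorem z_ne_one (trans : ∀ r ∈ R, ∀ s ∈ R, ∃ w, s = rep cs h w r) {r : I → ℤ} (hr : r ∈ R) (h1 : z r ≠ 1)
    {s : I → ℤ} (hs : s ∈ R) : z s ≠ 1 := by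
  obtain ⟨w, rfl⟩ := trans r hr s hs
  obtain ⟨g, hg⟩ := exists_rp cs C.rgd.nsys w
  rw [← Nodes.ClsNorm.conj_z C hg hr]
  intro h2
  apply h1
  have h3 : z r = g⁻¹ * (g * z r * g⁻¹) * g := by group
  rw [h3, h2]; group

omit C in
theorem exists_z_ne {z₀ : Y} (h0 : z₀ ∈ Subgroup.closure (z '' R)) (h1 : z₀ ≠ 1) : ∃ r ∈ R, z r ≠ 1 := by
  by_contra hcon
  push Not at hcon
  apply h1
  have : Subgroup.closure (z '' R) ≤ ⊥ := by
    rw [Subgroup.closure_le]
    rintro _ ⟨r, hr, rfl⟩
    rw [hcon r hr]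
    exact one_mem _
  exact Subgroup.mem_bot.1 (this h0)

/-- `z r` is the only involution of `K_r ≃ SL₂(F)`. -/
theorem uniq_of_sl {F : Type} [Field F] [Fintype F] (ho : Odd (Fintype.card F))
    (sl : ∀ r ∈ R, Nonempty (Matrix.SpecialLinearGroup (Fin 2) F ≃* ↥(Z r ⊔ Z (-r))))
    (hz : ∀ r ∈ R, z r ≠ 1) : Uniq R Z z := by
  intro r hr x hx hxx hx1
  obtain ⟨φ⟩ := sl r hr
  have h2 : (2 : F) ≠ 0 := by
    intro h0
    have h3 : CharP F 2 := CharTwo.of_one_ne_zero_of_two_eq_zero one_ne_zero h0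
    have h4 := FiniteField.even_card_iff_char_two.1 (ringChar.eq F 2)
    rw [Nat.odd_iff] at ho
    omega
  have key : ∀ y (hy : y ∈ Z r ⊔ Z (-r)), y * y = 1 → y ≠ 1 → φ.symm ⟨y, hy⟩ = -1 := by
    intro y hy hyy hy1
    apply Cfsg.Agent.LieClassical.SLTwoSylowTwo.eq_neg_one_of_sq h2
    · intro h3
      apply hy1
      have h4 : (⟨y, hy⟩ : ↥(Z r ⊔ Z (-r))) = 1 := by
        rw [← φ.apply_symm_apply ⟨y, hy⟩, h3, map_one]
      exact congrArg Subtype.val h4
    · rw [pow_two, ← map_mul]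
      have h4 : (⟨y, hy⟩ * ⟨y, hy⟩ : ↥(Z r ⊔ Z (-r))) = 1 := Subtype.ext hyy
      rw [h4, map_one]
  have h3 := key x hx hxx hx1
  have h4 := key (z r) (C.z_mem r hr) (C.z_sq r hr) (hz r hr)
  have h5 := φ.symm.injective (h3.trans h4.symm)
  exact congrArg Subtype.val h5

/-- `z r` centralises `K_r` -/
theorem le_centralizer {r : I → ℤ} (hr : r ∈ R) : Z r ⊔ Z (-r) ≤ Subgroup.centralizer {z r} := by
  refine sup_le ?_ ?_
  · intro b hb
    rw [Subgroup.mem_centralizer_singleton_iff]
    exact (C.z_cent r hr b hb).symm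
  · intro b hb
    rw [Subgroup.mem_centralizer_singleton_iff]
    have := C.z_cent (-r) (neg_mem C hr) b hb
    rw [C.z_neg r hr] at this
    exact this.symm

/-- **The frame of `Cls`**: any nontrivial element of `⟨z r : r ∈ R⟩` lies in a frame. -/
theorem exists_frame_cls (hp : p.Prime) (hodd : p ≠ 2) (trans : ∀ r ∈ R, ∀ s ∈ R, ∃ w, s = rep cs h w r)
    {F : Type} [Field F] [Fintype F] (ho : Odd (Fintype.card F)) (hc : 3 < Fintype.card F)
    (sl : ∀ r ∈ R, Nonempty (Matrix.SpecialLinearGroup (Fin 2) F ≃* ↥(Z r ⊔ Z (-r))))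
    (sub : ∀ r ∈ R, z r ≠ 1 → ((Z r ⊔ Z (-r)).subgroupOf (Subgroup.centralizer {z r})).IsSubnormal)
    {z₀ : Y} (h0 : z₀ ∈ Subgroup.closure (z '' R)) (h1 : z₀ ≠ 1) : Nonempty (Frame Y z₀) := by
  classical
  obtain ⟨r₀, hr₀, hz₀⟩ := exists_z_ne h0 h1
  have hz1 : ∀ r ∈ R, z r ≠ 1 := fun r hr => z_ne_one C trans hr₀ hz₀ hr
  obtain ⟨S, hne, hSR, horth, hind, -, hgen⟩ := exists_family C hp hodd
    (uniq_of_sl C ho sl hz1) (len_of_trans C trans) h0 h1
  let e : Fin S.card ≃ S := S.equivFin.symm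
  have hR : ∀ i, (e i : I → ℤ) ∈ R := fun i => hSR _ (e i).2
  have hdist : ∀ r ∈ S, ∀ s ∈ S, r ≠ s → z r ≠ z s := by
    intro r hr s hs hrs h2
    apply hind r hr
    rw [h2]
    exact Subgroup.subset_closure ⟨s, ⟨hs, fun h3 => hrs (Set.mem_singleton_iff.1 h3).symm⟩, rfl⟩
  have hthree : ∀ r ∈ S, ∀ s ∈ S, ∀ t ∈ S, r ≠ t → s ≠ t → z r * z s ≠ z t := by
    intro r hr s hs t ht hrt hst h2
    apply hind t ht
    rw [← h2]
    exact mul_mem (Subgroup.subset_closure ⟨r, ⟨hr, fun h3 => hrt (Set.mem_singleton_iff.1 h3)⟩, rfl⟩)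
      (Subgroup.subset_closure ⟨s, ⟨hs, fun h3 => hst (Set.mem_singleton_iff.1 h3)⟩, rfl⟩)
  have hval : ∀ i j, i ≠ j → (e i : I → ℤ) ≠ e j := fun i j hij h2 => hij (e.injective (Subtype.ext h2))
  refine ⟨{ m := S.card, pos := hne.card_pos, J := fun i => Z (e i) ⊔ Z (-(e i : I → ℤ)),
            y := fun i => z (e i), F := F, odd := ho, card := hc, iso := ?_, mem := ?_, ord := ?_, le := ?_,
            sub := ?_, comm := ?_, inj := ?_, three := ?_, gen := ?_ }⟩
  · intro i
    obtain ⟨φ⟩ := sl _ (hR i)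
    exact ⟨φ.symm⟩
  · exact fun i => C.z_mem _ (hR i)
  · intro i
    refine orderOf_eq_prime ?_ (hz1 _ (hR i))
    rw [pow_two]; exact C.z_sq _ (hR i)
  · exact fun i => le_centralizer C (hR i)
  · exact fun i => sub _ (hR i) (hz1 _ (hR i))
  · intro i j hij
    exact (cm_iff C hp hodd (hR i) (hR j)).2 (horth _ (e i).2 _ (e j).2 (hval i j hij))
  · intro i j hij
    by_contra h2
    exact hdist _ (e i).2 _ (e j).2 (hval i j h2) hij
  · intro i j k _ hik hjk
    exact hthree _ (e i).2 _ (e j).2 _ (e k).2 (hval i k hik) (hval j k hjk)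
  · refine Subgroup.closure_mono ?_ hgen
    rintro _ ⟨r, hr, rfl⟩
    exact ⟨e.symm ⟨r, hr⟩, by simp⟩

end Cls

/-! ### The frame of a chart -/

section Chart

variable {N : Type*} [Group N] {Om : Set (Subgroup N)} {p : ℕ} {L : Subgroup N} (c : Chart Om p L)

/-- **The frame of a chart**: any nontrivial element of `⟨z r : r ∈ R⟩` lies in a frame. -/
theorem exists_frame {F : Type} [Field F] [Fintype F] (ho : Odd (Fintype.card F)) (hc : 3 < Fintype.card F)
    (sl : ∀ r ∈ c.R, Nonempty (Matrix.SpecialLinearGroup (Fin 2) F ≃* ↥(c.Z r ⊔ c.Z (-r))))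
    (sub : ∀ r ∈ c.R, c.z r ≠ 1 → ((c.Z r ⊔ c.Z (-r)).subgroupOf (Subgroup.centralizer {c.z r})).IsSubnormal)
    {z₀ : N} (h0 : z₀ ∈ Subgroup.closure (c.z '' c.R)) (h1 : z₀ ≠ 1) : Nonempty (Frame N z₀) :=
  exists_frame_cls c.cls c.prime c.odd c.trans ho hc sl sub h0 h1

/-- The same with the class of a `Cit.Hyp` (the groups of THEOREM T). -/
theorem exists_frame_of_hyp [Finite N] (H : Cit.Hyp Om) {F : Type} [Field F] [Fintype F]
    (ho : Odd (Fintype.card F)) (hc : 3 < Fintype.card F)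
    (sl : ∀ r ∈ c.R, Nonempty (Matrix.SpecialLinearGroup (Fin 2) F ≃* ↥(c.Z r ⊔ c.Z (-r))))
    {z₀ : N} (h0 : z₀ ∈ Subgroup.closure (c.z '' c.R)) (h1 : z₀ ≠ 1) : Nonempty (Frame N z₀) := by
  refine exists_frame c ho hc sl (fun r hr hz => ?_) h0 h1
  have h2 := H.eq_zz (c.om r hr) (c.cls.z_mem r hr) (c.cls.z_sq r hr) hz
  rw [h2]
  exact H.sub _ (c.om r hr)

end Chart

end Cfsg.Agent.OddHalf.NI.FrameMin
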