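import Mathlib
import Cfsg.Agent.OddHalf.NI.FrameMin
import Cfsg.Agent.OddHalf.LongSL.OfCls

/-!
# Frames from `Cls` (node NI, (T'); helper598)

* `subnormal` : `K_r = ⟨Z r, Z (-r)⟩` is subnormal in `C(z r)` (from `LongSL.main`).
* `frame_of_cls` : `FrameMin.exists_frame` (helper643) for a `Cls` whose root groups generate the group.
-/

set_option autoImplicit false
set_option linter.unusedSectionVars false
set_option linter.dupNamespace false

namespace Cfsg.Agent.OddHalf.NI.ClsFrame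

open CoxeterSystem Cfsg.Agent.ChevalleyStructure.CoxeterGeom Cfsg.Agent.Tits.Roots Cfsg.Agent.Tits.Core
  Cfsg.Agent.Tits.RootComb Cfsg.Agent.Nodes.Comb Cfsg.Agent.Nodes.Reps Cfsg.Agent.Nodes.BNOf
  Cfsg.Agent.Nodes.RGDLib Cfsg.Agent.Nodes.Chart Cfsg.Agent.Nodes.Coroot Cfsg.Agent.Nodes.Perp
  Cfsg.Agent.Nodes.ZRel Cfsg.Agent.Nodes.Bruhat Cfsg.Agent.OddHalf.NI.FrameMin

variable {I W Y : Type*} [Fintype I] [DecidableEq I] [Group W] [Fintype W] [Group Y] {M : CoxeterMatrix I}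
  {cs : CoxeterSystem M W} {A : I → I → ℤ} {h : IsCartan M A} {p : ℕ} {T : Subgroup Y} {n : I → Y}
  {X : (I → ℤ) → Subgroup Y} {R : Set (I → ℤ)} {Z : (I → ℤ) → Subgroup Y} {z : (I → ℤ) → Y}

/-- `K_r` is subnormal in `C(z r)`. -/
theorem subnormal (C : Cls cs h p T n X R Z z) (hp2 : Odd p) (hG : GG cs h T X = ⊤) {r : I → ℤ} (hr : r ∈ R) :
    ((Z r ⊔ Z (-r)).subgroupOf (Subgroup.centralizer ({z r} : Set Y))).IsSubnormal := by
  have hfin : Finite W := inferInstance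
  rw [← LongSL.JX_eq C hp2 hr]
  refine LongSL.main C.rgd (C.z_torus r hr) (C.root r hr) ?_ hG
  intro x hx h1 h2 u hu v hv
  obtain ⟨hu, huj⟩ := LongSL.mem_ZX.1 hu
  rw [LongSL.JX_eq C hp2 hr] at hv
  by_cases h3 : form cs h x r = 0
  · have h4 : ∀ v ∈ Z r, u * v = v * u := fun v hv => C.cent r hr x hx h3.ge u hu v hv
    have h5 : ∀ v ∈ Z (-r), u * v = v * u := fun v hv =>
      C.cent (-r) (LongSL.neg_mem_R C hr) x hx (by rw [form_neg_right, h3, neg_zero]) u hu v hv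
    have h6 : Z r ⊔ Z (-r) ≤ Subgroup.centralizer ({u} : Set Y) := by
      refine sup_le ?_ ?_
      · intro v hv
        rw [Subgroup.mem_centralizer_iff]; rintro _ rfl; exact h4 v hv
      · intro v hv
        rw [Subgroup.mem_centralizer_iff]; rintro _ rfl; exact h5 v hv
    exact Subgroup.mem_centralizer_iff.1 (h6 hv) u rfl
  · -- `u` is centralised and inverted by `z r`
    have h4 := C.z_inv r hr x hx h1 h2 h3 u hu
    rw [huj, mul_assoc, C.z_sq r hr, mul_one] at h4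
    obtain ⟨k, hk⟩ := C.rgd.pgrp' hx ⟨u, hu⟩
    have h5 : u ^ p ^ k = 1 := congrArg Subtype.val hk
    obtain ⟨m, hm⟩ : ∃ m, p ^ k = 2 * m + 1 := hp2.pow
    have h6 : u * u = 1 := by nth_rw 1 [h4]; exact inv_mul_cancel u
    have h7 : u = 1 := by
      rw [hm, pow_succ, pow_mul, pow_two, h6, one_pow, one_mul] at h5
      exact h5
    rw [h7, one_mul, mul_one]

section

variable (C : Cls cs h p T n X R Z z) (tr : ∀ r ∈ R, ∀ s ∈ R, ∃ w, s = rep cs h w r)

include C tr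

theorem len : ∀ x ∈ R, ∀ y ∈ R, form cs h x x = form cs h y y := by
  intro x hx y hy
  obtain ⟨w, rfl⟩ := tr x hx y hy
  rw [form_rep]

theorem z_ne {r : I → ℤ} (hr : r ∈ R) (h1 : z r ≠ 1) {s : I → ℤ} (hs : s ∈ R) : z s ≠ 1 := by
  obtain ⟨w, rfl⟩ := tr r hr s hs
  obtain ⟨g, hg⟩ := exists_rp cs C.rgd.nsys w
  rw [← Nodes.ClsNorm.conj_z C hg hr]
  intro h2
  apply h1
  have h3 : z r = g⁻¹ * (g * z r * g⁻¹) * g := by group
  rw [h3, h2]; group

omit C tr in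
theorem exists_z_ne {z₀ : Y} (h0 : z₀ ∈ Subgroup.closure (z '' R)) (h1 : z₀ ≠ 1) :
    ∃ r ∈ R, z r ≠ 1 := by
  by_contra hcon
  push Not at hcon
  apply h1
  have : Subgroup.closure (z '' R) ≤ ⊥ := by
    rw [Subgroup.closure_le]
    rintro _ ⟨r, hr, rfl⟩
    rw [hcon r hr]
    exact one_mem _
  exact Subgroup.mem_bot.1 (this h0)

omit tr in
theorem uniq {F : Type} [Field F] [Fintype F] (ho : Odd (Fintype.card F))
    (sl : ∀ r ∈ R, Nonempty (Matrix.SpecialLinearGroup (Fin 2) F ≃* ↥(Z r ⊔ Z (-r))))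
    (hz : ∀ r ∈ R, z r ≠ 1) : Uniq R Z z := by
  intro r hr x hx hxx hx1
  obtain ⟨φ⟩ := sl r hr
  have h2 : (2 : F) ≠ 0 := LongSL.two_ne_of_odd ho
  have key : ∀ y (hy : y ∈ Z r ⊔ Z (-r)), y * y = 1 → y ≠ 1 → φ.symm ⟨y, hy⟩ = -1 := by
    intro y hy hyy hy1
    apply Cfsg.Agent.LieClassical.SLTwoSylowTwo.eq_neg_one_of_sq h2
    · intro h3
      apply hy1
      have h4 : (⟨y, hy⟩ : ↥(Z r ⊔ Z (-r))) = 1 := by
        rw [← φ.apply_symm_apply ⟨y, hy⟩, h3, map_one]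
      exact congrArg Subtype.val h4
    · rw [pow_two, ← map_mul]
      have h4 : (⟨y, hy⟩ * ⟨y, hy⟩ : ↥(Z r ⊔ Z (-r))) = 1 := Subtype.ext hyy
      rw [h4, map_one]
  have h3 := key x hx hxx hx1
  have h4 := key (z r) (C.z_mem r hr) (C.z_sq r hr) (hz r hr)
  have h5 := φ.symm.injective (h3.trans h4.symm)
  exact congrArg Subtype.val h5

omit tr in
theorem le_centralizer {r : I → ℤ} (hr : r ∈ R) : Z r ⊔ Z (-r) ≤ Subgroup.centralizer {z r} := by
  refine sup_le ?_ ?_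
  · intro b hb
    rw [Subgroup.mem_centralizer_singleton_iff]
    exact (C.z_cent r hr b hb).symm
  · intro b hb
    rw [Subgroup.mem_centralizer_singleton_iff]
    have := C.z_cent (-r) (LongSL.neg_mem_R C hr) b hb
    rw [C.z_neg r hr] at this
    exact this.symm

/-- **The frame of a `Cls`**: any nontrivial element of `⟨z r : r ∈ R⟩` lies in a frame. -/
theorem frame_of_cls (hp : p.Prime) (hp2 : p ≠ 2) (hG : G1 cs h X = ⊤) {F : Type} [Field F] [Fintype F]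
    (ho : Odd (Fintype.card F)) (hc : 3 < Fintype.card F)
    (sl : ∀ r ∈ R, Nonempty (Matrix.SpecialLinearGroup (Fin 2) F ≃* ↥(Z r ⊔ Z (-r))))
    {z₀ : Y} (h0 : z₀ ∈ Subgroup.closure (z '' R)) (h1 : z₀ ≠ 1) : Nonempty (Frame Y z₀) := by
  classical
  have hG' : GG cs h T X = ⊤ := by
    rw [eq_top_iff, ← hG]
    exact le_sup_right
  obtain ⟨r₀, hr₀, hz₀⟩ := exists_z_ne h0 h1
  have hz1 : ∀ r ∈ R, z r ≠ 1 := fun r hr => z_ne C tr hr₀ hz₀ hr
  obtain ⟨S, hne, hSR, horth, hind, -, hgen⟩ := exists_family C hp hp2 (uniq C ho sl hz1) (len C tr) h0 h1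
  let e : Fin S.card ≃ S := S.equivFin.symm
  have hR : ∀ i, (e i : I → ℤ) ∈ R := fun i => hSR _ (e i).2
  have hdist : ∀ r ∈ S, ∀ s ∈ S, r ≠ s → z r ≠ z s := by
    intro r hr s hs hrs h2
    apply hind r hr
    rw [h2]
    exact Subgroup.subset_closure ⟨s, ⟨hs, fun h3 => hrs (Set.mem_singleton_iff.1 h3).symm⟩, rfl⟩
  have hthree : ∀ r ∈ S, ∀ s ∈ S, ∀ t ∈ S, r ≠ t → s ≠ t → z r * z s ≠ z t := by
    intro r hr s hs t ht hrt hst h2
    apply hind t ht
    rw [← h2]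
    exact mul_mem (Subgroup.subset_closure ⟨r, ⟨hr, fun h3 => hrt (Set.mem_singleton_iff.1 h3)⟩, rfl⟩)
      (Subgroup.subset_closure ⟨s, ⟨hs, fun h3 => hst (Set.mem_singleton_iff.1 h3)⟩, rfl⟩)
  have hval : ∀ i j, i ≠ j → (e i : I → ℤ) ≠ e j := fun i j hij h2 => hij (e.injective (Subtype.ext h2))
  refine ⟨{ m := S.card, pos := hne.card_pos, J := fun i => Z (e i) ⊔ Z (-(e i : I → ℤ)),
            y := fun i => z (e i), F := F, odd := ho, card := hc, iso := ?_, mem := ?_, ord := ?_, le := ?_,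
            sub := ?_, comm := ?_, inj := ?_, three := ?_, gen := ?_ }⟩
  · intro i
    obtain ⟨φ⟩ := sl _ (hR i)
    exact ⟨φ.symm⟩
  · exact fun i => C.z_mem _ (hR i)
  · intro i
    refine orderOf_eq_prime ?_ (hz1 _ (hR i))
    rw [pow_two]; exact C.z_sq _ (hR i)
  · exact fun i => le_centralizer C (hR i)
  · exact fun i => subnormal C (hp.odd_of_ne_two hp2) hG' (hR i)
  · intro i j hij
    exact (cm_iff C hp hp2 (hR i) (hR j)).2 (horth _ (e i).2 _ (e j).2 (hval i j hij))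
  · intro i j hij
    by_contra h2
    exact hdist _ (e i).2 _ (e j).2 (hval i j h2) hij
  · intro i j k _ hik hjk
    exact hthree _ (e i).2 _ (e j).2 _ (e k).2 (hval i k hik) (hval j k hjk)
  · refine Subgroup.closure_mono ?_ hgen
    rintro _ ⟨r, hr, rfl⟩
    exact ⟨e.symm ⟨r, hr⟩, by simp⟩

end

end Cfsg.Agent.OddHalf.NI.ClsFrame
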