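import Mathlib
import Cfsg.Agent.OddHalf.NI.ClsFrame

/-!
# (INV): the involutions `h_i(-1)` lie in `⟨z r : r ∈ R⟩` (node NI, (T'); helper598)

`s : SL(2,F) →* Y` parametrises the rank one group of the node `i` of a `Cls`. For every `r ∈ R`, `r ≠ ± α_i`, not
orthogonal to `α_i`: `s(-1) = z r * z (s_i r)`.

* `neg_one_eq`, `neg_one_mem`;
* `pm_mem` : `t ^ 2 = 1 → Th t ∈ ⟨z r : r ∈ R⟩`.
-/

set_option autoImplicit false
set_option linter.unusedSectionVars false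
set_option linter.dupNamespace false

namespace Cfsg.Agent.OddHalf.NI.InvClosure

open CoxeterSystem Cfsg.Agent.ChevalleyStructure.CoxeterGeom Cfsg.Agent.Tits.Roots Cfsg.Agent.Tits.Core
  Cfsg.Agent.Tits.RootComb Cfsg.Agent.Nodes.Comb Cfsg.Agent.Nodes.Reps Cfsg.Agent.Nodes.BNOf
  Cfsg.Agent.Nodes.RGDLib Cfsg.Agent.Nodes.Chart
open Matrix

variable {I W Y : Type*} [Fintype I] [DecidableEq I] [Group W] [Fintype W] [Group Y] {M : CoxeterMatrix I}
  {cs : CoxeterSystem M W} {A : I → I → ℤ} {h : IsCartan M A} {p : ℕ} {T : Subgroup Y} {n : I → Y}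
  {X : (I → ℤ) → Subgroup Y} {R : Set (I → ℤ)} {Z : (I → ℤ) → Subgroup Y} {z : (I → ℤ) → Y}

/-- the matrices -/
def u1 (F : Type*) [Field F] : SpecialLinearGroup (Fin 2) F := ⟨!![1, 1; 0, 1], by simp [det_fin_two]⟩

def l1 (F : Type*) [Field F] : SpecialLinearGroup (Fin 2) F := ⟨!![1, 0; -1, 1], by simp [det_fin_two]⟩

def w1 (F : Type*) [Field F] : SpecialLinearGroup (Fin 2) F := ⟨!![0, 1; -1, 0], by simp [det_fin_two]⟩

theorem w1_eq (F : Type*) [Field F] : w1 F = u1 F * l1 F * u1 F := by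
  apply Subtype.ext
  show !![0, 1; -1, 0] = !![1, 1; 0, 1] * !![1, 0; -1, 1] * !![1, 1; (0 : F), 1]
  simp

theorem w1_sq (F : Type*) [Field F] : w1 F * w1 F = -1 := by
  apply Subtype.ext
  show !![0, 1; -1, 0] * !![0, 1; -1, (0 : F)] = -1
  rw [mul_fin_two]
  ext i j
  fin_cases i <;> fin_cases j <;> simp

theorem neg_one_eq (C : Cls cs h p T n X R Z z) {i : I} {F : Type*} [Field F]
    (s : SpecialLinearGroup (Fin 2) F →* Y) (hup : s (u1 F) ∈ X (sr i)) (hlo : s (l1 F) ∈ X (-sr i))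
    (hw : ∃ t ∈ T, s (w1 F) = t * n i) {r : I → ℤ} (hr : r ∈ R) (h1 : r ≠ sr i) (h2 : r ≠ -sr i)
    (h3 : form cs h (sr i) r ≠ 0) : s (-1) = z r * z (rep cs h (cs.simple i) r) := by
  obtain ⟨t, ht, hwt⟩ := hw
  have hzz := C.z_sq r hr
  have hr' := C.act r hr (cs.simple i)
  have e1 : s (w1 F) * z r * (s (w1 F))⁻¹ = z (rep cs h (cs.simple i) r) := by
    rw [hwt]
    have h4 := C.z_conj i r hr
    have h5 := C.z_T _ hr' t ht
    calc t * n i * z r * (t * n i)⁻¹ = t * (n i * z r * (n i)⁻¹) * t⁻¹ := by group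
      _ = t * z (rep cs h (cs.simple i) r) * t⁻¹ := by rw [h4]
      _ = z (rep cs h (cs.simple i) r) := by rw [← h5, mul_inv_cancel_right]
  have hinv : ∀ x, x = sr i ∨ x = -sr i → ∀ a ∈ X x, z r * a * z r = a⁻¹ := by
    rintro x (rfl | rfl) a ha
    · exact C.z_inv r hr _ (isRoot_sr cs h i) (Ne.symm h1) (fun h => h2 (by rw [h, neg_neg])) h3 a ha
    · refine C.z_inv r hr _ (isRoot_sr cs h i).neg (Ne.symm h2) (fun h => h1 (neg_injective h).symm) ?_ a ha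
      rw [form_neg_left]
      exact neg_ne_zero.2 h3
  have e2 : z r * s (w1 F) * z r = (s (w1 F))⁻¹ := by
    rw [w1_eq, map_mul, map_mul]
    have h4 := hinv _ (Or.inl rfl) _ hup
    have h5 := hinv _ (Or.inr rfl) _ hlo
    calc z r * (s (u1 F) * s (l1 F) * s (u1 F)) * z r
        = (z r * s (u1 F) * z r) * (z r * z r)⁻¹ * (z r * s (l1 F) * z r) * (z r * z r)⁻¹ *
          (z r * s (u1 F) * z r) := by group
      _ = (s (u1 F) * s (l1 F) * s (u1 F))⁻¹ := by rw [h4, h5, hzz]; group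
  rw [← w1_sq, map_mul, ← e1]
  have e3 : z r * (s (w1 F) * z r * (s (w1 F))⁻¹) = (s (w1 F))⁻¹ * (s (w1 F))⁻¹ := by
    rw [← e2]; group
  -- `s(w)² = s(w)⁻²`
  have e4 : (s (w1 F) * s (w1 F)) * (s (w1 F) * s (w1 F)) = 1 := by
    rw [← map_mul, w1_sq, ← map_mul, neg_mul_neg, one_mul, map_one]
  rw [e3, ← _root_.mul_inv_rev]
  exact eq_inv_of_mul_eq_one_left e4

theorem neg_one_mem (C : Cls cs h p T n X R Z z) {i : I} {F : Type*} [Field F]
    (s : SpecialLinearGroup (Fin 2) F →* Y) (hup : s (u1 F) ∈ X (sr i)) (hlo : s (l1 F) ∈ X (-sr i))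
    (hw : ∃ t ∈ T, s (w1 F) = t * n i) (hr : ∃ r ∈ R, r ≠ sr i ∧ r ≠ -sr i ∧ form cs h (sr i) r ≠ 0) :
    s (-1) ∈ Subgroup.closure (z '' R) := by
  obtain ⟨r, hr, h1, h2, h3⟩ := hr
  rw [neg_one_eq C s hup hlo hw hr h1 h2 h3]
  exact mul_mem (Subgroup.subset_closure ⟨r, hr, rfl⟩)
    (Subgroup.subset_closure ⟨_, C.act r hr (cs.simple i), rfl⟩)

/-- If the `h_i(-1)` lie in `H` then so do all `Th t` with `t ^ 2 = 1`. -/
theorem pm_mem {Fi : I → Type*} [∀ i, Field (Fi i)] (Th : (∀ i, (Fi i)ˣ) →* Y) {H : Subgroup Y}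
    (hH : ∀ i, Th (Pi.mulSingle i (-1)) ∈ H) {t : ∀ i, (Fi i)ˣ} (ht : t ^ 2 = 1) : Th t ∈ H := by
  have h1 : t ∈ H.comap Th := by
    rw [← Finset.univ_prod_mulSingle t]
    refine prod_mem fun i _ => ?_
    have h2 : (t i) ^ 2 = 1 := congrFun ht i
    have h3 : t i = 1 ∨ t i = -1 := by
      have h4 : ((t i : Fi i)) ^ 2 = 1 := by rw [← Units.val_pow_eq_pow_val, h2, Units.val_one]
      have h5 : ((t i : Fi i) - 1) * ((t i : Fi i) + 1) = 0 := by linear_combination h4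
      rcases mul_eq_zero.1 h5 with h5 | h5
      · exact Or.inl (Units.ext (sub_eq_zero.1 h5))
      · exact Or.inr (Units.ext (by rw [Units.val_neg, Units.val_one]; exact eq_neg_of_add_eq_zero_left h5))
    rcases h3 with h3 | h3
    · rw [h3, Pi.mulSingle_one]; exact one_mem _
    · rw [h3]; exact hH i
  exact h1

end Cfsg.Agent.OddHalf.NI.InvClosure
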