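import Mathlib
import Cfsg.Agent.OddHalf.NI.InvClosure
import Cfsg.Agent.OddHalf.NI.CovTwo
import Cfsg.Agent.Nodes.ClsLift
import Cfsg.Agent.GH.Cov.QuatLift
import Cfsg.Agent.Lib.PSL2Inv

/-!
# Frames in covers (node NI, (T'); helper598)

`L` a group with a `Cls` (root groups generating `L`, `K_r ≃ SL₂(F)`), `α : M →* L` a central extension by a 2-group,
`M` generated by the lifted root groups, `φ : M →* N` onto with central kernel. If `z₀ ∈ N` is the image of an element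
`Th t`, `t ^ 2 = 1`, of the torus of `M`, then `N` has a frame for `z₀`.

* `inj_lift` : the members `K_r` lift isomorphically;
* `frame_of_mem` : `φ m` for `m ∈ ⟨z_M r⟩`;
* `frame_of_cover` : the main theorem.
-/

set_option autoImplicit false
set_option linter.unusedSectionVars false
set_option linter.dupNamespace false
set_option linter.style.haveILetI false

namespace Cfsg.Agent.OddHalf.NI.CoverFrame

open CoxeterSystem Cfsg.Agent.ChevalleyStructure.CoxeterGeom Cfsg.Agent.Tits.Roots Cfsg.Agent.Tits.Core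
  Cfsg.Agent.Tits.RootComb Cfsg.Agent.Nodes.Comb Cfsg.Agent.Nodes.Reps Cfsg.Agent.Nodes.BNOf
  Cfsg.Agent.Nodes.RGDLib Cfsg.Agent.Nodes.Chart Cfsg.Agent.Nodes.RGDLift
open Matrix (SpecialLinearGroup)

/-- `2`-group kernels have order prime to the odd prime `p` -/
theorem coprime_ker {Y Y' : Type*} [Group Y] [Group Y'] [Finite Y] {f : Y →* Y'} (h2 : IsPGroup 2 f.ker) {p : ℕ}
    (hp : p.Prime) (hp2 : p ≠ 2) : (Nat.card f.ker).Coprime p := by
  have : Fact (Nat.Prime 2) := ⟨Nat.prime_two⟩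
  obtain ⟨k, hk⟩ := IsPGroup.iff_card.1 h2
  rw [hk]
  exact Nat.Coprime.pow_left k ((Nat.coprime_primes Nat.prime_two hp).2 (Ne.symm hp2))

section Lift

variable {Y Y' : Type*} [Group Y] [Group Y'] [Finite Y] {f : Y →* Y'} {p : ℕ} [Fact p.Prime]

/-- A subgroup `⟨P, Q⟩ ≃ SL₂(F)` generated by two `p`-groups lifts isomorphically. -/
theorem inj_lift (hp2 : p ≠ 2) (hf : f.ker ≤ Subgroup.center Y) (h2 : IsPGroup 2 f.ker) {P Q : Subgroup Y'}
    (hP : IsPGroup p P) (hQ : IsPGroup p Q) {F : Type*} [Field F] (hF : (2 : F) ≠ 0)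
    (e : SpecialLinearGroup (Fin 2) F ≃* ↥(P ⊔ Q)) {y : Y} (hy : y ∈ lft p f P ⊔ lft p f Q) (h1 : f y = 1) :
    y = 1 := by
  have hpo : Odd p := (Fact.out : p.Prime).odd_of_ne_two hp2
  have hmap : ∀ y ∈ lft p f P ⊔ lft p f Q, f y ∈ P ⊔ Q := by
    intro y hy
    have h3 : (lft p f P ⊔ lft p f Q).map f ≤ P ⊔ Q := by
      rw [Subgroup.map_sup]
      exact sup_le_sup (map_lft_le p f P) (map_lft_le p f Q)
    exact h3 (Subgroup.mem_map_of_mem f hy)
  have hodd : ∀ {P : Subgroup Y'}, IsPGroup p P → ∀ y ∈ lft p f P, Odd (orderOf y) := by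
    intro P hP y hy
    obtain ⟨-, k, hk⟩ := (mem_lft hf hP).1 hy
    exact (hpo.pow (n := k)).of_dvd_nat (orderOf_dvd_of_pow_eq_one hk)
  refine GH.Cov.QuatLift.injOn (K := lft p f P ⊔ lft p f Q) (f := f) (t := (e (-1) : Y')) ?_ ?_ ?_ ?_ hy h1
  · refine sup_le ?_ ?_
    · intro y hy
      exact Subgroup.subset_closure ⟨Subgroup.mem_sup_left hy, hodd hP y hy⟩
    · intro y hy
      exact Subgroup.subset_closure ⟨Subgroup.mem_sup_right hy, hodd hQ y hy⟩
  · intro c _ hc y _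
    exact (Subgroup.mem_center_iff.1 (hf hc) y).symm
  · intro c _ hc
    obtain ⟨k, hk⟩ := h2 ⟨c, hc⟩
    exact ⟨k, congrArg Subtype.val hk⟩
  · intro y hy hyy
    have h3 := hmap y hy
    have h4 : e.symm ⟨f y, h3⟩ * e.symm ⟨f y, h3⟩ = 1 := by
      rw [← map_mul]
      have : (⟨f y, h3⟩ * ⟨f y, h3⟩ : ↥(P ⊔ Q)) = 1 := Subtype.ext hyy
      rw [this, map_one]
    rcases Lib.PSL2Inv.sq_eq_one hF h4 with h5 | h5
    · left
      have h6 : (⟨f y, h3⟩ : ↥(P ⊔ Q)) = 1 := by rw [← e.apply_symm_apply ⟨f y, h3⟩, h5, map_one]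
      exact congrArg Subtype.val h6
    · right
      have h6 : (⟨f y, h3⟩ : ↥(P ⊔ Q)) = e (-1) := by rw [← e.apply_symm_apply ⟨f y, h3⟩, h5]
      exact congrArg Subtype.val h6

end Lift

section Main

variable {I W L M N : Type*} [Fintype I] [DecidableEq I] [Group W] [Fintype W] [Group L] [Group M] [Finite M]
  [Group N] {Mx : CoxeterMatrix I}
  {cs : CoxeterSystem Mx W} {A : I → I → ℤ} {h : IsCartan Mx A} {p : ℕ} {T : Subgroup L} {n : I → L}
  {X : (I → ℤ) → Subgroup L} {R : Set (I → ℤ)} {Z : (I → ℤ) → Subgroup L} {z : (I → ℤ) → L}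

/-- the image of the group generated by the root groups -/
theorem G1_map {Y Y' : Type*} [Group Y] [Group Y'] (f : Y →* Y') (X : (I → ℤ) → Subgroup Y) :
    (G1 cs h X).map f = G1 cs h (fun x => (X x).map f) := by
  unfold G1 RGD.Sup
  rw [Subgroup.map_iSup]

variable (C : Cls cs h p T n X R Z z) (tr : ∀ r ∈ R, ∀ s ∈ R, ∃ w, s = rep cs h w r)
  (hp : p.Prime) (hp2 : p ≠ 2)
  {F : Type} [Field F] [Fintype F] (ho : Odd (Fintype.card F)) (hc : 3 < Fintype.card F)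
  (sl : ∀ r ∈ R, Nonempty (SpecialLinearGroup (Fin 2) F ≃* ↥(Z r ⊔ Z (-r))))
  {α : M →* L} (hα : Function.Surjective α) (hαc : α.ker ≤ Subgroup.center M) (hα2 : IsPGroup 2 α.ker)
  (hM : G1 cs h (fun x => lft p α (X x)) = ⊤)
  {φ : M →* N} (hφ : Function.Surjective φ) (hφc : φ.ker ≤ Subgroup.center M)

include C tr hp hp2 ho hc sl hα hαc hα2 hM hφ hφc

/-- **Frames in covers, first form.** There are lifts `z_M r` with `z_M r ∈ ⟨Z̃ r, Z̃ (-r)⟩` such that `N` has a frame for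
every nontrivial `φ m`, `m ∈ ⟨z_M r : r ∈ R⟩`. -/
theorem frame_of_mem {nM : I → M} (hn : ∀ i, α (nM i) = n i) :
    ∃ zM : (I → ℤ) → M, Cls cs h p (T.comap α) nM (fun x => lft p α (X x)) R (fun x => lft p α (Z x)) zM ∧
      (∀ r ∈ R, α (zM r) = z r) ∧
      ∀ m ∈ Subgroup.closure (zM '' R), φ m ≠ 1 → Nonempty (Frame N (φ m)) := by
  haveI : Fact p.Prime := ⟨hp⟩
  have hF : (2 : F) ≠ 0 := LongSL.two_ne_of_odd ho
  have hk := coprime_ker hα2 hp hp2
  have hinj : ∀ r ∈ R, ∀ y ∈ lft p α (Z r) ⊔ lft p α (Z (-r)), α y = 1 → y = 1 := by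
    intro r hr y hy h1
    obtain ⟨e⟩ := sl r hr
    exact inj_lift hp2 hαc hα2 (Nodes.ClsMap.isPGroup_Z C hr)
      (Nodes.ClsMap.isPGroup_Z C (Nodes.ClsMap.neg_mem C hr)) hF e hy h1
  obtain ⟨zM, CM, hzM⟩ := Nodes.ClsLift.cls_lift hαc hk hα C hn hinj
  refine ⟨zM, CM, hzM, ?_⟩
  intro m hm hm1
  -- the members of `M`
  have slM : ∀ r ∈ R, Nonempty (SpecialLinearGroup (Fin 2) F ≃* ↥(lft p α (Z r) ⊔ lft p α (Z (-r)))) := by
    intro r hr
    obtain ⟨e⟩ := sl r hr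
    have hZr := Nodes.ClsMap.isPGroup_Z C hr
    have hZr' := Nodes.ClsMap.isPGroup_Z C (Nodes.ClsMap.neg_mem C hr)
    have hmap : (lft p α (Z r) ⊔ lft p α (Z (-r))).map α = Z r ⊔ Z (-r) := by
      rw [Subgroup.map_sup, map_lft hαc hk hα hZr, map_lft hαc hk hα hZr']
    let g : ↥(lft p α (Z r) ⊔ lft p α (Z (-r))) →* L := α.comp (Subgroup.subtype _)
    have hg : Function.Injective g := by
      rw [injective_iff_map_eq_one]
      intro y hy
      exact Subtype.ext (hinj r hr y.1 y.2 hy)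
    have hr' : g.range = Z r ⊔ Z (-r) := by
      rw [MonoidHom.range_comp, Subgroup.range_subtype, hmap]
    exact ⟨(e.trans (MulEquiv.subgroupCongr hr'.symm)).trans (MonoidHom.ofInjective hg).symm⟩
  -- the image in `N`
  have CN := Nodes.ClsMap.cls_map_of_ker_le_center CM φ hφc
  have hGN : G1 cs h (fun x => (lft p α (X x)).map φ) = ⊤ := by
    rw [← G1_map, hM, Subgroup.map_top_of_surjective φ hφ]
  have hz0 : φ m ∈ Subgroup.closure ((fun x => φ (zM x)) '' R) := by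
    have h1 := Subgroup.mem_map_of_mem φ hm
    rw [MonoidHom.map_closure, ← Set.image_comp] at h1
    exact h1
  obtain ⟨r₀, hr₀, hz₀⟩ := ClsFrame.exists_z_ne hz0 hm1
  have hz1 : ∀ r ∈ R, φ (zM r) ≠ 1 := fun r hr => ClsFrame.z_ne CN tr hr₀ hz₀ hr
  refine ClsFrame.frame_of_cls CN tr hp hp2 hGN ho hc ?_ hz0 hm1
  intro r hr
  obtain ⟨e⟩ := slM r hr
  let g : SpecialLinearGroup (Fin 2) F →* N := (φ.comp (Subgroup.subtype _)).comp e.toMonoidHom
  have hg1 : ∀ s, g s = φ ((e s : ↥(lft p α (Z r) ⊔ lft p α (Z (-r)))) : M) := fun _ => rfl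
  have hg : Function.Injective g := by
    rw [injective_iff_map_eq_one]
    intro s hs
    -- `s` is central, hence `± 1`
    have h1 : ((e s : ↥(lft p α (Z r) ⊔ lft p α (Z (-r)))) : M) ∈ Subgroup.center M := hφc hs
    have h2 : s ∈ Subgroup.center (SpecialLinearGroup (Fin 2) F) := by
      rw [Subgroup.mem_center_iff]
      intro t
      apply e.injective
      apply Subtype.ext
      rw [map_mul, map_mul]
      exact Subgroup.mem_center_iff.1 h1 _
    have h3 : s = 1 ∨ s = -1 := CovTwo.mem_center_sl ho h2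
    rcases h3 with h3 | h3
    · exact h3
    · exfalso
      have h4 : (e s : ↥(lft p α (Z r) ⊔ lft p α (Z (-r)))) = ⟨zM r, CM.z_mem r hr⟩ := by
        have h5 : zM r ≠ 1 := fun h6 => hz1 r hr (by rw [h6, map_one])
        have h6 := Lib.PSL2Inv.sq_eq_one hF (x := e.symm ⟨zM r, CM.z_mem r hr⟩) (by
          rw [← map_mul]
          have : (⟨zM r, CM.z_mem r hr⟩ * ⟨zM r, CM.z_mem r hr⟩ : ↥(lft p α (Z r) ⊔ lft p α (Z (-r)))) = 1 :=
            Subtype.ext (CM.z_sq r hr)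
          rw [this, map_one])
        rcases h6 with h6 | h6
        · exfalso
          apply h5
          have h7 : (⟨zM r, CM.z_mem r hr⟩ : ↥(lft p α (Z r) ⊔ lft p α (Z (-r)))) = 1 := by
            rw [← e.apply_symm_apply ⟨zM r, CM.z_mem r hr⟩, h6, map_one]
          exact congrArg Subtype.val h7
        · rw [h3, ← h6, e.apply_symm_apply]
      apply hz1 r hr
      rw [hg1, h4] at hs
      exact hs
  have hr' : g.range = (lft p α (Z r)).map φ ⊔ (lft p α (Z (-r))).map φ := by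
    rw [← Subgroup.map_sup, MonoidHom.range_comp, MonoidHom.range_eq_top.2 e.surjective]
    rw [← MonoidHom.range_eq_map, MonoidHom.range_comp, Subgroup.range_subtype]
  exact ⟨(MonoidHom.ofInjective hg).trans (MulEquiv.subgroupCongr hr')⟩

/-- **Frames in covers, second form**: `z₀ = φ (Th t)`, `t ^ 2 = 1`, for a torus parametrisation
`Th : ∏ Fᵢ^× →* M` with `Th (mulSingle i (-1)) = s' i (-1)`, `s' i : SL(2, Fᵢ) →* M`. -/
theorem frame_of_cover {Fi : I → Type} [∀ i, Field (Fi i)] (s' : ∀ i, SpecialLinearGroup (Fin 2) (Fi i) →* M)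
    (Th : (∀ i, (Fi i)ˣ) →* M) (hTh : ∀ i, Th (Pi.mulSingle i (-1)) = s' i (-1))
    (hup : ∀ i, s' i (InvClosure.u1 (Fi i)) ∈ lft p α (X (sr i)))
    (hlo : ∀ i, s' i (InvClosure.l1 (Fi i)) ∈ lft p α (X (-sr i)))
    (hw : ∀ i, ∃ t ∈ T, α (s' i (InvClosure.w1 (Fi i))) = t * n i)
    (lnk : ∀ i, ∃ r ∈ R, r ≠ sr i ∧ r ≠ -sr i ∧ form cs h (sr i) r ≠ 0)
    {t : ∀ i, (Fi i)ˣ} (ht : t ^ 2 = 1) (h1 : φ (Th t) ≠ 1) : Nonempty (Frame N (φ (Th t))) := by
  have hn : ∃ nM : I → M, ∀ i, α (nM i) = n i := ⟨fun i => (hα (n i)).choose, fun i => (hα (n i)).choose_spec⟩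
  obtain ⟨nM, hn⟩ := hn
  obtain ⟨zM, CM, -, hfr⟩ := frame_of_mem C tr hp hp2 ho hc sl hα hαc hα2 hM hφ hφc hn
  refine hfr _ ?_ h1
  refine InvClosure.pm_mem Th (fun i => ?_) ht
  rw [hTh]
  refine InvClosure.neg_one_mem CM (s' i) (hup i) (hlo i) ?_ (lnk i)
  obtain ⟨t, ht, e⟩ := hw i
  refine ⟨s' i (InvClosure.w1 (Fi i)) * (nM i)⁻¹, ?_, by group⟩
  rw [Subgroup.mem_comap, map_mul, map_inv, e, hn, mul_inv_cancel_right]
  exact ht

end Main

end Cfsg.Agent.OddHalf.NI.CoverFrame
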