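import Mathlib
import Cfsg.Agent.Nodes.RGDLift
import Cfsg.Agent.GH.Cov.QuatLift
import Cfsg.Agent.OddHalf.NI.Mult.Torus

/-!
# (MULT): perfect central 2-extensions of groups with a root group datum (node NI, (T'))

`R : RGD cs h p T n X`, `G1 cs h X = ⊤`, `C : Coord X F s` (homomorphisms `s i : SL₂(F i) →* Y` onto `⟨X_i, X_{-i}⟩`),
`f : E →* Y` surjective with central kernel.

* `coord_lift`, `comm_lift`, `G1_lift`: kernel of order prime to `p`;
* `exists_lift_sl` : for a 2-group kernel the `s i` lift (`SL₂(q)` has no perfect 2-cover);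
* `mult` : the torus of `E` is generated by the `s' i (dg t)`.
-/

set_option autoImplicit false
set_option linter.unusedSectionVars false

namespace Cfsg.Agent.OddHalf.NI.Mult

open CoxeterSystem Cfsg.Agent.ChevalleyStructure.CoxeterGeom Cfsg.Agent.Tits.Roots Cfsg.Agent.Tits.Core
  Cfsg.Agent.Tits.RootComb Cfsg.Agent.Nodes.Comb Cfsg.Agent.Nodes.Reps Cfsg.Agent.Nodes.BNOf
  Cfsg.Agent.Nodes.RGDLib Cfsg.Agent.Nodes.Bruhat Cfsg.Agent.Nodes.RGDLift
open scoped commutatorElement

/-! ### Fields -/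

/-- every element of a field of characteristic `≠ 2` is a difference of two squares -/
theorem exists_sq_sub {K : Type*} [Field K] (h2 : (2 : K) ≠ 0) (x : K) : ∃ a b : K, x = a ^ 2 - b ^ 2 :=
  ⟨(x + 1) / 2, (x - 1) / 2, by field_simp; ring⟩

/-- additive maps commuting with squares are linear -/
theorem linear_of_sq {K : Type*} [Field K] (h2 : (2 : K) ≠ 0) (α : K → K) (hadd : ∀ a b, α (a + b) = α a + α b)
    (hsq : ∀ (t : Kˣ) a, α ((t : K) ^ 2 * a) = (t : K) ^ 2 * α a) (x : K) : α x = x * α 1 := by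
  have h0 : α 0 = 0 := by
    have := hadd 0 0
    rw [add_zero] at this
    exact left_eq_add.1 this
  have hsub : ∀ a b, α (a - b) = α a - α b := by
    intro a b
    rw [eq_sub_iff_add_eq, ← hadd, sub_add_cancel]
  have hsq' : ∀ t : K, α (t ^ 2) = t ^ 2 * α 1 := by
    intro t
    by_cases ht : t = 0
    · rw [ht]; simp [h0]
    · have := hsq (Units.mk0 t ht) 1
      simpa using this
  obtain ⟨a, b, rfl⟩ := exists_sq_sub h2 x
  rw [hsub, hsq', hsq']
  ring

section SL

variable {K G : Type*} [Field K] [Group G]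

theorem map_up_neg (s : Matrix.SpecialLinearGroup (Fin 2) K →* G) (a : K) : s (up (-a)) = (s (up a))⁻¹ := by
  rw [up_neg, map_inv]

/-- if `s` is not trivial on the upper unipotent subgroup then it is injective there -/
theorem up_inj (h2 : (2 : K) ≠ 0) {s : Matrix.SpecialLinearGroup (Fin 2) K →* G} (hne : ∃ a, s (up a) ≠ 1)
    {a b : K} (hab : s (up a) = s (up b)) : a = b := by
  by_contra hcon
  obtain ⟨c, hc⟩ : ∃ c, c = a - b := ⟨_, rfl⟩
  have hc0 : c ≠ 0 := by rw [hc]; exact sub_ne_zero.2 hcon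
  have h1 : s (up c) = 1 := by
    rw [hc, sub_eq_add_neg, up_add, map_mul, map_up_neg, hab, mul_inv_cancel]
  have hsq : ∀ t : K, s (up (t ^ 2 * c)) = 1 := by
    intro t
    by_cases ht : t = 0
    · rw [ht]; simp [up_zero]
    · have := dg_mul_up (Units.mk0 t ht) c
      rw [Units.val_mk0] at this
      rw [← this, map_mul, map_mul, h1, mul_one, map_inv, mul_inv_cancel]
  obtain ⟨d, hd⟩ := hne
  apply hd
  obtain ⟨x, y, hxy⟩ := exists_sq_sub h2 (d / c)
  have e : d = x ^ 2 * c + -(y ^ 2 * c) := by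
    rw [← neg_mul, ← add_mul, ← sub_eq_add_neg, ← hxy, div_mul_cancel₀ _ hc0]
  rw [e, up_add, map_mul, map_up_neg, hsq, hsq, inv_one, mul_one]

theorem lo_eq_conj (a : K) : lo a = nn 1 * up (-a) * (nn 1)⁻¹ := by
  rw [nn_mul_up]; simp

theorem lo_inj (h2 : (2 : K) ≠ 0) {s : Matrix.SpecialLinearGroup (Fin 2) K →* G} (hne : ∃ a, s (up a) ≠ 1)
    {a b : K} (hab : s (lo a) = s (lo b)) : a = b := by
  rw [lo_eq_conj, lo_eq_conj, map_mul, map_mul, map_mul, map_mul, map_inv] at hab
  have h1 := up_inj h2 hne (mul_left_cancel (mul_right_cancel hab))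
  exact neg_injective h1

/-- involutions of `SL₂(K)` -/
theorem eq_one_or_neg_one (h2 : (2 : K) ≠ 0) {g : Matrix.SpecialLinearGroup (Fin 2) K} (hg : g * g = 1) :
    g = 1 ∨ g = -1 := by
  have hinv : g⁻¹ = g := inv_eq_of_mul_eq_one_left hg
  have h3 := congrArg (fun k : Matrix.SpecialLinearGroup (Fin 2) K => (k : Matrix (Fin 2) (Fin 2) K)) hinv
  simp only [Matrix.SpecialLinearGroup.coe_inv, Matrix.adjugate_fin_two] at h3
  have h00 : g.1 1 1 = g.1 0 0 := by simpa using congrFun (congrFun h3 0) 0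
  have h01 : -g.1 0 1 = g.1 0 1 := by simpa using congrFun (congrFun h3 0) 1
  have h10 : -g.1 1 0 = g.1 1 0 := by simpa using congrFun (congrFun h3 1) 0
  have hz : ∀ x : K, -x = x → x = 0 := by
    intro x hx
    have : (2 : K) * x = 0 := by linear_combination -hx
    exact (mul_eq_zero.1 this).resolve_left h2
  have h01' := hz _ h01
  have h10' := hz _ h10
  have hdet : g.1 0 0 * g.1 1 1 - g.1 0 1 * g.1 1 0 = 1 := by
    have := g.2
    rwa [Matrix.det_fin_two] at this
  rw [h00, h01', zero_mul, sub_zero] at hdet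
  have h4 : (g.1 0 0 - 1) * (g.1 0 0 + 1) = 0 := by linear_combination hdet
  rcases mul_eq_zero.1 h4 with h5 | h5
  · left
    have h6 : g.1 0 0 = 1 := sub_eq_zero.1 h5
    apply Subtype.ext
    ext i j
    fin_cases i <;> fin_cases j
    · simpa using h6
    · simpa using h01'
    · simpa using h10'
    · simpa [h6] using h00
  · right
    have h6 : g.1 0 0 = -1 := eq_neg_of_add_eq_zero_left h5
    apply Subtype.ext
    ext i j
    fin_cases i <;> fin_cases j
    · simpa using h6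
    · simpa using h01'
    · simpa using h10'
    · simpa [h6] using h00

theorem up_pow (a : K) (m : ℕ) : up a ^ m = up (m * a) := by
  induction m with
  | zero => simp [up_zero]
  | succ m ih => rw [pow_succ, ih, ← up_add]; congr 1; push_cast; ring

theorem lo_pow (a : K) (m : ℕ) : lo a ^ m = lo (m * a) := by
  induction m with
  | zero => simp [lo_zero]
  | succ m ih => rw [pow_succ, ih, ← lo_add]; congr 1; push_cast; ring

end SL

/-! ### `SL₂(q)` has no perfect 2-cover -/

/-- **Lifting homomorphisms from `SL₂(K)`**, `K` of odd characteristic `p`, through a central 2-extension. -/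
theorem exists_lift_sl {K : Type*} [Field K] [Finite K] {p : ℕ} [Fact p.Prime] (hp : p ≠ 2) (hK : (p : K) = 0)
    {E Y : Type*} [Group E] [Finite E] [Group Y] {f : E →* Y} (hs : Function.Surjective f)
    (hc : f.ker ≤ Subgroup.center E) (h2 : IsPGroup 2 f.ker)
    (s : Matrix.SpecialLinearGroup (Fin 2) K →* Y) :
    ∃ s' : Matrix.SpecialLinearGroup (Fin 2) K →* E, f.comp s' = s := by
  classical
  have : Fact (Nat.Prime 2) := ⟨Nat.prime_two⟩
  have hodd : Odd p := (Fact.out : p.Prime).odd_of_ne_two hp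
  have h2K : (2 : K) ≠ 0 := by
    intro h20
    obtain ⟨m, hm⟩ := hodd
    have : (p : K) = 1 := by rw [hm]; push_cast; rw [h20]; ring
    rw [hK] at this
    exact zero_ne_one this
  have hker : (Nat.card f.ker).Coprime p := by
    obtain ⟨k, hk⟩ := IsPGroup.iff_card.1 h2
    rw [hk]
    exact Nat.Coprime.pow_left k ((Nat.coprime_primes Nat.prime_two Fact.out).2 (Ne.symm hp))
  have hfinSL : Finite (Matrix.SpecialLinearGroup (Fin 2) K) := inferInstance
  -- the fibre product
  let D : Subgroup (Matrix.SpecialLinearGroup (Fin 2) K × E) :=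
    Subgroup.closure {x | s x.1 = f x.2 ∧ Odd (orderOf x)}
  have hD : ∀ x ∈ D, s x.1 = f x.2 := by
    intro x hx
    have h1 : D ≤ ((s.comp (MonoidHom.fst _ _)).eqLocus (f.comp (MonoidHom.snd _ _))) := by
      rw [Subgroup.closure_le]
      exact fun y hy => hy.1
    exact h1 hx
  let π : D →* Matrix.SpecialLinearGroup (Fin 2) K := (MonoidHom.fst _ _).comp D.subtype
  have hgen : Subgroup.closure {y : D | Odd (orderOf y)} = ⊤ := by
    rw [eq_top_iff]
    have h1 : (Subgroup.closure {y : D | Odd (orderOf y)}).map D.subtype =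
        Subgroup.closure {x : Matrix.SpecialLinearGroup (Fin 2) K × E | s x.1 = f x.2 ∧ Odd (orderOf x)} := by
      rw [MonoidHom.map_closure]
      congr 1
      ext y
      constructor
      · rintro ⟨k, hk, rfl⟩
        exact ⟨hD _ k.2, by rw [Subgroup.subtype_apply, Subgroup.orderOf_coe]; exact hk⟩
      · rintro ⟨hy, ho⟩
        have hyD : y ∈ D := Subgroup.subset_closure ⟨hy, ho⟩
        refine ⟨⟨y, hyD⟩, ?_, rfl⟩
        show Odd (orderOf (⟨y, hyD⟩ : D))
        rw [Subgroup.orderOf_mk]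
        exact ho
    rintro ⟨y, hy⟩ -
    have h2' : y ∈ (Subgroup.closure {y : D | Odd (orderOf y)}).map D.subtype := by rw [h1]; exact hy
    obtain ⟨k, hk, hky⟩ := h2'
    have : k = ⟨y, hy⟩ := Subtype.ext hky
    rw [← this]
    exact hk
  have hkerπ : ∀ x : D, π x = 1 → f x.1.2 = 1 := by
    intro x hx
    have h1 := hD _ x.2
    have h3 : x.1.1 = 1 := hx
    rw [h3, map_one] at h1
    exact h1.symm
  have hinj : Function.Injective π := by
    refine Cfsg.Agent.GH.Cov.QuatLift.injective hgen (t := -1) ?_ ?_ ?_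
    · intro x hx
      rw [Subgroup.mem_center_iff]
      intro y
      have h1 : x.1.1 = 1 := hx
      have h3 := Subgroup.mem_center_iff.1 (hc (hkerπ x hx)) y.1.2
      apply Subtype.ext
      apply Prod.ext
      · show y.1.1 * x.1.1 = x.1.1 * y.1.1
        rw [h1, one_mul, mul_one]
      · exact h3
    · intro x
      obtain ⟨k, hk⟩ := h2 ⟨x.1.1.2, hkerπ x.1 x.2⟩
      have hk' : x.1.1.2 ^ 2 ^ k = 1 := by simpa using congrArg Subtype.val hk
      refine ⟨k, Subtype.ext (Subtype.ext ?_)⟩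
      have h1 : x.1.1.1 = 1 := x.2
      apply Prod.ext
      · show x.1.1.1 ^ 2 ^ k = 1
        rw [h1, one_pow]
      · exact hk'
    · intro y hy
      exact eq_one_or_neg_one h2K hy
  have hlift : ∀ g : Matrix.SpecialLinearGroup (Fin 2) K, g ^ p = 1 → g ∈ π.range := by
    intro g hg
    obtain ⟨y, hy⟩ := hs (s g)
    obtain ⟨x, hx, hxk⟩ := exists_lift (f := f) hker (y := y) (k := 1) (by
      rw [pow_one, hy, ← map_pow, hg, map_one])
    rw [pow_one] at hxk
    have h1 : ((g, x) : Matrix.SpecialLinearGroup (Fin 2) K × E) ^ p = 1 := Prod.ext hg hxk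
    have h3 : ((g, x) : Matrix.SpecialLinearGroup (Fin 2) K × E) ∈ D := by
      refine Subgroup.subset_closure ⟨?_, ?_⟩
      · show s g = f x
        rw [hx, hy]
      · exact Odd.of_dvd_nat hodd (orderOf_dvd_of_pow_eq_one h1)
    exact ⟨⟨_, h3⟩, rfl⟩
  have hsurj : Function.Surjective π := by
    rw [← MonoidHom.range_eq_top]
    refine mem_of_up_lo (fun a => hlift _ ?_) (fun a => hlift _ ?_)
    · rw [up_pow, hK, zero_mul, up_zero]
    · rw [lo_pow, hK, zero_mul, lo_zero]
  let e : D ≃* Matrix.SpecialLinearGroup (Fin 2) K := MulEquiv.ofBijective π ⟨hinj, hsurj⟩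
  refine ⟨((MonoidHom.snd _ _).comp D.subtype).comp e.symm.toMonoidHom, ?_⟩
  ext g
  show f (e.symm g).1.2 = s g
  rw [← hD _ (e.symm g).2]
  have h1 : π (e.symm g) = g := e.apply_symm_apply g
  exact congrArg s h1

/-! ### The cover -/

variable {I W Y : Type*} [Fintype I] [DecidableEq I] [Group W] [Group Y] {M : CoxeterMatrix I}
  {cs : CoxeterSystem M W} {A : I → I → ℤ} {h : IsCartan M A} {p : ℕ} {T : Subgroup Y} {n : I → Y}
  {X : (I → ℤ) → Subgroup Y} {F : I → Type*} [∀ i, Field (F i)]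
  {s : ∀ i, Matrix.SpecialLinearGroup (Fin 2) (F i) →* Y}

section Base

variable (R : RGD cs h p T n X) (C : Coord X F s)

include R C

theorem exists_up_ne (i : I) : ∃ a, s i (up a) ≠ 1 := by
  obtain ⟨u, hu, hu1⟩ := exists_ne_one R i
  obtain ⟨a, ha⟩ := C.exists_up hu
  exact ⟨a, by rw [ha]; exact hu1⟩

/-- the fields have characteristic `p` -/
theorem char_eq [Fact p.Prime] (i : I) [Finite (F i)] : (p : F i) = 0 := by
  obtain ⟨r, hr⟩ := CharP.exists (F i)
  have hrp : r.Prime := (CharP.char_is_prime_or_zero (F i) r).resolve_right (by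
    rintro rfl
    have := CharP.charP_to_charZero (F i)
    exact not_finite (F i))
  obtain ⟨a, ha⟩ := exists_up_ne R C i
  obtain ⟨k, hk⟩ := R.pgrp i ⟨_, C.mem_up i a⟩
  have hk' : s i (up a) ^ p ^ k = 1 := by simpa using congrArg Subtype.val hk
  have h1 : s i (up a) ^ r = 1 := by
    rw [← map_pow, up_pow, CharP.cast_eq_zero, zero_mul, up_zero, map_one]
  have h2 : orderOf (s i (up a)) ∣ r := orderOf_dvd_of_pow_eq_one h1
  have h3 : orderOf (s i (up a)) = r := by
    rcases (Nat.dvd_prime hrp).1 h2 with h4 | h4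
    · exact absurd (orderOf_eq_one_iff.1 h4) ha
    · exact h4
  have h4 : r ∣ p ^ k := by rw [← h3]; exact orderOf_dvd_of_pow_eq_one hk'
  have h5 : r = p := (Nat.prime_dvd_prime_iff_eq hrp Fact.out).1 (hrp.dvd_of_dvd_pow h4)
  rw [← h5]
  exact CharP.cast_eq_zero (F i) r

theorem two_ne [Fact p.Prime] (hp : p ≠ 2) (i : I) [Finite (F i)] : (2 : F i) ≠ 0 := by
  intro h20
  have hodd : Odd p := (Fact.out : p.Prime).odd_of_ne_two hp
  obtain ⟨m, hm⟩ := hodd
  have : (p : F i) = 1 := by rw [hm]; push_cast; rw [h20]; ring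
  rw [char_eq R C i] at this
  exact zero_ne_one this

/-- an element normalising `X_j`, `X_{-j}` and commuting with `s j (dg t)` modulo the centre commutes with
`s j (dg t)` -/
theorem comm_of_norm [Finite W] [Fact p.Prime] (hp : p ≠ 2) {j : I} [Finite (F j)] {g : Y}
    (h1 : cj g (X (sr j)) = X (sr j)) (h2 : cj g (X (-sr j)) = X (-sr j))
    (hz : ∀ t : (F j)ˣ, g * s j (dg t) * g⁻¹ * (s j (dg t))⁻¹ ∈ Subgroup.center Y) (t : (F j)ˣ) :
    g * s j (dg t) = s j (dg t) * g := by
  have h20 := two_ne R C hp j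
  have hne := exists_up_ne R C j
  -- the action on the root groups
  have hα : ∀ a, ∃ b, s j (up b) = g * s j (up a) * g⁻¹ := by
    intro a
    refine C.exists_up ?_
    rw [← h1]
    exact conj_mem_cj.2 (C.mem_up j a)
  have hβ : ∀ a, ∃ b, s j (lo b) = g * s j (lo a) * g⁻¹ := by
    intro a
    refine C.exists_lo ?_
    rw [← h2]
    exact conj_mem_cj.2 (C.mem_lo j a)
  choose α hα using hα
  choose β hβ using hβ
  have hαadd : ∀ a b, α (a + b) = α a + α b := by
    intro a b
    apply up_inj h20 hne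
    rw [hα, up_add, up_add, map_mul, map_mul, hα, hα]
    group
  have hβadd : ∀ a b, β (a + b) = β a + β b := by
    intro a b
    apply lo_inj h20 hne
    rw [hβ, lo_add, lo_add, map_mul, map_mul, hβ, hβ]
    group
  have hcz : ∀ (t : (F j)ˣ) (y : Y), g * (s j (dg t) * y * (s j (dg t))⁻¹) * g⁻¹ =
      s j (dg t) * (g * y * g⁻¹) * (s j (dg t))⁻¹ := by
    intro t y
    obtain ⟨z, hze⟩ : ∃ z, z = g * s j (dg t) * g⁻¹ * (s j (dg t))⁻¹ := ⟨_, rfl⟩
    have hzc : ∀ x, x * z = z * x := by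
      have := hz t
      rw [← hze, Subgroup.mem_center_iff] at this
      exact this
    have e : g * s j (dg t) = z * s j (dg t) * g := by rw [hze]; group
    have e2 : g * (s j (dg t) * y * (s j (dg t))⁻¹) * g⁻¹ =
        (g * s j (dg t)) * y * (g * s j (dg t))⁻¹ := by group
    rw [e2, e]
    calc z * s j (dg t) * g * y * (z * s j (dg t) * g)⁻¹
        = z * (s j (dg t) * (g * y * g⁻¹) * (s j (dg t))⁻¹) * z⁻¹ := by group
      _ = _ := by rw [← hzc, mul_inv_cancel_right]
  have hαsq : ∀ (t : (F j)ˣ) a, α ((t : F j) ^ 2 * a) = (t : F j) ^ 2 * α a := by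
    intro t a
    apply up_inj h20 hne
    rw [hα, ← dg_mul_up, ← dg_mul_up, map_mul, map_mul, map_inv, hcz, ← hα, map_mul, map_mul, map_inv]
  have hβsq : ∀ (t : (F j)ˣ) a, β ((t : F j) ^ 2 * a) = (t : F j) ^ 2 * β a := by
    intro t a
    apply lo_inj h20 hne
    have e : ∀ b : F j, lo ((t : F j) ^ 2 * b) = dg t⁻¹ * lo b * (dg t⁻¹)⁻¹ := by
      intro b; rw [dg_mul_lo, inv_inv]
    rw [hβ, e, e, map_mul, map_mul, map_inv, hcz, ← hβ, map_mul, map_mul, map_inv]
  obtain ⟨c, hc⟩ : ∃ c, c = α 1 := ⟨_, rfl⟩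
  obtain ⟨d, hd⟩ : ∃ d, d = β 1 := ⟨_, rfl⟩
  have hα1 : ∀ x, α x = x * c := fun x => by rw [hc]; exact linear_of_sq h20 α hαadd hαsq x
  have hβ1 : ∀ x, β x = x * d := fun x => by rw [hd]; exact linear_of_sq h20 β hβadd hβsq x
  have hc0 : c ≠ 0 := by
    intro hc0
    obtain ⟨a, ha⟩ := hne
    apply ha
    have h3 := hα a
    rw [hα1, hc0, mul_zero, up_zero, map_one] at h3
    have e : s j (up a) = g⁻¹ * (g * s j (up a) * g⁻¹) * g := by group
    rw [e, ← h3]; group
  -- `d = 1 / c`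
  have hconj : ∀ x : (F j)ˣ, g * s j (nn x) * g⁻¹ =
      s j (up (x * c)) * s j (lo (-((x⁻¹ : (F j)ˣ) : F j) * d)) * s j (up (x * c)) := by
    intro x
    rw [nn_eq, map_mul, map_mul, ← hα1, ← hβ1, hα, hβ]
    group
  have hgi1 : cj g⁻¹ (X (sr j)) = X (sr j) := by
    have h3 := cj_inv_cj g (X (sr j))
    rwa [h1] at h3
  have hgi2 : cj g⁻¹ (X (-sr j)) = X (-sr j) := by
    have h3 := cj_inv_cj g (X (-sr j))
    rwa [h2] at h3
  have hrp : ∀ x : (F j)ˣ, Rp cs R.nsys (cs.simple j) (g * s j (nn x) * g⁻¹) := by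
    intro x
    have k1 : cj (g * s j (nn x) * g⁻¹) (X (sr j)) = X (-sr j) := by
      rw [cj_mul, cj_mul, hgi1, C.cj_nn, h2]
    have k2 : cj (g * s j (nn x) * g⁻¹) (X (-sr j)) = X (sr j) := by
      rw [cj_mul, cj_mul, hgi2, C.cj_nn', h1]
    rw [hconj] at k1 k2 ⊢
    exact rp_of_swap R (C.mem_up j _) (C.mem_lo j _) (C.mem_up j _) k1 k2
  have hdc : c * d = 1 := by
    -- compare with `nn c`
    obtain ⟨cu, hcu⟩ : ∃ cu : (F j)ˣ, (cu : F j) = c := ⟨Units.mk0 c hc0, rfl⟩
    have k1 := (hrp 1).mul (rp_nn R C j cu).inv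
    rw [mul_inv_cancel] at k1
    have k2 := k1.mem_of_one
    have k3 : s j (up c) * s j (lo (c⁻¹ - d)) * (s j (up c))⁻¹ ∈ T := by
      have e : s j (up c) * s j (lo (c⁻¹ - d)) * (s j (up c))⁻¹ =
          g * s j (nn 1) * g⁻¹ * (s j (nn cu))⁻¹ := by
        rw [hconj, nn_eq cu]
        simp only [Units.val_inv_eq_inv_val, hcu, Units.val_one, inv_one, one_mul, neg_mul, map_mul]
        rw [sub_eq_add_neg, add_comm, lo_add, map_mul, lo_neg c⁻¹, map_inv]
        group
      rw [e]
      exact k2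
    have k4 : (s j (up c) * s j (lo (c⁻¹ - d)) * (s j (up c))⁻¹) ^ p ^ 1 = 1 := by
      have e : ∀ m : ℕ, (s j (up c) * s j (lo (c⁻¹ - d)) * (s j (up c))⁻¹) ^ m =
          s j (up c) * s j (lo (c⁻¹ - d)) ^ m * (s j (up c))⁻¹ := by
        intro m
        have := map_pow (MulAut.conj (s j (up c))) (s j (lo (c⁻¹ - d))) m
        simpa only [MulAut.conj_apply] using this.symm
      rw [e, pow_one, ← map_pow, lo_pow, char_eq R C j, zero_mul, lo_zero, map_one, mul_one, mul_inv_cancel]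
    have k5 := eq_one_of_mem_T R k3 k4
    have k6 : s j (lo (c⁻¹ - d)) = 1 := by
      have e : s j (lo (c⁻¹ - d)) =
          (s j (up c))⁻¹ * (s j (up c) * s j (lo (c⁻¹ - d)) * (s j (up c))⁻¹) * s j (up c) := by group
      rw [e, k5]; group
    have k7 : c⁻¹ - d = 0 := by
      apply lo_inj h20 hne
      rw [k6, lo_zero, map_one]
    rw [← sub_eq_zero.1 k7, mul_inv_cancel₀ hc0]
  obtain ⟨cu, hcu⟩ : ∃ cu : (F j)ˣ, (cu : F j) = c := ⟨Units.mk0 c hc0, rfl⟩
  have hd1 : d = ((cu⁻¹ : (F j)ˣ) : F j) := by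
    rw [Units.val_inv_eq_inv_val, hcu]
    exact eq_inv_of_mul_eq_one_right hdc
  have hconj2 : ∀ x : (F j)ˣ, g * s j (nn x) * g⁻¹ = s j (nn (x * cu)) := by
    intro x
    rw [hconj, nn_eq (x * cu), map_mul, map_mul, hd1, ← hcu, mul_inv]
    simp only [Units.val_mul, neg_mul]
  have e1 : g * s j (dg t) * g⁻¹ = s j (dg t) := by
    have e2 : g * s j (dg t) * g⁻¹ = (g * s j (nn t) * g⁻¹) * (g * s j (nn 1) * g⁻¹)⁻¹ := by
      rw [dg_eq, map_mul, map_inv]
      unfold wn
      group
    rw [e2, hconj2, hconj2, ← map_inv, ← map_mul]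
    congr 1
    rw [mul_inv_eq_iff_eq_mul]
    apply Subtype.ext
    rw [Matrix.SpecialLinearGroup.coe_mul]
    simp [Matrix.mul_fin_two, mul_comm]
  exact mul_inv_eq_iff_eq_mul.1 e1

end Base

section Cover

variable {E : Type*} [Group E] [Finite E] {f : E →* Y}

/-- the root groups of the cover generate -/
theorem G1_lift [Fact p.Prime] [Finite W] (R : RGD cs h p T n X) (hG : G1 cs h X = ⊤)
    (hs : Function.Surjective f) (hc : f.ker ≤ Subgroup.center E) (hker : (Nat.card f.ker).Coprime p)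
    (hE : commutator E = ⊤) : G1 cs h (fun x => lft p f (X x)) = ⊤ := by
  obtain ⟨L, hL⟩ : ∃ L, L = G1 cs h (fun x => lft p f (X x)) := ⟨_, rfl⟩
  have h1 : L.map f = ⊤ := by
    rw [hL, ← hG]
    unfold G1 RGD.Sup
    rw [Subgroup.map_iSup]
    exact iSup_congr fun x => map_lft hc hker hs (R.pgrp' x.2)
  have h2 : ∀ g : E, ∃ a ∈ L, ∃ z ∈ Subgroup.center E, g = a * z := by
    intro g
    have h3 : f g ∈ L.map f := by rw [h1]; exact Subgroup.mem_top _
    obtain ⟨a, ha, hag⟩ := h3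
    refine ⟨a, ha, a⁻¹ * g, hc ?_, by group⟩
    rw [MonoidHom.mem_ker, map_mul, map_inv, hag, inv_mul_cancel]
  rw [← hL, ← top_le_iff, ← hE]
  have h3 : commutator E ≤ L := by
    rw [commutator_def, Subgroup.commutator_le]
    intro g _ k _
    obtain ⟨a, ha, z, hz, rfl⟩ := h2 g
    obtain ⟨b, hb, w, hw, rfl⟩ := h2 k
    have hz' : ∀ x, z * x = x * z := fun x => (Subgroup.mem_center_iff.1 hz x).symm
    have hw' : ∀ x, w * x = x * w := fun x => (Subgroup.mem_center_iff.1 hw x).symm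
    have e : ⁅a * z, b * w⁆ = ⁅a, b⁆ := by
      simp only [commutatorElement_def, mul_inv_rev]
      calc a * z * (b * w) * (z⁻¹ * a⁻¹) * (w⁻¹ * b⁻¹)
          = a * (z * (b * w)) * z⁻¹ * a⁻¹ * w⁻¹ * b⁻¹ := by group
        _ = a * b * (w * a⁻¹) * w⁻¹ * b⁻¹ := by rw [hz']; group
        _ = a * b * a⁻¹ * b⁻¹ := by rw [hw']; group
    rw [e, commutatorElement_def]
    exact mul_mem (mul_mem (mul_mem ha hb) (inv_mem ha)) (inv_mem hb)
  exact h3

/-- the coordinates of the cover -/
theorem coord_lift [Fact p.Prime] [Finite W] [∀ i, Finite (F i)] (R : RGD cs h p T n X) (C : Coord X F s)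
    (hc : f.ker ≤ Subgroup.center E) (hker : (Nat.card f.ker).Coprime p)
    {s' : ∀ i, Matrix.SpecialLinearGroup (Fin 2) (F i) →* E} (hs' : ∀ i, f.comp (s' i) = s i) :
    Coord (fun x => lft p f (X x)) F s' := by
  have hfs : ∀ i g, f (s' i g) = s i g := fun i g => DFunLike.congr_fun (hs' i) g
  constructor
  · intro i
    let Q : Subgroup E :=
      { carrier := Set.range fun a : F i => s' i (up a)
        one_mem' := ⟨0, by simp only [up_zero, map_one]⟩
        mul_mem' := by
          rintro _ _ ⟨a, rfl⟩ ⟨b, rfl⟩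
          exact ⟨a + b, by simp only [up_add, map_mul]⟩
        inv_mem' := by
          rintro _ ⟨a, rfl⟩
          exact ⟨-a, by simp only [up_neg, map_inv]⟩ }
    have hQp : IsPGroup p Q := by
      rintro ⟨_, a, rfl⟩
      refine ⟨1, Subtype.ext ?_⟩
      show (s' i (up a)) ^ p ^ 1 = 1
      rw [pow_one, ← map_pow, up_pow, char_eq R C i, zero_mul, up_zero, map_one]
    have hQ : Q.map f = X (sr i) := by
      ext x
      constructor
      · rintro ⟨_, ⟨a, rfl⟩, rfl⟩
        show f (s' i (up a)) ∈ X (sr i)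
        rw [hfs]
        exact C.mem_up i a
      · intro hx
        obtain ⟨a, rfl⟩ := C.exists_up hx
        exact ⟨_, ⟨a, rfl⟩, hfs i _⟩
    have h1 := eq_lft hc hker (R.pgrp i) hQp hQ
    show (lft p f (X (sr i)) : Set E) = _
    rw [← h1]
    rfl
  · intro i
    let Q : Subgroup E :=
      { carrier := Set.range fun a : F i => s' i (lo a)
        one_mem' := ⟨0, by simp only [lo_zero, map_one]⟩
        mul_mem' := by
          rintro _ _ ⟨a, rfl⟩ ⟨b, rfl⟩
          exact ⟨a + b, by simp only [lo_add, map_mul]⟩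
        inv_mem' := by
          rintro _ ⟨a, rfl⟩
          exact ⟨-a, by simp only [lo_neg, map_inv]⟩ }
    have hQp : IsPGroup p Q := by
      rintro ⟨_, a, rfl⟩
      refine ⟨1, Subtype.ext ?_⟩
      show (s' i (lo a)) ^ p ^ 1 = 1
      rw [pow_one, ← map_pow, lo_pow, char_eq R C i, zero_mul, lo_zero, map_one]
    have hQ : Q.map f = X (-sr i) := by
      ext x
      constructor
      · rintro ⟨_, ⟨a, rfl⟩, rfl⟩
        show f (s' i (lo a)) ∈ X (-sr i)
        rw [hfs]
        exact C.mem_lo i a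
      · intro hx
        obtain ⟨a, rfl⟩ := C.exists_lo hx
        exact ⟨_, ⟨a, rfl⟩, hfs i _⟩
    have h1 := eq_lft hc hker (R.pgrp' (isRoot_sr cs h i).neg) hQp hQ
    show (lft p f (X (-sr i)) : Set E) = _
    rw [← h1]
    rfl

/-- **The core theorem (kernel of order prime to `p`)**: if the `s i` lift to `s' i` and the `s i (dg t)` commute then
so do the `s' i (dg t)`. -/
theorem comm_lift [Fact p.Prime] [Finite W] [∀ i, Finite (F i)] (hp : p ≠ 2) (R : RGD cs h p T n X)
    (C : Coord X F s) (hs : Function.Surjective f) (hc : f.ker ≤ Subgroup.center E)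
    (hker : (Nat.card f.ker).Coprime p) {s' : ∀ i, Matrix.SpecialLinearGroup (Fin 2) (F i) →* E}
    (hs' : ∀ i, f.comp (s' i) = s i) {n' : I → E} (hn : ∀ i, f (n' i) = n i)
    (hcomm : ∀ i j, i ≠ j → ∀ t u, Commute (s i (dg t)) (s j (dg u))) {i j : I} (hij : i ≠ j)
    (t : (F i)ˣ) (u : (F j)ˣ) : Commute (s' i (dg t)) (s' j (dg u)) := by
  have hfs : ∀ i g, f (s' i g) = s i g := fun i g => DFunLike.congr_fun (hs' i) g
  have R' := rgd_lift hc hker hs R hn
  have C' : Coord (fun x => lft p f (X x)) F s' := coord_lift R C hc hker hs'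
  have hT : s' i (dg t) ∈ T.comap f := dg_mem_T R' C' i t
  refine comm_of_norm R' C' hp (j := j) (R'.tor _ (isRoot_sr cs h j) _ hT)
    (R'.tor _ (isRoot_sr cs h j).neg _ hT) ?_ u
  intro u
  apply hc
  rw [MonoidHom.mem_ker, map_mul, map_mul, map_mul, map_inv, map_inv, hfs, hfs, (hcomm i j hij t u).eq]
  group

/-- **(MULT).** `E` perfect, `f : E →* Y` surjective with central kernel a 2-group, `Y` generated by the root groups of
a root group datum with coordinates `s i`, the `s i (dg t)` commuting (`θ`). Then the `s i` lift to `s' i : SL₂ →* E`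
and the preimage of the torus is `{∏ s' i (dg (t i))}`. -/
theorem mult [Fact p.Prime] [Finite W] [∀ i, Finite (F i)] (hp : p ≠ 2) (R : RGD cs h p T n X)
    (hG : G1 cs h X = ⊤) (C : Coord X F s) (θ : (∀ i, (F i)ˣ) →* Y)
    (hθ : ∀ i t, θ (Pi.mulSingle i t) = s i (dg t)) (hs : Function.Surjective f)
    (hc : f.ker ≤ Subgroup.center E) (h2 : IsPGroup 2 f.ker) (hE : commutator E = ⊤) :
    ∃ (s' : ∀ i, Matrix.SpecialLinearGroup (Fin 2) (F i) →* E) (θ' : (∀ i, (F i)ˣ) →* E),
      (∀ i, f.comp (s' i) = s i) ∧ (∀ i t, θ' (Pi.mulSingle i t) = s' i (dg t)) ∧ f.comp θ' = θ ∧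
      θ'.range = T.comap f ∧ Coord (fun x => lft p f (X x)) F s' ∧
      G1 cs h (fun x => lft p f (X x)) = ⊤ ∧
      ∀ n' : I → E, (∀ i, f (n' i) = n i) → RGD cs h p (T.comap f) n' (fun x => lft p f (X x)) := by
  classical
  have : Fact (Nat.Prime 2) := ⟨Nat.prime_two⟩
  have hker : (Nat.card f.ker).Coprime p := by
    obtain ⟨k, hk⟩ := IsPGroup.iff_card.1 h2
    rw [hk]
    exact Nat.Coprime.pow_left k ((Nat.coprime_primes Nat.prime_two Fact.out).2 (Ne.symm hp))
  have hlift : ∀ i, ∃ s' : Matrix.SpecialLinearGroup (Fin 2) (F i) →* E, f.comp s' = s i := fun i =>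
    exists_lift_sl hp (char_eq R C i) hs hc h2 (s i)
  choose s' hs' using hlift
  have hn : ∃ n' : I → E, ∀ i, f (n' i) = n i := by
    choose n' hn' using fun i => hs (n i)
    exact ⟨n', hn'⟩
  obtain ⟨n₀, hn₀⟩ := hn
  have hcomm0 : ∀ i j, i ≠ j → ∀ t u, Commute (s i (dg t)) (s j (dg u)) := by
    intro i j hij t u
    rw [← hθ, ← hθ]
    have h3 : Commute (Pi.mulSingle i t : ∀ i, (F i)ˣ) (Pi.mulSingle j u) := Commute.all _ _
    exact h3.map θ
  have hcomm : Pairwise fun i j => ∀ (t : (F i)ˣ) (u : (F j)ˣ),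
      Commute (((s' i).comp dgHom) t) (((s' j).comp dgHom) u) := by
    intro i j hij t u
    exact comm_lift hp R C hs hc hker hs' hn₀ hcomm0 hij t u
  have R' := rgd_lift hc hker hs R hn₀
  have C' : Coord (fun x => lft p f (X x)) F s' := coord_lift R C hc hker hs'
  have hG' := G1_lift R hG hs hc hker hE
  have hsingle : ∀ i (t : (F i)ˣ), MonoidHom.noncommPiCoprod (fun i => (s' i).comp dgHom) hcomm
      (Pi.mulSingle i t) = s' i (dg t) := by
    intro i t
    rw [MonoidHom.noncommPiCoprod_mulSingle]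
    rfl
  refine ⟨s', MonoidHom.noncommPiCoprod (fun i => (s' i).comp dgHom) hcomm, hs', hsingle, ?_, ?_, C', hG',
    fun n' hn' => rgd_lift hc hker hs R hn'⟩
  · apply MonoidHom.pi_ext
    intro i t
    rw [MonoidHom.comp_apply, hsingle, hθ]
    exact DFunLike.congr_fun (hs' i) _
  · rw [MonoidHom.noncommPiCoprod_range]
    exact (torus R' C' hG').symm

/-- Corollary of (MULT): every element of the kernel is `∏ s' i (dg (t i))` with `∏ s i (dg (t i)) = 1`. -/
theorem exists_of_ker [Fact p.Prime] [Finite W] [∀ i, Finite (F i)] (hp : p ≠ 2) (R : RGD cs h p T n X)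
    (hG : G1 cs h X = ⊤) (C : Coord X F s) (θ : (∀ i, (F i)ˣ) →* Y)
    (hθ : ∀ i t, θ (Pi.mulSingle i t) = s i (dg t)) (hs : Function.Surjective f)
    (hc : f.ker ≤ Subgroup.center E) (h2 : IsPGroup 2 f.ker) (hE : commutator E = ⊤) :
    ∃ (s' : ∀ i, Matrix.SpecialLinearGroup (Fin 2) (F i) →* E) (θ' : (∀ i, (F i)ˣ) →* E),
      (∀ i, f.comp (s' i) = s i) ∧ (∀ i t, θ' (Pi.mulSingle i t) = s' i (dg t)) ∧ f.comp θ' = θ ∧
      ∀ z, f z = 1 → ∃ t, θ' t = z ∧ θ t = 1 := by
  obtain ⟨s', θ', h1, h3, h4, h5, -⟩ := mult hp R hG C θ hθ hs hc h2 hE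
  refine ⟨s', θ', h1, h3, h4, fun z hz => ?_⟩
  have h6 : z ∈ θ'.range := by
    rw [h5, Subgroup.mem_comap, hz]
    exact one_mem _
  obtain ⟨t, rfl⟩ := h6
  refine ⟨t, rfl, ?_⟩
  rw [← h4]
  exact hz

end Cover

/-! ### Changing the representatives -/

/-- powers of representatives -/
theorem rp_pow {hN : NSys M T n} {w : W} {g : Y} (hg : Rp cs hN w g) (k : ℕ) : Rp cs hN (w ^ k) (g ^ k) := by
  induction k with
  | zero => rw [pow_zero, pow_zero]; exact rp_one
  | succ k ih => rw [pow_succ, pow_succ]; exact ih.mul hg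

/-- the representatives `n i` may be replaced by any others -/
theorem rgd_change (R : RGD cs h p T n X) {m : I → Y} (hmr : ∀ i, Rp cs R.nsys (cs.simple i) (m i)) :
    RGD cs h p T m X where
  nsys :=
    { norm := fun i => (hmr i).mem_normalizer
      rel := fun i j => by
        have h1 := rp_pow ((hmr i).mul (hmr j)) (M i j)
        rw [cs.simple_mul_simple_pow] at h1
        exact h1.mem_of_one }
  conj i x hx := R.conj_rp (hmr i) hx
  tor := R.tor
  comm := R.comm
  rk1 i u hu hu1 := by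
    obtain ⟨a, ha, t, ht, b, hb, e⟩ := R.rk1 i u hu hu1
    have h1 : t * n i * (m i)⁻¹ ∈ T := by
      have h2 := ((rp_of_mem (cs := cs) (hN := R.nsys) ht).mul (rp_simple cs R.nsys i)).mul (hmr i).inv
      rw [one_mul, mul_inv_cancel] at h2
      exact h2.mem_of_one
    exact ⟨a, ha, _, h1, b, hb, by rw [e]; group⟩
  pgrp := R.pgrp
  notp := R.notp
  tcop := R.tcop

/-- the root group datum with representatives `s i (wn)` -/
theorem rgd_wn [Finite W] (R : RGD cs h p T n X) (C : Coord X F s) : RGD cs h p T (fun i => s i wn) X :=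
  rgd_change R fun i => rp_nn R C i 1

theorem wn_mul_wn {K : Type*} [Field K] : (wn : Matrix.SpecialLinearGroup (Fin 2) K) * wn = dg (-1) := by
  apply Subtype.ext
  rw [Matrix.SpecialLinearGroup.coe_mul]
  simp [wn, Matrix.mul_fin_two]

theorem dg_neg_one {K : Type*} [Field K] : (dg (-1) : Matrix.SpecialLinearGroup (Fin 2) K) = -1 := by
  apply Subtype.ext
  rw [Matrix.SpecialLinearGroup.coe_neg, coe_dg, Matrix.SpecialLinearGroup.coe_one, Matrix.one_fin_two]
  ext i j
  fin_cases i <;> fin_cases j <;> simp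

end Cfsg.Agent.OddHalf.NI.Mult
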