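import Cfsg.Agent.OddHalf.NI.ModelTw

/-!
helper613: (T') for `²E₆(q)` and `³D₄(q)`, `q` odd: a quasisimple group `N` with `Z(N)` a 2-group and
`N / Z(N) ≃ ²E₆(q)` or `³D₄(q)` has no central involution.
-/

set_option autoImplicit false
set_option linter.unusedSectionVars false
set_option maxHeartbeats 400000

namespace Cfsg.Agent.OddHalf.NI.ExcTw

open Cfsg.Agent.Nodes.BNOf Cfsg.Agent.Nodes.RGDTwGen Cfsg.Agent.Nodes.RGDChev Cfsg.Agent.Nodes.RGDFold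
  Cfsg.Agent.Nodes.RGDFoldSL Cfsg.Agent.Nodes.RGDTwCoord Cfsg.Agent.OddHalf.NI.ModelTw
open Cfsg.Lie Cfsg.Agent.ChevalleyStructure Cfsg.Agent.ChevalleyStructure.Elts
open Cfsg.Agent.ChevalleyStructure.TwE6Basic (sg exists_frob)
open Cfsg.Agent.ChevalleyStructure.GraphSymm
open Cfsg.Agent.ChevalleyStructure.D4Fixed (sig)
open Subgroup (center)

universe u v

/-! ### The kernel equations -/

theorem kerE6 {K : Type*} [Field K] (φ : K →+* K) {a b c d : K} (ha : φ a = a) (ha0 : a ≠ 0) (hd0 : d ≠ 0) (h0 : a ^ 2 = b) (h1 : b ^ 2 = a * (c * φ c)) (h2 : c ^ 2 = b * d)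
    (h3 : d ^ 2 = c) : a ^ 3 = 1 ∧ b ^ 3 = 1 ∧ c ^ 3 = 1 ∧ d ^ 3 = 1 := by
  have e1 : d ^ 3 = a ^ 2 := by
    apply mul_left_cancel₀ hd0
    rw [← h3, ← h0] at h2
    linear_combination h2
  have e2 : φ d ^ 3 = a ^ 2 := by rw [← map_pow, e1, map_pow, ha]
  have e3 : a ^ 3 = (d * φ d) ^ 2 := by
    apply mul_left_cancel₀ ha0
    have h4 : φ c = φ d ^ 2 := by rw [← map_pow, h3]
    rw [h4, ← h3, ← h0] at h1
    linear_combination h1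
  have e4 : (d * φ d) ^ 3 = a ^ 4 := by rw [mul_pow, e1, e2]; ring
  have e5 : a = 1 := by
    have h5 : a ^ 9 = a ^ 8 := by
      calc a ^ 9 = (a ^ 3) ^ 3 := by ring
        _ = ((d * φ d) ^ 3) ^ 2 := by rw [e3]; ring
        _ = a ^ 8 := by rw [e4]; ring
    apply mul_left_cancel₀ (pow_ne_zero 8 ha0)
    linear_combination h5
  subst e5
  rw [one_pow] at h0 e1
  subst h0
  refine ⟨one_pow 3, one_pow 3, ?_, e1⟩
  rw [← h3]
  calc (d ^ 2) ^ 3 = (d ^ 3) ^ 2 := by ring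
    _ = 1 := by rw [e1, one_pow]

theorem kerD4 {K : Type*} [Field K] (φ : K →+* K) {a b : K} (ha : φ a = a) (ha0 : a ≠ 0)
    (h0 : a ^ 2 = b * (φ b * φ (φ b))) (h1 : b ^ 2 = a) : a = 1 ∧ b = 1 := by
  have e2 : φ b ^ 2 = a := by rw [← map_pow, h1, ha]
  have e3 : φ (φ b) ^ 2 = a := by rw [← map_pow, e2, ha]
  have e5 : a = 1 := by
    have h5 : a ^ 4 = a ^ 3 := by
      calc a ^ 4 = (a ^ 2) ^ 2 := by ring
        _ = b ^ 2 * (φ b ^ 2 * φ (φ b) ^ 2) := by rw [h0]; ring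
        _ = a ^ 3 := by rw [h1, e2, e3]; ring
    apply mul_left_cancel₀ (pow_ne_zero 3 ha0)
    linear_combination h5
  subst e5
  refine ⟨rfl, ?_⟩
  rcases mul_self_eq_one_iff.1 (show b * b = 1 by rw [← sq]; exact h1) with h | h
  · exact h
  · subst h
    rw [map_neg, map_neg, map_one, map_one, one_pow] at h0
    linear_combination (-1 : K) * h0

/-! ### `²E₆(q)` -/

section E6

open Cfsg.Agent.Nodes.RGDTwE6

theorem cartan_tab : (chevE6.cartan 1 46 = 2 ∧ chevE6.cartan 3 46 = -1 ∧ chevE6.cartan 2 46 = 0 ∧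
      chevE6.cartan 4 46 = 0 ∧ chevE6.cartan 0 46 = 0 ∧ chevE6.cartan 5 46 = 0) ∧
    (chevE6.cartan 1 39 = -1 ∧ chevE6.cartan 3 39 = 2 ∧ chevE6.cartan 2 39 = -1 ∧
      chevE6.cartan 4 39 = -1 ∧ chevE6.cartan 0 39 = 0 ∧ chevE6.cartan 5 39 = 0) ∧
    (chevE6.cartan 1 42 = 0 ∧ chevE6.cartan 3 42 = -1 ∧ chevE6.cartan 2 42 = 2 ∧
      chevE6.cartan 4 42 = 0 ∧ chevE6.cartan 0 42 = -1 ∧ chevE6.cartan 5 42 = 0) ∧
    (chevE6.cartan 1 56 = 0 ∧ chevE6.cartan 3 56 = 0 ∧ chevE6.cartan 2 56 = -1 ∧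
      chevE6.cartan 4 56 = 0 ∧ chevE6.cartan 0 56 = 2 ∧ chevE6.cartan 5 56 = 0) := by decide +kernel

theorem wt_prod {K : Type u} [Field K] (φ : K →+* K) (r : ℕ) (t : Fin 4 → K) :
    ∏ i, wt chevE6 φ (J i) r (t i) = t 0 ^ chevE6.cartan 1 r * t 1 ^ chevE6.cartan 3 r *
      (t 2 ^ chevE6.cartan 2 r * φ (t 2) ^ chevE6.cartan 4 r) *
      (t 3 ^ chevE6.cartan 0 r * φ (t 3) ^ chevE6.cartan 5 r) := by
  rw [Fin.prod_univ_four]
  show (t 0 ^ chevE6.cartan 1 r * 1) * (t 1 ^ chevE6.cartan 3 r * 1) *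
    (t 2 ^ chevE6.cartan 2 r * (φ (t 2) ^ chevE6.cartan 4 r * 1)) *
    (t 3 ^ chevE6.cartan 0 r * (φ (t 3) ^ chevE6.cartan 5 r * 1)) = _
  rw [mul_one, mul_one, mul_one, mul_one]

theorem ker_E6 {K : Type u} [Field K] [Fintype K] {q : ℕ} {φ : K →+* K} (hφ : ∀ x, φ x = x ^ q)
    (hqq : ∀ t : K, (t ^ q) ^ q = t)
    {t : ∀ i, (Fx φ ((Nodes.RGDTwNode.E6.rest i).length + 1))ˣ}
    (ht : th (foldGrp hφ hqq) Nodes.RGDTwNode.E6.nodeOK (fun i s hs u => by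
      rw [Nodes.RGDTwNode.E6.eps_one i s hs, Int.cast_one, one_mul]) t = 1) (i : Fin 4) : t i ^ 3 = 1 := by
  have h := fun (r : ℕ) (hr : r < chevE6.nroots) => th_scalar _ _ _ ht hr
  have h1 := h 46 (by decide +kernel)
  have h2 := h 39 (by decide +kernel)
  have h3 := h 42 (by decide +kernel)
  have h4 := h 56 (by decide +kernel)
  obtain ⟨⟨a1, a2, a3, a4, a5, a6⟩, ⟨b1, b2, b3, b4, b5, b6⟩, ⟨c1, c2, c3, c4, c5, c6⟩, ⟨d1, d2, d3, d4, d5, d6⟩⟩ :=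
    cartan_tab
  have hne : ∀ i, ((t i : Fx φ ((Nodes.RGDTwNode.E6.rest i).length + 1)) : K) ≠ 0 := fun i h =>
    (t i).ne_zero (Subtype.ext h)
  have hfix : φ ((t 0 : Fx φ ((Nodes.RGDTwNode.E6.rest 0).length + 1)) : K) =
      ((t 0 : Fx φ ((Nodes.RGDTwNode.E6.rest 0).length + 1)) : K) := mem_Fx.1 (t 0).1.2
  have w1 := wt_prod φ 46 fun i => ((t i : Fx φ ((Nodes.RGDTwNode.E6.rest i).length + 1)) : K)
  have w2 := wt_prod φ 39 fun i => ((t i : Fx φ ((Nodes.RGDTwNode.E6.rest i).length + 1)) : K)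
  have w3 := wt_prod φ 42 fun i => ((t i : Fx φ ((Nodes.RGDTwNode.E6.rest i).length + 1)) : K)
  have w4 := wt_prod φ 56 fun i => ((t i : Fx φ ((Nodes.RGDTwNode.E6.rest i).length + 1)) : K)
  rw [w1, a1, a2, a3, a4, a5, a6] at h1
  rw [w2, b1, b2, b3, b4, b5, b6] at h2
  rw [w3, c1, c2, c3, c4, c5, c6] at h3
  rw [w4, d1, d2, d3, d4, d5, d6] at h4
  have main : ∀ a b c d : K, a ≠ 0 → b ≠ 0 → c ≠ 0 → d ≠ 0 → φ a = a →
      a ^ (2 : ℤ) * b ^ (-1 : ℤ) * (c ^ (0 : ℤ) * φ c ^ (0 : ℤ)) * (d ^ (0 : ℤ) * φ d ^ (0 : ℤ)) = 1 →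
      a ^ (-1 : ℤ) * b ^ (2 : ℤ) * (c ^ (-1 : ℤ) * φ c ^ (-1 : ℤ)) * (d ^ (0 : ℤ) * φ d ^ (0 : ℤ)) = 1 →
      a ^ (0 : ℤ) * b ^ (-1 : ℤ) * (c ^ (2 : ℤ) * φ c ^ (0 : ℤ)) * (d ^ (-1 : ℤ) * φ d ^ (0 : ℤ)) = 1 →
      a ^ (0 : ℤ) * b ^ (0 : ℤ) * (c ^ (-1 : ℤ) * φ c ^ (0 : ℤ)) * (d ^ (2 : ℤ) * φ d ^ (0 : ℤ)) = 1 →
      a ^ 3 = 1 ∧ b ^ 3 = 1 ∧ c ^ 3 = 1 ∧ d ^ 3 = 1 := by
    intro a b c d ha hb hc hd hfa g1 g2 g3 g4
    have hφc : φ c ≠ 0 := (map_ne_zero φ).2 hc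
    simp only [zpow_neg, zpow_ofNat, pow_one, pow_zero, mul_one, one_mul] at g1 g2 g3 g4
    apply kerE6 φ hfa ha hd
    · calc a ^ 2 = a ^ 2 * b⁻¹ * b := by rw [mul_assoc, inv_mul_cancel₀ hb, mul_one]
        _ = b := by rw [g1, one_mul]
    · calc b ^ 2 = a⁻¹ * b ^ 2 * (c⁻¹ * (φ c)⁻¹) * (a * (c * φ c)) := by field_simp
        _ = a * (c * φ c) := by rw [g2, one_mul]
    · calc c ^ 2 = b⁻¹ * c ^ 2 * d⁻¹ * (b * d) := by field_simp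
        _ = b * d := by rw [g3, one_mul]
    · calc d ^ 2 = c⁻¹ * d ^ 2 * c := by field_simp
        _ = c := by rw [g4, one_mul]
  obtain ⟨k0, k1, k2, k3⟩ := main _ _ _ _ (hne 0) (hne 1) (hne 2) (hne 3) hfix h1 h2 h3 h4
  have hall : ∀ i, ((t i : Fx φ ((Nodes.RGDTwNode.E6.rest i).length + 1)) : K) ^ 3 = 1 := by
    intro i
    fin_cases i
    · exact k0
    · exact k1
    · exact k2
    · exact k3
  apply Units.ext
  apply Subtype.ext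
  rw [Units.val_pow_eq_pow_val, SubmonoidClass.coe_pow]
  exact hall i

/-- **(T') for `²E₆(q)`.** -/
theorem eq_one_E6 {K : Type u} [Field K] [Fintype K] {q : ℕ} (hq : IsPrimePow q) (hK : Fintype.card K = q ^ 2)
    (ho : Odd (Fintype.card K)) {E : Type v} [Group E] [Finite E] (hE : commutator E = ⊤)
    (h2 : IsPGroup 2 ↥(center E)) (e : E ⧸ center E ≃* ↥(twistedE6 K q)) {z : E} (hz : z ∈ center E) : z = 1 := by
  obtain ⟨φ, hφ, hqq⟩ := exists_frob hq hK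
  exact eq_one_of_odd (foldGrp hφ hqq) Nodes.RGDTwNode.E6.nodeOK (fun i s hs u => by
      rw [Nodes.RGDTwNode.E6.eps_one i s hs, Int.cast_one, one_mul]) hE h2 e isCartan foldData ho (k := 3) (by decide)
      (fun t ht i => ker_E6 hφ hqq ht i) hz

end E6

/-! ### `³D₄(q)` -/

section D4

open Cfsg.Agent.Nodes.RGDTwD4

theorem cartan_tab4 : (chevD4.cartan 1 14 = 2 ∧ chevD4.cartan 0 14 = -1 ∧ chevD4.cartan 2 14 = -1 ∧
      chevD4.cartan 3 14 = -1) ∧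
    (chevD4.cartan 1 18 = -1 ∧ chevD4.cartan 0 18 = 2 ∧ chevD4.cartan 2 18 = 0 ∧
      chevD4.cartan 3 18 = 0) := by decide +kernel

theorem wt_prod4 {K : Type u} [Field K] (φ : K →+* K) (r : ℕ) (t : Fin 2 → K) :
    ∏ i, wt chevD4 φ (J i) r (t i) = t 0 ^ chevD4.cartan 1 r *
      (t 1 ^ chevD4.cartan 0 r * (φ (t 1) ^ chevD4.cartan 2 r * φ (φ (t 1)) ^ chevD4.cartan 3 r)) := by
  rw [Fin.prod_univ_two]
  show (t 0 ^ chevD4.cartan 1 r * 1) *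
    (t 1 ^ chevD4.cartan 0 r * (φ (t 1) ^ chevD4.cartan 2 r * (φ (φ (t 1)) ^ chevD4.cartan 3 r * 1))) = _
  rw [mul_one, mul_one]

theorem ker_D4 {K : Type u} [Field K] {q : ℕ} {φ : K →+* K} (hφ : ∀ x, φ x = x ^ q)
    (hle : twistedD4 K q ≤ D4Fixed.fix φ)
    {t : ∀ i, (Fx φ ((Nodes.RGDTwNode.D4.rest i).length + 1))ˣ}
    (ht : th (foldGrp hφ hle) Nodes.RGDTwNode.D4.nodeOK (fun i s hs u => by
      rw [Nodes.RGDTwNode.D4.eps_one i s hs, Int.cast_one, one_mul]) t = 1) (i : Fin 2) : t i ^ 1 = 1 := by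
  have h := fun (r : ℕ) (hr : r < chevD4.nroots) => th_scalar _ _ _ ht hr
  have h1 := h 14 (by decide +kernel)
  have h2 := h 18 (by decide +kernel)
  obtain ⟨⟨a1, a2, a3, a4⟩, ⟨b1, b2, b3, b4⟩⟩ := cartan_tab4
  have hne : ∀ i, ((t i : Fx φ ((Nodes.RGDTwNode.D4.rest i).length + 1)) : K) ≠ 0 := fun i h =>
    (t i).ne_zero (Subtype.ext h)
  have hfix : φ ((t 0 : Fx φ ((Nodes.RGDTwNode.D4.rest 0).length + 1)) : K) =
      ((t 0 : Fx φ ((Nodes.RGDTwNode.D4.rest 0).length + 1)) : K) := mem_Fx.1 (t 0).1.2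
  have w1 := wt_prod4 φ 14 fun i => ((t i : Fx φ ((Nodes.RGDTwNode.D4.rest i).length + 1)) : K)
  have w2 := wt_prod4 φ 18 fun i => ((t i : Fx φ ((Nodes.RGDTwNode.D4.rest i).length + 1)) : K)
  rw [w1, a1, a2, a3, a4] at h1
  rw [w2, b1, b2, b3, b4] at h2
  have main : ∀ a b : K, a ≠ 0 → b ≠ 0 → φ a = a →
      a ^ (2 : ℤ) * (b ^ (-1 : ℤ) * (φ b ^ (-1 : ℤ) * φ (φ b) ^ (-1 : ℤ))) = 1 →
      a ^ (-1 : ℤ) * (b ^ (2 : ℤ) * (φ b ^ (0 : ℤ) * φ (φ b) ^ (0 : ℤ))) = 1 →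
      a = 1 ∧ b = 1 := by
    intro a b ha hb hfa g1 g2
    have hφb : φ b ≠ 0 := (map_ne_zero φ).2 hb
    have hφφb : φ (φ b) ≠ 0 := (map_ne_zero φ).2 hφb
    simp only [zpow_neg, zpow_ofNat, pow_one, pow_zero, mul_one] at g1 g2
    apply kerD4 φ hfa ha
    · calc a ^ 2 = a ^ 2 * (b⁻¹ * ((φ b)⁻¹ * (φ (φ b))⁻¹)) * (b * (φ b * φ (φ b))) := by field_simp
        _ = b * (φ b * φ (φ b)) := by rw [g1, one_mul]
    · calc b ^ 2 = a⁻¹ * b ^ 2 * a := by field_simp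
        _ = a := by rw [g2, one_mul]
  obtain ⟨k0, k1⟩ := main _ _ (hne 0) (hne 1) hfix h1 h2
  have hall : ∀ i, ((t i : Fx φ ((Nodes.RGDTwNode.D4.rest i).length + 1)) : K) = 1 := by
    intro i
    fin_cases i
    · exact k0
    · exact k1
  rw [pow_one]
  apply Units.ext
  apply Subtype.ext
  exact hall i

/-- **(T') for `³D₄(q)`.** -/
theorem eq_one_D4 {K : Type u} [Field K] [Fintype K] {q : ℕ} (hq : IsPrimePow q) (hK : Fintype.card K = q ^ 3)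
    (ho : Odd (Fintype.card K)) {E : Type v} [Group E] [Finite E] (hE : commutator E = ⊤)
    (h2 : IsPGroup 2 ↥(center E)) (e : E ⧸ center E ≃* ↥(twistedD4 K q)) {z : E} (hz : z ∈ center E) : z = 1 := by
  obtain ⟨φ, hφ⟩ := D4Fixed.exists_frob hq hK
  exact eq_one_of_odd (foldGrp hφ (D4Fixed.twisted_le_fix hK hφ)) Nodes.RGDTwNode.D4.nodeOK (fun i s hs u => by
      rw [Nodes.RGDTwNode.D4.eps_one i s hs, Int.cast_one, one_mul]) hE h2 e isCartan foldData ho (k := 1) odd_one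
      (fun t ht i => ker_D4 hφ (D4Fixed.twisted_le_fix hK hφ) ht i) hz

end D4

/-! ### The literal forms -/

section Literal

variable {F : Type} [Field F] [Fintype F] {q : ℕ} (hpp : IsPrimePow q) (ho : Odd (Fintype.card F)) {N : Type v}
  [Group N] [Finite N] (hq : IsQuasisimple N) (h2 : IsPGroup 2 ↥(center N)) {z : N} (hz : z ∈ center N)
  (hz2 : orderOf z = 2)

include hpp ho hq h2 hz hz2

theorem false_TwE6 (hK : Fintype.card F = q ^ 2) (e : N ⧸ center N ≃* ↥(twistedE6 F q)) : False := by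
  have h1 := eq_one_E6 hpp hK ho hq.1.commutator_eq_top h2 e hz
  rw [h1, orderOf_one] at hz2
  norm_num at hz2

theorem false_TwD4 (hK : Fintype.card F = q ^ 3) (e : N ⧸ center N ≃* ↥(twistedD4 F q)) : False := by
  have h1 := eq_one_D4 hpp hK ho hq.1.commutator_eq_top h2 e hz
  rw [h1, orderOf_one] at hz2
  norm_num at hz2

end Literal

end Cfsg.Agent.OddHalf.NI.ExcTw
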