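import Cfsg.Agent.OddHalf.NI.SUBlocks
import Cfsg.Agent.OddHalf.NI.CoverOf

/-!
# NODE NI, (T') for `N / Z(N) ≅ PSU_n(q)`: literal form, modulo closedness of `SU_n(q)`
-/

set_option autoImplicit false

namespace Cfsg.Agent.OddHalf.NI.FrameSU

open Subgroup Cfsg

universe u v

/-- **(T') for `N / Z(N) ≅ PSU_n(q)`**, `q > 3` odd, `n ≥ 3`, `SU_n(q)` without perfect central 2-extension. -/
theorem frame {N : Type u} [Group N] [Finite N] (hq : Cfsg.IsQuasisimple N) (h2 : IsPGroup 2 ↥(center N))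
    {F : Type v} [Field F] [Fintype F] {q n : ℕ} (hF : Fintype.card F = q ^ 2) (hodd : Odd q) (h3 : 3 < q)
    (hn : 3 ≤ n) (hcl : CoverOf.Closed2.{max u v, v} ↥(SU n F q)) (e : N ⧸ center N ≃* PSU n F q) {z : N}
    (hz : z ∈ center N) (h8 : Even8 z) : Nonempty (Frame N z) := by
  obtain ⟨φ, hs, hk⟩ := CoverOf.exists_cover hq.1.commutator_eq_top h2
    (Cfsg.Agent.LieClassical.HermPerfect.commutator_SU_eq_top hF hn (by omega)) hcl e
  exact SUBlocks.frame hF hodd h3 hn φ hs hk hz h8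

end Cfsg.Agent.OddHalf.NI.FrameSU
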