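import Cfsg.Agent.OddHalf.NI.Blocks
import Cfsg.Agent.LieClassical.SympCenter
import Cfsg.Agent.S0269

/-!
# NODE NI, (T') for type `C_n`: the frame of the image of `-1` in a quotient of `Sp_{2n}(F)`
-/

set_option autoImplicit false

namespace Cfsg.Agent.OddHalf.NI.FrameSp

open Matrix Subgroup Cfsg
open Blocks (negOne)

variable {F : Type} [Field F] {m : ℕ}

/-- the index of the hyperbolic plane -/
def ix : Fin m ⊕ Fin m → Fin m := Sum.elim id id

/-- the matrix with given `2 × 2` blocks -/
def mat (A : Fin m → Matrix (Fin 2) (Fin 2) F) : Matrix (Fin m ⊕ Fin m) (Fin m ⊕ Fin m) F :=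
  fromBlocks (diagonal fun k => A k 0 0) (diagonal fun k => A k 0 1) (diagonal fun k => A k 1 0)
    (diagonal fun k => A k 1 1)

/-- `0` or `1` -/
def sd : Fin m ⊕ Fin m → Fin 2 := Sum.elim (fun _ => 0) (fun _ => 1)

theorem mat_apply (A : Fin m → Matrix (Fin 2) (Fin 2) F) (p q : Fin m ⊕ Fin m) :
    mat A p q = if ix p = ix q then A (ix p) (sd p) (sd q) else 0 := by
  rcases p with p | p <;> rcases q with q | q <;>
    (by_cases h : p = q <;> simp [mat, ix, sd, h])

theorem ext_iff' {p q : Fin m ⊕ Fin m} : p = q ↔ ix p = ix q ∧ sd p = sd q := by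
  rcases p with p | p <;> rcases q with q | q <;> simp [ix, sd]

theorem mat_mul (A B : Fin m → Matrix (Fin 2) (Fin 2) F) : mat A * mat B = mat (A * B) := by
  simp only [mat, fromBlocks_multiply, diagonal_mul_diagonal, diagonal_add]
  congr 1 <;> congr 1 <;> funext k <;> simp [Matrix.mul_apply, Fin.sum_univ_two]

theorem mat_one : mat (1 : Fin m → Matrix (Fin 2) (Fin 2) F) = 1 := by
  simp [mat, ← fromBlocks_one]

theorem mat_mem (A : Fin m → Matrix.SpecialLinearGroup (Fin 2) F) :
    mat (fun k => (A k : Matrix (Fin 2) (Fin 2) F)) ∈ symplecticGroup (Fin m) F := by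
  rw [mat, SymplecticGroup.fromBlocks_mem_iff]
  simp only [diagonal_transpose, diagonal_mul_diagonal, diagonal_sub]
  refine ⟨?_, ?_, ?_⟩
  · congr 1; funext k; ring
  · congr 1; funext k; ring
  · rw [← diagonal_one]
    congr 1
    funext k
    have := (A k).det_coe
    rw [det_fin_two] at this
    linear_combination this

theorem det_of_mem {A : Fin m → Matrix (Fin 2) (Fin 2) F} (h : mat A ∈ symplecticGroup (Fin m) F) (k : Fin m) :
    (A k).det = 1 := by
  rw [mat, SymplecticGroup.fromBlocks_mem_iff] at h
  have h1 := congrFun (congrFun h.2.2 k) k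
  simp only [diagonal_transpose, diagonal_mul_diagonal, diagonal_sub, diagonal_apply_eq, one_apply_eq] at h1
  rw [det_fin_two]
  linear_combination h1

/-- block diagonal matrices -/
def bd (m : ℕ) (F : Type) [Field F] :
    (Fin m → Matrix.SpecialLinearGroup (Fin 2) F) →* symplecticGroup (Fin m) F where
  toFun A := ⟨mat fun k => (A k : Matrix (Fin 2) (Fin 2) F), mat_mem A⟩
  map_one' := by
    apply Subtype.ext
    exact mat_one
  map_mul' A B := by
    apply Subtype.ext
    exact (mat_mul (fun k => (A k : Matrix (Fin 2) (Fin 2) F)) (fun k => (B k : Matrix (Fin 2) (Fin 2) F))).symm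

theorem bd_apply (A : Fin m → Matrix.SpecialLinearGroup (Fin 2) F) (p q : Fin m ⊕ Fin m) :
    (bd m F A : Matrix (Fin m ⊕ Fin m) (Fin m ⊕ Fin m) F) p q =
      if ix p = ix q then (A (ix p) : Matrix (Fin 2) (Fin 2) F) (sd p) (sd q) else 0 :=
  mat_apply _ p q

/-- the blocks -/
def e (i : Fin m) : Matrix.SpecialLinearGroup (Fin 2) F →* symplecticGroup (Fin m) F :=
  (bd m F).comp (MonoidHom.mulSingle (fun _ => Matrix.SpecialLinearGroup (Fin 2) F) i)

theorem e_apply (i : Fin m) (a : Matrix.SpecialLinearGroup (Fin 2) F) : e i a = bd m F (Pi.mulSingle i a) := rfl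

theorem e_coe (i : Fin m) (a : Matrix.SpecialLinearGroup (Fin 2) F) (p q : Fin m ⊕ Fin m) :
    (e i a : Matrix (Fin m ⊕ Fin m) (Fin m ⊕ Fin m) F) p q =
      if ix p = ix q then (if ix p = i then (a : Matrix (Fin 2) (Fin 2) F) (sd p) (sd q) else
        (1 : Matrix (Fin 2) (Fin 2) F) (sd p) (sd q)) else 0 := by
  rw [e_apply, bd_apply]
  by_cases h : ix p = ix q
  · rw [if_pos h, if_pos h]
    by_cases hi : ix p = i
    · rw [if_pos hi, hi, Pi.mulSingle_eq_same]
    · rw [if_neg hi, Pi.mulSingle_eq_of_ne hi]
      simp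
  · rw [if_neg h, if_neg h]

/-- the sign of a block -/
theorem e_negOne (i : Fin m) : (e i (negOne F) : Matrix (Fin m ⊕ Fin m) (Fin m ⊕ Fin m) F) =
    diagonal fun p => if ix p = i then -1 else 1 := by
  ext p q
  rw [e_coe, diagonal_apply]
  by_cases hpq : p = q
  · subst hpq
    by_cases h : ix p = i <;> simp [h]
  · rw [if_neg hpq]
    by_cases h : ix p = ix q
    · have h1 : sd p ≠ sd q := fun h1 => hpq (ext_iff'.mpr ⟨h, h1⟩)
      rw [if_pos h]
      by_cases hi : ix p = i <;> simp [hi, h1]
    · rw [if_neg h]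

/-- `-1` -/
def neg (m : ℕ) (F : Type) [Field F] : symplecticGroup (Fin m) F := bd m F fun _ => negOne F

theorem neg_coe : (neg m F : Matrix (Fin m ⊕ Fin m) (Fin m ⊕ Fin m) F) = -1 := by
  ext p q
  rw [neg, bd_apply]
  by_cases hpq : p = q
  · subst hpq; simp
  · by_cases h : ix p = ix q
    · have h1 : sd p ≠ sd q := fun h1 => hpq (ext_iff'.mpr ⟨h, h1⟩)
      simp [h, h1, hpq]
    · simp [h, hpq]

theorem ext_scalar {A : symplecticGroup (Fin m) F} (hA : A ∈ center (symplecticGroup (Fin m) F))
    (p : Fin m ⊕ Fin m) (hp : (A : Matrix (Fin m ⊕ Fin m) (Fin m ⊕ Fin m) F) p p = -1) : A = neg m F := by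
  obtain ⟨r, hr⟩ := (LieClassical.SympCenter.mem_center_iff m A).mp hA
  apply Subtype.ext
  have h1 : r = -1 := by
    rw [← hp, hr]
    simp
  rw [neg_coe, hr, h1]
  simp

/-- central elements are `±1` -/
theorem center_cases {A : symplecticGroup (Fin m) F} (hm : 1 ≤ m) (hA : A ∈ center (symplecticGroup (Fin m) F)) :
    A = 1 ∨ A = neg m F := by
  obtain ⟨r, hr⟩ := (LieClassical.SympCenter.mem_center_iff m A).mp hA
  have h1 := LieClassical.SympCenter.sq_eq_one_of_smul_mem hm (hr ▸ A.2)
  rcases mul_self_eq_one_iff.mp h1 with h | h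
  · left
    apply Subtype.ext
    rw [hr, h, one_smul]
    rfl
  · right
    apply Subtype.ext
    rw [hr, h, neg_coe]
    simp

/-- **the blocks of `Sp_{2m}(F)`** -/
def blocks (h2 : (2 : F) ≠ 0) (hm : 2 ≤ m) : Blocks (symplecticGroup (Fin m) F) F m (neg m F) where
  e := e
  comm i j hij a b := by
    have := (Pi.mulSingle_commute (f := fun _ : Fin m => Matrix.SpecialLinearGroup (Fin 2) F) hij a b).eq
    rw [e_apply, e_apply, ← map_mul, ← map_mul, this]
  norm i g hg a := by
    -- `g` commutes with the projection `P`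
    set P : Matrix (Fin m ⊕ Fin m) (Fin m ⊕ Fin m) F := diagonal fun p => if ix p = i then 1 else 0 with hP
    set G : Matrix (Fin m ⊕ Fin m) (Fin m ⊕ Fin m) F := ↑g with hG
    have hg' : G * (diagonal fun p => if ix p = i then -1 else 1) =
        (diagonal fun p => if ix p = i then -1 else 1) * G := by
      have := congrArg (fun A : symplecticGroup (Fin m) F =>
        (A : Matrix (Fin m ⊕ Fin m) (Fin m ⊕ Fin m) F)) hg
      simpa only [Submonoid.coe_mul, e_negOne] using this
    have hgP : G * P = P * G := by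
      ext p q
      have h1 := congrFun (congrFun hg' p) q
      rw [mul_diagonal, diagonal_mul] at h1
      rw [hP, mul_diagonal, diagonal_mul]
      by_cases hp : ix p = i <;> by_cases hq : ix q = i
      · simp [hp, hq]
      · rw [if_pos hp, if_neg hq] at h1
        have : G p q = 0 := by
          have h3 : 2 * G p q = 0 := by linear_combination h1
          exact (mul_eq_zero.mp h3).resolve_left h2
        rw [this]; simp
      · rw [if_neg hp, if_pos hq] at h1
        have : G p q = 0 := by
          have h3 : 2 * G p q = 0 := by linear_combination (-1 : F) * h1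
          exact (mul_eq_zero.mp h3).resolve_left h2
        rw [this]; simp
      · simp [hp, hq]
    set E : Matrix (Fin m ⊕ Fin m) (Fin m ⊕ Fin m) F := ↑(e i a) with hE
    have hE1 : P * (E - 1) * P = E - 1 := by
      ext p q
      rw [hP, mul_diagonal, diagonal_mul, Matrix.sub_apply, hE, e_coe]
      by_cases hp : ix p = i <;> by_cases hq : ix q = i
      · simp [hp, hq]
      · have hpq : ix p ≠ ix q := fun h => hq (h ▸ hp)
        have hpq' : p ≠ q := fun h => hpq (h ▸ rfl)
        rw [if_neg hpq, Matrix.one_apply_ne hpq']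
        simp
      · have hpq : ix p ≠ ix q := fun h => hp (h.trans hq)
        have hpq' : p ≠ q := fun h => hpq (h ▸ rfl)
        rw [if_neg hpq, Matrix.one_apply_ne hpq']
        simp
      · by_cases hpq : ix p = ix q
        · rw [if_neg hp, if_pos hpq, if_neg hp, if_neg hq]
          by_cases h1 : sd p = sd q
          · have : p = q := ext_iff'.mpr ⟨hpq, h1⟩
            subst this; simp
          · have hpq' : p ≠ q := fun h => h1 (h ▸ rfl)
            simp [Matrix.one_apply_ne h1, Matrix.one_apply_ne hpq']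
        · have hpq' : p ≠ q := fun h => hpq (h ▸ rfl)
          rw [if_neg hpq, Matrix.one_apply_ne hpq']
          simp
    set B := g * e i a * g⁻¹ with hB
    set G' : Matrix (Fin m ⊕ Fin m) (Fin m ⊕ Fin m) F := ↑(g⁻¹) with hG'
    have hgi : G * G' = 1 := by
      have := congrArg (fun A : symplecticGroup (Fin m) F =>
        (A : Matrix (Fin m ⊕ Fin m) (Fin m ⊕ Fin m) F)) (mul_inv_cancel g)
      simpa only [Submonoid.coe_mul, Submonoid.coe_one] using this
    have hig : G' * G = 1 := by
      have := congrArg (fun A : symplecticGroup (Fin m) F =>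
        (A : Matrix (Fin m ⊕ Fin m) (Fin m ⊕ Fin m) F)) (inv_mul_cancel g)
      simpa only [Submonoid.coe_mul, Submonoid.coe_one] using this
    have hBc : (B : Matrix (Fin m ⊕ Fin m) (Fin m ⊕ Fin m) F) = G * E * G' := by
      rw [hB, Submonoid.coe_mul, Submonoid.coe_mul]
    have hPG' : G' * P = P * G' := by
      calc G' * P = G' * P * (G * G') := by rw [hgi, Matrix.mul_one]
        _ = G' * (P * G) * G' := by simp only [Matrix.mul_assoc]
        _ = G' * (G * P) * G' := by rw [hgP]
        _ = (G' * G) * P * G' := by simp only [Matrix.mul_assoc]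
        _ = P * G' := by rw [hig, Matrix.one_mul]
    have hB1 : P * ((B : Matrix (Fin m ⊕ Fin m) (Fin m ⊕ Fin m) F) - 1) * P = B - 1 := by
      have h3 : (B : Matrix (Fin m ⊕ Fin m) (Fin m ⊕ Fin m) F) - 1 = G * (E - 1) * G' := by
        rw [hBc, Matrix.mul_sub, Matrix.sub_mul, Matrix.mul_one, hgi]
      rw [h3]
      calc P * (G * (E - 1) * G') * P = (P * G) * (E - 1) * (G' * P) := by simp only [Matrix.mul_assoc]
        _ = (G * P) * (E - 1) * (P * G') := by rw [hgP, hPG']
        _ = G * (P * (E - 1) * P) * G' := by simp only [Matrix.mul_assoc]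
        _ = G * (E - 1) * G' := by rw [hE1]
    -- the block of `B`
    have hBe : ∀ p q : Fin m ⊕ Fin m, ¬ (ix p = i ∧ ix q = i) →
        (B : Matrix (Fin m ⊕ Fin m) (Fin m ⊕ Fin m) F) p q = (1 : Matrix (Fin m ⊕ Fin m) (Fin m ⊕ Fin m) F) p q := by
      intro p q hpq
      have h1 := congrFun (congrFun hB1 p) q
      rw [hP, mul_diagonal, diagonal_mul, Matrix.sub_apply] at h1
      have h3 : (if ix p = i then (1 : F) else 0) * ((B : Matrix (Fin m ⊕ Fin m) (Fin m ⊕ Fin m) F) p q -
          (1 : Matrix (Fin m ⊕ Fin m) (Fin m ⊕ Fin m) F) p q) * (if ix q = i then (1 : F) else 0) = 0 := by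
        by_cases hp : ix p = i
        · have hq : ¬ ix q = i := fun hq => hpq ⟨hp, hq⟩
          simp [hq]
        · simp [hp]
      rw [h3] at h1
      exact (sub_eq_zero.mp h1.symm)
    -- the index of a pair
    let mk : Fin m → Fin 2 → Fin m ⊕ Fin m := fun k x => if x = 0 then Sum.inl k else Sum.inr k
    have hmk : ∀ p, mk (ix p) (sd p) = p := by
      intro p
      rcases p with p | p <;> simp [mk, ix, sd]
    let b : Matrix (Fin 2) (Fin 2) F := fun x y => (B : Matrix (Fin m ⊕ Fin m) (Fin m ⊕ Fin m) F) (mk i x) (mk i y)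
    have hBb : (B : Matrix (Fin m ⊕ Fin m) (Fin m ⊕ Fin m) F) =
        mat (Function.update (1 : Fin m → Matrix (Fin 2) (Fin 2) F) i b) := by
      ext p q
      rw [mat_apply]
      by_cases hk : ix p = i <;> by_cases hl : ix q = i
      · rw [if_pos (hk.trans hl.symm), hk, Function.update_self]
        change _ = (B : Matrix (Fin m ⊕ Fin m) (Fin m ⊕ Fin m) F) (mk i (sd p)) (mk i (sd q))
        conv_rhs => rw [← hk, hmk p]
        conv_rhs => rw [hk, ← hl, hmk q]
      · have hkl : ix p ≠ ix q := fun h => hl (h ▸ hk)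
        rw [hBe p q (fun h => hl h.2), if_neg hkl, Matrix.one_apply_ne (fun h : p = q => hkl (congrArg ix h))]
      · have hkl : ix p ≠ ix q := fun h => hk (h.trans hl)
        rw [hBe p q (fun h => hk h.1), if_neg hkl, Matrix.one_apply_ne (fun h : p = q => hkl (congrArg ix h))]
      · rw [hBe p q (fun h => hk h.1)]
        by_cases hkl : ix p = ix q
        · rw [if_pos hkl, Function.update_of_ne hk, Pi.one_apply]
          by_cases hxy : sd p = sd q
          · have : p = q := ext_iff'.mpr ⟨hkl, hxy⟩
            subst this; simp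
          · rw [Matrix.one_apply_ne hxy, Matrix.one_apply_ne (fun h : p = q => hxy (congrArg sd h))]
        · rw [if_neg hkl, Matrix.one_apply_ne (fun h : p = q => hkl (congrArg ix h))]
    have hb : b.det = 1 := by
      have h1 := B.2
      rw [hBb] at h1
      have := det_of_mem h1 i
      rwa [Function.update_self] at this
    refine ⟨(⟨b, hb⟩ : Matrix.SpecialLinearGroup (Fin 2) F), ?_⟩
    apply Subtype.ext
    rw [hBb]
    ext p q
    have h0 := e_coe i (⟨b, hb⟩ : Matrix.SpecialLinearGroup (Fin 2) F) p q
    rw [mat_apply]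
    refine h0.trans ?_
    by_cases hkl : ix p = ix q
    · rw [if_pos hkl, if_pos hkl]
      by_cases hk : ix p = i
      · rw [if_pos hk, hk, Function.update_self]
      · rw [if_neg hk, Function.update_of_ne hk]
        rfl
    · rw [if_neg hkl, if_neg hkl]
  one i a ha := by
    obtain ⟨r, hr⟩ := (LieClassical.SympCenter.mem_center_iff m _).mp ha
    obtain ⟨k, hk⟩ : ∃ k : Fin m, k ≠ i := by
      by_contra hcon
      push Not at hcon
      have : Subsingleton (Fin m) := ⟨fun x y => (hcon x).trans (hcon y).symm⟩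
      have := Fintype.card_le_one_iff_subsingleton.mpr this
      rw [Fintype.card_fin] at this
      omega
    have h1 : r = 1 := by
      have := congrFun (congrFun hr (Sum.inl k)) (Sum.inl k)
      rw [e_coe] at this
      simpa [hk, ix] using this.symm
    have h3 : e i a = 1 := by
      apply Subtype.ext
      rw [hr, h1, one_smul]
      rfl
    apply Subtype.ext
    ext x y
    have h4 : ∀ p q : Fin m ⊕ Fin m, ix p = i → ix q = i →
        (a : Matrix (Fin 2) (Fin 2) F) (sd p) (sd q) = (1 : Matrix (Fin 2) (Fin 2) F) (sd p) (sd q) := by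
      intro p q hp hq
      have := congrArg (fun A : symplecticGroup (Fin m) F =>
        (A : Matrix (Fin m ⊕ Fin m) (Fin m ⊕ Fin m) F) p q) h3
      simp only [e_coe, hp, hq, if_true] at this
      rw [this, Submonoid.coe_one]
      by_cases hpq : p = q
      · subst hpq; simp
      · have : sd p ≠ sd q := fun h => hpq (ext_iff'.mpr ⟨hp.trans hq.symm, h⟩)
        rw [Matrix.one_apply_ne hpq, Matrix.one_apply_ne this]
    have h5 : ∀ x : Fin 2, ∃ p : Fin m ⊕ Fin m, ix p = i ∧ sd p = x := by
      intro x
      fin_cases x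
      · exact ⟨Sum.inl i, rfl, rfl⟩
      · exact ⟨Sum.inr i, rfl, rfl⟩
    obtain ⟨p, hp, rfl⟩ := h5 x
    obtain ⟨q, hq, rfl⟩ := h5 y
    exact h4 p q hp hq
  two i j hij h := by
    refine ext_scalar h (Sum.inl i) ?_
    rw [Submonoid.coe_mul, e_negOne, e_negOne, diagonal_mul_diagonal]
    simp [hij, ix]
  three i j k hij hik hjk h := by
    refine ext_scalar h (Sum.inl i) ?_
    rw [Submonoid.coe_mul, Submonoid.coe_mul, e_negOne, e_negOne, e_negOne,
      diagonal_mul_diagonal, diagonal_mul_diagonal]
    simp [hij, hik, ix]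
  gen := by
    have key : ∀ S : Finset (Fin m), bd m F (fun k => if k ∈ S then negOne F else 1) ∈
        closure (Set.range fun i : Fin m => e i (negOne F)) := by
      intro S
      induction S using Finset.induction_on with
      | empty =>
        have : (fun k : Fin m => if k ∈ (∅ : Finset (Fin m)) then negOne F else 1) = 1 := by
          funext k; simp
        rw [this, map_one]
        exact one_mem _
      | insert k S hk ih =>
        have : (fun l : Fin m => if l ∈ insert k S then negOne F else 1) =
            Pi.mulSingle k (negOne F) * fun l => if l ∈ S then negOne F else 1 := by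
          funext l
          rw [Pi.mul_apply]
          by_cases hl : l = k
          · subst hl
            simp [hk]
          · simp [hl]
        rw [this, map_mul]
        exact mul_mem (subset_closure ⟨k, rfl⟩) ih
    have h1 := key Finset.univ
    simpa [neg] using h1

/-- **(T') for type `C_n`** : `φ : Sp_{2m}(F) → N` surjective with central kernel, `z ≠ 1` central in `N`: there is a
frame for `z`. -/
theorem frame [Fintype F] (hodd : Odd (Fintype.card F)) (h3 : 3 < Fintype.card F) (hm : 2 ≤ m)
    {N : Type*} [Group N] (φ : symplecticGroup (Fin m) F →* N) (hs : Function.Surjective φ)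
    (hk : φ.ker ≤ center (symplecticGroup (Fin m) F)) {z : N} (hz : z ∈ center N) (hz1 : z ≠ 1) :
    Nonempty (Frame N z) := by
  have h2 : (2 : F) ≠ 0 := Blocks.two_ne_zero_of_odd hodd
  obtain ⟨c, rfl⟩ := hs z
  have hc : c ∈ center (symplecticGroup (Fin m) F) :=
    LinEnd.mem_center_of_map φ hk (Cfsg.Agent.S0269.result m (Or.inr (Or.inr (by omega)))) hz
  rcases center_cases (by omega) hc with rfl | rfl
  · exact absurd (map_one φ) hz1
  · exact (blocks h2 hm).frame (by omega) hodd h3 φ hs hk hz1

end Cfsg.Agent.OddHalf.NI.FrameSp
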