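import Mathlib
import Cfsg.Prelude.Def_CaseTheorems

/-!
# The perfect residual of the fibre product of two perfect central extensions

`f : N → X`, `g : L → X` surjective with central kernels, `N`, `L` perfect. `M f g ≤ N × L` is the commutator
subgroup of the fibre product: it is perfect and maps onto `N` and onto `L` with central kernels.
-/

set_option autoImplicit false

namespace Cfsg.Agent.OddHalf.NI.Fibre

open Subgroup
open scoped commutatorElement

variable {N L X : Type*} [Group N] [Group L] [Group X] (f : N →* X) (g : L →* X)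

/-- the fibre product -/
def fib : Subgroup (N × L) where
  carrier := {p | f p.1 = g p.2}
  mul_mem' := by
    intro a b ha hb
    simp only [Set.mem_ofPred_eq, Prod.fst_mul, Prod.snd_mul, map_mul] at ha hb ⊢
    rw [ha, hb]
  one_mem' := by simp
  inv_mem' := by
    intro a ha
    simp only [Set.mem_ofPred_eq, Prod.fst_inv, Prod.snd_inv, map_inv] at ha ⊢
    rw [ha]

theorem mem_fib {p : N × L} : p ∈ fib f g ↔ f p.1 = g p.2 := Iff.rfl

/-- the perfect residual of the fibre product -/
def res : Subgroup (N × L) := ⁅fib f g, fib f g⁆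

theorem commutator_self_le {G : Type*} [Group G] (H : Subgroup G) : ⁅H, H⁆ ≤ H :=
  commutator_le.mpr fun _ ha _ hb =>
    H.mul_mem (H.mul_mem (H.mul_mem ha hb) (H.inv_mem ha)) (H.inv_mem hb)

theorem res_le : res f g ≤ fib f g := commutator_self_le _

variable {f g}

theorem map_fst_fib (hg : Function.Surjective g) : (fib f g).map (MonoidHom.fst N L) = ⊤ := by
  rw [eq_top_iff]
  intro n _
  obtain ⟨l, hl⟩ := hg (f n)
  exact ⟨(n, l), hl.symm, rfl⟩

theorem map_snd_fib (hf : Function.Surjective f) : (fib f g).map (MonoidHom.snd N L) = ⊤ := by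
  rw [eq_top_iff]
  intro l _
  obtain ⟨n, hn⟩ := hf (g l)
  exact ⟨(n, l), hn, rfl⟩

theorem map_fst_res (hg : Function.Surjective g) (hN : commutator N = ⊤) :
    (res f g).map (MonoidHom.fst N L) = ⊤ := by
  rw [res, map_commutator, map_fst_fib hg]
  exact hN

theorem map_snd_res (hf : Function.Surjective f) (hL : commutator L = ⊤) :
    (res f g).map (MonoidHom.snd N L) = ⊤ := by
  rw [res, map_commutator, map_snd_fib hf]
  exact hL

/-- elements of the fibre product over `1` are central in `N × L` -/
theorem mem_center_of_eq (kf : f.ker ≤ center N) (kg : g.ker ≤ center L) {p : N × L}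
    (h1 : f p.1 = 1) (h2 : g p.2 = 1) : p ∈ center (N × L) := by
  rw [mem_center_iff]
  rintro ⟨a, b⟩
  exact Prod.ext (mem_center_iff.mp (kf h1) a) (mem_center_iff.mp (kg h2) b)

/-- every element of the fibre product is an element of the residual times a central one -/
theorem exists_mul (hg : Function.Surjective g) (kf : f.ker ≤ center N)
    (kg : g.ker ≤ center L) (hN : commutator N = ⊤) {p : N × L}
    (hp : p ∈ fib f g) : ∃ r ∈ res f g, ∃ c ∈ center (N × L), p = r * c := by
  have h1 : p.1 ∈ (res f g).map (MonoidHom.fst N L) := by rw [map_fst_res hg hN]; trivial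
  obtain ⟨r, hr, hrp⟩ := h1
  refine ⟨r, hr, r⁻¹ * p, mem_center_of_eq kf kg ?_ ?_, by group⟩
  · have : r.1 = p.1 := hrp
    simp [this]
  · have h2 : f r.1 = g r.2 := res_le f g hr
    have h3 : r.1 = p.1 := hrp
    have h4 : f p.1 = g p.2 := hp
    simp only [Prod.snd_mul, Prod.snd_inv, map_mul, map_inv]
    rw [← h2, ← h4, h3, inv_mul_cancel]

theorem commutator_res (hf : Function.Surjective f) (hg : Function.Surjective g)
    (kf : f.ker ≤ center N) (kg : g.ker ≤ center L) (hN : commutator N = ⊤) :
    ⁅res f g, res f g⁆ = res f g := by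
  refine le_antisymm (commutator_self_le _) ?_
  conv_lhs => rw [res]
  rw [commutator_le]
  intro p hp q hq
  obtain ⟨r, hr, c, hc, rfl⟩ := exists_mul hg kf kg hN hp
  obtain ⟨s, hs, d, hd, rfl⟩ := exists_mul hg kf kg hN hq
  have e : ⁅r * c, s * d⁆ = ⁅r, s⁆ := by
    have h1 : ∀ y, y * c = c * y := fun y => mem_center_iff.mp hc y
    have h2 : ∀ y, y * d = d * y := fun y => mem_center_iff.mp hd y
    simp only [commutatorElement_def, mul_inv_rev]
    calc r * c * (s * d) * (c⁻¹ * r⁻¹) * (d⁻¹ * s⁻¹)
        = r * (c * (s * d)) * c⁻¹ * r⁻¹ * d⁻¹ * s⁻¹ := by group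
      _ = r * ((s * d) * c) * c⁻¹ * r⁻¹ * d⁻¹ * s⁻¹ := by rw [h1]
      _ = r * s * (d * r⁻¹) * d⁻¹ * s⁻¹ := by group
      _ = r * s * (r⁻¹ * d) * d⁻¹ * s⁻¹ := by rw [h2]
      _ = r * s * r⁻¹ * s⁻¹ := by group
  rw [e]
  exact commutator_mem_commutator hr hs

variable (f g)

/-- the residual as a group -/
abbrev M : Type _ := ↥(res f g)

/-- `M → N` -/
def toN : M f g →* N := (MonoidHom.fst N L).comp (res f g).subtype

/-- `M → L` -/
def toL : M f g →* L := (MonoidHom.snd N L).comp (res f g).subtype

variable {f g}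

theorem comm (m : M f g) : f (toN f g m) = g (toL f g m) := res_le f g m.2

theorem perfect (hf : Function.Surjective f) (hg : Function.Surjective g)
    (kf : f.ker ≤ center N) (kg : g.ker ≤ center L) (hN : commutator N = ⊤) :
    commutator (M f g) = ⊤ := by
  apply map_injective (res f g).subtype_injective
  rw [commutator_def, map_commutator, ← MonoidHom.range_eq_map, range_subtype]
  exact commutator_res hf hg kf kg hN

theorem toN_surjective (hg : Function.Surjective g) (hN : commutator N = ⊤) :
    Function.Surjective (toN f g) := by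
  intro n
  have h : n ∈ (res f g).map (MonoidHom.fst N L) := by rw [map_fst_res hg hN]; trivial
  obtain ⟨r, hr, h⟩ := h
  exact ⟨⟨r, hr⟩, h⟩

theorem toL_surjective (hf : Function.Surjective f) (hL : commutator L = ⊤) :
    Function.Surjective (toL f g) := by
  intro n
  have h : n ∈ (res f g).map (MonoidHom.snd N L) := by rw [map_snd_res hf hL]; trivial
  obtain ⟨r, hr, h⟩ := h
  exact ⟨⟨r, hr⟩, h⟩

theorem mem_center_of_map (kf : f.ker ≤ center N) (kg : g.ker ≤ center L) {m : M f g}
    (h : f (toN f g m) = 1) : m ∈ center (M f g) := by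
  rw [mem_center_iff]
  intro y
  have h2 : g (toL f g m) = 1 := by rw [← comm, h]
  exact Subtype.ext (mem_center_iff.mp (mem_center_of_eq kf kg (p := (m : N × L)) h h2) _)

theorem ker_toN (kf : f.ker ≤ center N) (kg : g.ker ≤ center L) :
    (toN f g).ker ≤ center (M f g) := by
  intro m hm
  refine mem_center_of_map kf kg ?_
  rw [MonoidHom.mem_ker.mp hm, map_one]

theorem ker_toL (kf : f.ker ≤ center N) (kg : g.ker ≤ center L) :
    (toL f g).ker ≤ center (M f g) := by
  intro m hm
  refine mem_center_of_map kf kg ?_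
  rw [comm, MonoidHom.mem_ker.mp hm, map_one]

/-- the composite `M → X` -/
def toX (f : N →* X) (g : L →* X) : M f g →* X := f.comp (toN f g)

theorem toX_surjective (hf : Function.Surjective f) (hg : Function.Surjective g)
    (hN : commutator N = ⊤) : Function.Surjective (toX f g) :=
  hf.comp (toN_surjective hg hN)

theorem ker_toX_le (kf : f.ker ≤ center N) (kg : g.ker ≤ center L) :
    (toX f g).ker ≤ center (M f g) := fun _ hm => mem_center_of_map kf kg hm

/-- if `Z(X) = 1` the kernel of `M → X` is the centre of `M` -/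
theorem ker_toX (hf : Function.Surjective f) (hg : Function.Surjective g) (kf : f.ker ≤ center N)
    (kg : g.ker ≤ center L) (hN : commutator N = ⊤) (hX : center X = ⊥) :
    (toX f g).ker = center (M f g) := by
  refine le_antisymm (ker_toX_le kf kg) ?_
  intro m hm
  have : toX f g m ∈ center X := by
    rw [mem_center_iff]
    intro y
    obtain ⟨w, rfl⟩ := toX_surjective hf hg hN y
    rw [← map_mul, ← map_mul, mem_center_iff.mp hm w]
  rwa [hX, mem_bot] at this

/-- the kernel of `M → X` is a `p`-group if the kernels of `f` and `g` are -/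
theorem isPGroup_ker {p : ℕ} (pf : IsPGroup p f.ker) (pg : IsPGroup p g.ker) :
    IsPGroup p (toX f g).ker := by
  rintro ⟨m, hm⟩
  have h1 : f (toN f g m) = 1 := hm
  have h2 : g (toL f g m) = 1 := by rw [← comm, h1]
  obtain ⟨a, ha⟩ := pf ⟨toN f g m, h1⟩
  obtain ⟨b, hb⟩ := pg ⟨toL f g m, h2⟩
  have ha' : toN f g m ^ p ^ a = 1 := congrArg Subtype.val ha
  have hb' : toL f g m ^ p ^ b = 1 := congrArg Subtype.val hb
  refine ⟨a + b, Subtype.ext (Subtype.ext (Prod.ext ?_ ?_))⟩
  · change toN f g m ^ p ^ (a + b) = 1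
    rw [pow_add, pow_mul, ha', one_pow]
  · change toL f g m ^ p ^ (a + b) = 1
    rw [pow_add, mul_comm, pow_mul, hb', one_pow]

theorem isPGroup_center {p : ℕ} (hf : Function.Surjective f) (hg : Function.Surjective g)
    (kf : f.ker ≤ center N) (kg : g.ker ≤ center L) (hN : commutator N = ⊤) (hX : center X = ⊥)
    (pf : IsPGroup p f.ker) (pg : IsPGroup p g.ker) : IsPGroup p (center (M f g)) := by
  rw [← ker_toX hf hg kf kg hN hX]
  exact isPGroup_ker pf pg

/-- `M` is quasisimple if `X` is simple and nonabelian -/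
theorem isQuasisimple (hf : Function.Surjective f) (hg : Function.Surjective g)
    (kf : f.ker ≤ center N) (kg : g.ker ≤ center L) (hN : commutator N = ⊤) (hX : center X = ⊥)
    [IsSimpleGroup X] : Cfsg.IsQuasisimple (M f g) := by
  refine ⟨⟨perfect hf hg kf kg hN⟩, ?_⟩
  have e : M f g ⧸ center (M f g) ≃* X :=
    (QuotientGroup.quotientMulEquivOfEq (ker_toX hf hg kf kg hN hX).symm).trans
      (QuotientGroup.quotientKerEquivOfSurjective _ (toX_surjective hf hg hN))
  exact e.isSimpleGroup

end Cfsg.Agent.OddHalf.NI.Fibre
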