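import Mathlib
import Cfsg.Agent.OddHalf.NI.Mult.SL

/-!
# `SL₂(F)` acting on a hyperbolic plane of a vector space (node NI, closedness of `SU_{2n}(q)`)

`u, w ∈ V`, `φ, ψ : V →ₗ F` dual to them: `blk : SL₂(F) →* (V ≃ₗ[F] V)` acts on `⟨u, w⟩` as on column vectors and
trivially on `ker φ ∩ ker ψ`.
-/

set_option autoImplicit false

namespace Cfsg.Agent.OddHalf.NI.Blk

open Matrix Cfsg.Agent.OddHalf.NI.Mult

variable {F : Type*} [Field F] {V : Type*} [AddCommGroup V] [Module F V]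

/-- dual pairs -/
structure Dual (u w : V) (φ ψ : V →ₗ[F] F) : Prop where
  uu : φ u = 1
  uw : φ w = 0
  wu : ψ u = 0
  ww : ψ w = 1

/-- the linear map of a matrix -/
def blkLin (u w : V) (φ ψ : V →ₗ[F] F) (g : Matrix (Fin 2) (Fin 2) F) : V →ₗ[F] V :=
  LinearMap.id + (((g 0 0 - 1) • φ + g 0 1 • ψ).smulRight u + (g 1 0 • φ + (g 1 1 - 1) • ψ).smulRight w)

theorem blkLin_apply (u w : V) (φ ψ : V →ₗ[F] F) (g : Matrix (Fin 2) (Fin 2) F) (v : V) :
    blkLin u w φ ψ g v = v + (((g 0 0 - 1) * φ v + g 0 1 * ψ v) • u + (g 1 0 * φ v + (g 1 1 - 1) * ψ v) • w) := rfl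

variable {u w : V} {φ ψ : V →ₗ[F] F}

theorem blkLin_one (v : V) : blkLin u w φ ψ 1 v = v := by
  rw [blkLin_apply]
  simp

theorem Dual.blkLin_mul (D : Dual u w φ ψ) (g k : Matrix (Fin 2) (Fin 2) F) (v : V) :
    blkLin u w φ ψ (g * k) v = blkLin u w φ ψ g (blkLin u w φ ψ k v) := by
  rw [blkLin_apply u w φ ψ k, blkLin_apply, blkLin_apply]
  simp only [map_add, map_smul, D.uu, D.uw, D.wu, D.ww, smul_eq_mul, Matrix.mul_apply, Fin.sum_univ_two, mul_one,
    mul_zero, add_zero, zero_add]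
  module

/-- **The homomorphism.** -/
def Dual.blk (D : Dual u w φ ψ) : SpecialLinearGroup (Fin 2) F →* (V ≃ₗ[F] V) where
  toFun g :=
    { toFun := blkLin u w φ ψ g.1
      map_add' := (blkLin u w φ ψ g.1).map_add
      map_smul' := (blkLin u w φ ψ g.1).map_smul
      invFun := blkLin u w φ ψ (g⁻¹).1
      left_inv := fun v => by
        rw [← D.blkLin_mul]
        have h1 : (g⁻¹).1 * g.1 = 1 := by
          have := congrArg Subtype.val (inv_mul_cancel g)
          exact this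
        rw [h1, blkLin_one]
      right_inv := fun v => by
        rw [← D.blkLin_mul]
        have h1 : g.1 * (g⁻¹).1 = 1 := by
          have := congrArg Subtype.val (mul_inv_cancel g)
          exact this
        rw [h1, blkLin_one] }
  map_one' := by
    ext v
    exact blkLin_one v
  map_mul' g k := by
    ext v
    exact D.blkLin_mul g.1 k.1 v

theorem Dual.blk_apply (D : Dual u w φ ψ) (g : SpecialLinearGroup (Fin 2) F) (v : V) :
    D.blk g v = v + (((g.1 0 0 - 1) * φ v + g.1 0 1 * ψ v) • u + (g.1 1 0 * φ v + (g.1 1 1 - 1) * ψ v) • w) := rfl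

theorem Dual.blk_up (D : Dual u w φ ψ) (a : F) (v : V) : D.blk (up a) v = v + (a * ψ v) • u := by
  rw [D.blk_apply]
  simp [up]

theorem Dual.blk_lo (D : Dual u w φ ψ) (a : F) (v : V) : D.blk (lo a) v = v + (a * φ v) • w := by
  rw [D.blk_apply]
  simp [lo]

theorem Dual.blk_dg (D : Dual u w φ ψ) (t : Fˣ) (v : V) :
    D.blk (dg t) v = v + ((((t : F) - 1) * φ v) • u + ((((t⁻¹ : Fˣ) : F) - 1) * ψ v) • w) := by
  rw [D.blk_apply]
  simp [dg]

/-- blocks on orthogonal planes commute -/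
theorem Dual.commute (D : Dual u w φ ψ) {u' w' : V} {φ' ψ' : V →ₗ[F] F} (D' : Dual u' w' φ' ψ') (h1 : φ u' = 0)
    (h2 : φ w' = 0) (h3 : ψ u' = 0) (h4 : ψ w' = 0) (h1' : φ' u = 0) (h2' : φ' w = 0) (h3' : ψ' u = 0)
    (h4' : ψ' w = 0) (g k : SpecialLinearGroup (Fin 2) F) : Commute (D.blk g) (D'.blk k) := by
  ext v
  change D.blk g (D'.blk k v) = D'.blk k (D.blk g v)
  rw [D.blk_apply, D'.blk_apply, D'.blk_apply, D.blk_apply]
  simp only [map_add, map_smul, h1, h2, h3, h4, h1', h2', h3', h4', smul_eq_mul, mul_zero, add_zero]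
  module

/-- products of commuting homomorphisms -/
def mulHom {G H : Type*} [Group G] [Group H] (f g : G →* H) (hc : ∀ x y, Commute (f x) (g y)) : G →* H where
  toFun x := f x * g x
  map_one' := by rw [map_one, map_one, one_mul]
  map_mul' x y := by
    rw [map_mul, map_mul, mul_assoc, mul_assoc, ← mul_assoc (f y) (g x), (hc y x).eq, mul_assoc]

@[simp] theorem mulHom_apply {G H : Type*} [Group G] [Group H] (f g : G →* H) (hc : ∀ x y, Commute (f x) (g y))
    (x : G) : mulHom f g hc x = f x * g x := rfl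

end Cfsg.Agent.OddHalf.NI.Blk
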