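import Mathlib
import Cfsg.Agent.OddHalf.NI.Blk
import Cfsg.Agent.TitsThree.WittWeyl

/-!
# Homomorphisms from `SL₂` onto the rank one groups of a Witt frame (node NI, closedness of `SU_{2n}(q)`)

* `SX h : SL₂(F) →* (V ≃ₗ[F] V)`, `SX h (up t) = X x y t`, `SX h (lo t) = X (-y) (-x) t`;
* `SZ x δ`, `SZ x (up a) = Z x p`, `c(p) η_x = δ a`, `SZ x (lo a) = Z (-x) p`, `c(p) η_{-x} = δ⁻¹ a`.
-/

set_option autoImplicit false

namespace Cfsg.Agent.OddHalf.NI.WittSL

open Matrix Cfsg.Agent.OddHalf.NI.Mult Cfsg.Agent.OddHalf.NI.Blk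
open Cfsg.Agent.TitsThree Cfsg.Agent.TitsThree.Siegel Cfsg.Agent.TitsThree.WittFrame Cfsg.Agent.TitsThree.WittWeyl

variable {F : Type*} [Field F] {V : Type*} [AddCommGroup V] [Module F V] {H : HForm F V}
  {ι : Type*} [DecidableEq ι] (Fr : Frame H ι)

/-- the coordinate of `b x` -/
def cf (x : ι × Bool) : V →ₗ[F] F where
  toFun v := (Fr.η (neg x))⁻¹ * H.h v (Fr.b (neg x))
  map_add' v v' := by rw [H.add_left]; ring
  map_smul' a v := by rw [H.smul_left, RingHom.id_apply, smul_eq_mul]; ring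

theorem cf_apply (x : ι × Bool) (v : V) : cf Fr x v = (Fr.η (neg x))⁻¹ * H.h v (Fr.b (neg x)) := rfl

theorem cf_self (x : ι × Bool) : cf Fr x (Fr.b x) = 1 := by
  rw [cf_apply, Fr.hb_self_neg, inv_mul_cancel₀ (Fr.η_ne _)]

theorem cf_ne {x y : ι × Bool} (h : y ≠ x) : cf Fr x (Fr.b y) = 0 := by
  rw [cf_apply, Fr.hb_ne, mul_zero]
  intro h'
  apply h
  have := congrArg neg h'
  rw [WittFrame.neg_neg, WittFrame.neg_neg] at this
  exact this.symm

omit [DecidableEq ι] in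
theorem neg_ne_self (x : ι × Bool) : neg x ≠ x := (ne_neg_self x).symm

/-- the plane `⟨b x, b (-y)⟩` -/
theorem dualX {x y : ι × Bool} (h : x.1 ≠ y.1) :
    Dual (Fr.b x) (Fr.b (neg y)) (cf Fr x) (cf Fr (neg y)) where
  uu := cf_self Fr x
  uw := cf_ne Fr (fun h' => h (by rw [← h']; rfl))
  wu := cf_ne Fr (fun h' => h (by rw [h']; rfl))
  ww := cf_self Fr _

/-- the factor `ε⁻¹ η_x η_y` -/
def kk (x y : ι × Bool) : F := H.ε⁻¹ * Fr.η x * Fr.η y

theorem kk_ne (x y : ι × Bool) : kk Fr x y ≠ 0 :=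
  mul_ne_zero (mul_ne_zero (inv_ne_zero H.ε_ne) (Fr.η_ne _)) (Fr.η_ne _)

/-- the plane `⟨b y, b (-x)⟩` -/
theorem dualX' {x y : ι × Bool} (h : x.1 ≠ y.1) :
    Dual (kk Fr x y • Fr.b y) (-Fr.b (neg x)) ((kk Fr x y)⁻¹ • cf Fr y) (-cf Fr (neg x)) where
  uu := by
    rw [LinearMap.smul_apply, map_smul, cf_self, smul_eq_mul, smul_eq_mul, mul_one, inv_mul_cancel₀ (kk_ne Fr x y)]
  uw := by
    rw [LinearMap.smul_apply, map_neg, cf_ne Fr (fun h' => h (by rw [← h']; rfl)), neg_zero, smul_zero]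
  wu := by
    rw [LinearMap.neg_apply, map_smul, cf_ne Fr (fun h' => h (by rw [h']; rfl)), smul_zero, neg_zero]
  ww := by
    rw [LinearMap.neg_apply, map_neg, cf_self, _root_.neg_neg]

theorem dualX_commute {x y : ι × Bool} (h : x.1 ≠ y.1) (g k : SpecialLinearGroup (Fin 2) F) :
    Commute ((dualX Fr h).blk g) ((dualX' Fr h).blk k) := by
  have e1 : cf Fr x (Fr.b y) = 0 := cf_ne Fr (fun h' => h (by rw [← h']))
  have e2 : cf Fr x (Fr.b (neg x)) = 0 := cf_ne Fr (neg_ne_self x)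
  have e3 : cf Fr (neg y) (Fr.b y) = 0 := cf_ne Fr (ne_neg_self y)
  have e4 : cf Fr (neg y) (Fr.b (neg x)) = 0 :=
    cf_ne Fr (fun h' => h (by have := congrArg Prod.fst h'; exact this))
  have e5 : cf Fr y (Fr.b x) = 0 := cf_ne Fr (fun h' => h (by rw [h']))
  have e6 : cf Fr y (Fr.b (neg y)) = 0 := cf_ne Fr (neg_ne_self y)
  have e7 : cf Fr (neg x) (Fr.b x) = 0 := cf_ne Fr (ne_neg_self x)
  have e8 : cf Fr (neg x) (Fr.b (neg y)) = 0 :=
    cf_ne Fr (fun h' => h (by have := congrArg Prod.fst h'; exact this.symm))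
  apply Dual.commute
  · rw [map_smul, e1, smul_zero]
  · rw [map_neg, e2, neg_zero]
  · rw [map_smul, e3, smul_zero]
  · rw [map_neg, e4, neg_zero]
  · rw [LinearMap.smul_apply, e5, smul_zero]
  · rw [LinearMap.smul_apply, e6, smul_zero]
  · rw [LinearMap.neg_apply, e7, neg_zero]
  · rw [LinearMap.neg_apply, e8, neg_zero]

/-- **The homomorphism of a root of type I.** -/
def SX {x y : ι × Bool} (h : x.1 ≠ y.1) : SpecialLinearGroup (Fin 2) F →* (V ≃ₗ[F] V) :=
  mulHom (dualX Fr h).blk ((dualX' Fr h).blk.comp (SpecialLinearGroup.map (n := Fin 2) (H.σ : F →+* F)))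
    (fun g _ => dualX_commute Fr h g _)

theorem SX_apply {x y : ι × Bool} (h : x.1 ≠ y.1) (g : SpecialLinearGroup (Fin 2) F) (v : V) :
    SX Fr h g v = (dualX Fr h).blk g ((dualX' Fr h).blk (SpecialLinearGroup.map (H.σ : F →+* F) g) v) := rfl

theorem map_up {K L : Type*} [Field K] [Field L] (f : K →+* L) (a : K) :
    SpecialLinearGroup.map f (up a) = up (f a) := by
  apply Subtype.ext
  change f.mapMatrix (up a).1 = (up (f a)).1
  ext i j
  fin_cases i <;> fin_cases j <;> simp [up]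

theorem map_lo {K L : Type*} [Field K] [Field L] (f : K →+* L) (a : K) :
    SpecialLinearGroup.map f (lo a) = lo (f a) := by
  apply Subtype.ext
  change f.mapMatrix (lo a).1 = (lo (f a)).1
  ext i j
  fin_cases i <;> fin_cases j <;> simp [lo]

theorem map_dg {K L : Type*} [Field K] [Field L] (f : K →+* L) (t : Kˣ) :
    SpecialLinearGroup.map f (dg t) = dg (Units.map (f : K →* L) t) := by
  apply Subtype.ext
  change f.mapMatrix (dg t).1 = (dg (Units.map (f : K →* L) t)).1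
  ext i j
  fin_cases i <;> fin_cases j <;> simp [dg]

theorem SX_up {x y : ι × Bool} (h : x.1 ≠ y.1) (t : F) : SX Fr h (up t) = Fr.X x y t := by
  ext v
  rw [SX_apply, map_up, Dual.blk_up, Dual.blk_up, X_apply Fr h]
  have e3 : cf Fr (neg y) (Fr.b y) = 0 := cf_ne Fr (ne_neg_self y)
  rw [map_add, map_smul, map_smul, e3, smul_zero, smul_zero, add_zero, LinearMap.neg_apply, cf_apply, cf_apply,
    WittFrame.neg_neg, WittFrame.neg_neg, σ_sc, Frame.sc, kk, smul_smul]
  have h1 := Fr.η_ne x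
  have h2 := Fr.η_ne y
  have h3 := H.ε_ne
  have e : (H.σ : F →+* F) t = H.σ t := rfl
  rw [e]
  match_scalars <;> field_simp

theorem SX_lo {x y : ι × Bool} (h : x.1 ≠ y.1) (t : F) : SX Fr h (lo t) = Fr.X (neg y) (neg x) t := by
  ext v
  have h' : (neg y).1 ≠ (neg x).1 := fun h'' => h h''.symm
  rw [SX_apply, map_lo, Dual.blk_lo, Dual.blk_lo, X_apply Fr h']
  have e3 : cf Fr x (Fr.b (neg x)) = 0 := cf_ne Fr (neg_ne_self x)
  rw [map_add, map_smul, map_neg, e3, neg_zero, smul_zero, add_zero, LinearMap.smul_apply, cf_apply, cf_apply,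
    σ_sc, Frame.sc, kk]
  have h1 := Fr.η_ne x
  have h2 := Fr.η_ne y
  have h3 := H.ε_ne
  have hx := Fr.η_neg x
  have hy := Fr.η_neg y
  have e1 : Fr.η (neg x) = H.ε * (Fr.η x)⁻¹ := by rw [← hx]; field_simp
  have e2 : Fr.η (neg y) = H.ε * (Fr.η y)⁻¹ := by rw [← hy]; field_simp
  have e : (H.σ : F →+* F) t = H.σ t := rfl
  rw [e, e1, e2]
  simp only [smul_eq_mul]
  match_scalars <;> field_simp

/-- the diagonal elements -/
theorem SX_dg_apply {x y : ι × Bool} (h : x.1 ≠ y.1) (t : Fˣ) (z : ι × Bool) :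
    SX Fr h (dg t) (Fr.b z) = (if z = x then (t : F) else if z = neg y then ((t⁻¹ : Fˣ) : F) else
      if z = y then H.σ t else if z = neg x then H.σ ((t⁻¹ : Fˣ) : F) else 1) • Fr.b z := by
  rw [SX_apply, map_dg, Dual.blk_dg, Dual.blk_dg]
  have hne1 : x ≠ neg y := fun h' => h (by rw [h']; rfl)
  have hne2 : x ≠ y := fun h' => h (by rw [h'])
  have hne3 : y ≠ neg x := fun h' => h (by rw [h']; rfl)
  have hne4 : neg y ≠ neg x := fun h' => h (by have := congrArg Prod.fst h'; exact this.symm)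
  have hk := kk_ne Fr x y
  by_cases h1 : z = x
  · subst h1
    rw [if_pos rfl]
    simp only [LinearMap.smul_apply, LinearMap.neg_apply, cf_ne Fr hne2, cf_ne Fr (ne_neg_self z), cf_self,
      cf_ne Fr hne1, smul_zero, mul_zero, neg_zero, zero_smul, add_zero, mul_one]
    match_scalars
    ring
  by_cases h2 : z = neg y
  · subst h2
    rw [if_neg (Ne.symm hne1), if_pos rfl]
    simp only [LinearMap.smul_apply, LinearMap.neg_apply, cf_ne Fr (neg_ne_self y), cf_ne Fr hne4, cf_self,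
      cf_ne Fr (Ne.symm hne1), smul_zero, mul_zero, neg_zero, zero_smul, add_zero, mul_one]
    match_scalars
    ring
  by_cases h3 : z = y
  · subst h3
    rw [if_neg (Ne.symm hne2), if_neg (ne_neg_self z), if_pos rfl]
    simp only [LinearMap.smul_apply, LinearMap.neg_apply, cf_self, cf_ne Fr hne3, map_add, map_smul,
      cf_ne Fr (Ne.symm hne2), cf_ne Fr (ne_neg_self z), smul_zero, mul_zero, neg_zero, zero_smul, add_zero,
      smul_eq_mul, mul_one, smul_smul]
    have e : (((Units.map ((H.σ : F →+* F) : F →* F)) t : Fˣ) : F) = H.σ t := rfl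
    rw [e]
    match_scalars
    field_simp
    ring
  by_cases h4 : z = neg x
  · subst h4
    rw [if_neg (neg_ne_self x), if_neg (Ne.symm hne4), if_neg (Ne.symm hne3), if_pos rfl]
    simp only [LinearMap.smul_apply, LinearMap.neg_apply, cf_self, cf_ne Fr (Ne.symm hne3), map_add, map_smul,
      map_neg, cf_ne Fr (neg_ne_self x), cf_ne Fr (Ne.symm hne4), smul_zero, mul_zero, neg_zero, zero_smul, add_zero,
      zero_add, smul_eq_mul, mul_one, smul_neg]
    have e : ((((Units.map ((H.σ : F →+* F) : F →* F)) t)⁻¹ : Fˣ) : F) = H.σ ((t⁻¹ : Fˣ) : F) := by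
      rw [← map_inv]; rfl
    rw [e]
    match_scalars
    ring
  · rw [if_neg h1, if_neg h2, if_neg h3, if_neg h4, one_smul]
    simp only [LinearMap.smul_apply, LinearMap.neg_apply, cf_ne Fr h1, cf_ne Fr h2, cf_ne Fr h3, cf_ne Fr h4,
      smul_zero, mul_zero, neg_zero, zero_smul, add_zero]

/-- the plane `⟨δ b x, b (-x)⟩` -/
theorem dualZ (x : ι × Bool) {δ : F} (hδ : δ ≠ 0) :
    Dual (δ • Fr.b x) (Fr.b (neg x)) (δ⁻¹ • cf Fr x) (cf Fr (neg x)) where
  uu := by
    rw [LinearMap.smul_apply, map_smul, cf_self, smul_eq_mul, smul_eq_mul, mul_one, inv_mul_cancel₀ hδ]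
  uw := by rw [LinearMap.smul_apply, cf_ne Fr (neg_ne_self x), smul_zero]
  wu := by rw [map_smul, cf_ne Fr (ne_neg_self x), smul_zero]
  ww := cf_self Fr _

/-- **The homomorphism of a root of type II.** -/
def SZ (x : ι × Bool) {δ : F} (hδ : δ ≠ 0) : SpecialLinearGroup (Fin 2) F →* (V ≃ₗ[F] V) := (dualZ Fr x hδ).blk

theorem SZ_up (x : ι × Bool) {δ : F} (hδ : δ ≠ 0) {a : F} {p : Fr.Adm} (hw : p.w = 0) (hc : p.c * Fr.η x = δ * a) :
    SZ Fr x hδ (up a) = Fr.Z x p := by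
  ext v
  rw [SZ, Dual.blk_up, Z_apply, hw, H.zero_right, smul_zero, mul_zero, zero_smul, add_zero, sub_zero, cf_apply,
    WittFrame.neg_neg, smul_smul]
  congr 2
  have h1 := Fr.η_ne x
  have e : p.c = δ * a * (Fr.η x)⁻¹ := by rw [← hc]; field_simp
  rw [e]
  ring

theorem SZ_lo (x : ι × Bool) {δ : F} (hδ : δ ≠ 0) {a : F} {p : Fr.Adm} (hw : p.w = 0)
    (hc : p.c * Fr.η (neg x) = δ⁻¹ * a) : SZ Fr x hδ (lo a) = Fr.Z (neg x) p := by
  ext v
  rw [SZ, Dual.blk_lo, Z_apply, hw, H.zero_right, smul_zero, mul_zero, zero_smul, add_zero, sub_zero,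
    LinearMap.smul_apply, cf_apply, smul_eq_mul]
  congr 2
  have h1 := Fr.η_ne (neg x)
  have e : p.c = δ⁻¹ * a * (Fr.η (neg x))⁻¹ := by rw [← hc]; field_simp
  rw [e]
  ring

theorem SZ_dg_apply (x : ι × Bool) {δ : F} (hδ : δ ≠ 0) (t : Fˣ) (z : ι × Bool) :
    SZ Fr x hδ (dg t) (Fr.b z) = (if z = x then (t : F) else if z = neg x then ((t⁻¹ : Fˣ) : F) else 1) • Fr.b z := by
  rw [SZ, Dual.blk_dg]
  by_cases h1 : z = x
  · subst h1
    rw [if_pos rfl]
    simp only [LinearMap.smul_apply, cf_self, cf_ne Fr (ne_neg_self z), smul_eq_mul, mul_one, mul_zero, zero_smul,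
      add_zero, smul_smul]
    match_scalars
    field_simp
    ring
  by_cases h2 : z = neg x
  · subst h2
    rw [if_neg (neg_ne_self x), if_pos rfl]
    simp only [LinearMap.smul_apply, cf_self, cf_ne Fr (neg_ne_self x), smul_zero, mul_one, mul_zero, zero_smul,
      zero_add]
    match_scalars
    ring
  · rw [if_neg h1, if_neg h2, one_smul]
    simp only [LinearMap.smul_apply, cf_ne Fr h1, cf_ne Fr h2, smul_zero, mul_zero, zero_smul, add_zero]

end Cfsg.Agent.OddHalf.NI.WittSL
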