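import Mathlib
import Cfsg.Agent.OddHalf.NI.WittSL
import Cfsg.Agent.OddHalf.NI.Mult
import Cfsg.Agent.Nodes.WittModel

/-!
# Coordinates of the root group datum of a Witt frame with `V0 = 0` (node NI, closedness of `SU_{2n}(q)`)

`Fr` a Witt frame with `V0 = 0` whose root groups of type II are `{Z x p : c(p) ∈ δ K0}`. The rank one groups of the
simple roots are the images of `SL₂(F)` (type I) and `SL₂(K0)` (type II).

* `coord` : `Mult.Coord`;
* `θ`, `θ_mulSingle`, `θ_inj` : the torus `(∀ i, (K i)ˣ) →* G0` is injective;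
* `closed` : perfect central 2-extensions are trivial.
-/

set_option autoImplicit false
set_option linter.unusedSectionVars false

namespace Cfsg.Agent.OddHalf.NI.WittCoord

open Matrix Cfsg.Agent.OddHalf.NI.Mult Cfsg.Agent.OddHalf.NI.Blk Cfsg.Agent.OddHalf.NI.WittSL
open Cfsg.Agent.ChevalleyStructure.CoxeterGeom Cfsg.Agent.Tits.Roots Cfsg.Agent.Nodes.TypeC
open Cfsg.Agent.Nodes.Comb Cfsg.Agent.Nodes.Reps Cfsg.Agent.Nodes.WittRoot Cfsg.Agent.Nodes.BNOf
open Cfsg.Agent.Nodes Cfsg.Agent.Nodes.WittRGD Cfsg.Agent.Nodes.RGDLib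
open Cfsg.Agent.TitsThree Cfsg.Agent.TitsThree.Siegel Cfsg.Agent.TitsThree.WittFrame
  Cfsg.Agent.TitsThree.WittWeyl Cfsg.Agent.TitsThree.FrameCN

variable {F : Type*} [Field F] {V : Type*} [AddCommGroup V] [Module F V] {H : HForm F V} {n : ℕ}

/-- the fields of the simple roots -/
def KF (K0 : Subfield F) (i : Fin n) : Subfield F := if (i : ℕ) + 1 < n then ⊤ else K0

theorem mem_K0 {K0 : Subfield F} {i : Fin n} (hi : ¬ (i : ℕ) + 1 < n) {a : F} (ha : a ∈ KF K0 i) : a ∈ K0 := by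
  unfold KF at ha
  rwa [if_neg hi] at ha

/-- the frame has no anisotropic part and the root groups of type II have the field `K0` -/
structure LF (Fr : Frame H (Fin n)) (δ : F) (K0 : Subfield F) : Prop where
  V0 : Fr.V0 = ⊥
  δ0 : δ ≠ 0
  okp : ∀ c, Fr.ok 0 c ↔ ∃ a ∈ K0, c * H.ε = δ * a
  okm : ∀ c, Fr.ok 0 c ↔ ∃ a ∈ K0, c = δ⁻¹ * a

variable {Fr : Frame H (Fin n)} {δ : F} {K0 : Subfield F} (L : LF Fr δ K0)

theorem ne_nx {i : Fin n} (hi : (i : ℕ) + 1 < n) : ((i, true) : Fin n × Bool).1 ≠ (nx i).1 := by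
  unfold nx; rw [dif_pos hi]; simp [Fin.ext_iff]

/-- the homomorphism of the simple root `i` -/
def Sh (i : Fin n) : SpecialLinearGroup (Fin 2) F →* (V ≃ₗ[F] V) :=
  if hi : (i : ℕ) + 1 < n then SX Fr (ne_nx hi) else SZ Fr (i, true) L.δ0

include L

theorem exists_adm (c : F) (h : Fr.ok 0 c) : ∃ p : Fr.Adm, p.w = 0 ∧ p.c = c := ⟨⟨0, c, h⟩, rfl, rfl⟩

theorem adm_w (p : Fr.Adm) : p.w = 0 := by
  have h1 := Fr.ok_mem p.ok
  rw [L.V0] at h1
  exact (Submodule.mem_bot F).1 h1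

theorem Sh_up_mem (i : Fin n) (a : KF K0 i) : ∃ g ∈ rg Fr (sr i), Sh L i (up (a : F)) = g := by
  rw [rg_sr]
  by_cases hi : (i : ℕ) + 1 < n
  · refine ⟨_, ?_, rfl⟩
    rw [Sh, dif_pos hi, SX_up, PG_ne Fr (ne_nx hi)]
    exact ⟨_, rfl⟩
  · have hnx : nx i = (i, true) := by unfold nx; rw [dif_neg hi]
    have ha : (a : F) ∈ K0 := mem_K0 hi a.2
    refine ⟨_, ?_, rfl⟩
    rw [Sh, dif_neg hi, hnx, PG_self]
    have hε := H.ε_ne
    obtain ⟨p, hw, hc⟩ := exists_adm L (δ * a * H.ε⁻¹) ((L.okp _).2 ⟨a, ha, by field_simp⟩)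
    refine ⟨p, SZ_up Fr (i, true) L.δ0 hw ?_⟩
    have e : Fr.η ((i, true) : Fin n × Bool) = H.ε := rfl
    rw [hc, e]
    field_simp

theorem Sh_lo_mem (i : Fin n) (a : KF K0 i) : ∃ g ∈ rg Fr (-sr i), Sh L i (lo (a : F)) = g := by
  rw [rg_neg_sr]
  by_cases hi : (i : ℕ) + 1 < n
  · refine ⟨_, ?_, rfl⟩
    rw [Sh, dif_pos hi, SX_lo, PG_ne Fr (a := ng (i, true)) (b := ng (nx i)) (ne_nx hi),
      XG_swap Fr (a := ng (i, true)) (b := ng (nx i)) (ne_nx hi)]
    exact ⟨_, rfl⟩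
  · have hnx : nx i = (i, true) := by unfold nx; rw [dif_neg hi]
    have ha : (a : F) ∈ K0 := mem_K0 hi a.2
    refine ⟨_, ?_, rfl⟩
    rw [Sh, dif_neg hi, hnx, PG_self]
    obtain ⟨p, hw, hc⟩ := exists_adm L (δ⁻¹ * a) ((L.okm _).2 ⟨a, ha, rfl⟩)
    refine ⟨p, SZ_lo Fr (i, true) L.δ0 hw ?_⟩
    have e : Fr.η (neg ((i, true) : Fin n × Bool)) = 1 := rfl
    rw [hc, e, mul_one]

theorem exists_Sh_up (i : Fin n) {g : V ≃ₗ[F] V} (hg : g ∈ rg Fr (sr i)) : ∃ a : KF K0 i, Sh L i (up (a : F)) = g := by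
  rw [rg_sr] at hg
  by_cases hi : (i : ℕ) + 1 < n
  · rw [PG_ne Fr (ne_nx hi)] at hg
    obtain ⟨t, rfl⟩ := hg
    refine ⟨⟨t, by unfold KF; rw [if_pos hi]; trivial⟩, ?_⟩
    rw [Sh, dif_pos hi, SX_up]
  · have hnx : nx i = (i, true) := by unfold nx; rw [dif_neg hi]
    rw [hnx, PG_self] at hg
    obtain ⟨p, rfl⟩ := hg
    have hw := adm_w L p
    have hok := p.ok
    rw [hw] at hok
    obtain ⟨a, ha, e⟩ := (L.okp _).1 hok
    refine ⟨⟨a, by unfold KF; rwa [if_neg hi]⟩, ?_⟩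
    rw [Sh, dif_neg hi]
    exact SZ_up Fr (i, true) L.δ0 hw e

theorem exists_Sh_lo (i : Fin n) {g : V ≃ₗ[F] V} (hg : g ∈ rg Fr (-sr i)) :
    ∃ a : KF K0 i, Sh L i (lo (a : F)) = g := by
  rw [rg_neg_sr] at hg
  by_cases hi : (i : ℕ) + 1 < n
  · rw [PG_ne Fr (a := ng (i, true)) (b := ng (nx i)) (ne_nx hi),
      XG_swap Fr (a := ng (i, true)) (b := ng (nx i)) (ne_nx hi)] at hg
    obtain ⟨t, rfl⟩ := hg
    refine ⟨⟨t, by unfold KF; rw [if_pos hi]; trivial⟩, ?_⟩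
    rw [Sh, dif_pos hi, SX_lo]
    rfl
  · have hnx : nx i = (i, true) := by unfold nx; rw [dif_neg hi]
    rw [hnx, PG_self] at hg
    obtain ⟨p, rfl⟩ := hg
    have hw := adm_w L p
    have hok := p.ok
    rw [hw] at hok
    obtain ⟨a, ha, e⟩ := (L.okm _).1 hok
    refine ⟨⟨a, by unfold KF; rwa [if_neg hi]⟩, ?_⟩
    rw [Sh, dif_neg hi]
    refine SZ_lo Fr (i, true) L.δ0 hw ?_
    have e1 : Fr.η (neg ((i, true) : Fin n × Bool)) = 1 := rfl
    rw [e1, mul_one]
    exact e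

/-- the values lie in the group generated by the two root groups -/
theorem Sh_mem {G0 : Subgroup (V ≃ₗ[F] V)} (hle : ∀ x, rg Fr x ≤ G0) (i : Fin n)
    (g : SpecialLinearGroup (Fin 2) (KF K0 i)) :
    Sh L i (SpecialLinearGroup.map (n := Fin 2) (KF K0 i).subtype g) ∈ G0 := by
  have h1 : G0.comap ((Sh L i).comp (SpecialLinearGroup.map (n := Fin 2) (KF K0 i).subtype)) = ⊤ := by
    refine mem_of_up_lo (fun a => ?_) (fun a => ?_)
    · rw [Subgroup.mem_comap, MonoidHom.comp_apply, map_up]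
      obtain ⟨g, hg, e⟩ := Sh_up_mem L i a
      exact e ▸ hle _ hg
    · rw [Subgroup.mem_comap, MonoidHom.comp_apply, map_lo]
      obtain ⟨g, hg, e⟩ := Sh_lo_mem L i a
      exact e ▸ hle _ hg
  have h2 : g ∈ G0.comap ((Sh L i).comp (SpecialLinearGroup.map (n := Fin 2) (KF K0 i).subtype)) := by
    rw [h1]; trivial
  exact h2

omit L in
/-- the action of the diagonal elements on the upper half of the frame -/
theorem Sh_dg (L : LF Fr δ K0) (i : Fin n) (t : Fˣ) (j : Fin n) :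
    Sh L i (dg t) (Fr.b (j, true)) =
      (if j = i then (t : F) else if (j : ℕ) = i + 1 then ((t⁻¹ : Fˣ) : F) else 1) • Fr.b (j, true) := by
  by_cases hi : (i : ℕ) + 1 < n
  · have hnx : nx i = (⟨i + 1, hi⟩, false) := by unfold nx; rw [dif_pos hi]
    rw [Sh, dif_pos hi, SX_dg_apply]
    congr 1
    by_cases h1 : j = i
    · rw [if_pos (by rw [h1]), if_pos h1]
    · rw [if_neg (fun h => h1 (congrArg Prod.fst h)), if_neg h1]
      by_cases h2 : (j : ℕ) = i + 1
      · rw [if_pos, if_pos h2]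
        rw [hnx]
        exact Prod.ext (Fin.ext h2) rfl
      · rw [if_neg, if_neg h2, if_neg, if_neg]
        · intro h; have := congrArg Prod.snd h; simp at this
        · intro h; rw [hnx] at h; have := congrArg Prod.snd h; simp at this
        · intro h; rw [hnx] at h; exact h2 (congrArg (fun x => ((Prod.fst x : Fin n) : ℕ)) h)
  · rw [Sh, dif_neg hi, SZ_dg_apply]
    congr 1
    by_cases h1 : j = i
    · rw [if_pos (by rw [h1]), if_pos h1]
    · rw [if_neg (fun h => h1 (congrArg Prod.fst h)), if_neg h1, if_neg, if_neg]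
      · have := j.2; omega
      · intro h; have := congrArg Prod.snd h; simp at this

/-- every line of the frame is fixed by the diagonal elements -/
theorem Sh_dg_line (i : Fin n) (t : Fˣ) (z : Fin n × Bool) : ∃ c : F, Sh L i (dg t) (Fr.b z) = c • Fr.b z := by
  by_cases hi : (i : ℕ) + 1 < n
  · rw [Sh, dif_pos hi, SX_dg_apply]
    exact ⟨_, rfl⟩
  · rw [Sh, dif_neg hi, SZ_dg_apply]
    exact ⟨_, rfl⟩

/-- linear automorphisms agreeing on the frame are equal -/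
theorem eq_of_frame {G0 : Subgroup (V ≃ₗ[F] V)} (hA : Amb Fr G0) {g k : V ≃ₗ[F] V}
    (h : ∀ z, g (Fr.b z) = k (Fr.b z)) : g = k := by
  have h1 : g⁻¹ * k = 1 := by
    refine Amb.eq_one_of_fix hA (fun z => ?_) (fun w hw => ?_)
    · change g⁻¹ (k (Fr.b z)) = _
      rw [← h z]
      exact g.symm_apply_apply _
    · rw [L.V0] at hw
      rw [(Submodule.mem_bot F).1 hw]
      exact map_zero _
  exact inv_mul_eq_one.1 h1

theorem Sh_dg_commute {G0 : Subgroup (V ≃ₗ[F] V)} (hA : Amb Fr G0) (i j : Fin n) (t u : Fˣ) :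
    Commute (Sh L i (dg t)) (Sh L j (dg u)) := by
  refine eq_of_frame L hA fun z => ?_
  change Sh L i (dg t) (Sh L j (dg u) (Fr.b z)) = Sh L j (dg u) (Sh L i (dg t) (Fr.b z))
  obtain ⟨c, hc⟩ := Sh_dg_line L i t z
  obtain ⟨d, hd⟩ := Sh_dg_line L j u z
  rw [hd, hc, map_smul, map_smul, hd, hc, smul_smul, smul_smul, mul_comm]

/-! ### The group `G0` -/

section Grp

variable {G0 : Subgroup (V ≃ₗ[F] V)} (hA : Amb Fr G0)

/-- the homomorphisms `s i : SL₂(K i) →* G0` -/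
def ss (i : Fin n) : SpecialLinearGroup (Fin 2) (KF K0 i) →* ↥G0 :=
  ((Sh L i).comp (SpecialLinearGroup.map (n := Fin 2) (KF K0 i).subtype)).codRestrict G0
    (fun g => Sh_mem L (fun x => hA.rg_le x) i g)

theorem ss_coe (i : Fin n) (g : SpecialLinearGroup (Fin 2) (KF K0 i)) :
    ((ss L hA i g : ↥G0) : V ≃ₗ[F] V) = Sh L i (SpecialLinearGroup.map (n := Fin 2) (KF K0 i).subtype g) := rfl

/-- **Coordinates.** -/
theorem coord : Coord (I := Fin n) (fun x => (rg Fr x).subgroupOf G0) (fun i => ↥(KF K0 i)) (ss L hA) where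
  up i := by
    ext ⟨g, hg⟩
    constructor
    · intro h
      obtain ⟨a, ha⟩ := exists_Sh_up L i (Subgroup.mem_subgroupOf.1 h)
      refine ⟨a, Subtype.ext ?_⟩
      change ((ss L hA i (up a) : ↥G0) : V ≃ₗ[F] V) = g
      rw [ss_coe, map_up]
      exact ha
    · rintro ⟨a, ha⟩
      obtain ⟨k, hk, e⟩ := Sh_up_mem L i a
      have h1 : ((ss L hA i (up a) : ↥G0) : V ≃ₗ[F] V) = k := by
        rw [ss_coe, map_up]; exact e
      have h2 : g = k := by rw [← h1]; exact (congrArg Subtype.val ha).symm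
      subst h2
      exact Subgroup.mem_subgroupOf.2 hk
  lo i := by
    ext ⟨g, hg⟩
    constructor
    · intro h
      obtain ⟨a, ha⟩ := exists_Sh_lo L i (Subgroup.mem_subgroupOf.1 h)
      refine ⟨a, Subtype.ext ?_⟩
      change ((ss L hA i (lo a) : ↥G0) : V ≃ₗ[F] V) = g
      rw [ss_coe, map_lo]
      exact ha
    · rintro ⟨a, ha⟩
      obtain ⟨k, hk, e⟩ := Sh_lo_mem L i a
      have h1 : ((ss L hA i (lo a) : ↥G0) : V ≃ₗ[F] V) = k := by
        rw [ss_coe, map_lo]; exact e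
      have h2 : g = k := by rw [← h1]; exact (congrArg Subtype.val ha).symm
      subst h2
      exact Subgroup.mem_subgroupOf.2 hk

theorem ss_dg_commute : Pairwise fun i j => ∀ (t : (KF K0 i)ˣ) (u : (KF K0 j)ˣ),
    Commute (((ss L hA i).comp dgHom) t) (((ss L hA j).comp dgHom) u) := by
  intro i j _ t u
  apply Subtype.ext
  change Sh L i (SpecialLinearGroup.map (n := Fin 2) (KF K0 i).subtype (dg t)) *
    Sh L j (SpecialLinearGroup.map (n := Fin 2) (KF K0 j).subtype (dg u)) =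
    Sh L j (SpecialLinearGroup.map (n := Fin 2) (KF K0 j).subtype (dg u)) *
    Sh L i (SpecialLinearGroup.map (n := Fin 2) (KF K0 i).subtype (dg t))
  rw [map_dg, map_dg]
  exact Sh_dg_commute L hA i j _ _

/-- the torus -/
def θ : (∀ i : Fin n, (KF K0 i)ˣ) →* ↥G0 :=
  MonoidHom.noncommPiCoprod (fun i => (ss L hA i).comp dgHom) (ss_dg_commute L hA)

theorem θ_mulSingle (i : Fin n) (t : (KF K0 i)ˣ) : θ L hA (Pi.mulSingle i t) = ss L hA i (dg t) := by
  rw [θ, MonoidHom.noncommPiCoprod_mulSingle]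
  rfl

omit L in
/-- the eigenvalue of `θ t` on `b (j, true)` -/
def ev (K0 : Subfield F) (t : ∀ i : Fin n, (KF K0 i)ˣ) (j : Fin n) : F :=
  (((t j : KF K0 j)) : F) * (if h : 0 < (j : ℕ) then (((t ⟨j - 1, by omega⟩)⁻¹ : (KF K0 (⟨j - 1, by omega⟩ : Fin n))ˣ) :
    KF K0 (⟨j - 1, by omega⟩ : Fin n)) else 1 : F)

omit L in
theorem ev_one (j : Fin n) : ev K0 (1 : ∀ i : Fin n, (KF K0 i)ˣ) j = 1 := by
  unfold ev
  split_ifs <;> simp

omit L in
theorem ev_mul (t u : ∀ i : Fin n, (KF K0 i)ˣ) (j : Fin n) : ev K0 (t * u) j = ev K0 t j * ev K0 u j := by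
  unfold ev
  split_ifs with h
  · simp only [Pi.mul_apply, mul_inv, Units.val_mul, MulMemClass.coe_mul]
    ring
  · simp only [Pi.mul_apply, Units.val_mul, MulMemClass.coe_mul]
    ring

omit L in
theorem ev_single (i j : Fin n) (u : (KF K0 i)ˣ) : ev K0 (Pi.mulSingle i u) j =
    (if j = i then (((u : KF K0 i)) : F) else if (j : ℕ) = i + 1 then (((u⁻¹ : (KF K0 i)ˣ) : KF K0 i) : F) else 1) := by
  unfold ev
  by_cases h1 : j = i
  · subst h1
    rw [Pi.mulSingle_eq_same, if_pos rfl]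
    split_ifs with h
    · have h2 : (⟨(j : ℕ) - 1, by omega⟩ : Fin n) ≠ j := by
        intro h3
        have := congrArg Fin.val h3
        simp at this
        omega
      rw [Pi.mulSingle_eq_of_ne h2]
      simp
    · rw [mul_one]
  · rw [if_neg h1, Pi.mulSingle_eq_of_ne h1]
    by_cases h2 : (j : ℕ) = i + 1
    · have h3 : 0 < (j : ℕ) := by omega
      rw [dif_pos h3, if_pos h2]
      have key : ∀ k : Fin n, k = i → (((Pi.mulSingle (M := fun i => (KF K0 i)ˣ) i u k)⁻¹ : (KF K0 k)ˣ) : F) =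
          (((u⁻¹ : (KF K0 i)ˣ) : KF K0 i) : F) := by
        rintro k rfl
        rw [Pi.mulSingle_eq_same]
      have h4 : (⟨(j : ℕ) - 1, by omega⟩ : Fin n) = i := Fin.ext (by simp; omega)
      have h5 := key _ h4
      rw [h5]
      simp
    · rw [if_neg h2]
      split_ifs with h
      · have h4 : (⟨(j : ℕ) - 1, by omega⟩ : Fin n) ≠ i := by
          intro h3
          have := congrArg Fin.val h3
          simp at this
          omega
        rw [Pi.mulSingle_eq_of_ne h4]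
        simp
      · simp

theorem θ_apply (t : ∀ i : Fin n, (KF K0 i)ˣ) (j : Fin n) :
    ((θ L hA t : ↥G0) : V ≃ₗ[F] V) (Fr.b (j, true)) = ev K0 t j • Fr.b (j, true) := by
  classical
  let P : Submonoid (∀ i : Fin n, (KF K0 i)ˣ) :=
    { carrier := {t | ((θ L hA t : ↥G0) : V ≃ₗ[F] V) (Fr.b (j, true)) = ev K0 t j • Fr.b (j, true)}
      one_mem' := by
        change ((θ L hA 1 : ↥G0) : V ≃ₗ[F] V) (Fr.b (j, true)) = ev K0 1 j • Fr.b (j, true)
        rw [map_one, ev_one, one_smul]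
        rfl
      mul_mem' := fun {t u} ht hu => by
        change ((θ L hA t : ↥G0) : V ≃ₗ[F] V) (Fr.b (j, true)) = ev K0 t j • Fr.b (j, true) at ht
        change ((θ L hA u : ↥G0) : V ≃ₗ[F] V) (Fr.b (j, true)) = ev K0 u j • Fr.b (j, true) at hu
        change ((θ L hA (t * u) : ↥G0) : V ≃ₗ[F] V) (Fr.b (j, true)) = ev K0 (t * u) j • Fr.b (j, true)
        rw [map_mul, ev_mul]
        change ((θ L hA t : ↥G0) : V ≃ₗ[F] V) (((θ L hA u : ↥G0) : V ≃ₗ[F] V) (Fr.b (j, true))) = _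
        rw [hu, map_smul, ht, smul_smul, mul_comm] }
  have h1 : t ∈ P := by
    rw [← Finset.univ_prod_mulSingle t]
    refine Submonoid.prod_mem _ fun i _ => ?_
    change ((θ L hA (Pi.mulSingle i (t i)) : ↥G0) : V ≃ₗ[F] V) (Fr.b (j, true)) = _
    rw [θ_mulSingle, ss_coe, map_dg, Sh_dg L i _ j, ev_single]
    rfl
  exact h1

/-- **The torus is injective.** -/
theorem θ_inj {t : ∀ i : Fin n, (KF K0 i)ˣ} (ht : θ L hA t = 1) : t = 1 := by
  have h1 : ∀ j, ev K0 t j = 1 := by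
    intro j
    have h2 := θ_apply L hA t j
    rw [ht] at h2
    have h3 : (1 - ev K0 t j) • Fr.b (j, true) = 0 := by
      rw [sub_smul, ← h2, one_smul]
      exact sub_self _
    have h4 := (smul_eq_zero.1 h3).resolve_right (b_ne_zero (j, true))
    exact (sub_eq_zero.1 h4).symm
  have h2 : ∀ k (hk : k < n), t ⟨k, hk⟩ = 1 := by
    intro k
    induction k with
    | zero =>
      intro hk
      have h3 := h1 ⟨0, hk⟩
      unfold ev at h3
      rw [dif_neg (by simp), mul_one] at h3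
      exact Units.ext (Subtype.ext h3)
    | succ k ih =>
      intro hk
      have h3 := h1 ⟨k + 1, hk⟩
      unfold ev at h3
      rw [dif_pos (Nat.succ_pos k)] at h3
      have h4 := ih (by omega)
      have h5 : t ⟨k + 1 - 1, by omega⟩ = 1 := h4
      rw [h5] at h3
      have h6 : (((t ⟨k + 1, hk⟩ : (KF K0 ⟨k + 1, hk⟩)ˣ) : KF K0 ⟨k + 1, hk⟩) : F) = 1 := by
        simpa using h3
      exact Units.ext (Subtype.ext h6)
  funext j
  exact h2 j j.2

end Grp

/-- **Closedness**: a perfect central 2-extension of `G0` is trivial. -/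
theorem closed [Finite V] [Finite F] {p : ℕ} [Fact p.Prime] [CharP F p] (hp2 : p ≠ 2) {p0 : Fr.Adm}
    (hp0 : p0.c ≠ 0) {G0 : Subgroup (V ≃ₗ[F] V)} (hA : Amb Fr G0)
    (hG : ∀ S : Subgroup ↥G0, (∀ i, (rg Fr (sr i)).subgroupOf G0 ≤ S) → (∀ i, (rg Fr (-sr i)).subgroupOf G0 ≤ S) →
      S = ⊤) {E : Type*} [Group E] [Finite E]
    (hE : commutator E = ⊤) {f : E →* ↥G0} (hs : Function.Surjective f) (hc : f.ker ≤ Subgroup.center E)
    (h2 : IsPGroup 2 f.ker) : Function.Injective f := by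
  have : Finite (CoxeterMatrix.B n).Group := finite_W (CoxeterMatrix.B n).toCoxeterSystem
  have hfin : ∀ i : Fin n, Finite ↥(KF K0 i) := fun i => inferInstance
  have R := rgd_restrict (WittRGD.rgd hA ((Fact.out : p.Prime).odd_of_ne_two hp2) hp0
    (CoxeterMatrix.B n).toCoxeterSystem) G0 (fun x _ => hA.rg_le x) (fun i => nn_mem hA p0 i)
  have hG1 : G1 (CoxeterMatrix.B n).toCoxeterSystem (isCartan n) (fun x => (rg Fr x).subgroupOf G0) = ⊤ := by
    apply hG
    · intro i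
      exact X_le_G1 (X := fun x => (rg Fr x).subgroupOf G0) (isRoot_sr _ _ i)
    · intro i
      exact X_le_G1 (X := fun x => (rg Fr x).subgroupOf G0) (isRoot_sr _ _ i).neg
  obtain ⟨s', θ', -, -, h3, h4⟩ := exists_of_ker hp2 R hG1 (coord L hA) (θ L hA) (θ_mulSingle L hA) hs hc h2 hE
  rw [injective_iff_map_eq_one]
  intro z hz
  obtain ⟨t, rfl, ht⟩ := h4 z hz
  rw [θ_inj L hA ht, map_one]

end Cfsg.Agent.OddHalf.NI.WittCoord
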