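import Mathlib
import Cfsg.Agent.OddHalf.NI.WittCoord
import Cfsg.Agent.OddHalf.NI.Fibre
import Cfsg.Agent.Nodes.WittU
import Cfsg.Agent.LieClassical.HermPerfect

/-!
# `SU_{2m}(q)` has no perfect central 2-extension (node NI, (T'), bb ODD #11823 (6))

* `closed_IU`, `closed_SU` : `E` finite perfect, `f : E ->> SU (2 m) F q` with central kernel a 2-group, `q` odd,
  `m ≥ 2`: `f` is injective;
* `exists_cover` : `N` finite quasisimple, `Z(N)` a 2-group, `N / Z(N) ≃* PSU (2 m) F q`: there is a surjective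
  homomorphism `SU (2 m) F q →* N` with central kernel.
-/

set_option autoImplicit false
set_option linter.unusedSectionVars false

namespace Cfsg.Agent.OddHalf.NI.SUClosed

open Cfsg Cfsg.Agent.LieClassical.HermBasic Cfsg.Agent.LieClassical.HermGen
  Cfsg.Agent.LieClassical.HermSiegel
open Cfsg.Agent.ChevalleyStructure.CoxeterGeom Cfsg.Agent.Tits.Roots Cfsg.Agent.Nodes.TypeC
open Cfsg.Agent.Nodes.Comb Cfsg.Agent.Nodes.Reps Cfsg.Agent.Nodes.WittRoot Cfsg.Agent.Nodes.BNOf
open Cfsg.Agent.Nodes Cfsg.Agent.Nodes.WittRGD Cfsg.Agent.Nodes.RGDLib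
open Cfsg.Agent.TitsThree Cfsg.Agent.TitsThree.Siegel Cfsg.Agent.TitsThree.SiegelGen
  Cfsg.Agent.TitsThree.WittFrame Cfsg.Agent.TitsThree.WBridge Cfsg.Agent.TitsThree.WittWeyl
  Cfsg.Agent.TitsThree.FrameCN Cfsg.Agent.TitsThree.KSideU Cfsg.Agent.TitsThree.KSideUDesc
open Cfsg.Agent.OddHalf.NI.WittCoord

variable {F : Type*} [Field F] [Fintype F] {q N m : ℕ} (hF : Fintype.card F = q ^ 2)

include hF

/-- the subfield `F_q` -/
def F0 : Subfield F where
  carrier := {x | x ^ q = x}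
  zero_mem' := zero_pow_q hF
  one_mem' := one_pow q
  add_mem' := fun {x y} hx hy => by
    change (x + y) ^ q = x + y
    change x ^ q = x at hx
    change y ^ q = y at hy
    rw [add_pow_q hF, hx, hy]
  neg_mem' := fun {x} hx => by
    change (-x) ^ q = -x
    change x ^ q = x at hx
    rw [neg_pow_q hF, hx]
  mul_mem' := fun {x y} hx hy => by
    change (x * y) ^ q = x * y
    change x ^ q = x at hx
    change y ^ q = y at hy
    rw [mul_pow, hx, hy]
  inv_mem' := fun x hx => by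
    change (x⁻¹) ^ q = x⁻¹
    change x ^ q = x at hx
    rw [inv_pow, hx]

theorem mem_F0 {x : F} : x ∈ F0 hF ↔ x ^ q = x := Iff.rfl

/-- the field data of the frame -/
theorem exists_LF (W : WFrame (PU hF N) m) (hW : W.V0 = ⊥) : ∃ δ : F, LF (toFrame W) δ (F0 hF) := by
  obtain ⟨δ, hδ, hδq⟩ := exists_trace_zero_ne hF
  have hδ' : δ ^ q = -δ := eq_neg_of_add_eq_zero_right hδq
  have hok : ∀ c : F, (toFrame W).ok 0 c ↔ c + c ^ q = 0 := by
    intro c
    rw [toFrame_ok, ok_iff, herm_zero_left, neg_zero]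
    exact ⟨fun h => h.2, fun h => ⟨W.V0.zero_mem, h⟩⟩
  refine ⟨δ, hW, hδ, fun c => ?_, fun c => ?_⟩
  · rw [hok, HU_ε, mul_one]
    constructor
    · intro h
      refine ⟨δ⁻¹ * c, ?_, by field_simp⟩
      rw [mem_F0, mul_pow, inv_pow, hδ', eq_neg_of_add_eq_zero_right h, inv_neg, neg_mul_neg]
    · rintro ⟨a, ha, rfl⟩
      rw [mem_F0] at ha
      rw [mul_pow, hδ', ha]; ring
  · rw [hok]
    constructor
    · intro h
      refine ⟨δ * c, ?_, by field_simp⟩
      rw [mem_F0, mul_pow, hδ', eq_neg_of_add_eq_zero_right h, neg_mul_neg]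
    · rintro ⟨a, ha, rfl⟩
      rw [mem_F0] at ha
      rw [mul_pow, inv_pow, hδ', ha, inv_neg]; ring

/-- Generation of `IU` by the simple root elements. -/
theorem eq_top_IU (W : WFrame (PU hF N) m) (hN : 3 ≤ N) (l : Fin m) (K : Subgroup ↥(IU F q N))
    (h1 : ∀ i j : Fin m, i.val + 1 = j.val → ∀ t,
      (⟨_, X_mem hF W (i, true) (j, false) t⟩ : IU F q N) ∈ K ∧
      (⟨_, X_mem hF W (j, true) (i, false) t⟩ : IU F q N) ∈ K)
    (h2 : ∀ p, (⟨_, Z_mem hF W (l, true) p⟩ : IU F q N) ∈ K ∧ (⟨_, Z_mem hF W (l, false) p⟩ : IU F q N) ∈ K) :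
    K = ⊤ := by
  set L : Subgroup ((Fin N → F) ≃ₗ[F] (Fin N → F)) := K.map (IU F q N).subtype with hL
  have hmem : ∀ g : IU F q N, g ∈ K → g.1 ∈ L := fun g hg => ⟨g, hg, rfl⟩
  have hC : W.Contains L := contains_C W l
    (fun i j hij t => ⟨hmem ⟨_, X_mem hF W _ _ t⟩ (h1 i j hij t).1,
      hmem ⟨_, X_mem hF W _ _ t⟩ (h1 i j hij t).2⟩)
    (fun p => ⟨hmem ⟨_, Z_mem hF W _ p⟩ (h2 p).1, hmem ⟨_, Z_mem hF W _ p⟩ (h2 p).2⟩)
    (exists_adm_ne hF W)
  have htop : (L.comap (toLin F q N)) = ⊤ := by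
    refine eq_top_of_sie hF hN _ fun u w c huu huw hok => ?_
    have h3 := hC.all W ((sing_iff hF).2 huu) huu huw hok
    obtain ⟨g, hg⟩ := sie_mem hF huu huw hok
    exact ⟨g, by rw [SetLike.mem_coe, Subgroup.mem_comap, hg]; exact h3, hg⟩
  rw [eq_top_iff]
  intro g _
  have h4 : ofRange F q N g ∈ L.comap (toLin F q N) := by rw [htop]; exact Subgroup.mem_top _
  rw [Subgroup.mem_comap, toLin_ofRange] at h4
  obtain ⟨g', hg', he⟩ := h4
  have : g' = g := Subtype.ext he
  exact this ▸ hg'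

/-- Generation by the root groups. -/
theorem gen_IU (W : WFrame (PU hF N) m) (hN : 3 ≤ N) (hm : 0 < m) (S : Subgroup ↥(IU F q N))
    (h1 : ∀ i, (rg (toFrame W) (sr i)).subgroupOf (IU F q N) ≤ S)
    (h2 : ∀ i, (rg (toFrame W) (-sr i)).subgroupOf (IU F q N) ≤ S) : S = ⊤ := by
  refine eq_top_IU hF W hN ⟨m - 1, by omega⟩ S ?_ ?_
  · intro i j hij t
    have hi : (i : ℕ) + 1 < m := by have := j.2; omega
    have hnx : nx i = (j, false) := by
      unfold nx; rw [dif_pos hi]
      congr 1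
      exact Fin.ext hij
    have hne : ((i, true) : Fin m × Bool).1 ≠ (nx i).1 := by rw [hnx]; simp [Fin.ext_iff]; omega
    refine ⟨h1 i (Subgroup.mem_subgroupOf.2 ?_), h2 i (Subgroup.mem_subgroupOf.2 ?_)⟩
    · rw [rg_sr, PG_ne _ hne, hnx]; exact ⟨t, rfl⟩
    · rw [rg_neg_sr, PG_ne _ (a := ng (i, true)) (b := ng (nx i)) hne,
        XG_swap _ (a := ng (i, true)) (b := ng (nx i)) hne, hnx]
      exact ⟨t, rfl⟩
  · intro p
    have hnx : nx (⟨m - 1, by omega⟩ : Fin m) = (⟨m - 1, by omega⟩, true) := by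
      unfold nx; rw [dif_neg (by simp; omega)]
    refine ⟨h1 ⟨m - 1, by omega⟩ (Subgroup.mem_subgroupOf.2 ?_), h2 ⟨m - 1, by omega⟩ (Subgroup.mem_subgroupOf.2 ?_)⟩
    · rw [rg_sr, hnx, PG_self]; exact ⟨p, rfl⟩
    · rw [rg_neg_sr, hnx, PG_self]; exact ⟨p, rfl⟩

/-- **`SU_{2m}(q)` (as a group of linear maps) has no perfect central 2-extension.** -/
theorem closed_IU (hq : Odd q) (hm : 2 ≤ m) (hN : N = 2 * m) {E : Type*} [Group E] [Finite E]
    (hE : commutator E = ⊤) {f : E →* ↥(IU F q N)} (hs : Function.Surjective f)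
    (hc : f.ker ≤ Subgroup.center E) (h2 : IsPGroup 2 f.ker) : Function.Injective f := by
  obtain ⟨p, hp⟩ := CharP.exists F
  have hpp : Fact p.Prime := ⟨CharP.char_is_prime F p⟩
  obtain ⟨W, hW⟩ := exists_wframe_even hF hN
  obtain ⟨δ, L⟩ := exists_LF hF W hW
  obtain ⟨p0, hp0, -⟩ := WittU.exists_adm hF W
  have hp2 : p ≠ 2 := by
    rintro rfl
    have h3 := FiniteField.even_card_iff_char_two.1 (ringChar.eq F 2)
    rw [hF] at h3
    have h4 : Odd (q ^ 2) := hq.pow
    rw [Nat.odd_iff] at h4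
    omega
  exact closed L hp2 hp0 (WittU.amb_U hF W) (fun S => gen_IU hF W (by omega) (by omega) S) hE hs hc h2

/-- **`SU_{2m}(q)` has no perfect central 2-extension.** -/
theorem closed_SU (hq : Odd q) (hm : 2 ≤ m) {E : Type*} [Group E] [Finite E] (hE : commutator E = ⊤)
    {f : E →* SU (2 * m) F q} (hs : Function.Surjective f) (hc : f.ker ≤ Subgroup.center E)
    (h2 : IsPGroup 2 f.ker) : Function.Injective f := by
  let e := (ofRange F q (2 * m)).symm
  have hker : (e.toMonoidHom.comp f).ker = f.ker := by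
    ext x
    rw [MonoidHom.mem_ker, MonoidHom.mem_ker]
    exact map_eq_one_iff e e.injective
  have h3 : Function.Injective (e.toMonoidHom.comp f) :=
    closed_IU hF hq hm rfl hE (e.surjective.comp hs) (by rw [hker]; exact hc) (by rw [hker]; exact h2)
  intro x y hxy
  apply h3
  rw [MonoidHom.comp_apply, MonoidHom.comp_apply, hxy]

omit hF in
/-- **Covers from closedness.** `f : N ->> X`, `g : L ->> X` with central kernels, `N`, `L` perfect, `ker f` a 2-group
and `L` without perfect central 2-extensions: `g` factors over `N`. -/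
theorem exists_hom_of_closed {N L X : Type*} [Group N] [Group L] [Group X] {f : N →* X} {g : L →* X}
    (hf : Function.Surjective f) (hg : Function.Surjective g) (kf : f.ker ≤ Subgroup.center N)
    (kg : g.ker ≤ Subgroup.center L) (hN : commutator N = ⊤) (hL : commutator L = ⊤) (pf : IsPGroup 2 f.ker)
    (hcl : commutator (Fibre.M f g) = ⊤ → Function.Surjective (Fibre.toL f g) →
      (Fibre.toL f g).ker ≤ Subgroup.center (Fibre.M f g) → IsPGroup 2 (Fibre.toL f g).ker →
      Function.Injective (Fibre.toL f g)) :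
    ∃ φ : L →* N, Function.Surjective φ ∧ φ.ker ≤ Subgroup.center L ∧ ∀ l, f (φ l) = g l := by
  have h1 := Fibre.perfect hf hg kf kg hN
  have h2 := Fibre.toL_surjective (f := f) (g := g) hf hL
  have h3 := Fibre.ker_toL (f := f) (g := g) kf kg
  have h4 : IsPGroup 2 (Fibre.toL f g).ker := by
    rintro ⟨m, hm⟩
    have e1 : Fibre.toL f g m = 1 := hm
    have e2 : f (Fibre.toN f g m) = 1 := by rw [Fibre.comm, e1, map_one]
    obtain ⟨k, hk⟩ := pf ⟨Fibre.toN f g m, e2⟩
    have hk' : Fibre.toN f g m ^ 2 ^ k = 1 := congrArg Subtype.val hk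
    refine ⟨k, Subtype.ext (Subtype.ext (Prod.ext ?_ ?_))⟩
    · exact hk'
    · change Fibre.toL f g m ^ 2 ^ k = 1
      rw [e1, one_pow]
  have h5 := hcl h1 h2 h3 h4
  let e : Fibre.M f g ≃* L := MulEquiv.ofBijective (Fibre.toL f g) ⟨h5, h2⟩
  refine ⟨(Fibre.toN f g).comp e.symm.toMonoidHom, ?_, ?_, ?_⟩
  · exact (Fibre.toN_surjective (f := f) (g := g) hg hN).comp e.symm.surjective
  · intro l hl
    have e1 : Fibre.toN f g (e.symm l) = 1 := hl
    have e2 : e.symm l ∈ Subgroup.center (Fibre.M f g) := Fibre.ker_toN (f := f) (g := g) kf kg e1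
    rw [Subgroup.mem_center_iff] at e2 ⊢
    intro k
    have e3 := congrArg e (e2 (e.symm k))
    rw [map_mul, map_mul, e.apply_symm_apply, e.apply_symm_apply] at e3
    exact e3
  · intro l
    change f (Fibre.toN f g (e.symm l)) = g l
    rw [Fibre.comm]
    exact congrArg g (e.apply_symm_apply l)

/-- **The covers of `PSU_{2m}(q)`**: a finite perfect central extension `N` of `PSU (2 m) F q` by a 2-group is a
quotient of `SU (2 m) F q`. -/
theorem exists_cover (hq : Odd q) (hm : 2 ≤ m) {N : Type*} [Group N] [Finite N] (hN : commutator N = ⊤)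
    {f : N →* PSU (2 * m) F q} (hf : Function.Surjective f) (kf : f.ker ≤ Subgroup.center N)
    (pf : IsPGroup 2 f.ker) :
    ∃ φ : SU (2 * m) F q →* N, Function.Surjective φ ∧ φ.ker ≤ Subgroup.center (SU (2 * m) F q) ∧
      ∀ l, f (φ l) = QuotientGroup.mk' (Subgroup.center (SU (2 * m) F q)) l := by
  have hL : commutator (SU (2 * m) F q) = ⊤ :=
    Cfsg.Agent.LieClassical.HermPerfect.commutator_SU_eq_top hF (by omega) (by omega)
  exact exists_hom_of_closed (g := QuotientGroup.mk' (Subgroup.center (SU (2 * m) F q))) hf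
    (QuotientGroup.mk'_surjective _) kf (by rw [QuotientGroup.ker_mk']) hN hL pf
    (fun h1 h2 h3 h4 => closed_SU hF hq hm h1 h2 h3 h4)

/-- The same for quasisimple groups. -/
theorem exists_cover' (hq : Odd q) (hm : 2 ≤ m) {N : Type*} [Group N] [Finite N] (hN : IsQuasisimple N)
    (hZ : IsPGroup 2 ↥(Subgroup.center N)) (e : N ⧸ Subgroup.center N ≃* PSU (2 * m) F q) :
    ∃ φ : SU (2 * m) F q →* N, Function.Surjective φ ∧ φ.ker ≤ Subgroup.center (SU (2 * m) F q) := by
  have hker : (e.toMonoidHom.comp (QuotientGroup.mk' (Subgroup.center N))).ker = Subgroup.center N := by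
    ext x
    rw [MonoidHom.mem_ker]
    constructor
    · intro h
      exact (QuotientGroup.eq_one_iff x).1 ((map_eq_one_iff e e.injective).1 h)
    · intro h
      exact (map_eq_one_iff e e.injective).2 ((QuotientGroup.eq_one_iff x).2 h)
  obtain ⟨φ, h1, h2, -⟩ := exists_cover hF hq hm hN.1.1
    (f := e.toMonoidHom.comp (QuotientGroup.mk' (Subgroup.center N)))
    (e.surjective.comp (QuotientGroup.mk'_surjective _)) (by rw [hker]) (by rw [hker]; exact hZ)
  exact ⟨φ, h1, h2⟩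

end Cfsg.Agent.OddHalf.NI.SUClosed
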