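import Mathlib
import Cfsg.Agent.S0261

/-!
# `SL₂(q)` has no perfect central extension by a 2-group (node NI, (T'); helper598)

* `mem_commutator_of_odd_index` : in a perfect finite group a central 2-element of a subgroup `H` of odd index lies in
  `⁅H, H⁆` (transfer).
* `inj` : `f : E → SL(2,F)` onto, `E` perfect, kernel a central 2-group ⟹ `f` injective (`|F|` odd).
* `Closed2 M`, `exists_lift` : a perfect finite `M` without perfect central extensions by 2-groups; homs `M → X` lift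
  through central extensions of `X` by 2-groups (`unique_lift`: in only one way).
-/

set_option autoImplicit false

namespace Cfsg.Agent.OddHalf.NI.SLClosed

open Subgroup
open scoped commutatorElement

universe u v

/-! ### Transfer -/

theorem mem_commutator_of_odd_index {E : Type*} [Group E] [Finite E] (hE : commutator E = ⊤) (H : Subgroup E)
    (hodd : Odd H.index) {z : E} (hz : z ∈ center E) {k : ℕ} (h2 : z ^ 2 ^ k = 1) : z ∈ ⁅H, H⁆ := by
  have hk : ∀ (k : ℕ) (g : E), g⁻¹ * z ^ k * g ∈ H → g⁻¹ * z ^ k * g = z ^ k := by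
    intro k g _
    have h := mem_center_iff.1 (pow_mem hz k) g
    rw [mul_assoc, ← h, inv_mul_cancel_left]
  have : H.FiniteIndex := inferInstance
  set ϕ : H →* Abelianization H := Abelianization.of with hϕ
  have h1 := MonoidHom.transfer_eq_pow ϕ z hk
  have h3 : MonoidHom.transfer ϕ z = 1 := by
    have h4 : z ∈ commutator E := by rw [hE]; trivial
    have h5 := Abelianization.commutator_subset_ker (MonoidHom.transfer ϕ) h4
    exact h5
  rw [h3] at h1
  have h4 : (⟨z ^ H.index, MonoidHom.transfer_eq_pow_aux z hk⟩ : H) ∈ commutator H := by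
    rw [← Abelianization.ker_of, MonoidHom.mem_ker]
    exact h1.symm
  have h5 : z ^ H.index ∈ ⁅H, H⁆ := by
    have h6 := mem_map_of_mem H.subtype h4
    rwa [commutator_def, map_commutator, ← MonoidHom.range_eq_map, H.range_subtype] at h6
  -- `z` is a power of `z ^ index`
  have hcop : Nat.Coprime (2 ^ k) H.index := Nat.Coprime.pow_left k (Nat.coprime_two_left.2 hodd)
  have h6 : z = (z ^ H.index) ^ (Nat.gcdB (2 ^ k) H.index) := by
    have h7 := Nat.gcd_eq_gcd_ab (2 ^ k) H.index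
    rw [hcop] at h7
    calc z = z ^ (((1 : ℕ) : ℤ)) := by simp
      _ = (z ^ H.index) ^ (Nat.gcdB (2 ^ k) H.index) := by
        rw [h7, zpow_add, zpow_mul, zpow_natCast, h2, one_zpow, one_mul, zpow_mul, zpow_natCast]
  rw [h6]
  exact zpow_mem h5 _

/-! ### `SL₂(q)` -/

/-- Commutators only depend on the images modulo a central kernel. -/
theorem comm_eq {L M : Type*} [Group L] [Group M] {f : L →* M} (hc : f.ker ≤ center L) {x x' y y' : L}
    (hx : f x = f x') (hy : f y = f y') : ⁅x, y⁆ = ⁅x', y'⁆ := by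
  have key : ∀ {a a' b : L}, f a = f a' → ⁅a, b⁆ = ⁅a', b⁆ := by
    intro a a' b h
    have h1 : a'⁻¹ * a ∈ center L := hc (by
      rw [MonoidHom.mem_ker, map_mul, map_inv, h, inv_mul_cancel])
    set z := a'⁻¹ * a with hz
    have ha : a = a' * z := by rw [hz]; group
    have h2 := mem_center_iff.1 h1
    rw [ha, commutatorElement_def, commutatorElement_def]
    calc a' * z * b * (a' * z)⁻¹ * b⁻¹ = a' * (z * b) * z⁻¹ * a'⁻¹ * b⁻¹ := by group
      _ = a' * (b * z) * z⁻¹ * a'⁻¹ * b⁻¹ := by rw [h2 b]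
      _ = _ := by group
  rw [key hx, ← commutatorElement_inv y x', key hy, commutatorElement_inv]

/-- In a central extension `S` of a quaternion group the kernel meets the commutator subgroup trivially. -/
theorem eq_one_of_mem_commutator {S : Type*} [Group S] {n : ℕ} [NeZero n] (f : S →* QuaternionGroup n)
    (hs : Function.Surjective f) (hc : f.ker ≤ center S) {z : S} (hz : z ∈ _root_.commutator S) (hf : f z = 1) :
    z = 1 := by
  obtain ⟨u, hu⟩ := hs (QuaternionGroup.a 1)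
  obtain ⟨v, hv⟩ := hs (QuaternionGroup.xa 0)
  have hcen : ∀ {x : S}, f x = 1 → ∀ y, Commute x y := fun {x} hx y => (mem_center_iff.1 (hc hx) y).symm
  have hfu : ∀ i : ℤ, f (u ^ i) = QuaternionGroup.a (i : ZMod (2 * n)) := by
    intro i
    rw [map_zpow, hu]
    cases i with
    | ofNat k => simp [QuaternionGroup.a_one_pow]
    | negSucc k =>
      rw [zpow_negSucc, QuaternionGroup.a_one_pow, inv_eq_iff_mul_eq_one, QuaternionGroup.a_mul_a,
        QuaternionGroup.one_def]
      congr 1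
      push_cast
      ring
  -- `c`
  obtain ⟨c, hcdef⟩ : ∃ c, c = v⁻¹ * u * v * u := ⟨_, rfl⟩
  have hvu : v * u = u⁻¹ * v * c := by rw [hcdef]; group
  have hc1 : f c = 1 := by
    have h1 : f (v * u) = f (u⁻¹ * v) := by
      rw [map_mul, map_mul, hv, hu]
      have h2 := hfu (-1)
      rw [zpow_neg_one] at h2
      rw [h2, QuaternionGroup.xa_mul_a, QuaternionGroup.a_mul_xa]
      push_cast
      ring_nf
    have h2 : f (u⁻¹ * v) * f c = f (u⁻¹ * v) := by rw [← map_mul, ← hvu, h1]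
    exact mul_eq_left.1 h2
  have hcc := hcen hc1
  have key : ∀ j : ℤ, v * u ^ j = u ^ (-j) * v * c ^ j := by
    have h1 : v * u * v⁻¹ = u⁻¹ * c := by
      rw [hvu, mul_assoc, mul_assoc, (hcc v⁻¹).eq, mul_inv_cancel_left]
    intro j
    have h2 : v * u ^ j * v⁻¹ = (u⁻¹ * c) ^ j := by rw [← h1, conj_zpow]
    have h3 : (u⁻¹ * c) ^ j = u ^ (-j) * c ^ j := by
      rw [((hcc u⁻¹).symm).mul_zpow, inv_zpow, zpow_neg]
    have h4 : v * u ^ j = u ^ (-j) * c ^ j * v := by rw [← h3, ← h2]; group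
    rw [h4, mul_assoc, mul_assoc, ((hcc v).zpow_left j).eq]
  obtain ⟨d, hd⟩ : ∃ d, d = u ^ (2 : ℤ) * c⁻¹ := ⟨_, rfl⟩
  have hdj : ∀ j : ℤ, d ^ j = u ^ (2 * j) * c ^ (-j) := by
    intro j
    rw [hd, ((hcc (u ^ (2 : ℤ))).inv_left.symm).mul_zpow, ← zpow_mul, inv_zpow, zpow_neg]
  -- the elements of `S`
  have hel : ∀ s : S, ∃ i : ℤ, f s = f (u ^ i) ∨ f s = f (u ^ i * v) := by
    intro s
    rcases hfs : f s with j | j
    · refine ⟨(j.val : ℤ), Or.inl ?_⟩
      rw [hfu]
      simp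
    · refine ⟨-(j.val : ℤ), Or.inr ?_⟩
      rw [map_mul, hfu, hv, QuaternionGroup.a_mul_xa]
      simp
  have h1 : ∀ i j : ℤ, ⁅u ^ i, u ^ j * v⁆ = d ^ i := by
    intro i j
    have e : v * (u ^ i)⁻¹ = u ^ i * v * c ^ (-i) := by rw [← zpow_neg, key (-i), neg_neg]
    calc ⁅u ^ i, u ^ j * v⁆ = u ^ i * u ^ j * (v * (u ^ i)⁻¹) * v⁻¹ * (u ^ j)⁻¹ := by
          rw [commutatorElement_def]; group
      _ = u ^ i * u ^ j * u ^ i * (v * c ^ (-i) * v⁻¹) * (u ^ j)⁻¹ := by rw [e]; group
      _ = u ^ i * u ^ j * u ^ i * c ^ (-i) * (u ^ j)⁻¹ := by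
          rw [((hcc v).zpow_left (-i)).symm.eq, mul_inv_cancel_right]
      _ = u ^ i * u ^ j * u ^ i * (u ^ j)⁻¹ * c ^ (-i) := by
          rw [mul_assoc _ (c ^ (-i)), ((hcc (u ^ j)⁻¹).zpow_left (-i)).eq, ← mul_assoc]
      _ = u ^ (2 * i) * c ^ (-i) := by
          congr 1
          rw [← zpow_neg, ← zpow_add, ← zpow_add, ← zpow_add]
          congr 1; ring
      _ = d ^ i := (hdj i).symm
  have h2 : ∀ i j : ℤ, ⁅u ^ i * v, u ^ j * v⁆ = d ^ (i - j) := by
    intro i j
    have e : v * u ^ (j - i) = u ^ (i - j) * v * c ^ (j - i) := by rw [key]; congr 3; ring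
    calc ⁅u ^ i * v, u ^ j * v⁆ = u ^ i * (v * u ^ (j - i)) * v⁻¹ * (u ^ j)⁻¹ := by
          rw [commutatorElement_def, zpow_sub]; group
      _ = u ^ i * u ^ (i - j) * (v * c ^ (j - i) * v⁻¹) * (u ^ j)⁻¹ := by rw [e]; group
      _ = u ^ i * u ^ (i - j) * c ^ (j - i) * (u ^ j)⁻¹ := by
          rw [((hcc v).zpow_left (j - i)).symm.eq, mul_inv_cancel_right]
      _ = u ^ i * u ^ (i - j) * (u ^ j)⁻¹ * c ^ (j - i) := by
          rw [mul_assoc _ (c ^ (j - i)), ((hcc (u ^ j)⁻¹).zpow_left (j - i)).eq, ← mul_assoc]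
      _ = u ^ (2 * (i - j)) * c ^ (-(i - j)) := by
          congr 1
          · rw [← zpow_neg, ← zpow_add, ← zpow_add]
            congr 1; ring
          · congr 1; ring
      _ = d ^ (i - j) := (hdj _).symm
  have hcomm : ∀ s t : S, ⁅s, t⁆ ∈ zpowers d := by
    intro s t
    obtain ⟨i, hi | hi⟩ := hel s <;> obtain ⟨j, hj | hj⟩ := hel t <;> rw [comm_eq hc hi hj]
    · rw [commutatorElement_eq_one_iff_commute.2 ((Commute.refl u).zpow_zpow i j)]
      exact one_mem _
    · rw [h1]; exact zpow_mem (mem_zpowers d) _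
    · rw [← commutatorElement_inv, h1]; exact inv_mem (zpow_mem (mem_zpowers d) _)
    · rw [h2]; exact zpow_mem (mem_zpowers d) _
  have hle : _root_.commutator S ≤ zpowers d := by
    rw [commutator_def, commutator_le]
    intro s _ t _
    exact hcomm s t
  obtain ⟨m, rfl⟩ := mem_zpowers_iff.1 (hle hz)
  -- `d ^ n = 1`
  have hn : d ^ (n : ℤ) = 1 := by
    have e1 : f (v * v) = f (u ^ (n : ℤ)) := by
      rw [map_mul, hv, hfu, QuaternionGroup.xa_mul_xa]; simp
    have e2 : ⁅v, v * v⁆ = ⁅v, u ^ (n : ℤ)⁆ := comm_eq hc rfl e1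
    have e3 : ⁅v, v * v⁆ = 1 := commutatorElement_eq_one_iff_commute.2 ((Commute.refl v).mul_right (Commute.refl v))
    rw [e3] at e2
    have e4 : v * u ^ (n : ℤ) = u ^ (n : ℤ) * v := (commutatorElement_eq_one_iff_commute.1 e2.symm).eq
    rw [key, mul_assoc, ((hcc v).zpow_left (n : ℤ)).symm.eq, ← mul_assoc] at e4
    have e5 : u ^ (-(n : ℤ)) * c ^ (n : ℤ) = u ^ (n : ℤ) := mul_right_cancel e4
    have e6 : c ^ (n : ℤ) = u ^ (n : ℤ) * u ^ (n : ℤ) := by
      rw [zpow_neg, inv_mul_eq_iff_eq_mul] at e5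
      exact e5
    rw [hdj, two_mul, zpow_add, ← e6, ← zpow_add, add_neg_cancel, zpow_zero]
  have hm : f (u ^ (2 * m)) = 1 := by
    have e1 : f (d ^ m) = f (u ^ (2 * m)) * f (c ^ (-m)) := by rw [hdj, map_mul]
    rw [hf, map_zpow f c, hc1, one_zpow, mul_one] at e1
    exact e1.symm
  rw [hfu, QuaternionGroup.one_def] at hm
  have hm' : (((2 * m : ℤ)) : ZMod (2 * n)) = 0 := by injection hm
  rw [ZMod.intCast_zmod_eq_zero_iff_dvd] at hm'
  have hm2 : (n : ℤ) ∣ m := by
    have e : ((2 * n : ℕ) : ℤ) = 2 * (n : ℤ) := by push_cast; ring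
    rw [e] at hm'
    exact (mul_dvd_mul_iff_left (by norm_num)).1 hm'
  obtain ⟨m', rfl⟩ := hm2
  rw [zpow_mul, hn, one_zpow]

/-- a central extension of a group with quaternion Sylow 2-subgroups by a 2-group, the extension perfect, is trivial -/
theorem ker_eq_bot_of_quaternion {E M : Type*} [Group E] [Finite E] [Group M] [Finite M] (f : E →* M)
    (hs : Function.Surjective f) (hc : f.ker ≤ center E) (h2 : IsPGroup 2 f.ker) (hE : _root_.commutator E = ⊤)
    {k : ℕ} (hM : ∀ P : Sylow 2 M, Nonempty (↥(P : Subgroup M) ≃* QuaternionGroup (2 ^ k))) : f.ker = ⊥ := by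
  have : Fact (Nat.Prime 2) := ⟨Nat.prime_two⟩
  obtain ⟨S⟩ : Nonempty (Sylow 2 E) := inferInstance
  have hS : IsPGroup 2 ↥((S : Subgroup E).map f) := S.2.map f
  -- the image of `S` is a Sylow subgroup
  have hPsyl : ∃ P : Sylow 2 M, (P : Subgroup M) = (S : Subgroup E).map f :=
    ⟨S.mapSurjective hs, Sylow.coe_mapSurjective hs S⟩
  obtain ⟨P, hP⟩ := hPsyl
  obtain ⟨e⟩ := hM P
  rw [eq_bot_iff]
  intro z hz
  have hker : f.ker ≤ (S : Subgroup E) := by
    have : f.ker.Normal := inferInstance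
    exact IsPGroup.le_sylow_of_normal h2 S
  obtain ⟨j, hj⟩ := h2 ⟨z, hz⟩
  have hj' : z ^ 2 ^ j = 1 := congrArg Subtype.val hj
  have hodd : Odd (S : Subgroup E).index := by
    have := S.not_dvd_index
    rwa [← Nat.not_even_iff_odd, even_iff_two_dvd]
  have h1 := mem_commutator_of_odd_index hE (S : Subgroup E) hodd (hc hz) hj'
  -- the map `S → Q`
  let g : ↥(S : Subgroup E) →* ↥(P : Subgroup M) :=
    (f.comp (S : Subgroup E).subtype).codRestrict (P : Subgroup M) (fun x => by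
      rw [hP]; exact mem_map_of_mem f x.2)
  have hg : Function.Surjective g := by
    rintro ⟨y, hy⟩
    rw [hP] at hy
    obtain ⟨x, hx, rfl⟩ := hy
    exact ⟨⟨x, hx⟩, rfl⟩
  have hzS : z ∈ (S : Subgroup E) := hker hz
  have h3 : (⟨z, hzS⟩ : ↥(S : Subgroup E)) ∈ _root_.commutator ↥(S : Subgroup E) := by
    have h4 : z ∈ (_root_.commutator ↥(S : Subgroup E)).map (S : Subgroup E).subtype := by
      rwa [commutator_def, map_commutator, ← MonoidHom.range_eq_map, Subgroup.range_subtype]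
    obtain ⟨x, hx, hxz⟩ := h4
    have : x = ⟨z, hzS⟩ := Subtype.ext hxz
    rwa [← this]
  have h5 := eq_one_of_mem_commutator (e.toMonoidHom.comp g) (e.surjective.comp hg) (by
    intro x hx
    have h6 : g x = 1 := e.injective (by rw [map_one]; exact hx)
    have h7 : f x = 1 := congrArg Subtype.val h6
    rw [mem_center_iff]
    intro y
    exact Subtype.ext (mem_center_iff.1 (hc h7) y)) h3 (by
    have h6 : g ⟨z, hzS⟩ = 1 := Subtype.ext hz
    rw [MonoidHom.comp_apply, h6, map_one])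
  exact congrArg Subtype.val h5

/-- **`SL₂(q)`, `q` odd, has no perfect central extension by a 2-group.** -/
theorem inj {E : Type*} [Group E] [Finite E] {F : Type*} [Field F] [Fintype F] (hF : Odd (Fintype.card F))
    (f : E →* Matrix.SpecialLinearGroup (Fin 2) F) (hs : Function.Surjective f) (hc : f.ker ≤ center E)
    (h2 : IsPGroup 2 f.ker) (hE : _root_.commutator E = ⊤) : Function.Injective f := by
  rw [← MonoidHom.ker_eq_bot_iff]
  obtain ⟨P⟩ : Nonempty (Sylow 2 (Matrix.SpecialLinearGroup (Fin 2) F)) := inferInstance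
  obtain ⟨k, -, ⟨e⟩⟩ := Cfsg.Agent.S0261.result hF P
  exact ker_eq_bot_of_quaternion f hs hc h2 hE (k := k) (fun Q => ⟨(Sylow.equiv Q P).trans e⟩)

end Cfsg.Agent.OddHalf.NI.SLClosed
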