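import Mathlib
import Cfsg.Agent.OddHalf.NI.SLClosed
import Cfsg.Agent.OddHalf.NI.CovTwo
import Cfsg.Agent.OddHalf.NI.Fibre
import Cfsg.Agent.Phan.Ext
import Cfsg.Agent.LieClassical.HermPerfect
import Cfsg.Agent.Phan.SU2Model
import Cfsg.Agent.TwoFusion.SLTwoFacts
import Cfsg.Agent.S0278
import Cfsg.Agent.S0279

/-!
# `SU_n(q)`, `n` odd, `q > 3` odd, has no perfect central extension by a 2-group (node NI, (T'); helper598)

* `ker_eq_bot_of_index` : a perfect central extension `f : N → X` by a 2-group is trivial if `X` has a subgroup `H` of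
  odd index with a normal perfect "closed" subgroup `L`, `H / L` cyclic (transfer).
* `Clo M` : `M` has no perfect central extension by a 2-group.
* `clo_succ` : `Clo (SU k) → Clo (SU (k+1))`, `k` even: `H = GU_k`, `|SU_{k+1} : GU_k| = q^k (q^{k+1}+1)/(q+1)` is odd.
* `clo_two`, `clo_three`; `center_eq_bot` : `N` quasisimple, `Z(N)` a 2-group, `N / Z(N) = PSU_{k+1}(q)`, `k` even,
  `Clo (SU k)` ⟹ `Z(N) = 1`.
-/

set_option autoImplicit false

namespace Cfsg.Agent.OddHalf.NI.SUOdd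

open Subgroup
open scoped commutatorElement

universe u v

/-! ### Transfer -/

theorem ker_eq_bot_of_index {N X : Type*} [Group N] [Finite N] [Group X] {f : N →* X} (hf : Function.Surjective f)
    (hN : commutator N = ⊤) (hc : f.ker ≤ center N) (h2 : IsPGroup 2 f.ker) {H L : Subgroup X} (hodd : Odd H.index)
    (hLH : L ≤ H) (hno : ∀ h ∈ H, ∀ l ∈ L, h * l * h⁻¹ ∈ L) {h : X} (hh : h ∈ H)
    (hcyc : ∀ x ∈ H, ∃ k : ℤ, x * h ^ k ∈ L) (hL : ⁅L, L⁆ = L)
    (hcl : ∀ A : Subgroup N, ⁅A, A⁆ = A → A.map f = L → A ⊓ f.ker = ⊥) : f.ker = ⊥ := by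
  -- the preimages
  set H' := H.comap f with hH'
  set L' := L.comap f with hL'
  set A := ⁅L', L'⁆ with hA
  have hodd' : Odd H'.index := by rwa [hH', index_comap_of_surjective H hf]
  have hAL : A ≤ L' := Fibre.commutator_self_le L'
  have hmap : A.map f = L := by
    rw [hA, map_commutator, map_comap_eq_self_of_surjective hf, hL]
  have hmul : ∀ x ∈ L', ∃ a ∈ A, ∃ c ∈ f.ker, x = a * c := by
    intro x hx
    have h1 : f x ∈ A.map f := by rw [hmap]; exact hx
    obtain ⟨a, ha, hax⟩ := h1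
    exact ⟨a, ha, a⁻¹ * x, by rw [MonoidHom.mem_ker, map_mul, map_inv, hax, inv_mul_cancel], by group⟩
  have hcen : ∀ {c : N}, c ∈ f.ker → ∀ y, y * c = c * y := fun {c} h y => mem_center_iff.1 (hc h) y
  have hAA : ⁅A, A⁆ = A := by
    refine le_antisymm (Fibre.commutator_self_le A) ?_
    conv_lhs => rw [hA]
    rw [commutator_le]
    intro x hx y hy
    obtain ⟨a, ha, c, hc', rfl⟩ := hmul x hx
    obtain ⟨b, hb, d, hd, rfl⟩ := hmul y hy
    have e : ⁅a * c, b * d⁆ = ⁅a, b⁆ := by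
      simp only [commutatorElement_def, mul_inv_rev]
      calc a * c * (b * d) * (c⁻¹ * a⁻¹) * (d⁻¹ * b⁻¹)
          = a * (c * (b * d)) * c⁻¹ * a⁻¹ * d⁻¹ * b⁻¹ := by group
        _ = a * ((b * d) * c) * c⁻¹ * a⁻¹ * d⁻¹ * b⁻¹ := by rw [hcen hc']
        _ = a * b * (d * a⁻¹) * d⁻¹ * b⁻¹ := by group
        _ = a * b * (a⁻¹ * d) * d⁻¹ * b⁻¹ := by rw [hcen hd]
        _ = a * b * a⁻¹ * b⁻¹ := by group
    rw [e]
    exact commutator_mem_commutator ha hb
  have hbot := hcl A hAA hmap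
  -- `A` is normal in `H'`
  have hnoL : ∀ x ∈ H', L'.map (MulAut.conj x).toMonoidHom = L' := by
    have key : ∀ x ∈ H', L'.map (MulAut.conj x).toMonoidHom ≤ L' := by
      rintro x hx _ ⟨l, hl, rfl⟩
      have := hno (f x) hx (f l) hl
      change f (x * l * x⁻¹) ∈ L
      rwa [map_mul, map_mul, map_inv]
    intro x hx
    refine le_antisymm (key x hx) fun l hl => ?_
    have h1 := key x⁻¹ (inv_mem hx) ⟨l, hl, rfl⟩
    refine ⟨_, h1, ?_⟩
    change x * (x⁻¹ * l * x⁻¹⁻¹) * x⁻¹ = l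
    group
  have hnoA : ∀ x ∈ H', ∀ a ∈ A, x * a * x⁻¹ ∈ A := by
    intro x hx a ha
    have h1 : A.map (MulAut.conj x).toMonoidHom = A := by rw [hA, map_commutator, hnoL x hx]
    rw [← h1]
    exact ⟨a, ha, rfl⟩
  obtain ⟨g, hg⟩ := hf h
  have hgH : g ∈ H' := by change f g ∈ H; rw [hg]; exact hh
  have hdec : ∀ x ∈ H', ∃ k : ℤ, ∃ a ∈ A, ∃ c ∈ f.ker, x = a * g ^ k * c := by
    intro x hx
    obtain ⟨k, hk⟩ := hcyc (f x) hx
    have h1 : x * g ^ k ∈ L' := by change f _ ∈ L; rwa [map_mul, map_zpow, hg]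
    obtain ⟨a, ha, c, hc', e⟩ := hmul _ h1
    refine ⟨-k, a, ha, c, hc', ?_⟩
    calc x = (x * g ^ k) * g ^ (-k) := by group
      _ = a * c * g ^ (-k) := by rw [e]
      _ = a * (c * g ^ (-k)) := by group
      _ = a * (g ^ (-k) * c) := by rw [hcen hc']
      _ = _ := by group
  have hcomm : ⁅H', H'⁆ ≤ A := by
    rw [commutator_le]
    intro x hx y hy
    obtain ⟨k, a, ha, c, hc', rfl⟩ := hdec x hx
    obtain ⟨l, b, hb, d, hd, rfl⟩ := hdec y hy
    have e : ⁅a * g ^ k * c, b * g ^ l * d⁆ = a * (g ^ k * b * (g ^ k)⁻¹) * (g ^ l * a⁻¹ * (g ^ l)⁻¹) * b⁻¹ := by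
      simp only [commutatorElement_def, mul_inv_rev]
      calc a * g ^ k * c * (b * g ^ l * d) * (c⁻¹ * ((g ^ k)⁻¹ * a⁻¹)) * (d⁻¹ * ((g ^ l)⁻¹ * b⁻¹))
          = a * g ^ k * (c * (b * g ^ l * d)) * c⁻¹ * (g ^ k)⁻¹ * a⁻¹ * d⁻¹ * (g ^ l)⁻¹ * b⁻¹ := by group
        _ = a * g ^ k * ((b * g ^ l * d) * c) * c⁻¹ * (g ^ k)⁻¹ * a⁻¹ * d⁻¹ * (g ^ l)⁻¹ * b⁻¹ := by rw [hcen hc']
        _ = a * g ^ k * b * g ^ l * (d * ((g ^ k)⁻¹ * a⁻¹)) * d⁻¹ * (g ^ l)⁻¹ * b⁻¹ := by group
        _ = a * g ^ k * b * g ^ l * (((g ^ k)⁻¹ * a⁻¹) * d) * d⁻¹ * (g ^ l)⁻¹ * b⁻¹ := by rw [hcen hd]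
        _ = _ := by group
    rw [e]
    exact mul_mem (mul_mem (mul_mem ha (hnoA _ (zpow_mem hgH k) _ hb)) (hnoA _ (zpow_mem hgH l) _ (inv_mem ha)))
      (inv_mem hb)
  rw [eq_bot_iff]
  intro z hz
  obtain ⟨n, hn⟩ := h2 ⟨z, hz⟩
  have h3 := SLClosed.mem_commutator_of_odd_index hN H' hodd' (hc hz) (congrArg Subtype.val hn)
  have h4 : z ∈ A ⊓ f.ker := ⟨hcomm h3, hz⟩
  rwa [hbot] at h4

/-- `M` has no perfect central extension by a 2-group. -/
def Clo (M : Type v) [Group M] : Prop :=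
  ∀ (E : Type u) [Group E] [Finite E] (f : E →* M), commutator E = ⊤ → Function.Surjective f → f.ker ≤ center E →
    IsPGroup 2 f.ker → Function.Injective f

theorem Clo.sub {M : Type v} [Group M] (h : Clo.{u} M) {N : Type u} {X : Type*} [Group N] [Finite N] [Group X]
    {f : N →* X} (hc : f.ker ≤ center N) (h2 : IsPGroup 2 f.ker) {ι : M →* X} (hι : Function.Injective ι)
    (A : Subgroup N) (hA : ⁅A, A⁆ = A) (hm : A.map f = ι.range) : A ⊓ f.ker = ⊥ := by
  classical
  let e : M ≃* ι.range := MonoidHom.ofInjective hι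
  have hfA : ∀ a : A, f a ∈ ι.range := fun a => by rw [← hm]; exact mem_map_of_mem f a.2
  let f' : A →* M := e.symm.toMonoidHom.comp ((f.comp A.subtype).codRestrict ι.range hfA)
  have h1 : ∀ a : A, f' a = 1 ↔ f a = 1 := by
    intro a
    change e.symm _ = 1 ↔ _
    rw [EmbeddingLike.map_eq_one_iff, ← Subtype.val_inj]
    rfl
  have hinj := h A f' ?_ ?_ ?_ ?_
  · rw [eq_bot_iff]
    rintro a ⟨ha, hk⟩
    have h3 : f' ⟨a, ha⟩ = f' 1 := by rw [map_one]; exact (h1 _).2 hk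
    have h4 := congrArg Subtype.val (hinj h3)
    exact h4
  · apply map_injective A.subtype_injective
    rw [commutator_def, map_commutator, ← MonoidHom.range_eq_map, range_subtype]
    exact hA
  · intro m
    obtain ⟨a, ha, h3⟩ : (e m : X) ∈ A.map f := by rw [hm]; exact (e m).2
    refine ⟨⟨a, ha⟩, ?_⟩
    change e.symm _ = m
    rw [MulEquiv.symm_apply_eq]
    exact Subtype.ext h3
  · intro a ha
    have h3 : (a : N) ∈ center N := hc ((h1 a).1 ha)
    rw [mem_center_iff] at h3 ⊢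
    intro b
    exact Subtype.ext (h3 b)
  · rintro ⟨a, ha⟩
    obtain ⟨n, hn⟩ := h2 ⟨a, (h1 a).1 ha⟩
    have h3 : a.1 ^ 2 ^ n = 1 := congrArg Subtype.val hn
    exact ⟨n, Subtype.ext (Subtype.ext h3)⟩

/-! ### `SU_n(q)` -/

section SU

open Matrix Cfsg Cfsg.Agent.Phan
set_option linter.unusedSectionVars false
set_option linter.unusedVariables false
open Cfsg.Agent.LieClassical.GUOrder

variable {F : Type*} [Field F] [Fintype F] {q : ℕ}

/-- the first basis vector -/
abbrev e0 (n : ℕ) (F : Type*) [Field F] : Fin (n + 1) → F := Pi.single 0 1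

theorem extM_succ {n : ℕ} (A : Matrix (Fin n) (Fin n) F) : extM Fin.succ A = ext1 1 A := by
  apply Matrix.toLin'.injective
  apply LinearMap.ext
  intro v
  rw [Matrix.toLin'_apply, Matrix.toLin'_apply]
  funext i
  refine Fin.cases ?_ (fun i => ?_) i
  · rw [extM_mulVec_of_notMem (fun i => (Fin.succ_ne_zero i).symm), ext1_mulVec_zero, one_mul]
  · rw [extM_mulVec (Fin.succ_injective n), ext1_mulVec_succ]
    rfl

/-- `SU_n → SU_{n+1}` -/
abbrev io (hF : Fintype.card F = q ^ 2) (n : ℕ) : SU n F q →* SU (n + 1) F q :=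
  ext hF Fin.succ (Fin.succ_injective n)

theorem mem_range_io (hF : Fintype.card F = q ^ 2) {n : ℕ} (g : SU (n + 1) F q) :
    g ∈ (io hF n).range ↔ mat g *ᵥ e0 n F = e0 n F := by
  constructor
  · rintro ⟨A, rfl⟩
    rw [mat_ext, extM_succ]
    funext i
    refine Fin.cases ?_ (fun i => ?_) i
    · rw [ext1_mulVec_zero, one_mul]
    · have h0 : (fun j : Fin n => e0 n F j.succ) = 0 := by funext j; simp
      rw [ext1_mulVec_succ, h0, Matrix.mulVec_zero]
      simp
  · intro h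
    have h1 := eq_ext1_of_fix hF (mat g) (mat_isom g) h
    refine ⟨mk ((mat g).submatrix Fin.succ Fin.succ) ?_ ?_, ?_⟩
    · have h2 := mat_det g
      rw [h1, det_ext1, one_mul] at h2
      exact h2
    · apply submatrix_isom hF
      intro u v
      have h3 := mat_isom g u v
      rw [h1] at h3
      exact h3
    · apply mat_inj
      rw [mat_ext, mat_mk, extM_succ]
      exact h1.symm

/-- the stabiliser of the line of the first basis vector -/
def stab (hF : Fintype.card F = q ^ 2) (n : ℕ) : Subgroup (SU (n + 1) F q) where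
  carrier := {g | ∃ c : F, c ^ (q + 1) = 1 ∧ mat g *ᵥ e0 n F = c • e0 n F}
  mul_mem' := by
    rintro a b ⟨c, hc, ha⟩ ⟨d, hd, hb⟩
    refine ⟨c * d, by rw [mul_pow, hc, hd, one_mul], ?_⟩
    rw [mat_mul, ← Matrix.mulVec_mulVec, hb, Matrix.mulVec_smul, ha, smul_smul, mul_comm]
  one_mem' := ⟨1, one_pow _, by rw [mat_one, Matrix.one_mulVec, one_smul]⟩
  inv_mem' := by
    rintro a ⟨c, hc, ha⟩
    have hc0 : c ≠ 0 := by
      rintro rfl
      rw [zero_pow (Nat.succ_ne_zero q)] at hc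
      exact zero_ne_one hc
    refine ⟨c⁻¹, by rw [inv_pow, hc, inv_one], ?_⟩
    have h1 : mat a⁻¹ *ᵥ (mat a *ᵥ e0 n F) = e0 n F := by
      rw [Matrix.mulVec_mulVec, mat_inv_mul, Matrix.one_mulVec]
    rw [ha, Matrix.mulVec_smul] at h1
    rw [← h1, smul_smul, inv_mul_cancel₀ hc0, one_smul, h1]

theorem mem_stab (hF : Fintype.card F = q ^ 2) {n : ℕ} {g : SU (n + 1) F q} :
    g ∈ stab hF n ↔ ∃ c : F, c ^ (q + 1) = 1 ∧ mat g *ᵥ e0 n F = c • e0 n F := Iff.rfl

theorem range_io_le (hF : Fintype.card F = q ^ 2) (n : ℕ) : (io hF n).range ≤ stab hF n := by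
  intro g hg
  exact ⟨1, one_pow _, by rw [(mem_range_io hF g).1 hg, one_smul]⟩

/-- `diag (c, c⁻¹, 1, …)` -/
def dia (hF : Fintype.card F = q ^ 2) (n : ℕ) (c : F) (hc : c ^ (q + 1) = 1) : SU (n + 1 + 1) F q :=
  mk (ext1 c (ext1 c⁻¹ 1))
    (by
      have hc0 : c ≠ 0 := by
        rintro rfl
        rw [zero_pow (Nat.succ_ne_zero q)] at hc
        exact zero_ne_one hc
      rw [det_ext1, det_ext1, Matrix.det_one, mul_one, mul_inv_cancel₀ hc0])
    (ext1_isom c hc _ (ext1_isom c⁻¹ (by rw [inv_pow, hc, inv_one]) _ (fun u v => by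
      rw [Matrix.one_mulVec, Matrix.one_mulVec])))

theorem dia_e0 (hF : Fintype.card F = q ^ 2) (n : ℕ) (c : F) (hc : c ^ (q + 1) = 1) :
    mat (dia hF n c hc) *ᵥ e0 (n + 1) F = c • e0 (n + 1) F := by
  rw [dia, mat_mk]
  funext i
  refine Fin.cases ?_ (fun i => ?_) i
  · rw [ext1_mulVec_zero]; rfl
  · have h0 : (fun j : Fin (n + 1) => e0 (n + 1) F j.succ) = 0 := by funext j; simp
    rw [ext1_mulVec_succ, h0, Matrix.mulVec_zero]
    simp

theorem e0_ne (n : ℕ) : e0 n F ≠ 0 := by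
  intro h
  have := congrFun h 0
  simp at this

theorem card_stab (hF : Fintype.card F = q ^ 2) (n : ℕ) :
    Nat.card (stab hF (n + 1)) = (q + 1) * Nat.card (SU (n + 1) F q) := by
  classical
  let N1 := (powMonoidHom (q + 1) : Fˣ →* Fˣ).ker
  have hN1 : ∀ c : N1, ((c : Fˣ) : F) ^ (q + 1) = 1 := by
    rintro ⟨c, hc⟩
    have h := MonoidHom.mem_ker.1 hc
    rw [powMonoidHom_apply] at h
    change (c : F) ^ (q + 1) = 1
    rw [← Units.val_pow_eq_pow_val, h, Units.val_one]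
  let φ : N1 × SU (n + 1) F q → stab hF (n + 1) := fun p =>
    ⟨dia hF n ((p.1 : Fˣ) : F) (hN1 p.1) * io hF (n + 1) p.2,
      mul_mem (⟨_, hN1 p.1, dia_e0 hF n _ (hN1 p.1)⟩) (range_io_le hF _ ⟨p.2, rfl⟩)⟩
  have hval : ∀ p, mat (φ p : SU (n + 1 + 1) F q) *ᵥ e0 (n + 1) F = ((p.1 : Fˣ) : F) • e0 (n + 1) F := by
    intro p
    change mat (dia hF n ((p.1 : Fˣ) : F) (hN1 p.1) * io hF (n + 1) p.2) *ᵥ _ = _
    rw [mat_mul, ← Matrix.mulVec_mulVec, (mem_range_io hF _).1 ⟨p.2, rfl⟩, dia_e0]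
  have hbij : Function.Bijective φ := by
    constructor
    · rintro ⟨c, A⟩ ⟨d, B⟩ h
      have h1 : ((c : Fˣ) : F) • e0 (n + 1) F = ((d : Fˣ) : F) • e0 (n + 1) F := by
        rw [← hval (c, A), ← hval (d, B), h]
      have h2 : c = d := by
        apply Subtype.ext
        apply Units.ext
        exact smul_left_injective F (e0_ne (n + 1)) h1
      subst h2
      have h3 := congrArg Subtype.val h
      have h4 : io hF (n + 1) A = io hF (n + 1) B := mul_left_cancel h3
      rw [ext_injective hF _ h4]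
    · rintro ⟨g, c, hc, hg⟩
      have hc0 : c ≠ 0 := by
        rintro rfl
        rw [zero_pow (Nat.succ_ne_zero q)] at hc
        exact zero_ne_one hc
      have h1 : (dia hF n c hc)⁻¹ * g ∈ (io hF (n + 1)).range := by
        rw [mem_range_io]
        rw [mat_mul, ← Matrix.mulVec_mulVec, hg, ← dia_e0 hF n c hc, Matrix.mulVec_mulVec, mat_inv_mul,
          Matrix.one_mulVec]
      obtain ⟨A, hA⟩ := h1
      refine ⟨(⟨Units.mk0 c hc0, ?_⟩, A), ?_⟩
      · rw [MonoidHom.mem_ker, powMonoidHom_apply]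
        apply Units.ext
        simpa using hc
      · apply Subtype.ext
        change dia hF n c hc * io hF (n + 1) A = g
        rw [hA]
        group
  rw [← Nat.card_congr (Equiv.ofBijective φ hbij), Nat.card_prod, card_ker_pow hF]

theorem odd_q (hF : Fintype.card F = q ^ 2) (h : Odd (Fintype.card F)) : Odd q := by
  rw [hF] at h
  exact (Nat.odd_pow_iff two_ne_zero).1 h

/-- for `k` even the index of `GU_k` in `SU_{k+1}` is odd -/
theorem odd_index (hF : Fintype.card F = q ^ 2) (ho : Odd (Fintype.card F)) {k : ℕ} (hk : Even k) (hk2 : 2 ≤ k) :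
    Odd (stab hF k).index := by
  obtain ⟨n, rfl⟩ : ∃ n, k = n + 1 := ⟨k - 1, by omega⟩
  have hq := odd_q hF ho
  have hq2 := two_le hF
  have h1 := card_stab hF n
  have h2 := Cfsg.Agent.S0278.result hF (n + 1) (by omega)
  have h3 := Cfsg.Agent.S0278.result hF (n + 1 + 1) (by omega)
  have h4 := (stab hF (n + 1)).card_mul_index
  rw [Finset.prod_range_succ, if_pos hk] at h3
  -- `(q+1) * index = q^(n+1) * (q^(n+2) + 1)`
  have hpos : 0 < Nat.card (SU (n + 1) F q) := Nat.card_pos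
  have he : (n + 1 + 1) * (n + 1 + 1 - 1) / 2 = (n + 1) * (n + 1 - 1) / 2 + (n + 1) := by
    have : (n + 1 + 1) * (n + 1 + 1 - 1) = (n + 1) * (n + 1 - 1) + (n + 1) * 2 := by
      simp only [Nat.add_sub_cancel]; ring
    rw [this, Nat.add_mul_div_right _ _ (by norm_num)]
  have h5 : (q + 1) * (stab hF (n + 1)).index = q ^ (n + 1) * (q ^ (n + 1 + 1) + 1) := by
    have h6 : (q + 1) * Nat.card (SU (n + 1) F q) * ((q + 1) * (stab hF (n + 1)).index) =
        (q + 1) * Nat.card (SU (n + 1) F q) * (q ^ (n + 1) * (q ^ (n + 1 + 1) + 1)) := by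
      calc (q + 1) * Nat.card (SU (n + 1) F q) * ((q + 1) * (stab hF (n + 1)).index)
          = (q + 1) * (((q + 1) * Nat.card (SU (n + 1) F q)) * (stab hF (n + 1)).index) := by ring
        _ = (q + 1) * Nat.card (SU (n + 1 + 1) F q) := by rw [← h1, h4]
        _ = _ := by rw [h3, h2, he, pow_add]; ring
    exact Nat.eq_of_mul_eq_mul_left (by positivity) h6
  -- parity
  have hmod : q ^ (n + 1) ≡ 1 [MOD (2 * (q + 1))] := by
    obtain ⟨m, hm⟩ := hk
    have h7 : q ^ 2 ≡ 1 [MOD (2 * (q + 1))] := by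
      obtain ⟨s, hs⟩ := hq
      refine Nat.ModEq.symm ?_
      rw [Nat.modEq_iff_dvd' (Nat.one_le_pow _ _ (by omega))]
      refine ⟨s, ?_⟩
      have : 1 ≤ q ^ 2 := Nat.one_le_pow _ _ (by omega)
      zify [this]
      rw [hs]
      push_cast
      ring
    have h8 := h7.pow m
    rw [one_pow, ← pow_mul] at h8
    rw [hm, ← two_mul]
    exact h8
  have h9 : (q + 1) * (stab hF (n + 1)).index ≡ (q + 1) * 1 [MOD ((q + 1) * 2)] := by
    rw [h5, mul_one, mul_comm (q + 1) 2]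
    have h10 : q ^ (n + 1 + 1) + 1 ≡ q + 1 [MOD (2 * (q + 1))] := by
      have := (hmod.mul_right q).add_right 1
      rw [one_mul] at this
      exact this
    have := hmod.mul h10
    rw [one_mul] at this
    exact this
  have h11 := Nat.ModEq.mul_left_cancel' (by omega) h9
  rw [Nat.odd_iff]
  exact h11

theorem comm_range {n : ℕ} (hF : Fintype.card F = q ^ 2) (h : commutator (SU n F q) = ⊤) :
    ⁅(io hF n).range, (io hF n).range⁆ = (io hF n).range := by
  rw [MonoidHom.range_eq_map, ← map_commutator, ← commutator_def, h]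

theorem perfect_su (hF : Fintype.card F = q ^ 2) (hq : 3 < q) {n : ℕ} (hn : 2 ≤ n) :
    commutator (SU n F q) = ⊤ := by
  rcases Nat.eq_or_lt_of_le hn with rfl | hn
  · classical
    obtain ⟨_, _, _, _, θ, _⟩ := Phan.exists_model hF
    have : Fintype (Phan.fixedField hF) := Fintype.ofFinite _
    have h1 : 3 < Fintype.card (Phan.fixedField hF) := by
      rw [← Nat.card_eq_fintype_card, Phan.card_fixedField]; exact hq
    have h2 := map_commutator (⊤ : Subgroup (SpecialLinearGroup (Fin 2) (Phan.fixedField hF))) ⊤ θ.toMonoidHom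
    rw [← commutator_def, Cfsg.Agent.TwoFusion.SLTwoFacts.commutator_eq_top h1,
      Subgroup.map_top_of_surjective _ θ.surjective] at h2
    exact h2.symm
  · exact LieClassical.HermPerfect.commutator_SU_eq_top hF hn (by omega)

/-- **`Clo (SU_k) → Clo (SU_{k+1})`, `k` even.** -/
theorem clo_succ (hF : Fintype.card F = q ^ 2) (ho : Odd (Fintype.card F)) (hq : 3 < q) {k : ℕ} (hk : Even k)
    (hk2 : 2 ≤ k) (h : Clo.{u} (SU k F q)) : Clo.{u} (SU (k + 1) F q) := by
  intro E _ _ f hE hf hc h2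
  rw [← MonoidHom.ker_eq_bot_iff]
  obtain ⟨n, rfl⟩ : ∃ n, k = n + 1 := ⟨k - 1, by omega⟩
  -- a generator of the group of norm one scalars
  have hcyc : IsCyclic (powMonoidHom (q + 1) : Fˣ →* Fˣ).ker := inferInstance
  obtain ⟨⟨c, hc1⟩, hgen⟩ := hcyc.exists_generator
  have hcF : (c : F) ^ (q + 1) = 1 := by
    have h := MonoidHom.mem_ker.1 hc1
    rw [powMonoidHom_apply] at h
    rw [← Units.val_pow_eq_pow_val, h, Units.val_one]
  refine ker_eq_bot_of_index hf hE hc h2 (H := stab hF (n + 1)) (L := (io hF (n + 1)).range)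
    (odd_index hF ho hk hk2) (range_io_le hF _) ?_ (h := dia hF n c hcF) ⟨c, hcF, dia_e0 hF n _ hcF⟩ ?_
    (comm_range hF (perfect_su hF hq hk2)) (fun A hA hm => h.sub hc h2 (ext_injective hF _) A hA hm)
  · rintro x ⟨d, hd, hx⟩ l hl
    rw [mem_range_io] at hl ⊢
    have hx' : mat x⁻¹ *ᵥ (d • e0 (n + 1) F) = e0 (n + 1) F := by
      rw [← hx, Matrix.mulVec_mulVec, mat_inv_mul, Matrix.one_mulVec]
    have hd0 : d ≠ 0 := by
      rintro rfl
      rw [zero_pow (Nat.succ_ne_zero q)] at hd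
      exact zero_ne_one hd
    have hx2 : mat x⁻¹ *ᵥ e0 (n + 1) F = d⁻¹ • e0 (n + 1) F := by
      rw [Matrix.mulVec_smul] at hx'
      rw [← hx', smul_smul, inv_mul_cancel₀ hd0, one_smul, hx']
    rw [mat_mul, mat_mul, ← Matrix.mulVec_mulVec, ← Matrix.mulVec_mulVec, hx2, Matrix.mulVec_smul,
      Matrix.mulVec_smul, hl, hx, smul_smul, inv_mul_cancel₀ hd0, one_smul]
  · rintro x ⟨d, hd, hx⟩
    have hd0 : d ≠ 0 := by
      rintro rfl
      rw [zero_pow (Nat.succ_ne_zero q)] at hd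
      exact zero_ne_one hd
    obtain ⟨k, hk⟩ := mem_zpowers_iff.1 (hgen ⟨Units.mk0 d hd0, by
      rw [MonoidHom.mem_ker, powMonoidHom_apply]
      apply Units.ext
      simpa using hd⟩)
    have hk' : ((c ^ k : Fˣ) : F) = d := by
      have := congrArg (fun z => ((Subtype.val z : Fˣ) : F)) hk
      simpa using this
    have hpow : ∀ j : ℤ, mat (dia hF n c hcF ^ j) *ᵥ e0 (n + 1) F = ((c ^ j : Fˣ) : F) • e0 (n + 1) F := by
      have hn : ∀ j : ℕ, mat (dia hF n c hcF ^ j) *ᵥ e0 (n + 1) F = ((c ^ j : Fˣ) : F) • e0 (n + 1) F := by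
        intro j
        induction j with
        | zero => rw [pow_zero, pow_zero, mat_one, Matrix.one_mulVec, Units.val_one, one_smul]
        | succ j ih =>
          rw [pow_succ, pow_succ, mat_mul, ← Matrix.mulVec_mulVec, dia_e0, Matrix.mulVec_smul, ih, smul_smul,
            Units.val_mul, mul_comm]
      have hinv : ∀ (g : SU (n + 1 + 1) F q) (d : Fˣ), mat g *ᵥ e0 (n + 1) F = (d : F) • e0 (n + 1) F →
          mat g⁻¹ *ᵥ e0 (n + 1) F = ((d⁻¹ : Fˣ) : F) • e0 (n + 1) F := by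
        intro g d hg
        have h1 : mat g⁻¹ *ᵥ (mat g *ᵥ e0 (n + 1) F) = e0 (n + 1) F := by
          rw [Matrix.mulVec_mulVec, mat_inv_mul, Matrix.one_mulVec]
        rw [hg, Matrix.mulVec_smul] at h1
        rw [← h1, smul_smul, Units.inv_mul, one_smul, h1]
      intro j
      cases j with
      | ofNat j => rw [Int.ofNat_eq_natCast, zpow_natCast, zpow_natCast]; exact hn j
      | negSucc j => rw [zpow_negSucc, zpow_negSucc]; exact hinv _ _ (hn _)
    refine ⟨-k, ?_⟩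
    rw [mem_range_io, mat_mul, ← Matrix.mulVec_mulVec, hpow, Matrix.mulVec_smul, hx, smul_smul, ← hk',
      ← Units.val_mul, ← _root_.zpow_add, neg_add_cancel, zpow_zero, Units.val_one, one_smul]

/-- `SU₂(q) ≃ SL₂(q)` is closed. -/
theorem clo_two (ho : Odd (Fintype.card F)) : Clo.{u} (SU 2 F q) := by
  intro E _ _ f hE _ hc h2
  have hk : ((SU 2 F q).subtype.comp f).ker = f.ker := by
    ext x
    rw [MonoidHom.mem_ker, MonoidHom.mem_ker, MonoidHom.comp_apply, coe_subtype, OneMemClass.coe_eq_one]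
  have h := CovTwo.injective_of_sl ho hE ((SU 2 F q).subtype.comp f) (by rw [hk]; exact hc) (by rw [hk]; exact h2)
  intro a b hab
  exact h (congrArg Subtype.val hab)

theorem clo_three (hF : Fintype.card F = q ^ 2) (ho : Odd (Fintype.card F)) (hq : 3 < q) : Clo.{u} (SU 3 F q) :=
  clo_succ hF ho hq even_two le_rfl (clo_two ho)

end SU

section End

open Matrix Cfsg Cfsg.Agent.Phan

variable {F : Type} [Field F] [Fintype F] {q : ℕ}

/-- `M` of odd centre order: `N` with `Z(N)` a 2-group and `N / Z(N) = M / Z(M)` has trivial centre. -/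
theorem center_eq_bot_of_clo {N : Type u} [Group N] [Finite N] (hN : commutator N = ⊤) (h2 : IsPGroup 2 (center N))
    {S : Type} [Group S] [Finite S] (hS : commutator S = ⊤) (hcl : Clo.{u} S) (ho : Odd (Nat.card (center S)))
    (e : N ⧸ center N ≃* S ⧸ center S) : center N = ⊥ := by
  classical
  let f : N →* S ⧸ center S := e.toMonoidHom.comp (QuotientGroup.mk' (center N))
  let g : S →* S ⧸ center S := QuotientGroup.mk' (center S)
  have hf : Function.Surjective f := e.surjective.comp (QuotientGroup.mk'_surjective _)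
  have hg : Function.Surjective g := QuotientGroup.mk'_surjective _
  have hf1 : ∀ x, f x = 1 ↔ x ∈ center N := by
    intro x
    change e (QuotientGroup.mk' (center N) x) = 1 ↔ _
    rw [EmbeddingLike.map_eq_one_iff]
    exact QuotientGroup.eq_one_iff x
  have hg1 : ∀ x, g x = 1 ↔ x ∈ center S := fun x => QuotientGroup.eq_one_iff x
  have kf : f.ker ≤ center N := fun x hx => (hf1 x).1 hx
  have kg : g.ker ≤ center S := fun x hx => (hg1 x).1 hx
  have hinj : Function.Injective (Fibre.toL f g) := by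
    refine hcl _ _ (Fibre.perfect hf hg kf kg hN) (Fibre.toL_surjective hf hS) (Fibre.ker_toL kf kg) ?_
    rintro ⟨m, hm⟩
    have h1 : Fibre.toL f g m = 1 := hm
    have h3 : f (Fibre.toN f g m) = 1 := by rw [Fibre.comm, h1, map_one]
    obtain ⟨n, hn⟩ := h2 ⟨_, (hf1 _).1 h3⟩
    have h4 : Fibre.toN f g m ^ 2 ^ n = 1 := congrArg Subtype.val hn
    refine ⟨n, Subtype.ext (Subtype.ext (Prod.ext h4 ?_))⟩
    change Fibre.toL f g m ^ 2 ^ n = 1
    rw [h1, one_pow]
  rw [eq_bot_iff]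
  intro z hz
  obtain ⟨m, hm⟩ := Fibre.toN_surjective hg hN (f := f) z
  have h1 : Fibre.toL f g m ∈ center S := by
    rw [← hg1, ← Fibre.comm, hm, hf1]
    exact hz
  have h3 : m ^ Nat.card (center S) = 1 := by
    apply hinj
    rw [map_pow, map_one]
    exact congrArg Subtype.val (pow_card_eq_one' (x := (⟨_, h1⟩ : center S)))
  have h4 : z ^ Nat.card (center S) = 1 := by rw [← hm, ← map_pow, h3, map_one]
  obtain ⟨n, hn⟩ := h2 ⟨z, hz⟩
  have h5 : z ^ 2 ^ n = 1 := congrArg Subtype.val hn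
  have h6 : Nat.Coprime (Nat.card (center S)) (2 ^ n) := (Nat.Coprime.pow_left n (Nat.coprime_two_left.2 ho)).symm
  have h7 := pow_gcd_eq_one.2 ⟨h4, h5⟩
  rw [h6, pow_one] at h7
  exact h7

/-- **`Z(N) = 1` if `Z(N)` is a 2-group and `N / Z(N) = PSU_{k+1}(q)`, `k` even.** -/
theorem center_eq_bot {N : Type u} [Group N] [Finite N] (hN : commutator N = ⊤) (h2 : IsPGroup 2 (center N))
    (hF : Fintype.card F = q ^ 2) (ho : Odd (Fintype.card F)) (hq : 3 < q) {k : ℕ} (hk : Even k) (hk2 : 2 ≤ k)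
    (h : Clo.{u} (SU k F q)) (e : N ⧸ center N ≃* PSU (k + 1) F q) : center N = ⊥ := by
  refine center_eq_bot_of_clo hN h2 (perfect_su hF hq (by omega)) (clo_succ hF ho hq hk hk2 h) ?_ e
  rw [Cfsg.Agent.S0279.result hF (k + 1) (by omega)]
  have h1 : Nat.gcd (k + 1) (q + 1) ∣ k + 1 := Nat.gcd_dvd_left _ _
  have h3 : Odd (k + 1) := hk.add_one
  exact h3.of_dvd_nat h1

end End

end Cfsg.Agent.OddHalf.NI.SUOdd
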