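import Mathlib
import Cfsg.Agent.OddHalf.NI.WittCoord
import Cfsg.Agent.Nodes.WittU
import Cfsg.Agent.TitsThree.SpGen
import Cfsg.Agent.OddHalf.NI.CoverOf
import Cfsg.Agent.OddHalf.NI.SUOdd

/-!
# `Sp_{2m}(F)` has no perfect central 2-extension (node NI, (T'))

`F` finite of odd order (3 included), `m ≥ 1`.
-/

set_option autoImplicit false
set_option linter.unusedSectionVars false

namespace Cfsg.Agent.OddHalf.NI.SpClosed

open Cfsg Cfsg.Agent.ClassicalGeometry.SympBasic
open Cfsg.Agent.ChevalleyStructure.CoxeterGeom Cfsg.Agent.Tits.Roots Cfsg.Agent.Nodes.TypeC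
open Cfsg.Agent.Nodes.Comb Cfsg.Agent.Nodes.Reps Cfsg.Agent.Nodes.WittRoot Cfsg.Agent.Nodes.BNOf
open Cfsg.Agent.Nodes Cfsg.Agent.Nodes.WittRGD Cfsg.Agent.Nodes.RGDLib
open Cfsg.Agent.TitsThree Cfsg.Agent.TitsThree.Siegel Cfsg.Agent.TitsThree.SiegelGen
  Cfsg.Agent.TitsThree.WittFrame Cfsg.Agent.TitsThree.WittWeyl Cfsg.Agent.TitsThree.SpIdent
  Cfsg.Agent.TitsThree.SpGen
open Cfsg.Agent.OddHalf.NI.WittCoord

universe u v

section

variable {F : Type*} [Field F] {m : ℕ}

/-- the field data of the symplectic frame -/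
theorem lf : LF (frame m F) (-1 : F) (⊤ : Subfield F) where
  V0 := rfl
  δ0 := neg_ne_zero.2 one_ne_zero
  okp c := by
    rw [frame_ok, form_ε]
    exact ⟨fun _ => ⟨c, trivial, by ring⟩, fun _ => rfl⟩
  okm c := by
    rw [frame_ok]
    exact ⟨fun _ => ⟨-c, trivial, by rw [inv_neg, inv_one]; ring⟩, fun _ => rfl⟩

/-- Generation by the root groups. -/
theorem gen (hm : 0 < m) (S : Subgroup ↥(isos (form m F)))
    (h1 : ∀ i, (rg (frame m F) (sr i)).subgroupOf (isos (form m F)) ≤ S)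
    (h2 : ∀ i, (rg (frame m F) (-sr i)).subgroupOf (isos (form m F)) ≤ S) : S = ⊤ := by
  refine isos_eq_of_simple ⟨m - 1, by omega⟩ S ?_ ?_
  · intro i j hij t
    have hi : (i : ℕ) + 1 < m := by have := j.2; omega
    have hnx : nx i = (j, false) := by
      unfold nx; rw [dif_pos hi]
      congr 1
      exact Fin.ext hij
    have hne : ((i, true) : Fin m × Bool).1 ≠ (nx i).1 := by rw [hnx]; simp [Fin.ext_iff]; omega
    refine ⟨h1 i (Subgroup.mem_subgroupOf.2 ?_), h2 i (Subgroup.mem_subgroupOf.2 ?_)⟩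
    · rw [rg_sr, PG_ne _ hne, hnx]; exact ⟨t, rfl⟩
    · rw [rg_neg_sr, PG_ne _ (a := ng (i, true)) (b := ng (nx i)) hne,
        XG_swap _ (a := ng (i, true)) (b := ng (nx i)) hne, hnx]
      exact ⟨t, rfl⟩
  · intro p
    have hnx : nx (⟨m - 1, by omega⟩ : Fin m) = (⟨m - 1, by omega⟩, true) := by
      unfold nx; rw [dif_neg (by simp; omega)]
    refine ⟨h1 ⟨m - 1, by omega⟩ (Subgroup.mem_subgroupOf.2 ?_), h2 ⟨m - 1, by omega⟩ (Subgroup.mem_subgroupOf.2 ?_)⟩
    · rw [rg_sr, hnx, PG_self]; exact ⟨_, rfl⟩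
    · rw [rg_neg_sr, hnx, PG_self]; exact ⟨_, rfl⟩

/-- **`Sp_{2m}(F)` (as a group of linear maps) has no perfect central 2-extension.** -/
theorem closed_isos [Fintype F] (ho : Odd (Fintype.card F)) (hm : 1 ≤ m) {E : Type*} [Group E] [Finite E]
    (hE : commutator E = ⊤) {f : E →* ↥(isos (form m F))} (hs : Function.Surjective f)
    (hc : f.ker ≤ Subgroup.center E) (h2 : IsPGroup 2 f.ker) : Function.Injective f := by
  obtain ⟨p, hp⟩ := CharP.exists F
  have hpp : Fact p.Prime := ⟨CharP.char_is_prime F p⟩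
  have hp2 : p ≠ 2 := by
    rintro rfl
    have h3 := FiniteField.even_card_iff_char_two.1 (ringChar.eq F 2)
    rw [Nat.odd_iff] at ho
    omega
  exact closed lf hp2 (p0 := adm (1 : F)) one_ne_zero WittU.amb_Sp (fun S => gen (by omega) S) hE hs hc h2

/-- **`Sp_{2m}(F)` has no perfect central 2-extension.** -/
theorem closed_Sp [Fintype F] (ho : Odd (Fintype.card F)) (hm : 1 ≤ m) {E : Type*} [Group E] [Finite E]
    (hE : commutator E = ⊤) {f : E →* Matrix.symplecticGroup (Fin m) F} (hs : Function.Surjective f)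
    (hc : f.ker ≤ Subgroup.center E) (h2 : IsPGroup 2 f.ker) : Function.Injective f := by
  let e : ↥(isos (form m F)) ≃* Matrix.symplecticGroup (Fin m) F :=
    MulEquiv.ofBijective toSp ⟨toSp_injective, toSp_surjective⟩
  have hker : (e.symm.toMonoidHom.comp f).ker = f.ker := by
    ext x
    rw [MonoidHom.mem_ker, MonoidHom.mem_ker]
    exact map_eq_one_iff e.symm e.symm.injective
  have h3 : Function.Injective (e.symm.toMonoidHom.comp f) :=
    closed_isos ho hm hE (e.symm.surjective.comp hs) (by rw [hker]; exact hc) (by rw [hker]; exact h2)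
  intro x y hxy
  apply h3
  rw [MonoidHom.comp_apply, MonoidHom.comp_apply, hxy]

end

/-- `Closed2` (helper566's form) -/
theorem closed2 {F : Type v} [Field F] [Fintype F] {m : ℕ} (ho : Odd (Fintype.card F)) (hm : 1 ≤ m) :
    CoverOf.Closed2.{u} (Matrix.symplecticGroup (Fin m) F) :=
  fun _ _ _ _ hs hc h2 hE => closed_Sp ho hm hE hs hc h2

/-- `Clo` (helper598's form) -/
theorem clo {F : Type v} [Field F] [Fintype F] {m : ℕ} (ho : Odd (Fintype.card F)) (hm : 1 ≤ m) :
    SUOdd.Clo.{u} (Matrix.symplecticGroup (Fin m) F) :=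
  fun _ _ _ _ hE hs hc h2 => closed_Sp ho hm hE hs hc h2

end Cfsg.Agent.OddHalf.NI.SpClosed
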