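import Mathlib
import Cfsg.Agent.OddHalf.NI.SUOdd
import Cfsg.Agent.OddHalf.NI.ClosedSL
import Cfsg.Agent.OddHalf.NI.CoverOf
import Cfsg.Agent.OddHalf.NI.FrameSU
import Cfsg.Agent.OddHalf.NI.SUClosed
import Cfsg.Agent.OddHalf.NI.FrameSp
import Cfsg.Agent.OddHalf.NI.ExcEnd
import Cfsg.Agent.OddHalf.NI.ExcTw
import Cfsg.Agent.OddHalf.NI.SpClosed
import Cfsg.Agent.OddHalf.NI.FrameDef
import Cfsg.Agent.S0269

/-!
# Assembly of the type fact (T') of node NI (helper598)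

* `Row X` : (T') for `N / Z(N) = X`.
* `row_psl`, `row_psp`, `row_psu`, `row_E6` ...; `Open` : the rows which are not landed yet.
* `frameFact_of : Open → FrameFact`.
-/

set_option autoImplicit false

namespace Cfsg.Agent.OddHalf.NI.FrameFactOf

open Subgroup Cfsg
open SUOdd (Clo)

universe u

/-- (T') for the groups `N` with `N / Z(N) = X`. -/
def Row (X : Type) [Group X] : Prop :=
  ∀ (N : Type u) [Group N] [Finite N], IsQuasisimple N → IsPGroup 2 ↥(center N) → Nonempty (N ⧸ center N ≃* X) →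
    ∀ z ∈ center N, Even8 z → Nonempty (Frame N z)

theorem ne_one_of {N : Type*} [Group N] {z : N} (h : Even8 z) : z ≠ 1 := by
  rintro rfl
  have := h.1
  rw [orderOf_one] at this
  omega

theorem closed_iff_clo (S : Type) [Group S] : CoverOf.Closed2.{u, 0} S ↔ Clo.{u} S :=
  ⟨fun h E _ _ f hE hf hc h2 => h E f hf hc h2 hE, fun h E _ _ f hf hc h2 hE => h E f hE hf hc h2⟩

section Rows

variable {F : Type} [Field F] [Fintype F]

theorem row_psl (hodd : Odd (Fintype.card F)) (h3 : 3 < Fintype.card F) {n : ℕ} (hn : 3 ≤ n) :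
    Row.{u} (Matrix.ProjectiveSpecialLinearGroup (Fin n) F) := by
  rintro N _ _ hq h2 ⟨e⟩ z hz h8
  exact ClosedSL.frame hq h2 hodd h3 hn e hz h8

theorem row_psp (hodd : Odd (Fintype.card F)) (h3 : 3 < Fintype.card F) {m : ℕ} (hm : 2 ≤ m) :
    Row.{u} (PSp m F) := by
  rintro N _ _ hq h2 ⟨e⟩ z hz h8
  classical
  obtain ⟨φ, hs, hk⟩ := CoverOf.exists_cover hq.1.commutator_eq_top h2
    (Cfsg.Agent.S0269.result m (Or.inr (Or.inr (by omega)))) (SpClosed.closed2 hodd (by omega)) e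
  exact FrameSp.frame hodd h3 hm φ hs hk hz (ne_one_of h8)

theorem row_psu {q : ℕ} (hF : Fintype.card F = q ^ 2) (hodd : Odd (Fintype.card F)) (hq3 : 3 < q) {n : ℕ}
    (hn : 3 ≤ n) (hcl : Clo.{u} (SU n F q)) : Row.{u} (PSU n F q) := by
  rintro N _ _ hq h2 ⟨e⟩ z hz h8
  exact FrameSU.frame hq h2 hF (SUOdd.odd_q hF hodd) hq3 hn ((closed_iff_clo _).2 hcl) e hz h8

theorem row_G2 (ho : Odd (Fintype.card F)) : Row.{u} ↥(Lie.chevG2.group F) := by
  rintro N _ _ hq h2 ⟨e⟩ z hz h8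
  exact (ExcEnd.false_G2 ho hq h2 hz h8.1 e).elim

theorem row_F4 (ho : Odd (Fintype.card F)) : Row.{u} ↥(Lie.chevF4.group F) := by
  rintro N _ _ hq h2 ⟨e⟩ z hz h8
  exact (ExcEnd.false_F4 ho hq h2 hz h8.1 e).elim

theorem row_E6 (ho : Odd (Fintype.card F)) : Row.{u} ↥(Lie.chevE6.group F) := by
  rintro N _ _ hq h2 ⟨e⟩ z hz h8
  exact (ExcEnd.false_E6 ho hq h2 hz h8.1 e).elim

theorem row_E8 (ho : Odd (Fintype.card F)) : Row.{u} ↥(Lie.chevE8.group F) := by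
  rintro N _ _ hq h2 ⟨e⟩ z hz h8
  exact (ExcEnd.false_E8 ho hq h2 hz h8.1 e).elim

theorem row_E7 (ho : Odd (Fintype.card F)) (h3 : 3 < Fintype.card F) : Row.{u} ↥(Lie.chevE7.group F) := by
  rintro N _ _ hq h2 ⟨e⟩ z hz h8
  exact ExcEnd.frame_E7 ho hq h2 hz h8.1 h3 e

theorem row_twE6 {q : ℕ} (ho : Odd (Fintype.card F)) (hp : IsPrimePow q) (hF : Fintype.card F = q ^ 2) :
    Row.{u} ↥(Lie.twistedE6 F q) := by
  rintro N _ _ hq h2 ⟨e⟩ z hz h8
  exact (ExcTw.false_TwE6 hp ho hq h2 hz h8.1 hF e).elim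

theorem row_twD4 {q : ℕ} (ho : Odd (Fintype.card F)) (hp : IsPrimePow q) (hF : Fintype.card F = q ^ 3) :
    Row.{u} ↥(Lie.twistedD4 F q) := by
  rintro N _ _ hq h2 ⟨e⟩ z hz h8
  exact (ExcTw.false_TwD4 hp ho hq h2 hz h8.1 hF e).elim

end Rows

/-- The rows of (T') which are not landed yet. -/
structure Open : Prop where
  /-- helper448, helper601 -/
  omOdd : ∀ (F : Type) [Field F] [Fintype F] (m : ℕ), Odd (Fintype.card F) → 3 < Fintype.card F → 3 ≤ m →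
    Row.{u} (POmega F (quadFormOdd m F))
  /-- helper448, helper601 -/
  omPlus : ∀ (F : Type) [Field F] [Fintype F] (m : ℕ), Odd (Fintype.card F) → 3 < Fintype.card F → 4 ≤ m →
    Row.{u} (POmega F (quadFormPlus m F))
  /-- helper448, helper601 -/
  omMinus : ∀ (F : Type) [Field F] [Fintype F] (m : ℕ) (a b : F), Odd (Fintype.card F) → 3 < Fintype.card F → 4 ≤ m →
    (∀ z₁ z₂ : F, z₁ ^ 2 + a * z₁ * z₂ + b * z₂ ^ 2 = 0 → z₁ = 0 ∧ z₂ = 0) →
    Row.{u} (POmega F (quadFormMinus (m - 1) F a b))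

/-- **(T') from its open rows.** -/
theorem frameFact_of (h : Open.{u}) : FrameFact.{u} := by
  rintro N _ _ hq h2 ⟨F, _, _, ho, h3, hX⟩ z hz h8
  rcases hX with ⟨n, hn, he⟩ | ⟨m, hm, he⟩ | ⟨n, q, hq3, hF, hn, he⟩ | ⟨m, hm, he⟩ | ⟨m, hm, he⟩ |
    ⟨m, a, b, hm, hab, he⟩ | he | he | he | he | he | ⟨q, hqp, hq3, hF, he⟩ | ⟨q, hqp, hq3, hF, he⟩
  · exact row_psl ho h3 hn N hq h2 he z hz h8
  · exact row_psp ho h3 hm N hq h2 he z hz h8
  · refine row_psu hF ho hq3 hn ?_ N hq h2 he z hz h8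
    have hev : ∀ k, 1 ≤ k → Clo.{u} (SU (2 * k) F q) := by
      intro k hk
      rcases Nat.eq_or_lt_of_le hk with rfl | hk
      · exact SUOdd.clo_two ho
      · exact fun E _ _ f hE hf hc h2 => SUClosed.closed_SU hF (SUOdd.odd_q hF ho) hk hE hf hc h2
    rcases Nat.even_or_odd n with hn2 | hn2
    · obtain ⟨m, rfl⟩ : ∃ m, n = 2 * m := ⟨n / 2, by have := Nat.even_iff.1 hn2; omega⟩
      exact hev m (by omega)
    · obtain ⟨k, rfl⟩ := hn2
      exact SUOdd.clo_succ hF ho hq3 (even_two_mul k) (by omega) (hev k (by omega))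
  · exact h.omOdd F m ho h3 hm N hq h2 he z hz h8
  · exact h.omPlus F m ho h3 hm N hq h2 he z hz h8
  · exact h.omMinus F m a b ho h3 hm hab N hq h2 he z hz h8
  · exact row_G2 ho N hq h2 he z hz h8
  · exact row_F4 ho N hq h2 he z hz h8
  · exact row_E6 ho N hq h2 he z hz h8
  · exact row_E7 ho h3 N hq h2 he z hz h8
  · exact row_E8 ho N hq h2 he z hz h8
  · exact row_twE6 ho hqp hF N hq h2 he z hz h8
  · exact row_twD4 ho hqp hF N hq h2 he z hz h8

end Cfsg.Agent.OddHalf.NI.FrameFactOf
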