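import Mathlib

/-!
# NODE NI, the linear end of the type fact (T') for the types `A_n` and `SU_n`

`M → N` is surjective with central kernel, `M` perfect; `u, x ∈ N`, `⁅u, x⁆ = z` and `u²` central in `N`. Then `z` is the
image of an element `c` of the centre of `M` with `c² = 1`. For `M = SL_n(F)` such a `c` is `±1`.
-/

set_option autoImplicit false

namespace Cfsg.Agent.OddHalf.NI.LinEnd

open Subgroup

/-- if `⁅u, x⁆ = c` and `u²` are central then `c² = 1` -/
theorem sq_eq_one {M : Type*} [Group M] {u x c : M} (hc : c ∈ center M) (hux : u * x * u⁻¹ * x⁻¹ = c)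
    (hu : u * u ∈ center M) : c * c = 1 := by
  have h1 : u * x = c * (x * u) := by rw [← hux]; group
  have h2 : u * u * x = c * c * (x * (u * u)) := by
    calc u * u * x = u * (u * x) := by group
      _ = u * (c * (x * u)) := by rw [h1]
      _ = u * c * (x * u) := by group
      _ = c * u * (x * u) := by rw [mem_center_iff.mp hc u]
      _ = c * (u * x) * u := by group
      _ = c * (c * (x * u)) * u := by rw [h1]
      _ = c * c * (x * (u * u)) := by group
  have h3 : x * (u * u) = u * u * x := mem_center_iff.mp hu x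
  rw [h3] at h2
  exact (mul_eq_right.mp h2.symm)

/-- in a central extension `φ : M → N` of a perfect group `M`, an element with central image is central -/
theorem mem_center_of_map {M N : Type*} [Group M] [Group N] (φ : M →* N) (hker : φ.ker ≤ center M)
    (hM : commutator M = ⊤) {c : M} (hc : φ c ∈ center N) : c ∈ center M := by
  have key : ∀ y, c * y * c⁻¹ * y⁻¹ ∈ φ.ker := by
    intro y
    rw [MonoidHom.mem_ker, map_mul, map_mul, map_mul, map_inv, map_inv, ← mem_center_iff.mp hc (φ y)]
    group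
  have kc : ∀ y, c * y * c⁻¹ * y⁻¹ ∈ center M := fun y => hker (key y)
  -- `y ↦ ⁅c, y⁆` is a homomorphism to the centre
  let f : M →* center M :=
    { toFun := fun y => ⟨c * y * c⁻¹ * y⁻¹, kc y⟩
      map_one' := by ext; simp
      map_mul' := by
        intro a b
        ext
        simp only [Subgroup.coe_mul]
        have h := mem_center_iff.mp (kc b) a
        calc c * (a * b) * c⁻¹ * (a * b)⁻¹ = c * a * c⁻¹ * (c * b * c⁻¹ * b⁻¹) * a⁻¹ := by group
          _ = c * a * c⁻¹ * a⁻¹ * (a * (c * b * c⁻¹ * b⁻¹)) * a⁻¹ := by group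
          _ = c * a * c⁻¹ * a⁻¹ * (c * b * c⁻¹ * b⁻¹ * a) * a⁻¹ := by rw [h]
          _ = c * a * c⁻¹ * a⁻¹ * (c * b * c⁻¹ * b⁻¹) := by group }
  have hf : f = 1 := by
    have : commutator M ≤ f.ker := by
      rw [commutator_eq_closure]
      refine (closure_le _).mpr ?_
      rintro g ⟨a, b, rfl⟩
      simp only [SetLike.mem_coe, MonoidHom.mem_ker, map_commutatorElement]
      exact commutatorElement_eq_one_iff_mul_comm.mpr (Subtype.ext (by
        simp only [Subgroup.coe_mul]
        exact (mem_center_iff.mp (f a).2 _).symm))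
    rw [hM] at this
    ext y
    have hy := this (mem_top y)
    rw [MonoidHom.mem_ker] at hy
    rw [hy]
    rfl
  refine mem_center_iff.mpr fun y => ?_
  have hy : f y = 1 := by rw [hf]; rfl
  have hy' : c * y * c⁻¹ * y⁻¹ = 1 := congrArg Subtype.val hy
  have : c * y = y * c := by
    have h := mul_eq_one_iff_eq_inv.mp hy'
    rw [inv_inv] at h
    calc c * y = c * y * c⁻¹ * c := by group
      _ = y * c := by rw [h]
  exact this.symm

/-- **the linear end, abstract form** : `φ : M → N` surjective with central kernel, `M` perfect, `⁅u, x⁆ = z` and `u²`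
central in `N`. Then `z = φ c` with `c ∈ Z(M)`, `c² = 1` (and `c` is a commutator). -/
theorem exists_lift {M N : Type*} [Group M] [Group N] (φ : M →* N) (hs : Function.Surjective φ)
    (hker : φ.ker ≤ center M) (hM : commutator M = ⊤) {u x z : N} (hz : z ∈ center N)
    (hux : u * x * u⁻¹ * x⁻¹ = z) (hu : u * u ∈ center N) :
    ∃ c ∈ center M, φ c = z ∧ c * c = 1 ∧ ∃ u' x' : M, φ u' = u ∧ φ x' = x ∧ u' * x' * u'⁻¹ * x'⁻¹ = c := by
  obtain ⟨u', rfl⟩ := hs u
  obtain ⟨x', rfl⟩ := hs x
  have hc : φ (u' * x' * u'⁻¹ * x'⁻¹) = z := by simpa using hux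
  have hcc : u' * x' * u'⁻¹ * x'⁻¹ ∈ center M := mem_center_of_map φ hker hM (hc ▸ hz)
  have huc : u' * u' ∈ center M := mem_center_of_map φ hker hM (by simpa using hu)
  exact ⟨_, hcc, hc, sq_eq_one hcc rfl huc, u', x', rfl, rfl, rfl⟩

/-- central elements of order at most `2` of `SL_n(F)` are `±1` -/
theorem sl_eq {ι F : Type*} [Fintype ι] [DecidableEq ι] [Field F] {c : Matrix.SpecialLinearGroup ι F}
    (hc : c ∈ center (Matrix.SpecialLinearGroup ι F)) (h2 : c * c = 1) :
    c = 1 ∨ (c : Matrix ι ι F) = -1 := by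
  rcases isEmpty_or_nonempty ι with hι | hι
  · left; ext i; exact (hι.false i).elim
  obtain ⟨r, -, hr⟩ := Matrix.SpecialLinearGroup.mem_center_iff.mp hc
  have h3 : (c : Matrix ι ι F) * (c : Matrix ι ι F) = 1 := by
    rw [← Matrix.SpecialLinearGroup.coe_mul, h2, Matrix.SpecialLinearGroup.coe_one]
  obtain ⟨i⟩ := hι
  have h4 : r * r = 1 := by
    rw [← hr, ← map_mul] at h3
    have := congrFun (congrFun h3 i) i
    simpa using this
  rcases mul_self_eq_one_iff.mp h4 with h | h
  · left
    ext a b
    rw [← hr, h, map_one]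
    rfl
  · right
    rw [← hr, h, map_neg, map_one]

/-- **the linear end for `SL_n(F)`** : if `φ : SL_n(F) → N` is surjective with central kernel, `1 ≠ z = ⁅u, x⁆` and `u²`
are central in `N`, then `n` is even and `z` is the image of `-1`. -/
theorem sl_main {ι F N : Type*} [Fintype ι] [DecidableEq ι] [Field F] [Group N]
    (φ : Matrix.SpecialLinearGroup ι F →* N) (hs : Function.Surjective φ)
    (hker : φ.ker ≤ center (Matrix.SpecialLinearGroup ι F))
    (hM : commutator (Matrix.SpecialLinearGroup ι F) = ⊤) {u x z : N} (hz : z ∈ center N)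
    (hux : u * x * u⁻¹ * x⁻¹ = z) (hu : u * u ∈ center N) (h1 : z ≠ 1) :
    ∃ c : Matrix.SpecialLinearGroup ι F, (c : Matrix ι ι F) = -1 ∧ φ c = z ∧
      ((2 : F) ≠ 0 → Even (Fintype.card ι)) := by
  obtain ⟨c, hc, hcz, hcc, -⟩ := exists_lift φ hs hker hM hz hux hu
  rcases sl_eq hc hcc with rfl | h
  · exact absurd (hcz.symm.trans (map_one φ)) h1
  · refine ⟨c, h, hcz, fun h2 => ?_⟩
    have hd := c.det_coe
    rw [h, Matrix.det_neg, Matrix.det_one, mul_one] at hd
    by_contra ho
    rw [Nat.not_even_iff_odd] at ho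
    rw [ho.neg_one_pow] at hd
    apply h2
    linear_combination (-1 : F) * hd

end Cfsg.Agent.OddHalf.NI.LinEnd
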