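import Mathlib
import Cfsg.Prelude.Def_Classical

set_option autoImplicit false

/-!
# The linear end of (T') for type `D_(2k+1)` (node NI of project ODD)

Two anticommuting isometries `a`, `b` of a nondegenerate symmetric bilinear space over a finite
field of odd characteristic with `a² = b² = -1` force `4 ∣ dim`.
-/

namespace Cfsg.Agent.OddHalf.NI.QuatDim

open Module Matrix

variable {F : Type*} [Field F] {V : Type*} [AddCommGroup V] [Module F V] [FiniteDimensional F V]

/-- a skew-symmetric nondegenerate form in characteristic `≠ 2` lives in even dimension -/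
theorem even_of_skew (h2 : (2 : F) ≠ 0) (f : LinearMap.BilinForm F V)
    (hf : ∀ v w, f v w = - f w v) (hn : ∀ v, (∀ w, f v w = 0) → v = 0) :
    Even (finrank F V) := by
  classical
  let b := finBasis F V
  have hnd : f.Nondegenerate := by
    refine ⟨fun v hv => hn v hv, fun w hw => hn w fun v => ?_⟩
    rw [hf, hw v, neg_zero]
  have hdet := (LinearMap.BilinForm.nondegenerate_iff_det_ne_zero b).mp hnd
  set A := LinearMap.BilinForm.toMatrix b f with hA
  have hT : A.transpose = -A := by
    ext i j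
    simp only [hA, Matrix.transpose_apply, Matrix.neg_apply, LinearMap.BilinForm.toMatrix_apply]
    exact hf _ _
  have h1 : A.det = (-1) ^ (finrank F V) * A.det := by
    conv_lhs => rw [← Matrix.det_transpose, hT, Matrix.det_neg]
    simp
  have h3 : ((-1 : F)) ^ (finrank F V) = 1 := by
    have : ((-1 : F)) ^ (finrank F V) * A.det = 1 * A.det := by rw [← h1, one_mul]
    exact mul_right_cancel₀ hdet this
  rcases Nat.even_or_odd (finrank F V) with h | h
  · exact h
  · rw [h.neg_one_pow] at h3
    exact absurd (by linear_combination -h3 : (2 : F) = 0) h2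

/-- **(t2)** -/
theorem four_dvd_of {α β : F} (hαβ : α * α + β * β = -1) (h2 : (2 : F) ≠ 0)
    (B : LinearMap.BilinForm F V) (hs : ∀ v w, B v w = B w v)
    (hn : ∀ v, (∀ w, B v w = 0) → v = 0)
    (a b : V →ₗ[F] V) (ha : ∀ v w, B (a v) (a w) = B v w) (hb : ∀ v w, B (b v) (b w) = B v w)
    (haa : ∀ v, a (a v) = -v) (hbb : ∀ v, b (b v) = -v) (hab : ∀ v, a (b v) = -b (a v)) :
    4 ∣ finrank F V := by
  have ha' : ∀ v w, B (a v) w = -B v (a w) := by
    intro v w
    have := ha v (a w)
    rw [haa] at this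
    rw [← this, map_neg, neg_neg]
  have hb' : ∀ v w, B (b v) w = -B v (b w) := by
    intro v w
    have := hb v (b w)
    rw [hbb] at this
    rw [← this, map_neg, neg_neg]
  let s : V →ₗ[F] V := α • a + β • b
  let d : V →ₗ[F] V := β • a - α • b
  have hsv : ∀ v, s v = α • a v + β • b v := fun v => rfl
  have hdv : ∀ v, d v = β • a v - α • b v := fun v => rfl
  have hss : ∀ v, s (s v) = v := by
    intro v
    simp only [hsv, map_add, map_smul, haa, hbb, hab]
    have : (α • (α • -v + β • -(b (a v))) + β • (α • b (a v) + β • -v) : V)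
        = (-(α * α + β * β)) • v := by module
    rw [this, hαβ, neg_neg, one_smul]
  have hdd : ∀ v, d (d v) = v := by
    intro v
    simp only [hdv, map_sub, map_smul, haa, hbb, hab]
    have : (β • (β • -v - α • -(b (a v))) - α • (β • b (a v) - α • -v) : V)
        = (-(α * α + β * β)) • v := by module
    rw [this, hαβ, neg_neg, one_smul]
  have hsd : ∀ v, s (d v) = -d (s v) := by
    intro v
    simp only [hdv, hsv, map_sub, map_add, map_smul, haa, hbb, hab]
    module
  have hsB : ∀ v w, B (s v) w = -B v (s w) := by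
    intro v w
    simp only [hsv, map_add, map_smul, LinearMap.add_apply, LinearMap.smul_apply, ha', hb',
      smul_eq_mul]
    ring
  have hdB : ∀ v w, B (d v) w = -B v (d w) := by
    intro v w
    simp only [hdv, map_sub, map_smul, LinearMap.sub_apply, LinearMap.smul_apply, ha', hb',
      smul_eq_mul]
    ring
  let W : Submodule F V := LinearMap.ker (s - LinearMap.id)
  have hW : ∀ v, v ∈ W ↔ s v = v := by
    intro v
    simp only [W, LinearMap.mem_ker, LinearMap.sub_apply, LinearMap.id_apply, sub_eq_zero]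
  have hiso : ∀ v w, v ∈ W → w ∈ W → B v w = 0 := by
    intro v w hv hw
    have h1 := hsB v w
    rw [(hW v).mp hv, (hW w).mp hw] at h1
    have h3 : (2 : F) * B v w = 0 := by linear_combination h1
    exact (mul_eq_zero.mp h3).resolve_left h2
  have h22 : (2 : F)⁻¹ * 2 = 1 := inv_mul_cancel₀ h2
  have hplus : ∀ v, (2 : F)⁻¹ • (v + s v) ∈ W := by
    intro v
    rw [hW, map_smul, map_add, hss, add_comm]
  let P : V →ₗ[F] W := LinearMap.codRestrict W ((2 : F)⁻¹ • (LinearMap.id + s)) (fun v => hplus v)
  have hP : ∀ v, ((P v : W) : V) = (2 : F)⁻¹ • (v + s v) := fun v => rfl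
  have hdec : ∀ v, v = (2 : F)⁻¹ • (v + s v) + d ((2 : F)⁻¹ • (d v + s (d v))) := by
    intro v
    rw [map_smul, map_add, hdd, hsd, map_neg, hdd]
    have : ((2 : F)⁻¹ • (v + s v) + (2 : F)⁻¹ • (v + -s v) : V) = ((2 : F)⁻¹ * 2) • v := by module
    rw [this, h22, one_smul]
  let e : V ≃ₗ[F] W × W :=
    { toFun := fun v => (P v, P (d v))
      map_add' := fun v w => by simp
      map_smul' := fun c v => by simp
      invFun := fun p => (p.1 : V) + d (p.2 : V)
      left_inv := fun v => by
        simp only [hP]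
        exact (hdec v).symm
      right_inv := fun p => by
        obtain ⟨⟨v, hv⟩, ⟨w, hw⟩⟩ := p
        have hv' := (hW v).mp hv
        have hw' := (hW w).mp hw
        refine Prod.ext (Subtype.ext ?_) (Subtype.ext ?_)
        · change ((P (v + d w) : W) : V) = v
          rw [hP, map_add, hsd, hv', hw']
          have : ((2 : F)⁻¹ • (v + d w + (v + -d w)) : V) = ((2 : F)⁻¹ * 2) • v := by module
          rw [this, h22, one_smul]
        · change ((P (d (v + d w)) : W) : V) = w
          rw [hP, map_add, hdd, map_add, hsd, hv', hw']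
          have : ((2 : F)⁻¹ • (d v + w + (-d v + w)) : V) = ((2 : F)⁻¹ * 2) • w := by module
          rw [this, h22, one_smul] }
  have hfin : finrank F V = finrank F W + finrank F W := by
    rw [LinearEquiv.finrank_eq e, finrank_prod]
  have hev : Even (finrank F W) := by
    let f : LinearMap.BilinForm F W := (B.compl₁₂ W.subtype (d ∘ₗ W.subtype))
    have hf : ∀ v w : W, f v w = B (v : V) (d (w : V)) := fun v w => rfl
    refine even_of_skew h2 f (fun v w => ?_) (fun v hv => ?_)
    · rw [hf, hf, hs, hdB]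
    · refine Subtype.ext (hn _ fun u => ?_)
      rw [hdec u, map_add, hiso _ _ v.2 (hplus u), zero_add]
      exact hv ⟨_, hplus (d u)⟩
  obtain ⟨k, hk⟩ := hev
  exact ⟨k, by omega⟩

theorem exists_sq_add (F : Type*) [Field F] [Finite F] : ∃ α β : F, α * α + β * β = -1 := by
  classical
  obtain ⟨p, hp⟩ := CharP.exists F
  have hp0 : p ≠ 0 := by
    intro h
    subst h
    have := CharP.charP_to_charZero F
    exact (Infinite.of_injective (Nat.cast : ℕ → F) Nat.cast_injective).not_finite inferInstance
  have : NeZero p := ⟨hp0⟩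
  obtain ⟨x, y, h⟩ := CharP.sq_add_sq F p (-1)
  refine ⟨x, y, ?_⟩
  rw [← sq, ← sq, h]
  simp

/-- **(t2)** over a finite field -/
theorem four_dvd [Finite F] (h2 : (2 : F) ≠ 0)
    (B : LinearMap.BilinForm F V) (hs : ∀ v w, B v w = B w v)
    (hn : ∀ v, (∀ w, B v w = 0) → v = 0)
    (a b : V →ₗ[F] V) (ha : ∀ v w, B (a v) (a w) = B v w) (hb : ∀ v w, B (b v) (b w) = B v w)
    (haa : ∀ v, a (a v) = -v) (hbb : ∀ v, b (b v) = -v) (hab : ∀ v, a (b v) = -b (a v)) :
    4 ∣ finrank F V := by
  obtain ⟨α, β, h⟩ := exists_sq_add F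
  exact four_dvd_of h h2 B hs hn a b ha hb haa hbb hab

/-! ### The group form, for the isometry groups of the Prelude -/

section Iso

variable {ι : Type} [Fintype ι] [DecidableEq ι]

/-- the matrix of an isometry -/
abbrev mat {Q : (ι → F) → F} (g : Cfsg.isometryGroup F Q) : Matrix ι ι F :=
  ((g : Matrix.GeneralLinearGroup ι F) : Matrix ι ι F)

theorem mat_mul {Q : (ι → F) → F} (g h : Cfsg.isometryGroup F Q) : mat (g * h) = mat g * mat h :=
  rfl

theorem Q_mat {Q : (ι → F) → F} (g : Cfsg.isometryGroup F Q) (v : ι → F) :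
    Q (mat g *ᵥ v) = Q v := g.2 v v

theorem polar_mat {Q : (ι → F) → F} (g : Cfsg.isometryGroup F Q) (v w : ι → F) :
    QuadraticMap.polar Q (mat g *ᵥ v) (mat g *ᵥ w) = QuadraticMap.polar Q v w := by
  simp only [QuadraticMap.polar, ← Matrix.mulVec_add, Q_mat]

/-- **(t2) for isometries.** `Q` nondegenerate over a finite field of odd characteristic,
`u² = x² = [u,x] = -1` imply `4 ∣ dim`. -/
theorem four_dvd_card [Finite F] (h2 : (2 : F) ≠ 0) (Q : QuadraticForm F (ι → F))
    (hQ : (QuadraticMap.polarBilin Q).Nondegenerate)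
    {z u x : Cfsg.isometryGroup F (⇑Q)} (hz : mat z = -1) (hu : u * u = z) (hx : x * x = z)
    (hux : u * x = z * (x * u)) : 4 ∣ Fintype.card ι := by
  have huu : ∀ v, mat u *ᵥ (mat u *ᵥ v) = -v := by
    intro v
    rw [Matrix.mulVec_mulVec, ← mat_mul, hu, hz, Matrix.neg_mulVec, Matrix.one_mulVec]
  have hxx : ∀ v, mat x *ᵥ (mat x *ᵥ v) = -v := by
    intro v
    rw [Matrix.mulVec_mulVec, ← mat_mul, hx, hz, Matrix.neg_mulVec, Matrix.one_mulVec]
  have hab : ∀ v, mat u *ᵥ (mat x *ᵥ v) = -(mat x *ᵥ (mat u *ᵥ v)) := by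
    intro v
    rw [Matrix.mulVec_mulVec, Matrix.mulVec_mulVec, ← mat_mul, ← mat_mul, hux, mat_mul, hz,
      ← Matrix.mulVec_mulVec, Matrix.neg_mulVec, Matrix.one_mulVec]
  have key := four_dvd h2 (QuadraticMap.polarBilin Q)
    (fun v w => by
      rw [QuadraticMap.polarBilin_apply_apply, QuadraticMap.polarBilin_apply_apply]
      exact QuadraticMap.polar_comm _ _ _)
    (fun v hv => hQ.1 v hv)
    (Matrix.mulVecLin (mat u)) (Matrix.mulVecLin (mat x))
    (fun v w => polar_mat u v w) (fun v w => polar_mat x v w)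
    (fun v => huu v) (fun v => hxx v) (fun v => hab v)
  rwa [Module.finrank_fintype_fun_eq_card] at key

/-- the commutator form -/
theorem four_dvd_card' [Finite F] (h2 : (2 : F) ≠ 0) (Q : QuadraticForm F (ι → F))
    (hQ : (QuadraticMap.polarBilin Q).Nondegenerate)
    {z u x : Cfsg.isometryGroup F (⇑Q)} (hz : mat z = -1) (hu : u * u = z) (hx : x * x = z)
    (hux : u * x * u⁻¹ * x⁻¹ = z) : 4 ∣ Fintype.card ι := by
  refine four_dvd_card h2 Q hQ hz hu hx ?_
  rw [← hux]
  group

end Iso

end Cfsg.Agent.OddHalf.NI.QuatDim
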