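import Mathlib
import Cfsg.Agent.OddHalf.NI.QuatDim
import Cfsg.Agent.OddHalf.NI.FrameDef
import Cfsg.Agent.OddHalf.NI.LinEnd
import Cfsg.Agent.LieClassical.OrthCenter
import Cfsg.Agent.LieClassical.OrthForms
import Cfsg.Agent.LieClassical.OmegaReindex

/-!
# The end of (T') for the types `D_n`, `²D_n`, `n` odd

`Ω(V)`, `dim V` not divisible by four, has no central involution which lies in a quaternion group;
so an even central involution of a group `N` is in the kernel of every epimorphism `N → Ω(V)`.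
-/

set_option autoImplicit false

namespace Cfsg.Agent.OddHalf.NI.OmegaEnd

open Subgroup QuadraticMap
open scoped commutatorElement

variable {F : Type*} [Field F] [Finite F] {ι : Type} [Fintype ι] [DecidableEq ι]

theorem not_even8 (h2 : (2 : F) ≠ 0) (Q : QuadraticForm F (ι → F))
    (hQ : (polarBilin Q).Nondegenerate) (hn : 3 ≤ Fintype.card ι)
    (hs : ∃ u : ι → F, u ≠ 0 ∧ Q u = 0) (h4 : ¬ 4 ∣ Fintype.card ι)
    {z : Cfsg.Omega F (⇑Q)} (hz : z ∈ center (Cfsg.Omega F (⇑Q))) : ¬ Even8 z := by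
  rintro ⟨hord, u, x, hu, hx, hux⟩
  have hz1 : z ≠ 1 := by
    rintro rfl
    rw [orderOf_one] at hord
    omega
  have hneg : QuatDim.mat (z : Cfsg.isometryGroup F (⇑Q)) = -1 := by
    rcases (LieClassical.OrthCenter.mem_center_omega_iff hQ hn hs z).mp hz with h | h
    · exact absurd (Subtype.ext (Subtype.ext (Units.ext h))) hz1
    · exact h
  refine h4 (QuatDim.four_dvd_card' h2 Q hQ (z := (z : Cfsg.isometryGroup F (⇑Q)))
    (u := (u : Cfsg.isometryGroup F (⇑Q))) (x := (x : Cfsg.isometryGroup F (⇑Q))) hneg ?_ ?_ ?_)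
  · exact congrArg Subtype.val hu
  · exact congrArg Subtype.val hx
  · exact congrArg Subtype.val hux

/-- an even central involution dies in `Ω(V)`, `4 ∤ dim V` -/
theorem map_eq_one {N : Type*} [Group N] (h2 : (2 : F) ≠ 0) (Q : QuadraticForm F (ι → F))
    (hQ : (polarBilin Q).Nondegenerate) (hn : 3 ≤ Fintype.card ι)
    (hs : ∃ u : ι → F, u ≠ 0 ∧ Q u = 0) (h4 : ¬ 4 ∣ Fintype.card ι)
    {z : N} (hz : z ∈ center N) (h8 : Even8 z) (φ : N →* Cfsg.Omega F (⇑Q))
    (hφ : Function.Surjective φ) : φ z = 1 := by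
  by_contra hne
  refine not_even8 h2 Q hQ hn hs h4 (z := φ z) ?_ (h8.map φ hne)
  rw [mem_center_iff]
  intro g
  obtain ⟨n, rfl⟩ := hφ g
  rw [← map_mul, ← map_mul, mem_center_iff.mp hz n]

/-- **the end of (T') for `Ω(V)`, `4 ∤ dim V`** : `M` perfect, `φ : M → N` surjective with central kernel,
`α : M → Ω(V)` surjective. An even central involution of `N` is the image of an element of `ker α`. -/
theorem mem_map_ker {M N : Type*} [Group M] [Group N] (h2 : (2 : F) ≠ 0) (Q : QuadraticForm F (ι → F))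
    (hQ : (polarBilin Q).Nondegenerate) (hn : 3 ≤ Fintype.card ι)
    (hs : ∃ u : ι → F, u ≠ 0 ∧ Q u = 0) (h4 : ¬ 4 ∣ Fintype.card ι)
    (φ : M →* N) (hφ : Function.Surjective φ) (hk : φ.ker ≤ center M) (hM : commutator M = ⊤)
    (α : M →* Cfsg.Omega F (⇑Q)) (hα : Function.Surjective α)
    {z : N} (hz : z ∈ center N) (h8 : Even8 z) : z ∈ α.ker.map φ := by
  obtain ⟨hord, u, x, hu, hx, hux⟩ := h8
  obtain ⟨c, hc, hcz, -, u', x', rfl, rfl, hcux⟩ := LinEnd.exists_lift φ hφ hk hM hz hux (hu ▸ hz)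
  have cen : ∀ y : M, y ∈ center M → α y = 1 ∨ QuatDim.mat (α y : Cfsg.isometryGroup F (⇑Q)) = -1 := by
    intro y hy
    have hyc : α y ∈ center (Cfsg.Omega F (⇑Q)) := by
      rw [mem_center_iff]
      intro g
      obtain ⟨n, rfl⟩ := hα g
      rw [← map_mul, ← map_mul, mem_center_iff.mp hy n]
    rcases (LieClassical.OrthCenter.mem_center_omega_iff hQ hn hs (α y)).mp hyc with h | h
    · exact Or.inl (Subtype.ext (Subtype.ext (Units.ext h)))
    · exact Or.inr h
  have two : ∀ a b : M, QuatDim.mat (α a : Cfsg.isometryGroup F (⇑Q)) = -1 →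
      QuatDim.mat (α b : Cfsg.isometryGroup F (⇑Q)) = -1 → α (a * b) = 1 := by
    intro a b ha hb
    refine Subtype.ext (Subtype.ext (Units.ext ?_))
    change QuatDim.mat ((α (a * b) : Cfsg.Omega F (⇑Q)) : Cfsg.isometryGroup F (⇑Q)) = 1
    rw [map_mul, Subgroup.coe_mul, QuatDim.mat_mul, ha, hb]
    simp
  rcases cen c hc with h | h
  · exact ⟨c, h, hcz⟩
  have sqr : ∀ v : M, φ v * φ v = z →
      z ∈ α.ker.map φ ∨ α v * α v = α c := by
    intro v hv
    have hker : c⁻¹ * (v * v) ∈ φ.ker := by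
      rw [MonoidHom.mem_ker, map_mul, map_inv, map_mul, hcz, hv, inv_mul_cancel]
    rcases cen _ (hk hker) with h' | h'
    · right
      rw [map_mul, map_inv, map_mul, inv_mul_eq_one] at h'
      exact h'.symm
    · left
      refine ⟨c * (c⁻¹ * (v * v)), two _ _ h h', ?_⟩
      rw [map_mul, MonoidHom.mem_ker.mp hker, mul_one, hcz]
  rcases sqr u' hu with h' | hu'
  · exact h'
  rcases sqr x' hx with h' | hx'
  · exact h'
  exact absurd (QuatDim.four_dvd_card' h2 Q hQ (z := (α c : Cfsg.isometryGroup F (⇑Q)))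
    (u := (α u' : Cfsg.isometryGroup F (⇑Q))) (x := (α x' : Cfsg.isometryGroup F (⇑Q))) h
    (congrArg Subtype.val hu') (congrArg Subtype.val hx') (by
      have : α u' * α x' * (α u')⁻¹ * (α x')⁻¹ = α c := by
        rw [← hcux, map_mul, map_mul, map_mul, map_inv, map_inv]
      exact congrArg Subtype.val this)) h4

section forms

omit [Finite F] in
theorem nondeg_plus (m : ℕ) : (polarBilin (LieClassical.OrthForms.plusForm m F)).Nondegenerate :=
  LieClassical.OmegaReindex.nondegenerate_of_left _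
    (fun x hx => LieClassical.OrthForms.nondeg_plusForm m F x hx)

theorem nondeg_minus (m : ℕ) (a b : F)
    (hab : ∀ z₁ z₂ : F, z₁ ^ 2 + a * z₁ * z₂ + b * z₂ ^ 2 = 0 → z₁ = 0 ∧ z₂ = 0) :
    (polarBilin (LieClassical.OrthForms.minusForm m F a b)).Nondegenerate :=
  LieClassical.OmegaReindex.nondegenerate_of_left _
    (fun x hx => LieClassical.OrthForms.nondeg_minusForm m F a b hab x hx)

theorem plus_end {N : Type*} [Group N] (h2 : (2 : F) ≠ 0) {m : ℕ} (hm : 2 ≤ m) (hodd : Odd m)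
    {z : N} (hz : z ∈ center N) (h8 : Even8 z)
    (φ : N →* Cfsg.Omega F (Cfsg.quadFormPlus m F)) (hφ : Function.Surjective φ) : φ z = 1 := by
  revert φ
  rw [← LieClassical.OrthForms.coe_plusForm m F]
  intro φ hφ
  refine map_eq_one h2 _ (nondeg_plus m) ?_ ?_ ?_ hz h8 φ hφ
  · simp only [Fintype.card_sum, Fintype.card_fin]; omega
  · refine ⟨Pi.single (Sum.inl ⟨0, by omega⟩) 1, ?_, ?_⟩
    · intro h
      have := congrFun h (Sum.inl ⟨0, by omega⟩)
      simp at this
    · rw [LieClassical.OrthForms.coe_plusForm, LieClassical.OrthForms.quadFormPlus_apply]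
      simp
  · simp only [Fintype.card_sum, Fintype.card_fin]
    obtain ⟨k, rfl⟩ := hodd
    omega

theorem minus_end {N : Type*} [Group N] (h2 : (2 : F) ≠ 0) {m : ℕ} (hm : 2 ≤ m) (hodd : Odd m)
    (a b : F) (hab : ∀ z₁ z₂ : F, z₁ ^ 2 + a * z₁ * z₂ + b * z₂ ^ 2 = 0 → z₁ = 0 ∧ z₂ = 0)
    {z : N} (hz : z ∈ center N) (h8 : Even8 z)
    (φ : N →* Cfsg.Omega F (Cfsg.quadFormMinus (m - 1) F a b)) (hφ : Function.Surjective φ) :
    φ z = 1 := by
  revert φ
  rw [← LieClassical.OrthForms.coe_minusForm (m - 1) F a b]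
  intro φ hφ
  refine map_eq_one h2 _ (nondeg_minus (m - 1) a b hab) ?_ ?_ ?_ hz h8 φ hφ
  · simp only [Fintype.card_sum, Fintype.card_fin]; omega
  · refine ⟨Pi.single (Sum.inl (Sum.inl ⟨0, by omega⟩)) 1, ?_, ?_⟩
    · intro h
      have := congrFun h (Sum.inl (Sum.inl ⟨0, by omega⟩))
      simp at this
    · rw [LieClassical.OrthForms.coe_minusForm, LieClassical.OrthForms.quadFormMinus_apply]
      simp
  · simp only [Fintype.card_sum, Fintype.card_fin]
    obtain ⟨k, rfl⟩ := hodd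
    omega

/-- the end for `²D_m` / `D_m` with a perfect common cover `M` of `N` and `Ω(V)` -/
theorem plus_mem_map_ker {M N : Type*} [Group M] [Group N] (h2 : (2 : F) ≠ 0) {m : ℕ} (hm : 2 ≤ m)
    (hodd : Odd m) (φ : M →* N) (hφ : Function.Surjective φ) (hk : φ.ker ≤ center M)
    (hM : commutator M = ⊤) (α : M →* Cfsg.Omega F (Cfsg.quadFormPlus m F))
    (hα : Function.Surjective α) {z : N} (hz : z ∈ center N) (h8 : Even8 z) :
    z ∈ α.ker.map φ := by
  revert α
  rw [← LieClassical.OrthForms.coe_plusForm m F]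
  intro α hα
  refine mem_map_ker h2 _ (nondeg_plus m) ?_ ?_ ?_ φ hφ hk hM α hα hz h8
  · simp only [Fintype.card_sum, Fintype.card_fin]; omega
  · refine ⟨Pi.single (Sum.inl ⟨0, by omega⟩) 1, ?_, ?_⟩
    · intro h
      have := congrFun h (Sum.inl ⟨0, by omega⟩)
      simp at this
    · rw [LieClassical.OrthForms.coe_plusForm, LieClassical.OrthForms.quadFormPlus_apply]
      simp
  · simp only [Fintype.card_sum, Fintype.card_fin]
    obtain ⟨k, rfl⟩ := hodd
    omega

theorem minus_mem_map_ker {M N : Type*} [Group M] [Group N] (h2 : (2 : F) ≠ 0) {m : ℕ} (hm : 2 ≤ m)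
    (hodd : Odd m) (a b : F)
    (hab : ∀ z₁ z₂ : F, z₁ ^ 2 + a * z₁ * z₂ + b * z₂ ^ 2 = 0 → z₁ = 0 ∧ z₂ = 0)
    (φ : M →* N) (hφ : Function.Surjective φ) (hk : φ.ker ≤ center M)
    (hM : commutator M = ⊤) (α : M →* Cfsg.Omega F (Cfsg.quadFormMinus (m - 1) F a b))
    (hα : Function.Surjective α) {z : N} (hz : z ∈ center N) (h8 : Even8 z) :
    z ∈ α.ker.map φ := by
  revert α
  rw [← LieClassical.OrthForms.coe_minusForm (m - 1) F a b]
  intro α hα
  refine mem_map_ker h2 _ (nondeg_minus (m - 1) a b hab) ?_ ?_ ?_ φ hφ hk hM α hα hz h8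
  · simp only [Fintype.card_sum, Fintype.card_fin]; omega
  · refine ⟨Pi.single (Sum.inl (Sum.inl ⟨0, by omega⟩)) 1, ?_, ?_⟩
    · intro h
      have := congrFun h (Sum.inl (Sum.inl ⟨0, by omega⟩))
      simp at this
    · rw [LieClassical.OrthForms.coe_minusForm, LieClassical.OrthForms.quadFormMinus_apply]
      simp
  · simp only [Fintype.card_sum, Fintype.card_fin]
    obtain ⟨k, rfl⟩ := hodd
    omega

end forms

end Cfsg.Agent.OddHalf.NI.OmegaEnd
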