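import Cfsg.Agent.OddHalf.NI.OmegaPlus
import Cfsg.Agent.OddHalf.NI.OmegaSheet
import Cfsg.Agent.OddHalf.NI.FrameFactOf

/-!
# (T') for `PΩ⁺_{2m}(q)`, `m ≥ 4` (ODD node NI; helper601)

* `sheet` : the sheet of `Ω⁺_{2m}(q)`;
* `row` : the row `omPlus` of `FrameFactOf.Open`.
-/

set_option autoImplicit false

namespace Cfsg.Agent.OddHalf.NI.OmegaPlusRow

open CoxeterSystem Cfsg.Agent.ChevalleyStructure.CoxeterGeom Cfsg.Agent.Tits.Roots
open Cfsg.Agent.LieClassical Cfsg.Agent.LieClassical.OrthCore Cfsg.Agent.LieClassical.OrthTrans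
open Cfsg.Agent.LieClassical.OrthSimple Cfsg.Agent.LieClassical.OrthFinite Cfsg.Agent.LieClassical.OrthForms
open Cfsg.Agent.TitsThree.KSideO Cfsg.Agent.Nodes Cfsg.Agent.Nodes.RGDOrth

universe u

/-- **The sheet of `Ω⁺_{2(n+2)}(q)`.** -/
noncomputable def sheet (F : Type) [Field F] [Fintype F] {p : ℕ} [Fact p.Prime] [CharP F p] (hp2 : Odd p)
    {n : ℕ} (hn : 1 ≤ n) : OmegaSheet.Sheet ↥(E (plusForm (n + 2) F)) p F :=
  let cs : CoxeterSystem (TypeD.M n) (TypeD.M n).Group := (TypeD.M n).toCoxeterSystem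
  have hf : Finite (TypeD.M n).Group := TypeD.finite_W cs
  let _ : Fintype (TypeD.M n).Group := Fintype.ofFinite _
  have h2 : (2 : F) ≠ 0 := LongSL.Orth.two_ne hp2
  { I := Fin (n + 2)
    W := (TypeD.M n).Group
    Mx := TypeD.M n
    cs := cs
    A := TypeD.A n
    h := TypeD.isCartan n
    T := OmegaPlus.T (wplus (n + 2) F)
    n := OmegaPlus.nE (wplus (n + 2) F) h2
    X := OmegaPlus.X (wplus (n + 2) F)
    R := {x | IsRoot cs (TypeD.isCartan n) x}
    Z := OmegaPlus.X (wplus (n + 2) F)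
    z := OmegaPlus.zz (wplus (n + 2) F)
    cls := OmegaPlus.cls (wplus (n + 2) F) h2 hp2 (wplus_adm _ F) cs
    gen := OmegaPlus.G1_eq_top (wplus (n + 2) F) cs (wplus_adm _ F)
    tr := OmegaPlus.tr cs hn
    sl := OmegaPlus.sl_root (wplus (n + 2) F) cs
    lnk := OmegaPlus.lnk cs hn
    Fi := fun _ => F
    s := OmegaPlus.s (wplus (n + 2) F)
    coord := OmegaPlus.coord (wplus (n + 2) F)
    θ := OmegaPlus.th (wplus (n + 2) F)
    hθ := OmegaPlus.th_single (wplus (n + 2) F)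
    k1 := fun _ ht => OmegaPlus.k1 (wplus (n + 2) F) ht }

theorem good_plus (F : Type) [Field F] [Fintype F] {m : ℕ} (hm : 3 ≤ m) : Good (plusForm m F) := by
  apply good_of_finite (nondeg_plusForm m F)
  rw [Module.finrank_fintype_fun_eq_card, Fintype.card_sum, Fintype.card_fin]
  omega

/-- **The row `omPlus` of (T').** -/
theorem row (F : Type) [Field F] [Fintype F] (m : ℕ) (ho : Odd (Fintype.card F)) (hc : 3 < Fintype.card F)
    (hm : 4 ≤ m) : FrameFactOf.Row.{u} (Cfsg.POmega F (Cfsg.quadFormPlus m F)) := by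
  rintro N _ _ hq hZ ⟨e⟩ z hz h8
  obtain ⟨p, hpc⟩ := CharP.exists F
  have hp : Fact p.Prime := ⟨CharP.char_is_prime F p⟩
  have hpo : Odd p := by
    rcases hp.out.eq_two_or_odd' with h | h
    · subst h
      exfalso
      obtain ⟨k, -, hk⟩ := FiniteField.card F 2
      rw [hk, Nat.odd_pow_iff k.ne_zero] at ho
      exact absurd ho (by decide)
    · exact h
  have hp2 : p ≠ 2 := by rintro rfl; exact absurd hpo (by decide)
  have h2 : (2 : F) ≠ 0 := LongSL.Orth.two_ne hpo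
  obtain ⟨n, rfl⟩ : ∃ n, m = n + 2 := ⟨m - 2, by omega⟩
  rw [← coe_plusForm] at e
  refine OmegaSheet.frame_POmega (good_plus F (by omega)) hp.out hp2 h2 ho hc (sheet F hpo (n := n) (by omega)) ?_
    hq.1.commutator_eq_top hZ e hz h8
  intro h4 t ht
  refine OmegaPlus.k2 (wplus (n + 2) F) (good_plus F (by omega)) ?_ ht
  rw [Fintype.card_sum, Fintype.card_fin] at h4
  rw [Nat.even_iff]
  omega

end Cfsg.Agent.OddHalf.NI.OmegaPlusRow
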