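import Mathlib
import Cfsg.Agent.Nodes.ClsWitt
import Cfsg.Agent.Nodes.KindBC
import Cfsg.Agent.OddHalf.LongSL.Orth

/-!
# The long root groups of an orthogonal Witt frame (ODD node NI; helper448)

Labels of type `C_n` (the roots `± ε_i ± ε_j` are the long roots of the orthogonal group): the structure `Cls` on
`R = RB n`, `Z = X`, `z = Phi (-1)`; the group is `E Q`.

* `cls`, `clsE` : in `GL(V)` and in `E Q`;
* `genE` : the root groups generate `E Q`;
* `slE` : `X r ⊔ X (-r) ≃ SL(2, F)`;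
* `lnk` : a long root linked to a simple root.
-/

set_option autoImplicit false
set_option linter.unusedSectionVars false

namespace Cfsg.Agent.OddHalf.NI.ClsOrth

open CoxeterSystem Cfsg.Agent.ChevalleyStructure.CoxeterGeom Cfsg.Agent.Tits.Roots Cfsg.Agent.Tits.Core
  Cfsg.Agent.Tits.RootComb Cfsg.Agent.Nodes.Comb Cfsg.Agent.Nodes.Reps Cfsg.Agent.Nodes.BNOf
  Cfsg.Agent.Nodes.RGDLib Cfsg.Agent.Nodes.Chart
open QuadraticMap
open Matrix (SpecialLinearGroup)
open Cfsg.Agent.LieClassical Cfsg.Agent.LieClassical.OrthCore Cfsg.Agent.LieClassical.OrthTrans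
open Cfsg.Agent.LieClassical.OrthSimple Cfsg.Agent.LieClassical.OrthFinite Cfsg.Agent.LieClassical.OrthForms
open Cfsg.Agent.LieClassical.SLTwoUnipotent (eq_top_of_u_mem_of_l_mem)
open Cfsg.Agent.TitsThree Cfsg.Agent.TitsThree.Siegel Cfsg.Agent.TitsThree.SiegelGen
  Cfsg.Agent.TitsThree.WittFrame Cfsg.Agent.TitsThree.WittWeyl Cfsg.Agent.TitsThree.WBridge
  Cfsg.Agent.TitsThree.KSideO
open Cfsg.Agent.Nodes
open Cfsg.Agent.Nodes.WittRoot (Amb XG ZG PG PG_ne PG_self Mono XG_swap rg rg_eq)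
open Cfsg.Agent.Nodes.WittRGD (Tor mem_Tor b_ne_zero eq_or_ng nn nn_mem mono_nn)
open Cfsg.Agent.Nodes.TypeC Cfsg.Agent.Nodes.TypeCForm Cfsg.Agent.Nodes.KindBC
open Cfsg.Agent.Nodes.RGDOrth
open Cfsg.Agent.OddHalf.LongSL.OrthPhi Cfsg.Agent.OddHalf.LongSL.Orth

section General

variable {F V : Type*} [Field F] [AddCommGroup V] [Module F V] {Q : QuadraticForm F V} {n : ℕ}
  (W : WFrame (PO Q) n)

/-- the sign of `j` on the frame vectors -/
theorem j_apply {x y : Fin n × Bool} (hxy : x.1 ≠ y.1) (c : Fin n × Bool) :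
    Phi (toFrame W) hxy (-1) ((toFrame W).b c) =
      (if c.1 = x.1 ∨ c.1 = y.1 then (-1 : F) else 1) • (toFrame W).b c := by
  split_ifs with h
  · exact j_of_eq _ hxy h
  · push Not at h
    rw [Phi_of_ne _ hxy _ h.1 h.2, one_smul]

open Classical in
/-- the involution of a long root -/
noncomputable def zv (x : Fin n → ℤ) : V ≃ₗ[F] V :=
  if h : ∃ a b : Fin n × Bool, a.1 ≠ b.1 ∧ ee x = wt a + wt b then
    Phi (toFrame W) h.choose_spec.choose_spec.1 (-1) else 1

variable {W} (hA : Amb (toFrame W) (E Q))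

include hA

/-- `j` depends only on the pair of coordinates -/
theorem j_congr {x y x' y' : Fin n × Bool} (hxy : x.1 ≠ y.1) (hxy' : x'.1 ≠ y'.1)
    (h : ∀ k : Fin n, (k = x.1 ∨ k = y.1) ↔ (k = x'.1 ∨ k = y'.1)) :
    Phi (toFrame W) hxy (-1) = Phi (toFrame W) hxy' (-1) := by
  apply ClsWitt.ext_frame hA
  · intro c
    rw [j_apply, j_apply]
    simp only [h]
  · intro w hw
    rw [Phi_V0 _ _ _ hw, Phi_V0 _ _ _ hw]

theorem zv_eq {x : Fin n → ℤ} {a b : Fin n × Bool} (hab : a.1 ≠ b.1) (e : ee x = wt a + wt b) :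
    zv W x = Phi (toFrame W) hab (-1) := by
  have h : ∃ a b : Fin n × Bool, a.1 ≠ b.1 ∧ ee x = wt a + wt b := ⟨a, b, hab, e⟩
  unfold zv
  rw [dif_pos h]
  rcases wt_add_eq (Or.inl hab) (Or.inl h.choose_spec.choose_spec.1)
    (e.symm.trans h.choose_spec.choose_spec.2) with ⟨h1, h2⟩ | ⟨h1, h2⟩
  · apply j_congr hA
    intro k
    rw [congrArg Prod.fst h1, congrArg Prod.fst h2]
  · apply j_congr hA
    intro k
    rw [congrArg Prod.fst h1, congrArg Prod.fst h2]
    exact or_comm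

theorem j_sq {x y : Fin n × Bool} (hxy : x.1 ≠ y.1) :
    Phi (toFrame W) hxy (-1) * Phi (toFrame W) hxy (-1) = 1 := by
  rw [← map_mul, neg_mul_neg, one_mul, map_one]

theorem j_inv {x y : Fin n × Bool} (hxy : x.1 ≠ y.1) :
    (Phi (toFrame W) hxy (-1))⁻¹ = Phi (toFrame W) hxy (-1) :=
  inv_eq_of_mul_eq_one_right (j_sq hA hxy)

theorem j_conj {g : V ≃ₗ[F] V} (hg : g ∈ E Q) {i : Fin n} (hm : Mono (toFrame W) g (sg i)) {x y : Fin n × Bool}
    (hxy : x.1 ≠ y.1) (hxy' : (sg i x).1 ≠ (sg i y).1) :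
    g * Phi (toFrame W) hxy (-1) * g⁻¹ = Phi (toFrame W) hxy' (-1) := by
  rw [mul_inv_eq_iff_eq_mul]
  apply ClsWitt.ext_frame hA
  · intro c
    obtain ⟨l, -, e⟩ := hm c
    rw [mul_apply', mul_apply', j_apply, map_smul, e, map_smul, j_apply, smul_comm]
    congr 2
    simp only [sg_fst_eq]
  · intro w hw
    rw [mul_apply', mul_apply', Phi_V0 _ _ _ hw, Phi_V0 _ _ _ (hA.map_V0 hg hm (sg_sg i) hw)]

theorem j_T {t : V ≃ₗ[F] V} (ht : t ∈ Tor (toFrame W) (E Q)) {x y : Fin n × Bool} (hxy : x.1 ≠ y.1) :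
    Phi (toFrame W) hxy (-1) * t = t * Phi (toFrame W) hxy (-1) := by
  apply ClsWitt.ext_frame hA
  · intro c
    obtain ⟨l, -, e⟩ := ht.2 c
    have e' : t ((toFrame W).b c) = l • (toFrame W).b c := e
    rw [mul_apply', mul_apply', j_apply, map_smul, e', map_smul, j_apply, smul_comm]
  · intro w hw
    rw [mul_apply', mul_apply', Phi_V0 _ _ _ hw,
      Phi_V0 _ _ _ (hA.map_V0 ht.1 ht.2 (ρ := id) (fun _ => rfl) hw)]

omit hA in
theorem XG_le_range {x y : Fin n × Bool} (hxy : x.1 ≠ y.1) :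
    XG (toFrame W) x y ⊔ XG (toFrame W) (ng x) (ng y) = (Phi (toFrame W) hxy).range := by
  have e1 : XG (toFrame W) (ng x) (ng y) = XG (toFrame W) (neg y) (neg x) := XG_swap _ hxy
  rw [e1]
  apply le_antisymm
  · refine sup_le ?_ ?_
    · rintro _ ⟨t, rfl⟩
      exact ⟨SLTwoUnipotent.u t, Phi_u _ hxy t⟩
    · rintro _ ⟨t, rfl⟩
      exact ⟨SLTwoUnipotent.l t, Phi_l _ hxy t⟩
  · have key : (XG (toFrame W) x y ⊔ XG (toFrame W) (neg y) (neg x)).comap (Phi (toFrame W) hxy) = ⊤ := by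
      apply eq_top_of_u_mem_of_l_mem
      · intro t
        rw [Subgroup.mem_comap, Phi_u]
        exact (le_sup_left : XG (toFrame W) x y ≤ _) ⟨t, rfl⟩
      · intro t
        rw [Subgroup.mem_comap, Phi_l]
        exact (le_sup_right : XG (toFrame W) (neg y) (neg x) ≤ _) ⟨t, rfl⟩
    rintro _ ⟨g, rfl⟩
    exact Subgroup.mem_comap.1 (key ▸ Subgroup.mem_top g)

omit hA in
theorem ee_neg_rt {r : Fin n → ℤ} {a b : Fin n × Bool} (e : ee r = wt a + wt b) :
    ee (-r) = wt (ng a) + wt (ng b) := by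
  rw [ee_neg, e, wt_ng, wt_ng]; abel

omit hA in
theorem rg_sup {r : Fin n → ℤ} {a b : Fin n × Bool} (hab : a.1 ≠ b.1) (e : ee r = wt a + wt b) :
    rg (toFrame W) r ⊔ rg (toFrame W) (-r) = (Phi (toFrame W) hab).range := by
  rw [rg_eq (toFrame W) (Or.inl hab) e, rg_eq (toFrame W) (a := ng a) (b := ng b) (Or.inl hab) (ee_neg_rt e),
    PG_ne _ hab, PG_ne _ (a := ng a) (b := ng b) hab, XG_le_range]

omit hA in
theorem ng_ne (a : Fin n × Bool) : ng a ≠ a := by
  obtain ⟨i, s⟩ := a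
  cases s <;> simp [ng]

omit hA in
theorem not_or {a b : Fin n × Bool} (hab : a.1 ≠ b.1) : ¬ (ng a = a ∨ ng a = b) := by
  rintro (h | h)
  · exact ng_ne a h
  · exact hab (by rw [← h]; rfl)

omit hA in
theorem not_or' {a b : Fin n × Bool} (hab : a.1 ≠ b.1) : ¬ (ng b = a ∨ ng b = b) := by
  rw [or_comm]
  exact not_or hab.symm

omit hA in
/-- the scalar products -/
theorem ip_one {a b c : Fin n × Bool} (hab : a.1 ≠ b.1) :
    ip (wt c) (wt a) + ip (wt c) (wt b) = if c = a ∨ c = b then 1 else if c = ng a ∨ c = ng b then -1 else 0 := by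
  by_cases h1 : c.1 = a.1
  · rw [ip_wt_ne (a := c) (b := b) (fun h' => hab (h1.symm.trans h'))]
    rcases eq_or_ng h1 with rfl | rfl
    · rw [if_pos (Or.inl rfl), ip_wt_self, add_zero]
    · rw [if_neg (not_or hab), if_pos (Or.inl rfl), ip_wt_ng, add_zero]
  · by_cases h2 : c.1 = b.1
    · rw [ip_wt_ne h1]
      rcases eq_or_ng h2 with rfl | rfl
      · rw [if_pos (Or.inr rfl), ip_wt_self, zero_add]
      · rw [if_neg (not_or' hab), if_pos (Or.inr rfl), ip_wt_ng, zero_add]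
    · rw [ip_wt_ne h1, ip_wt_ne h2, if_neg, if_neg, add_zero]
      · rintro (h | h)
        · exact h1 (by rw [h]; rfl)
        · exact h2 (by rw [h]; rfl)
      · rintro (h | h)
        · exact h1 (by rw [h])
        · exact h2 (by rw [h])

omit hA in
/-- the other coordinate -/
theorem other {a b d : Fin n × Bool} (hda : d.1 ≠ a.1)
    (h0 : 0 ≤ (-1 : ℤ) + if d = a ∨ d = b then 1 else if d = ng a ∨ d = ng b then -1 else 0) : d = b := by
  have h3 : d ≠ a := fun h => hda (by rw [h])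
  by_contra h5
  rw [if_neg (by tauto)] at h0
  split_ifs at h0 <;> omega

omit hA in
theorem other' {a b d : Fin n × Bool} (hdb : d.1 ≠ b.1)
    (h0 : 0 ≤ (-1 : ℤ) + if d = a ∨ d = b then 1 else if d = ng a ∨ d = ng b then -1 else 0) : d = a := by
  have h3 : d ≠ b := fun h => hdb (by rw [h])
  by_contra h5
  rw [if_neg (by tauto)] at h0
  split_ifs at h0 <;> omega

omit hA in
/-- roots with non-negative product commute -/
theorem commute_of {a b c d : Fin n × Bool} (hab : a.1 ≠ b.1) (hcd : Ok c d)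
    (h0 : 0 ≤ ip (wt c + wt d) (wt a + wt b)) {g k : V ≃ₗ[F] V} (hg : g ∈ PG (toFrame W) c d)
    (hk : k ∈ XG (toFrame W) a b) : Commute g k := by
  obtain ⟨t, rfl⟩ := hk
  have hip : ip (wt c + wt d) (wt a + wt b) =
      (ip (wt c) (wt a) + ip (wt c) (wt b)) + (ip (wt d) (wt a) + ip (wt d) (wt b)) := by
    rw [ip_add_left, ip_add_right, ip_add_right]
  rw [hip, ip_one hab, ip_one hab] at h0
  rcases hcd with hcd | rfl
  · rw [PG_ne _ hcd] at hg
    obtain ⟨s, rfl⟩ := hg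
    by_cases h1 : c = ng a
    · subst h1
      rw [if_neg (not_or hab), if_pos (Or.inl rfl)] at h0
      have h2 : d = b := other (a := a) (b := b) (Ne.symm hcd) h0
      subst h2
      exact (comm_X_nx W hab s).1 t
    · by_cases h1' : c = ng b
      · subst h1'
        rw [if_neg (not_or' hab), if_pos (Or.inr rfl)] at h0
        have h2 : d = a := other' (a := a) (b := b) (Ne.symm hcd) h0
        subst h2
        rw [Frame.X_swap (toFrame W) hcd]
        exact (comm_X_ny W hab _).1 t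
      · by_cases h2 : d = ng a
        · subst h2
          rw [add_comm, if_neg (not_or hab), if_pos (Or.inl rfl)] at h0
          have h3 : c = b := other (a := a) (b := b) hcd h0
          subst h3
          rw [Frame.X_swap (toFrame W) hcd]
          exact (comm_X_nx W hab _).1 t
        · by_cases h2' : d = ng b
          · subst h2'
            rw [add_comm, if_neg (not_or' hab), if_pos (Or.inr rfl)] at h0
            have h3 : c = a := other' (a := a) (b := b) hcd h0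
            subst h3
            exact (comm_X_ny W hab s).1 t
          · refine Frame.commute_XX _ ?_ ?_ ?_ ?_ _ _
            · intro h; exact h1 (by rw [h]; exact (ng_ng _).symm)
            · intro h; exact h2 (by rw [h]; exact (ng_ng _).symm)
            · intro h; exact h1' (by rw [h]; exact (ng_ng _).symm)
            · intro h; exact h2' (by rw [h]; exact (ng_ng _).symm)
  · rw [PG_self] at hg
    obtain ⟨q, rfl⟩ := hg
    have h1 : ¬ (c = ng a ∨ c = ng b) := by
      intro h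
      have h4 : ¬ (c = a ∨ c = b) := by
        rcases h with rfl | rfl
        · exact not_or hab
        · exact not_or' hab
      rw [if_neg h4, if_pos h] at h0
      omega
    refine Frame.commute_ZX _ ?_ ?_ _ _
    · intro h
      exact h1 (Or.inl (by rw [h]; exact (ng_ng _).symm))
    · intro h
      exact h1 (Or.inr (by rw [h]; exact (ng_ng _).symm))

theorem conj_XX {a b c d : Fin n × Bool} (hab : a.1 ≠ b.1) (hcd : c.1 ≠ d.1)
    (h : ¬ ((c.1 = a.1 ∨ c.1 = b.1) ↔ (d.1 = a.1 ∨ d.1 = b.1))) {g : V ≃ₗ[F] V} (hg : g ∈ XG (toFrame W) c d) :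
    Phi (toFrame W) hab (-1) * g * Phi (toFrame W) hab (-1) = g⁻¹ := by
  obtain ⟨t, rfl⟩ := hg
  have h1 := cj_X W hab (hA := hA) hcd (j_apply W hab c) (j_apply W hab d) t
  rw [j_inv hA] at h1
  rw [h1, ← Frame.X_neg]
  congr 1
  by_cases h2 : c.1 = a.1 ∨ c.1 = b.1
  · have h3 : ¬ (d.1 = a.1 ∨ d.1 = b.1) := fun h3 => h ⟨fun _ => h3, fun _ => h2⟩
    rw [if_pos h2, if_neg h3]
    ring
  · have h3 : d.1 = a.1 ∨ d.1 = b.1 := by
      by_contra h3
      exact h ⟨fun h4 => absurd h4 h2, fun h4 => absurd h4 h3⟩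
    rw [if_neg h2, if_pos h3]
    ring

theorem conj_ZZ {a b c : Fin n × Bool} (hab : a.1 ≠ b.1) (h : c.1 = a.1 ∨ c.1 = b.1) {g : V ≃ₗ[F] V}
    (hg : g ∈ ZG (toFrame W) c) :
    Phi (toFrame W) hab (-1) * g * Phi (toFrame W) hab (-1) = g⁻¹ := by
  obtain ⟨q, rfl⟩ := hg
  have h1 := conj_Z (toFrame W) (hA.iso _ (Phi_mem' W hab (-1))) (j_of_eq _ hab h) q q
    (Phi_V0 _ hab _ q.ok.1) rfl
  have h2 : (HO Q).σ (-1) = -1 := rfl
  rw [h2, smul_neg_one, Frame.Z_inv, j_inv hA] at h1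
  exact h1

theorem j_ne_one (h2 : (2 : F) ≠ 0) {a b : Fin n × Bool} (hab : a.1 ≠ b.1) : Phi (toFrame W) hab (-1) ≠ 1 := by
  intro h
  have h1 := j_of_eq (toFrame W) hab (z := a) (Or.inl rfl)
  rw [h] at h1
  have h3 : (toFrame W).b a = (-1 : F) • (toFrame W).b a := h1
  have h4 : (2 : F) • (toFrame W).b a = 0 := by
    rw [two_smul]
    nth_rw 1 [h3]
    rw [neg_one_smul, neg_add_cancel]
  exact b_ne_zero a ((smul_eq_zero.1 h4).resolve_left h2)

/-- **The long root groups of an orthogonal Witt frame.** -/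
theorem cls [Finite V] {p : ℕ} [Fact p.Prime] [CharP F p] (hp2 : Odd p) {p0 : (toFrame W).Adm} (hp0 : p0.c ≠ 0)
    {C : Type*} [Group C] [Fintype C] (cs : CoxeterSystem (CoxeterMatrix.B n) C) :
    Cls cs (isCartan n) p (Tor (toFrame W) (E Q)) (nn (toFrame W) p0) (rg (toFrame W)) (RB n) (rg (toFrame W))
      (zv W) := by
  have h2 : (2 : F) ≠ 0 := by
    intro h0
    have h1 : (p : ℕ) ∣ 2 := (CharP.cast_eq_zero_iff F p 2).1 (by exact_mod_cast h0)
    have h3 := (Nat.prime_dvd_prime_iff_eq Fact.out Nat.prime_two).1 h1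
    rw [h3] at hp2
    exact absurd hp2 (by decide)
  refine
    { rgd := WittRGD.rgd hA hp2 hp0 cs
      root := fun r hr => root_RB cs hr
      act := fun r hr w => act_RB cs hr w
      le := fun r _ => le_rfl
      ne_bot := ?_, conj := ?_, tor := ?_, cent := ?_, notp := ?_,
      z_mem := ?_, z_torus := ?_, z_T := ?_, z_sq := ?_, z_conj := ?_, z_neg := ?_, z_cent := ?_,
      z_inv := ?_, z_inv_self := ?_ }
  · rintro r ⟨a, b, hab, e⟩ hbot
    rw [rg_eq (toFrame W) (Or.inl hab) e, PG_ne _ hab] at hbot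
    have h1 : (toFrame W).X a b 1 ∈ XG (toFrame W) a b := ⟨1, rfl⟩
    rw [hbot, Subgroup.mem_bot, ← Phi_u _ hab, map_eq_one_iff _ (Phi_injective _ hab)] at h1
    have h3 := congrArg (fun g : SpecialLinearGroup (Fin 2) F => g.1 0 1) h1
    simp [SLTwoUnipotent.u] at h3
  · rintro i r ⟨a, b, hab, e⟩
    rw [rg_eq (toFrame W) (Or.inl hab) e, rep_simple, rg_eq (toFrame W) (Ok.sg (Or.inl hab) i) (ee_refl_of e)]
    exact hA.cj_sg (nn_mem hA p0 i) (mono_nn hp0 i) (Or.inl hab)
  · rintro r ⟨a, b, hab, e⟩ t ht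
    rw [rg_eq (toFrame W) (Or.inl hab) e]
    exact hA.cj_id ht.1 ht.2 (Or.inl hab)
  · rintro r ⟨a, b, hab, e⟩ y hy hf g hg k hk
    rw [rg_eq (toFrame W) (Or.inl hab) e, PG_ne _ hab] at hk
    obtain ⟨c, d, hcd, ey⟩ := exists_of_isRoot cs hy
    rw [rg_eq (toFrame W) hcd ey] at hg
    rw [form_nonneg_iff cs (root_RB cs ⟨a, b, hab, e⟩), e, ey] at hf
    exact commute_of hab hcd hf hg hk
  · rintro r ⟨a, b, hab, e⟩ hP
    rw [rg_sup hab e] at hP
    obtain ⟨k, hk⟩ := hP ⟨Phi (toFrame W) hab (-1), ⟨-1, rfl⟩⟩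
    have hk' : Phi (toFrame W) hab (-1) ^ p ^ k = 1 := congrArg Subtype.val hk
    obtain ⟨m, hm⟩ : Odd (p ^ k) := hp2.pow
    rw [hm, pow_succ, pow_mul, pow_two, j_sq hA, one_pow, one_mul] at hk'
    exact j_ne_one hA h2 hab hk'
  · rintro r ⟨a, b, hab, e⟩
    rw [rg_sup hab e, zv_eq hA hab e]
    exact ⟨-1, rfl⟩
  · rintro r ⟨a, b, hab, e⟩
    rw [zv_eq hA hab e]
    refine ⟨Phi_mem' W hab _, fun c => ⟨_, ?_, j_apply W hab c⟩⟩
    split_ifs <;> simp
  · rintro r ⟨a, b, hab, e⟩ t ht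
    rw [zv_eq hA hab e]
    exact j_T hA ht hab
  · rintro r ⟨a, b, hab, e⟩
    rw [zv_eq hA hab e]
    exact j_sq hA hab
  · rintro i r ⟨a, b, hab, e⟩
    have hab' : (sg i a).1 ≠ (sg i b).1 := fun h => hab ((sg_fst_eq i).1 h)
    rw [zv_eq hA hab e, rep_simple, zv_eq hA hab' (ee_refl_of e)]
    exact j_conj hA (nn_mem hA p0 i) (mono_nn hp0 i) hab hab'
  · rintro r ⟨a, b, hab, e⟩
    rw [zv_eq hA hab e, zv_eq hA (a := ng a) (b := ng b) hab (ee_neg_rt e)]
    exact j_congr hA _ _ fun k => Iff.rfl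
  · rintro r ⟨a, b, hab, e⟩ g hg
    rw [rg_eq (toFrame W) (Or.inl hab) e, PG_ne _ hab] at hg
    rw [zv_eq hA hab e]
    obtain ⟨t, rfl⟩ := hg
    rw [← Phi_u _ hab, ← map_mul, ← map_mul, neg_one_mul, mul_neg_one]
  · rintro r ⟨a, b, hab, e⟩ y hy hyr hyr' hf g hg
    rw [zv_eq hA hab e]
    obtain ⟨c, d, hcd, ey⟩ := exists_of_isRoot cs hy
    rw [rg_eq (toFrame W) hcd ey] at hg
    rw [Ne, form_eq_zero_iff cs (root_RB cs ⟨a, b, hab, e⟩), e, ey, ip_add_left, ip_add_right, ip_add_right] at hf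
    rcases hcd with hcd | rfl
    · rw [PG_ne _ hcd] at hg
      refine conj_XX hA hab hcd ?_ hg
      intro hiff
      by_cases hc : c.1 = a.1 ∨ c.1 = b.1
      · have hd := hiff.1 hc
        apply hf
        rw [ip_one hab, ip_one hab]
        have h3 : (d.1 = b.1 ∧ c.1 = a.1) ∨ (d.1 = a.1 ∧ c.1 = b.1) := by
          rcases hc with hc | hc
          · exact Or.inl ⟨hd.resolve_left fun h => hcd (hc.trans h.symm), hc⟩
          · exact Or.inr ⟨hd.resolve_right fun h => hcd (hc.trans h.symm), hc⟩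
        rcases h3 with ⟨h3, h4⟩ | ⟨h3, h4⟩
        · rcases eq_or_ng h3 with rfl | rfl <;> rcases eq_or_ng h4 with rfl | rfl
          · exact absurd (ee_injective (ey.trans e.symm)) hyr
          · rw [if_neg (not_or hab), if_pos (Or.inl rfl), if_pos (Or.inr rfl)]; norm_num
          · rw [if_pos (Or.inl rfl), if_neg (not_or' hab), if_pos (Or.inr rfl)]; norm_num
          · exact absurd (ee_injective (ey.trans (ee_neg_rt e).symm)) hyr'
        · rcases eq_or_ng h3 with rfl | rfl <;> rcases eq_or_ng h4 with rfl | rfl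
          · exact absurd (ee_injective (by rw [ey, e, add_comm])) hyr
          · rw [if_neg (not_or' hab), if_pos (Or.inr rfl), if_pos (Or.inl rfl)]; norm_num
          · rw [if_pos (Or.inr rfl), if_neg (not_or hab), if_pos (Or.inl rfl)]; norm_num
          · exact absurd (ee_injective (by rw [ey, ee_neg_rt e, add_comm])) hyr'
      · have hd : ¬ (d.1 = a.1 ∨ d.1 = b.1) := fun h => hc (hiff.2 h)
        push Not at hc hd
        apply hf
        rw [ip_wt_ne hc.1, ip_wt_ne hc.2, ip_wt_ne hd.1, ip_wt_ne hd.2]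
        norm_num
    · rw [PG_self] at hg
      refine conj_ZZ hA hab ?_ hg
      by_contra hc
      push Not at hc
      apply hf
      rw [ip_wt_ne hc.1, ip_wt_ne hc.2]
      norm_num
  · rintro r ⟨a, b, hab, e⟩ g hg
    have hg' := hg
    rw [rg_eq (toFrame W) (Or.inl hab) e, PG_ne _ hab] at hg
    obtain ⟨t, rfl⟩ := hg
    have h3 : Phi (toFrame W) hab (-1) * (toFrame W).X a b t * Phi (toFrame W) hab (-1) = (toFrame W).X a b t := by
      rw [← Phi_u _ hab, ← map_mul, ← map_mul, neg_one_mul, neg_mul_neg, mul_one]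
    rw [zv_eq hA hab e, h3]
    exact mul_mem hg' hg'

end General

/-! ### The group `E Q` -/

section EQ

variable {F V : Type*} [Field F] [AddCommGroup V] [Module F V] {Q : QuadraticForm F V} {n : ℕ}
  {W : WFrame (PO Q) n} (hA : Amb (toFrame W) (E Q))

include hA

theorem zv_mem (x : Fin n → ℤ) : zv W x ∈ E Q := by
  unfold zv
  split_ifs
  · exact Phi_mem' W _ _
  · exact one_mem _

/-- **The long root groups of `E Q`.** -/
theorem clsE [Finite V] {p : ℕ} [Fact p.Prime] [CharP F p] (hp2 : Odd p) {p0 : (toFrame W).Adm} (hp0 : p0.c ≠ 0)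
    {C : Type*} [Group C] [Fintype C] (cs : CoxeterSystem (CoxeterMatrix.B n) C) :
    Cls cs (isCartan n) p ((Tor (toFrame W) (E Q)).subgroupOf (E Q))
      (fun i => (⟨nn (toFrame W) p0 i, nn_mem hA p0 i⟩ : E Q)) (fun x => (rg (toFrame W) x).subgroupOf (E Q)) (RB n)
      (fun x => (rg (toFrame W) x).subgroupOf (E Q)) (fun x => ⟨zv W x, zv_mem hA x⟩) :=
  ClsMap.cls_restrict (cls hA hp2 hp0 cs) (E Q) (fun x _ => hA.rg_le x) (nn_mem hA p0)
    (fun x => ⟨zv W x, zv_mem hA x⟩) fun _ _ => rfl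

/-- the root groups generate `E Q` -/
theorem genE {p0 : (toFrame W).Adm} (hp0 : p0.c ≠ 0) (hn : 0 < n)
    {C : Type*} [Group C] (cs : CoxeterSystem (CoxeterMatrix.B n) C) :
    G1 cs (isCartan n) (fun x => (rg (toFrame W) x).subgroupOf (E Q)) = ⊤ := by
  have e2 : (G1 cs (isCartan n) (rg (toFrame W))).subgroupOf (E Q) =
      G1 cs (isCartan n) (fun x => (rg (toFrame W) x).subgroupOf (E Q)) := by
    unfold G1 RGD.Sup
    exact iSup_subgroupOf (fun z : {x | IsRoot cs (isCartan n) x} => rg (toFrame W) z.1) fun z => hA.rg_le z.1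
  rw [← e2]
  refine Subgroup.subgroupOf_eq_top.2 ?_
  set K := G1 cs (isCartan n) (rg (toFrame W)) with hK
  have key : ∀ a b : Fin n × Bool, TypeC.Ok a b → PG (toFrame W) a b ≤ K := by
    intro a b hab
    obtain ⟨z, hz, ez⟩ := TypeC.rt_of_ok (cs := cs) hab
    rw [← WittRoot.rg_eq (toFrame W) hab ez]
    exact X_le_G1 hz
  refine E_le_of_contains W (contains_C W ⟨0, hn⟩ ?_ ?_ ⟨p0, hp0⟩)
  · intro i j hij t
    have hne : i ≠ j := fun h => by rw [h] at hij; omega
    constructor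
    · refine key (i, true) (j, false) (Or.inl hne) ?_
      rw [WittRoot.PG_ne (toFrame W) (a := (i, true)) (b := (j, false)) hne]
      exact ⟨t, rfl⟩
    · refine key (j, true) (i, false) (Or.inl hne.symm) ?_
      rw [WittRoot.PG_ne (toFrame W) (a := (j, true)) (b := (i, false)) hne.symm]
      exact ⟨t, rfl⟩
  · intro q
    constructor
    · refine key (⟨0, hn⟩, true) (⟨0, hn⟩, true) (Or.inr rfl) ?_
      rw [WittRoot.PG_self]
      exact ⟨q, rfl⟩
    · refine key (⟨0, hn⟩, false) (⟨0, hn⟩, false) (Or.inr rfl) ?_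
      rw [WittRoot.PG_self]
      exact ⟨q, rfl⟩

/-- the long root subgroups are `SL(2, F)` -/
theorem slE {r : Fin n → ℤ} (hr : r ∈ RB n) :
    Nonempty (SpecialLinearGroup (Fin 2) F ≃*
      ↥((rg (toFrame W) r).subgroupOf (E Q) ⊔ (rg (toFrame W) (-r)).subgroupOf (E Q))) := by
  obtain ⟨a, b, hab, e⟩ := hr
  rw [← Subgroup.subgroupOf_sup (hA.rg_le r) (hA.rg_le (-r)), rg_sup hab e]
  have hle : (Phi (toFrame W) hab).range ≤ E Q := by
    rintro _ ⟨g, rfl⟩
    exact Phi_mem' W hab g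
  exact ⟨((Phi (toFrame W) hab).ofInjective (Phi_injective (toFrame W) hab)).trans
    (Subgroup.subgroupOfEquivOfLe hle).symm⟩

end EQ

/-- every simple root is linked to a long root -/
theorem lnk {n : ℕ} (hn : 3 ≤ n) {C : Type*} [Group C] [Fintype C] (cs : CoxeterSystem (CoxeterMatrix.B n) C)
    (i : Fin n) : ∃ r ∈ RB n, r ≠ sr i ∧ r ≠ -sr i ∧ form cs (isCartan n) (sr i) r ≠ 0 := by
  -- a coordinate off the support of `sr i`
  obtain ⟨k, hk1, hk2⟩ : ∃ k : Fin n, k ≠ i ∧ k ≠ (nx i).1 := by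
    by_contra hcon
    push Not at hcon
    have h1 : (Finset.univ : Finset (Fin n)) ⊆ {i, (nx i).1} := by
      intro k _
      rw [Finset.mem_insert, Finset.mem_singleton]
      by_cases h : k = i
      · exact Or.inl h
      · exact Or.inr (hcon k h)
    have h2 := (Finset.card_le_card h1).trans Finset.card_le_two
    rw [Finset.card_univ, Fintype.card_fin] at h2
    omega
  have hki : ((i, true) : Fin n × Bool).1 ≠ ((k, true) : Fin n × Bool).1 := Ne.symm hk1
  refine ⟨rt (i, true) (k, true), rt_mem_RB hki, ?_, ?_, ?_⟩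
  · intro h
    have h1 := congrFun (congrArg ee h) k
    rw [ee_rt, sr_eq_rt, ee_rt, Pi.add_apply, Pi.add_apply, wt_apply_ne (a := (i, true)) hk1,
      wt_apply_ne hk2, wt_apply_self (k, true)] at h1
    simp [sn] at h1
  · intro h
    have h1 := congrFun (congrArg ee h) k
    rw [ee_rt, ee_neg, sr_eq_rt, ee_rt, Pi.add_apply, Pi.neg_apply, Pi.add_apply, wt_apply_ne (a := (i, true)) hk1,
      wt_apply_ne hk2, wt_apply_self (k, true)] at h1
    simp [sn] at h1
  · rw [Ne, form_eq_zero_iff cs (root_RB cs (rt_mem_RB hki)), ee_rt, sr_eq_rt, ee_rt, ip_add_wt,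
      Pi.add_apply, Pi.add_apply, wt_apply_ne (a := (i, true)) hk1, wt_apply_ne hk2, wt_apply_self (i, true)]
    have h3 : wt (nx i) i = 0 ∨ wt (nx i) i = 1 := by
      by_cases h : (nx i).1 = i
      · right
        unfold nx at h ⊢
        split_ifs with h4
        · rw [dif_pos h4] at h
          exact absurd (congrArg Fin.val h) (by simp)
        · exact wt_apply_self (i, true)
      · left
        exact wt_apply_ne (Ne.symm h)
    have h4 : sn ((i, true) : Fin n × Bool) = 1 := rfl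
    rw [h4]
    rcases h3 with h3 | h3 <;> rw [h3] <;> norm_num

end Cfsg.Agent.OddHalf.NI.ClsOrth
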