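import Mathlib
import Cfsg.Agent.OddHalf.NI.ClsOrth
import Cfsg.Agent.OddHalf.NI.OmegaSheet

/-!
# Sheets of `Ω(V)` from a Witt frame with coordinates at the nodes (ODD node NI; helper448)

* `Node W D emb P i` : the coordinate `SL(2, K) →* GL(V)` of the node `i`, its torus in terms of the diagonal
  automorphisms `D`;
* `theta` : the parametrisation of the torus, `coords` : solving for the parameters;
* `sheet` : the sheet of `E Q`; `k2_of` : the condition (k2).
-/

set_option autoImplicit false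
set_option linter.unusedSectionVars false

namespace Cfsg.Agent.OddHalf.NI.OmegaNodes

open CoxeterSystem Cfsg.Agent.ChevalleyStructure.CoxeterGeom Cfsg.Agent.Tits.Roots Cfsg.Agent.Tits.Core
  Cfsg.Agent.Tits.RootComb Cfsg.Agent.Nodes.Comb Cfsg.Agent.Nodes.Reps Cfsg.Agent.Nodes.BNOf
  Cfsg.Agent.Nodes.RGDLib Cfsg.Agent.Nodes.Chart
open QuadraticMap
open Matrix (SpecialLinearGroup)
open Cfsg.Agent.LieClassical Cfsg.Agent.LieClassical.OrthCore Cfsg.Agent.LieClassical.OrthTrans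
open Cfsg.Agent.LieClassical.OrthSimple Cfsg.Agent.LieClassical.OrthFinite Cfsg.Agent.LieClassical.OrthForms
open Cfsg.Agent.TitsThree Cfsg.Agent.TitsThree.Siegel Cfsg.Agent.TitsThree.SiegelGen
  Cfsg.Agent.TitsThree.WittFrame Cfsg.Agent.TitsThree.WittWeyl Cfsg.Agent.TitsThree.WBridge
  Cfsg.Agent.TitsThree.KSideO
open Cfsg.Agent.Nodes
open Cfsg.Agent.Nodes.WittRoot (Amb XG ZG PG PG_ne PG_self Mono XG_swap rg rg_eq)
open Cfsg.Agent.Nodes.WittRGD (Tor mem_Tor nn nn_mem)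
open Cfsg.Agent.Nodes.TypeC Cfsg.Agent.Nodes.TypeCForm Cfsg.Agent.Nodes.KindBC
open Cfsg.Agent.OddHalf.NI.OmegaSheet

/-! ### The coordinates of the torus -/

section Coords

variable {U : Type*} [CommGroup U] {m : ℕ}

/-- the multiplier of the next coordinate -/
def nxt (i : Fin m) (u : U) : Fin m → U := if h : (i : ℕ) + 1 < m then Pi.mulSingle ⟨i + 1, h⟩ u else 1

theorem prod_apply (x : Fin m → U) (j : Fin m) :
    (∏ i : Fin m, (Pi.mulSingle i (x i) * nxt i (x i)⁻¹ : Fin m → U)) j =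
      x j * if h : 0 < (j : ℕ) then (x ⟨j - 1, by have := j.2; omega⟩)⁻¹ else 1 := by
  rw [Finset.prod_apply]
  simp only [Pi.mul_apply, Finset.prod_mul_distrib]
  congr 1
  · rw [Finset.prod_eq_single j]
    · rw [Pi.mulSingle_eq_same]
    · intro i _ hi
      rw [Pi.mulSingle_eq_of_ne (Ne.symm hi)]
    · intro h
      exact absurd (Finset.mem_univ _) h
  · split_ifs with h
    · have hj : (j : ℕ) - 1 < m := by have := j.2; omega
      rw [Finset.prod_eq_single ⟨j - 1, hj⟩]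
      · unfold nxt
        have h1 : ((⟨(j : ℕ) - 1, hj⟩ : Fin m) : ℕ) + 1 < m := by
          have := j.2
          simp only
          omega
        rw [dif_pos h1]
        have h2 : (⟨((⟨(j : ℕ) - 1, hj⟩ : Fin m) : ℕ) + 1, h1⟩ : Fin m) = j := Fin.ext (by simp only; omega)
        rw [h2, Pi.mulSingle_eq_same]
      · intro i _ hi
        unfold nxt
        split_ifs with h1
        · rw [Pi.mulSingle_eq_of_ne]
          intro h2
          have h3 : (j : ℕ) = i + 1 := congrArg Fin.val h2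
          exact hi (Fin.ext (by simp only; omega))
        · rfl
      · intro h'
        exact absurd (Finset.mem_univ _) h'
    · apply Finset.prod_eq_one
      intro i _
      unfold nxt
      split_ifs with h1
      · rw [Pi.mulSingle_eq_of_ne]
        intro h2
        rw [h2] at h
        exact h (Nat.succ_pos _)
      · rfl

/-- solving for the parameters -/
theorem coords {x : Fin m → U} {ε : U} (h : ∀ j, (∏ i : Fin m, (Pi.mulSingle i (x i) * nxt i (x i)⁻¹ : Fin m → U)) j = ε) :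
    ∀ j : Fin m, x j = ε ^ ((j : ℕ) + 1) := by
  have key : ∀ (k : ℕ) (j : Fin m), (j : ℕ) = k → x j = ε ^ (k + 1) := by
    intro k
    induction k with
    | zero =>
      intro j hj
      have h1 := h j
      rw [prod_apply, dif_neg (by omega), mul_one] at h1
      rw [h1, zero_add, pow_one]
    | succ k ih =>
      intro j hj
      have h1 := h j
      rw [prod_apply, dif_pos (by omega), ih ⟨j - 1, by have := j.2; omega⟩ (by simp only; omega),
        mul_inv_eq_iff_eq_mul] at h1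
      rw [h1, pow_succ' ε (k + 1)]
  exact fun j => key j j rfl

end Coords

/-! ### Nodes -/

section Nodes

variable {F V : Type} [Field F] [AddCommGroup V] [Module F V] {Q : QuadraticForm F V} {m : ℕ}
  (W : WFrame (PO Q) m) {B : Type} [CommGroup B] (D : (Fin m → Fˣ) × B →* (V ≃ₗ[F] V)) (emb : Fˣ → B)
  (P : Fˣ → Prop)

/-- The coordinate of a node. -/
structure Node (i : Fin m) where
  K : Type
  [fld : Field K]
  [fin : Finite K]
  s : SpecialLinearGroup (Fin 2) K →* (V ≃ₗ[F] V)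
  up : ∀ g, g ∈ rg (toFrame W) (sr i) ↔ ∃ a : K, s (Mult.up a) = g
  lo : ∀ g, g ∈ rg (toFrame W) (-sr i) ↔ ∃ a : K, s (Mult.lo a) = g
  e : Kˣ →* Fˣ
  w : Kˣ →* B
  dg : ∀ t, s (Mult.dg t) = D (Pi.mulSingle i (e t) * nxt i (e t)⁻¹, w t)
  w1 : (i : ℕ) + 1 < m → ∀ t, w t = 1
  sol : ∀ ε : Fˣ, ε ^ 2 = 1 → P ε → ∀ t, e t = ε ^ ((i : ℕ) + 1) → (¬ (i : ℕ) + 1 < m → w t = emb ε) → t ^ 2 = 1

attribute [instance] Node.fld Node.fin

variable {W D emb P}

/-- the coordinate of an inner node -/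
def inner [Finite F] {i : Fin m} (hi : (i : ℕ) + 1 < m)
    (hD : ∀ (t : Fˣ), Cfsg.Agent.OddHalf.LongSL.OrthPhi.Phi (toFrame W) (x := (i, true)) (y := (⟨i + 1, hi⟩, false))
      (by simp [Fin.ext_iff]) (Mult.dg t) = D (Pi.mulSingle i t * Pi.mulSingle ⟨i + 1, hi⟩ t⁻¹, 1)) :
    Node W D emb P i where
  K := F
  s := Cfsg.Agent.OddHalf.LongSL.OrthPhi.Phi (toFrame W) (x := (i, true)) (y := (⟨i + 1, hi⟩, false))
      (by simp [Fin.ext_iff])
  up g := by
    have hne : ((i, true) : Fin m × Bool).1 ≠ (((⟨i + 1, hi⟩ : Fin m), false) : Fin m × Bool).1 := by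
      simp [Fin.ext_iff]
    have hnx : nx i = (⟨i + 1, hi⟩, false) := by unfold nx; rw [dif_pos hi]
    rw [WittRGD.rg_sr, hnx, PG_ne _ hne]
    constructor
    · rintro ⟨t, rfl⟩
      exact ⟨t, Cfsg.Agent.OddHalf.LongSL.OrthPhi.Phi_u _ hne t⟩
    · rintro ⟨t, rfl⟩
      exact ⟨t, Cfsg.Agent.OddHalf.LongSL.OrthPhi.Phi_u _ hne t⟩
  lo g := by
    have hne : ((i, true) : Fin m × Bool).1 ≠ (((⟨i + 1, hi⟩ : Fin m), false) : Fin m × Bool).1 := by
      simp [Fin.ext_iff]
    have hnx : nx i = (⟨i + 1, hi⟩, false) := by unfold nx; rw [dif_pos hi]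
    rw [WittRGD.rg_neg_sr, hnx, PG_ne _ (a := ng (i, true)) (b := ng (⟨i + 1, hi⟩, false)) hne,
      XG_swap (toFrame W) (a := ng (i, true)) (b := ng (⟨i + 1, hi⟩, false)) hne]
    constructor
    · rintro ⟨t, rfl⟩
      exact ⟨t, Cfsg.Agent.OddHalf.LongSL.OrthPhi.Phi_l _ hne t⟩
    · rintro ⟨t, rfl⟩
      exact ⟨t, Cfsg.Agent.OddHalf.LongSL.OrthPhi.Phi_l _ hne t⟩
  e := MonoidHom.id _
  w := 1
  dg t := by
    rw [hD t]
    unfold nxt
    rw [dif_pos hi]
    rfl
  w1 _ _ := rfl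
  sol ε h2 _ t ht _ := by
    change t = ε ^ ((i : ℕ) + 1) at ht
    rw [ht, ← pow_mul, mul_comm, pow_mul, h2, one_pow]

end Nodes

/-! ### The sheet -/

section Sheets

variable {F V : Type} [Field F] [AddCommGroup V] [Module F V] {Q : QuadraticForm F V} {m : ℕ}
  {W : WFrame (PO Q) m} {B : Type} [CommGroup B] {D : (Fin m → Fˣ) × B →* (V ≃ₗ[F] V)} {emb : Fˣ → B}
  {P : Fˣ → Prop} (N : ∀ i, Node W D emb P i) (hA : Amb (toFrame W) (E Q))

include hA in
theorem s_mem (i : Fin m) (g : SpecialLinearGroup (Fin 2) (N i).K) : (N i).s g ∈ E Q := by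
  have h1 : (E Q).comap (N i).s = ⊤ := by
    apply Mult.mem_of_up_lo
    · intro a
      exact hA.rg_le _ (((N i).up _).2 ⟨a, rfl⟩)
    · intro a
      exact hA.rg_le _ (((N i).lo _).2 ⟨a, rfl⟩)
  exact Subgroup.mem_comap.1 (h1 ▸ Subgroup.mem_top g)

/-- the coordinate in `E Q` -/
def sE (i : Fin m) : SpecialLinearGroup (Fin 2) (N i).K →* ↥(E Q) :=
  (N i).s.codRestrict (E Q) (s_mem N hA i)

theorem coe_sE (i : Fin m) (g : SpecialLinearGroup (Fin 2) (N i).K) : ((sE N hA i g : ↥(E Q)) : V ≃ₗ[F] V) = (N i).s g :=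
  rfl

theorem coordE : Mult.Coord (fun x => (rg (toFrame W) x).subgroupOf (E Q)) (fun i => (N i).K) (sE N hA) where
  up i := by
    ext g
    rw [SetLike.mem_coe, Subgroup.mem_subgroupOf, (N i).up]
    exact exists_congr fun a => ⟨fun h => Subtype.ext h, fun h => congrArg Subtype.val h⟩
  lo i := by
    ext g
    rw [SetLike.mem_coe, Subgroup.mem_subgroupOf, (N i).lo]
    exact exists_congr fun a => ⟨fun h => Subtype.ext h, fun h => congrArg Subtype.val h⟩

theorem comm_dg (i j : Fin m) (x : (N i).Kˣ) (y : (N j).Kˣ) :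
    Commute (((sE N hA i).comp Mult.dgHom) x) (((sE N hA j).comp Mult.dgHom) y) := by
  apply Subtype.ext
  change (N i).s (Mult.dg x) * (N j).s (Mult.dg y) = (N j).s (Mult.dg y) * (N i).s (Mult.dg x)
  rw [(N i).dg, (N j).dg, ← map_mul, ← map_mul, mul_comm]

/-- the parametrisation of the torus -/
noncomputable def theta : (∀ i, ((N i).K)ˣ) →* ↥(E Q) :=
  MonoidHom.noncommPiCoprod (fun i => (sE N hA i).comp Mult.dgHom) fun i j _ x y => comm_dg N hA i j x y

theorem theta_single (i : Fin m) (t : ((N i).K)ˣ) : theta N hA (Pi.mulSingle i t) = sE N hA i (Mult.dg t) :=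
  MonoidHom.noncommPiCoprod_mulSingle _ _ _

theorem nxt_one {U : Type*} [CommGroup U] (i : Fin m) : nxt i (1 : U) = 1 := by
  unfold nxt
  split_ifs
  · exact Pi.mulSingle_one _
  · rfl

theorem nxt_mul {U : Type*} [CommGroup U] (i : Fin m) (x y : U) : nxt i (x * y) = nxt i x * nxt i y := by
  unfold nxt
  split_ifs
  · exact Pi.mulSingle_mul _ _ _
  · exact (one_mul _).symm

/-- the multipliers of the parameters -/
def cw : (∀ i, ((N i).K)ˣ) →* (Fin m → Fˣ) × B where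
  toFun t := (∏ i : Fin m, (Pi.mulSingle i ((N i).e (t i)) * nxt i ((N i).e (t i))⁻¹ : Fin m → Fˣ),
    ∏ i, (N i).w (t i))
  map_one' := by
    apply Prod.ext
    · change (∏ i : Fin m, (Pi.mulSingle i ((N i).e ((1 : ∀ i, ((N i).K)ˣ) i)) *
        nxt i ((N i).e ((1 : ∀ i, ((N i).K)ˣ) i))⁻¹ : Fin m → Fˣ)) = 1
      apply Finset.prod_eq_one
      intro i _
      rw [Pi.one_apply, map_one, inv_one, nxt_one, Pi.mulSingle_one, mul_one]
    · change (∏ i : Fin m, (N i).w ((1 : ∀ i, ((N i).K)ˣ) i)) = 1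
      apply Finset.prod_eq_one
      intro i _
      rw [Pi.one_apply, map_one]
  map_mul' s t := by
    apply Prod.ext
    · change (∏ i : Fin m, (Pi.mulSingle i ((N i).e ((s * t) i)) * nxt i ((N i).e ((s * t) i))⁻¹ : Fin m → Fˣ)) =
        (∏ i : Fin m, (Pi.mulSingle i ((N i).e (s i)) * nxt i ((N i).e (s i))⁻¹ : Fin m → Fˣ)) *
        ∏ i : Fin m, (Pi.mulSingle i ((N i).e (t i)) * nxt i ((N i).e (t i))⁻¹ : Fin m → Fˣ)
      rw [← Finset.prod_mul_distrib]
      refine Finset.prod_congr rfl fun i _ => ?_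
      rw [Pi.mul_apply, map_mul, mul_inv, nxt_mul, Pi.mulSingle_mul, mul_mul_mul_comm]
    · change (∏ i, (N i).w ((s * t) i)) = (∏ i, (N i).w (s i)) * ∏ i, (N i).w (t i)
      rw [← Finset.prod_mul_distrib]
      refine Finset.prod_congr rfl fun i _ => ?_
      rw [Pi.mul_apply, map_mul]

theorem cw_single (i : Fin m) (t : ((N i).K)ˣ) :
    cw N (Pi.mulSingle i t) = (Pi.mulSingle i ((N i).e t) * nxt i ((N i).e t)⁻¹, (N i).w t) := by
  apply Prod.ext
  · change (∏ j : Fin m, (Pi.mulSingle j ((N j).e ((Pi.mulSingle i t : ∀ i, ((N i).K)ˣ) j)) *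
      nxt j ((N j).e ((Pi.mulSingle i t : ∀ i, ((N i).K)ˣ) j))⁻¹ : Fin m → Fˣ)) = _
    rw [Finset.prod_eq_single i]
    · rw [Pi.mulSingle_eq_same]
    · intro j _ hj
      rw [Pi.mulSingle_eq_of_ne hj, map_one, inv_one, nxt_one, Pi.mulSingle_one, mul_one]
    · intro h
      exact absurd (Finset.mem_univ _) h
  · change (∏ j : Fin m, (N j).w ((Pi.mulSingle i t : ∀ i, ((N i).K)ˣ) j)) = _
    rw [Finset.prod_eq_single i]
    · rw [Pi.mulSingle_eq_same]
    · intro j _ hj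
      rw [Pi.mulSingle_eq_of_ne hj, map_one]
    · intro h
      exact absurd (Finset.mem_univ _) h

theorem coe_theta (t : ∀ i, ((N i).K)ˣ) : ((theta N hA t : ↥(E Q)) : V ≃ₗ[F] V) = D (cw N t) := by
  have h1 : (E Q).subtype.comp (theta N hA) = D.comp (cw N) := by
    apply MonoidHom.pi_ext
    intro i t
    change ((theta N hA (Pi.mulSingle i t) : ↥(E Q)) : V ≃ₗ[F] V) = D (cw N (Pi.mulSingle i t))
    rw [theta_single, coe_sE, (N i).dg, cw_single]
  exact DFunLike.congr_fun h1 t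

/-- the scalars in the image of `D` -/
def Scal (D : (Fin m → Fˣ) × B →* (V ≃ₗ[F] V)) (emb : Fˣ → B) : Prop :=
  ∀ (c : Fin m → Fˣ) (w : B) (ε : Fˣ), (∀ v, D (c, w) v = (ε : F) • v) → ε ^ 2 = 1 ∧ (∀ j, c j = ε) ∧ w = emb ε

variable {N hA} in
/-- the scalar elements of the torus -/
theorem solve (hD : Scal D emb) {t : ∀ i, ((N i).K)ˣ} {ε : Fˣ} (hε : P ε)
    (h : ∀ v, ((theta N hA t : ↥(E Q)) : V ≃ₗ[F] V) v = (ε : F) • v) : t ^ 2 = 1 := by
  rw [coe_theta] at h
  obtain ⟨h2, hc, hw⟩ := hD _ _ ε h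
  have h3 := coords (x := fun i => (N i).e (t i)) hc
  funext i
  refine (N i).sol ε h2 hε (t i) (h3 i) ?_
  intro hi
  rw [← hw]
  change _ = ∏ j, (N j).w (t j)
  rw [Finset.prod_eq_single i]
  · intro j _ hj
    refine (N j).w1 ?_ _
    have h4 : (j : ℕ) ≠ i := fun h => hj (Fin.ext h)
    have := i.2
    have := j.2
    omega
  · intro h
    exact absurd (Finset.mem_univ _) h

/-- the Weyl group is finite -/
@[instance_reducible] noncomputable def finB (m : ℕ) : Fintype (CoxeterMatrix.B m).Group :=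
  @Fintype.ofFinite _ (TypeC.finite_W (CoxeterMatrix.B m).toCoxeterSystem)

attribute [local instance] finB

/-- **The sheet.** -/
noncomputable def sheet [Finite V] {p : ℕ} [Fact p.Prime] [CharP F p] (hp2 : Odd p) (hm : 3 ≤ m)
    {p0 : (toFrame W).Adm} (hp0 : p0.c ≠ 0) (hD : Scal D emb) (hP : P 1) : Sheet ↥(E Q) p F where
  I := Fin m
  W := (CoxeterMatrix.B m).Group
  fW := finB m
  Mx := CoxeterMatrix.B m
  cs := (CoxeterMatrix.B m).toCoxeterSystem
  A := TypeC.A m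
  h := TypeC.isCartan m
  T := (Tor (toFrame W) (E Q)).subgroupOf (E Q)
  n := fun i => ⟨nn (toFrame W) p0 i, nn_mem hA p0 i⟩
  X := fun x => (rg (toFrame W) x).subgroupOf (E Q)
  R := RB m
  Z := fun x => (rg (toFrame W) x).subgroupOf (E Q)
  z := fun x => ⟨ClsOrth.zv W x, ClsOrth.zv_mem hA x⟩
  cls := ClsOrth.clsE hA hp2 hp0 _
  gen := ClsOrth.genE hA hp0 (by omega) _
  tr := trans_RB _
  sl := fun r hr => ClsOrth.slE hA hr
  lnk := ClsOrth.lnk hm _
  Fi := fun i => (N i).K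
  s := sE N hA
  coord := coordE N hA
  θ := theta N hA
  hθ := theta_single N hA
  k1 := fun t ht => solve hD hP fun v => by
    rw [ht, Units.val_one, one_smul]
    rfl

theorem sheet_theta [Finite V] {p : ℕ} [Fact p.Prime] [CharP F p] (hp2 : Odd p) (hm : 3 ≤ m)
    {p0 : (toFrame W).Adm} (hp0 : p0.c ≠ 0) (hD : Scal D emb) (hP : P 1) :
    (sheet N hA hp2 hm hp0 hD hP).θ = theta N hA := rfl

theorem k2_of (hG : Good Q) (hm : 0 < m) (hD : Scal D emb) (hP : ∀ ε, P ε) (t : ∀ i, ((N i).K)ˣ)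
    (ht : theta N hA t ∈ Subgroup.center ↥(E Q)) : t ^ 2 = 1 := by
  obtain ⟨c, hc⟩ := scalar_of_center hG ht
  have hb := WittRGD.b_ne_zero (Fr := toFrame W) (⟨0, hm⟩, true)
  have hc0 : c ≠ 0 := by
    rintro rfl
    have h1 := hc ((toFrame W).b (⟨0, hm⟩, true))
    rw [zero_smul] at h1
    exact hb (((theta N hA t : ↥(E Q)) : V ≃ₗ[F] V).map_eq_zero_iff.1 h1)
  exact solve hD (ε := Units.mk0 c hc0) (hP _) hc

end Sheets

end Cfsg.Agent.OddHalf.NI.OmegaNodes
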