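import Mathlib
import Cfsg.Agent.OddHalf.LongSL.OrthPhi
import Cfsg.Agent.LieClassical.OrthFourMinus

/-!
# The last node of the Witt frame of `Ω(V)` (ODD node NI, models for (MULT))

* `ext` : extension by the identity of linear maps of `U` to `V` (`r ∘ j = 1`);
* `PsiM i : SL(2, E) →* GL(V)`, `E = F[ω]` quadratic, for the minus form: `Ω₄⁻(q) = L₂(q²)`;
* `PsiO i : SL(2, F) →* GL(V)` for the odd form: `Ω₃(q) = L₂(q)`.
The images of the unipotent matrices are the root elements `Z (i, true)`, `Z (i, false)`.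
-/

set_option autoImplicit false

namespace Cfsg.Agent.OddHalf.NI.OmegaLast

open QuadraticMap
open Matrix (SpecialLinearGroup)
open Cfsg.Agent.LieClassical Cfsg.Agent.LieClassical.OrthCore Cfsg.Agent.LieClassical.OrthForms
open Cfsg.Agent.TitsThree Cfsg.Agent.TitsThree.Siegel Cfsg.Agent.TitsThree.WittFrame
  Cfsg.Agent.TitsThree.WBridge Cfsg.Agent.TitsThree.KSideO

/-- `!![1, x; 0, 1]` -/
def up {R : Type*} [CommRing R] (x : R) : SpecialLinearGroup (Fin 2) R := ⟨!![1, x; 0, 1], by simp⟩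

/-- `!![1, 0; x, 1]` -/
def lo {R : Type*} [CommRing R] (x : R) : SpecialLinearGroup (Fin 2) R := ⟨!![1, 0; x, 1], by simp⟩

/-! ### Extension by the identity -/

section Ext

variable {F U V : Type*} [Field F] [AddCommGroup U] [Module F U] [AddCommGroup V] [Module F V]

/-- extension by the identity -/
def ext (j : U →ₗ[F] V) (r : V →ₗ[F] U) (h : ∀ x, r (j x) = x) :
    (U →ₗ[F] U) →* (V →ₗ[F] V) where
  toFun a := LinearMap.id - j ∘ₗ r + j ∘ₗ a ∘ₗ r
  map_one' := by
    ext v
    simp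
  map_mul' a b := by
    ext v
    simp only [LinearMap.add_apply, LinearMap.sub_apply, LinearMap.id_apply, LinearMap.comp_apply,
      Module.End.mul_apply, map_add, map_sub, h]
    abel

theorem ext_apply (j : U →ₗ[F] V) (r : V →ₗ[F] U) (h : ∀ x, r (j x) = x) (a : U →ₗ[F] U) (v : V) :
    ext j r h a v = v - j (r v) + j (a (r v)) := rfl

/-- extension of a representation -/
def extG {G : Type*} [Group G] (ρ : G →* (U →ₗ[F] U)) (j : U →ₗ[F] V) (r : V →ₗ[F] U)
    (h : ∀ x, r (j x) = x) : G →* (V ≃ₗ[F] V) :=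
  (LinearMap.GeneralLinearGroup.generalLinearEquiv F V).toMonoidHom.comp
    (MonoidHom.toHomUnits ((ext j r h).comp ρ))

theorem extG_apply {G : Type*} [Group G] (ρ : G →* (U →ₗ[F] U)) (j : U →ₗ[F] V) (r : V →ₗ[F] U)
    (h : ∀ x, r (j x) = x) (g : G) (v : V) :
    extG ρ j r h g v = v - j (r v) + j (ρ g (r v)) := rfl

end Ext

/-! ### Minus type -/

section Minus

variable {F : Type} [Field F] (m : ℕ) (a b : F)

/-- the quadratic algebra of the anisotropic plane -/
abbrev EE (a b : F) := QuadraticAlgebra F (-b) a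

/-- the vectors of the plane -/
def vec (z : EE a b) : (Fin m ⊕ Fin m) ⊕ Fin 2 → F := Sum.elim (fun _ => 0) ![z.re, z.im]

/-- inclusion of the four-dimensional space -/
def jM (i : Fin m) : OrthFourMinus.V F (-b) a →ₗ[F] ((Fin m ⊕ Fin m) ⊕ Fin 2 → F) where
  toFun v := Sum.elim (Sum.elim (Pi.single i v.1) (Pi.single i v.2.1)) ![v.2.2.re, v.2.2.im]
  map_add' v w := by
    funext k
    rcases k with (k | k) | k
    · simp [Pi.single_apply]; split_ifs <;> simp
    · simp [Pi.single_apply]; split_ifs <;> simp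
    · fin_cases k <;> simp
  map_smul' c v := by
    funext k
    rcases k with (k | k) | k
    · simp [Pi.single_apply]
    · simp [Pi.single_apply]
    · fin_cases k <;> simp

/-- coordinates -/
def rM (i : Fin m) : ((Fin m ⊕ Fin m) ⊕ Fin 2 → F) →ₗ[F] OrthFourMinus.V F (-b) a where
  toFun v := (v (.inl (.inl i)), v (.inl (.inr i)), ⟨v (.inr 0), v (.inr 1)⟩)
  map_add' _ _ := rfl
  map_smul' _ _ := rfl

theorem rM_jM (i : Fin m) (x : OrthFourMinus.V F (-b) a) : rM m a b i (jM m a b i x) = x := by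
  refine Prod.ext ?_ (Prod.ext ?_ ?_)
  · simp [rM, jM]
  · simp [rM, jM]
  · rfl

/-- `SL(2,E)` acts on the Hermitian matrices -/
def rhoM : SpecialLinearGroup (Fin 2) (EE a b) →* (OrthFourMinus.V F (-b) a →ₗ[F] OrthFourMinus.V F (-b) a) where
  toFun g := OrthFourMinus.act g.1
  map_one' := map_one _
  map_mul' g h := map_mul OrthFourMinus.act g.1 h.1

/-- **the last node of the minus form** -/
def PsiM (i : Fin m) :
    SpecialLinearGroup (Fin 2) (EE a b) →* (((Fin m ⊕ Fin m) ⊕ Fin 2 → F) ≃ₗ[F] ((Fin m ⊕ Fin m) ⊕ Fin 2 → F)) :=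
  extG (rhoM a b) (jM m a b i) (rM m a b i) (rM_jM m a b i)

theorem PsiM_apply (i : Fin m) (g : SpecialLinearGroup (Fin 2) (EE a b)) (v : (Fin m ⊕ Fin m) ⊕ Fin 2 → F) :
    PsiM m a b i g v = v - jM m a b i (rM m a b i v) +
      jM m a b i (OrthFourMinus.actFun g.1 (rM m a b i v)) := rfl

variable (hab : ∀ z₁ z₂ : F, z₁ ^ 2 + a * z₁ * z₂ + b * z₂ ^ 2 = 0 → z₁ = 0 ∧ z₂ = 0)

/-- the admissible pair of an element of `E` -/
def admM (z : EE a b) : (toFrame (wminus m F a b hab)).Adm :=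
  ⟨vec m a b z, -minusForm m F a b (vec m a b z), fun _ => rfl, rfl⟩

theorem admM_surjective : Function.Surjective (admM m a b hab) := by
  intro p
  have hw : ∀ j, p.w (Sum.inl j) = 0 := p.ok.1
  have hv : vec m a b ⟨p.w (Sum.inr 0), p.w (Sum.inr 1)⟩ = p.w := by
    funext j
    rcases j with j | j
    · exact (hw j).symm
    · fin_cases j <;> rfl
  refine ⟨⟨p.w (Sum.inr 0), p.w (Sum.inr 1)⟩, ?_⟩
  apply Frame.Adm.ext
  · exact hv
  · rw [show p.c = -minusForm m F a b p.w from p.ok.2, ← hv]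
    rfl

theorem h_e (i : Fin m) (v : (Fin m ⊕ Fin m) ⊕ Fin 2 → F) :
    polar (minusForm m F a b) v (Pi.single (Sum.inl (Sum.inl i)) 1) = v (.inl (.inr i)) := by
  rw [polar_minusForm]
  simp [Pi.single_apply]

theorem h_f (i : Fin m) (v : (Fin m ⊕ Fin m) ⊕ Fin 2 → F) :
    polar (minusForm m F a b) v (Pi.single (Sum.inl (Sum.inr i)) 1) = v (.inl (.inl i)) := by
  rw [polar_minusForm]
  simp [Pi.single_apply]

theorem h_vec (v : (Fin m ⊕ Fin m) ⊕ Fin 2 → F) (z : EE a b) :
    polar (minusForm m F a b) v (vec m a b z) =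
      2 * v (.inr 0) * z.re + a * (v (.inr 0) * z.im + v (.inr 1) * z.re) + 2 * b * v (.inr 1) * z.im := by
  rw [polar_minusForm]
  simp [vec]

theorem Q_vec (z : EE a b) : minusForm m F a b (vec m a b z) = z.re ^ 2 + a * z.re * z.im + b * z.im ^ 2 := by
  rw [coe_minusForm, quadFormMinus_apply]
  simp [vec]

theorem PsiM_up (i : Fin m) (t : EE a b) :
    PsiM m a b i (up t) = (toFrame (wminus m F a b hab)).Z (i, true) (admM m a b hab (-t)) := by
  refine LinearEquiv.ext fun v => ?_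
  rw [PsiM_apply]
  change _ = v + polar (minusForm m F a b) v (Pi.single (Sum.inl (Sum.inl i)) 1) • vec m a b (-t)
    - ((1 : F)⁻¹ * polar (minusForm m F a b) v (vec m a b (-t))) • (Pi.single (Sum.inl (Sum.inl i)) 1 : _ → F)
    + (-minusForm m F a b (vec m a b (-t)) * polar (minusForm m F a b) v (Pi.single (Sum.inl (Sum.inl i)) 1)) •
      (Pi.single (Sum.inl (Sum.inl i)) 1 : _ → F)
  rw [h_e, h_vec, Q_vec]
  funext k
  rcases k with (k | k) | k
  · by_cases hk : k = i
    · subst hk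
      simp [jM, rM, OrthFourMinus.actFun, up, vec, QuadraticAlgebra.norm_def, QuadraticAlgebra.trace_def]
      simp only [QuadraticAlgebra.re_one, QuadraticAlgebra.im_one]
      ring
    · simp [jM, rM, OrthFourMinus.actFun, up, vec, hk]
  · by_cases hk : k = i
    · subst hk
      simp [jM, rM, OrthFourMinus.actFun, up, vec]
    · simp [jM, rM, OrthFourMinus.actFun, up, vec, hk]
  · fin_cases k
    · simp [jM, rM, OrthFourMinus.actFun, up, vec]
      ring
    · simp [jM, rM, OrthFourMinus.actFun, up, vec]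
      ring

theorem PsiM_lo (i : Fin m) (t : EE a b) :
    PsiM m a b i (lo t) = (toFrame (wminus m F a b hab)).Z (i, false) (admM m a b hab (star t)) := by
  refine LinearEquiv.ext fun v => ?_
  rw [PsiM_apply]
  change _ = v + polar (minusForm m F a b) v (Pi.single (Sum.inl (Sum.inr i)) 1) • vec m a b (star t)
    - ((1 : F)⁻¹ * polar (minusForm m F a b) v (vec m a b (star t))) • (Pi.single (Sum.inl (Sum.inr i)) 1 : _ → F)
    + (-minusForm m F a b (vec m a b (star t)) * polar (minusForm m F a b) v (Pi.single (Sum.inl (Sum.inr i)) 1)) •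
      (Pi.single (Sum.inl (Sum.inr i)) 1 : _ → F)
  rw [h_f, h_vec, Q_vec]
  funext k
  rcases k with (k | k) | k
  · by_cases hk : k = i
    · subst hk
      simp [jM, rM, OrthFourMinus.actFun, lo, vec]
    · simp [jM, rM, OrthFourMinus.actFun, lo, vec, hk]
  · by_cases hk : k = i
    · subst hk
      simp [jM, rM, OrthFourMinus.actFun, lo, vec, QuadraticAlgebra.norm_def, QuadraticAlgebra.trace_def]
      simp only [QuadraticAlgebra.re_one, QuadraticAlgebra.im_one]
      ring
    · simp [jM, rM, OrthFourMinus.actFun, lo, vec, hk]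
  · fin_cases k
    · simp [jM, rM, OrthFourMinus.actFun, lo, vec]
      ring
    · simp [jM, rM, OrthFourMinus.actFun, lo, vec]
      ring

end Minus

/-! ### Odd type -/

section Odd

variable {F : Type} [Field F] (m : ℕ)

/-- the vectors of the anisotropic line -/
def vecO (z : F) : Unit ⊕ (Fin m ⊕ Fin m) → F := Sum.elim (fun _ => z) (fun _ => 0)

/-- inclusion of the three-dimensional space -/
def jO (i : Fin m) : (F × F × F) →ₗ[F] (Unit ⊕ (Fin m ⊕ Fin m) → F) where
  toFun v := Sum.elim (fun _ => v.2.2) (Sum.elim (Pi.single i v.1) (Pi.single i v.2.1))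
  map_add' v w := by
    funext k
    rcases k with k | (k | k)
    · simp
    · simp [Pi.single_apply]; split_ifs <;> simp
    · simp [Pi.single_apply]; split_ifs <;> simp
  map_smul' c v := by
    funext k
    rcases k with k | (k | k)
    · simp
    · simp [Pi.single_apply]
    · simp [Pi.single_apply]

/-- coordinates -/
def rO (i : Fin m) : (Unit ⊕ (Fin m ⊕ Fin m) → F) →ₗ[F] (F × F × F) where
  toFun v := (v (.inr (.inl i)), v (.inr (.inr i)), v (.inl ()))
  map_add' _ _ := rfl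
  map_smul' _ _ := rfl

theorem rO_jO (i : Fin m) (x : F × F × F) : rO m i (jO m i x) = x := by
  refine Prod.ext ?_ (Prod.ext ?_ ?_)
  · simp [rO, jO]
  · simp [rO, jO]
  · rfl

/-- the action on the symmetric matrices -/
def actO (A : SpecialLinearGroup (Fin 2) F) (v : F × F × F) : F × F × F :=
  (A.1 0 0 ^ 2 * v.1 - A.1 0 1 ^ 2 * v.2.1 + 2 * A.1 0 0 * A.1 0 1 * v.2.2,
   A.1 1 1 ^ 2 * v.2.1 - A.1 1 0 ^ 2 * v.1 - 2 * A.1 1 0 * A.1 1 1 * v.2.2,
   A.1 0 0 * A.1 1 0 * v.1 - A.1 0 1 * A.1 1 1 * v.2.1 + (A.1 0 0 * A.1 1 1 + A.1 0 1 * A.1 1 0) * v.2.2)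

/-- `SL(2,F)` acts on the symmetric matrices -/
def rhoO : SpecialLinearGroup (Fin 2) F →* ((F × F × F) →ₗ[F] (F × F × F)) where
  toFun A :=
    { toFun := actO A
      map_add' := fun v w => by
        refine Prod.ext ?_ (Prod.ext ?_ ?_) <;> simp [actO] <;> ring
      map_smul' := fun c v => by
        refine Prod.ext ?_ (Prod.ext ?_ ?_) <;> simp [actO] <;> ring }
  map_one' := by
    refine LinearMap.ext fun v => ?_
    refine Prod.ext ?_ (Prod.ext ?_ ?_) <;> simp [actO]
  map_mul' A B := by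
    refine LinearMap.ext fun v => ?_
    have h00 : (A * B).1 0 0 = A.1 0 0 * B.1 0 0 + A.1 0 1 * B.1 1 0 := by
      simp [Matrix.mul_apply, Fin.sum_univ_two]
    have h01 : (A * B).1 0 1 = A.1 0 0 * B.1 0 1 + A.1 0 1 * B.1 1 1 := by
      simp [Matrix.mul_apply, Fin.sum_univ_two]
    have h10 : (A * B).1 1 0 = A.1 1 0 * B.1 0 0 + A.1 1 1 * B.1 1 0 := by
      simp [Matrix.mul_apply, Fin.sum_univ_two]
    have h11 : (A * B).1 1 1 = A.1 1 0 * B.1 0 1 + A.1 1 1 * B.1 1 1 := by
      simp [Matrix.mul_apply, Fin.sum_univ_two]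
    change actO (A * B) v = actO A (actO B v)
    unfold actO
    rw [h00, h01, h10, h11]
    refine Prod.ext ?_ (Prod.ext ?_ ?_)
    · ring
    · ring
    · ring

/-- **the last node of the odd form** -/
def PsiO (i : Fin m) :
    SpecialLinearGroup (Fin 2) F →* ((Unit ⊕ (Fin m ⊕ Fin m) → F) ≃ₗ[F] (Unit ⊕ (Fin m ⊕ Fin m) → F)) :=
  extG rhoO (jO m i) (rO m i) (rO_jO m i)

theorem PsiO_apply (i : Fin m) (g : SpecialLinearGroup (Fin 2) F) (v : Unit ⊕ (Fin m ⊕ Fin m) → F) :
    PsiO m i g v = v - jO m i (rO m i v) + jO m i (actO g (rO m i v)) := rfl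

/-- the admissible pair of an element of `F` -/
def admO (z : F) : (toFrame (wodd m F)).Adm :=
  ⟨vecO m z, -oddForm m F (vecO m z), fun _ => rfl, rfl⟩

theorem admO_surjective : Function.Surjective (admO (F := F) m) := by
  intro p
  have hw : ∀ j, p.w (Sum.inr j) = 0 := p.ok.1
  have hv : vecO m (p.w (Sum.inl ())) = p.w := by
    funext j
    rcases j with j | j
    · rfl
    · exact (hw j).symm
  refine ⟨p.w (Sum.inl ()), ?_⟩
  apply Frame.Adm.ext
  · exact hv
  · rw [show p.c = -oddForm m F p.w from p.ok.2, ← hv]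
    rfl

theorem hO_e (i : Fin m) (v : Unit ⊕ (Fin m ⊕ Fin m) → F) :
    polar (oddForm m F) v (Pi.single (Sum.inr (Sum.inl i)) 1) = v (.inr (.inr i)) := by
  rw [polar_oddForm]
  simp [Pi.single_apply]

theorem hO_f (i : Fin m) (v : Unit ⊕ (Fin m ⊕ Fin m) → F) :
    polar (oddForm m F) v (Pi.single (Sum.inr (Sum.inr i)) 1) = v (.inr (.inl i)) := by
  rw [polar_oddForm]
  simp [Pi.single_apply]

theorem hO_vec (v : Unit ⊕ (Fin m ⊕ Fin m) → F) (z : F) :
    polar (oddForm m F) v (vecO m z) = 2 * v (.inl ()) * z := by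
  rw [polar_oddForm]
  simp [vecO]

theorem QO_vec (z : F) : oddForm m F (vecO m z) = z ^ 2 := by
  rw [coe_oddForm, quadFormOdd_apply]
  simp [vecO]

theorem PsiO_up (i : Fin m) (t : F) :
    PsiO m i (up t) = (toFrame (wodd m F)).Z (i, true) (admO m (-t)) := by
  refine LinearEquiv.ext fun v => ?_
  rw [PsiO_apply]
  change _ = v + polar (oddForm m F) v (Pi.single (Sum.inr (Sum.inl i)) 1) • vecO m (-t)
    - ((1 : F)⁻¹ * polar (oddForm m F) v (vecO m (-t))) • (Pi.single (Sum.inr (Sum.inl i)) 1 : _ → F)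
    + (-oddForm m F (vecO m (-t)) * polar (oddForm m F) v (Pi.single (Sum.inr (Sum.inl i)) 1)) •
      (Pi.single (Sum.inr (Sum.inl i)) 1 : _ → F)
  rw [hO_e, hO_vec, QO_vec]
  funext k
  rcases k with k | (k | k)
  · simp [jO, rO, actO, up, vecO]
    ring
  · by_cases hk : k = i
    · subst hk
      simp [jO, rO, actO, up, vecO]
      ring
    · simp [jO, rO, actO, up, vecO, hk]
  · by_cases hk : k = i
    · subst hk
      simp [jO, rO, actO, up, vecO]
    · simp [jO, rO, actO, up, vecO, hk]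

theorem PsiO_lo (i : Fin m) (t : F) :
    PsiO m i (lo t) = (toFrame (wodd m F)).Z (i, false) (admO m t) := by
  refine LinearEquiv.ext fun v => ?_
  rw [PsiO_apply]
  change _ = v + polar (oddForm m F) v (Pi.single (Sum.inr (Sum.inr i)) 1) • vecO m t
    - ((1 : F)⁻¹ * polar (oddForm m F) v (vecO m t)) • (Pi.single (Sum.inr (Sum.inr i)) 1 : _ → F)
    + (-oddForm m F (vecO m t) * polar (oddForm m F) v (Pi.single (Sum.inr (Sum.inr i)) 1)) •
      (Pi.single (Sum.inr (Sum.inr i)) 1 : _ → F)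
  rw [hO_f, hO_vec, QO_vec]
  funext k
  rcases k with k | (k | k)
  · simp [jO, rO, actO, lo, vecO]
    ring
  · by_cases hk : k = i
    · subst hk
      simp [jO, rO, actO, lo, vecO]
    · simp [jO, rO, actO, lo, vecO, hk]
  · by_cases hk : k = i
    · subst hk
      simp [jO, rO, actO, lo, vecO]
      ring
    · simp [jO, rO, actO, lo, vecO, hk]

end Odd

end Cfsg.Agent.OddHalf.NI.OmegaLast
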