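import Mathlib
import Cfsg.Agent.OddHalf.NI.OmegaLast

/-!
# The split torus of the Witt frames of `Ω(V)` (ODD node NI, models for (MULT))

* `dg t = diag(t, t⁻¹)`;
* `DM`, `DO` : the diagonal automorphisms; `Phi_dgM`, `PsiM_dg`, `Phi_dgO`, `PsiO_dg`.
-/

set_option autoImplicit false

namespace Cfsg.Agent.OddHalf.NI.OmegaTorus

open QuadraticMap
open Matrix (SpecialLinearGroup)
open Cfsg.Agent.LieClassical Cfsg.Agent.LieClassical.OrthCore Cfsg.Agent.LieClassical.OrthForms
open Cfsg.Agent.TitsThree Cfsg.Agent.TitsThree.Siegel Cfsg.Agent.TitsThree.WittFrame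
  Cfsg.Agent.TitsThree.WBridge Cfsg.Agent.TitsThree.KSideO
open Cfsg.Agent.OddHalf.LongSL.OrthPhi Cfsg.Agent.OddHalf.NI.OmegaLast

/-- `diag(t, t⁻¹)` -/
def dg {R : Type*} [CommRing R] : Rˣ →* SpecialLinearGroup (Fin 2) R where
  toFun t := ⟨!![(t : R), 0; 0, ((t⁻¹ : Rˣ) : R)], by simp⟩
  map_one' := by
    apply Subtype.ext
    simp [Matrix.one_fin_two]
  map_mul' s t := by
    apply Subtype.ext
    change _ = !![(s : R), 0; 0, ((s⁻¹ : Rˣ) : R)] * !![(t : R), 0; 0, ((t⁻¹ : Rˣ) : R)]
    simp [mul_comm]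

theorem dg_val {R : Type*} [CommRing R] (t : Rˣ) :
    (dg t).1 = !![(t : R), 0; 0, ((t⁻¹ : Rˣ) : R)] := rfl

section Minus

variable {F : Type} [Field F] (m : ℕ) (a b : F)

/-- diagonal linear maps -/
def DMlin : (Fin m → Fˣ) × (EE a b)ˣ →*
    (((Fin m ⊕ Fin m) ⊕ Fin 2 → F) →ₗ[F] ((Fin m ⊕ Fin m) ⊕ Fin 2 → F)) where
  toFun p :=
    { toFun := fun v => Sum.elim (Sum.elim (fun i => (p.1 i : F) * v (.inl (.inl i)))
        (fun i => (((p.1 i)⁻¹ : Fˣ) : F) * v (.inl (.inr i))))
        ![((p.2 : EE a b) * ⟨v (.inr 0), v (.inr 1)⟩).re, ((p.2 : EE a b) * ⟨v (.inr 0), v (.inr 1)⟩).im]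
      map_add' := fun v w => by
        funext k
        rcases k with (k | k) | k
        · simp [mul_add]
        · simp [mul_add]
        · fin_cases k
          · simp; ring
          · simp; ring
      map_smul' := fun c v => by
        funext k
        rcases k with (k | k) | k
        · simp; ring
        · simp; ring
        · fin_cases k
          · simp; ring
          · simp; ring }
  map_one' := by
    refine LinearMap.ext fun v => ?_
    funext k
    rcases k with (k | k) | k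
    · simp
    · simp
    · fin_cases k
      · simp
      · simp
  map_mul' p q := by
    refine LinearMap.ext fun v => ?_
    funext k
    rcases k with (k | k) | k
    · simp; ring
    · simp; ring
    · fin_cases k
      · simp; ring
      · simp; ring

/-- diagonal automorphisms -/
def DM : (Fin m → Fˣ) × (EE a b)ˣ →*
    (((Fin m ⊕ Fin m) ⊕ Fin 2 → F) ≃ₗ[F] ((Fin m ⊕ Fin m) ⊕ Fin 2 → F)) :=
  (LinearMap.GeneralLinearGroup.generalLinearEquiv F _).toMonoidHom.comp
    (MonoidHom.toHomUnits (DMlin m a b))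

theorem DM_apply (p : (Fin m → Fˣ) × (EE a b)ˣ) (v : (Fin m ⊕ Fin m) ⊕ Fin 2 → F) :
    DM m a b p v = Sum.elim (Sum.elim (fun i => (p.1 i : F) * v (.inl (.inl i)))
        (fun i => (((p.1 i)⁻¹ : Fˣ) : F) * v (.inl (.inr i))))
        ![((p.2 : EE a b) * ⟨v (.inr 0), v (.inr 1)⟩).re, ((p.2 : EE a b) * ⟨v (.inr 0), v (.inr 1)⟩).im] := rfl

theorem Phi_dgM {i j : Fin m} (hij : i ≠ j)
    (hab : ∀ z₁ z₂ : F, z₁ ^ 2 + a * z₁ * z₂ + b * z₂ ^ 2 = 0 → z₁ = 0 ∧ z₂ = 0) (t : Fˣ) :
    Phi (toFrame (wminus m F a b hab)) (x := (i, true)) (y := (j, false)) hij (dg t) =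
      DM m a b (Pi.mulSingle i t * Pi.mulSingle j t⁻¹, 1) := by
  refine LinearEquiv.ext fun v => ?_
  rw [DM_apply]
  change v + (((t : F) - 1) * polar (minusForm m F a b) v (Pi.single (Sum.inl (Sum.inr i)) 1)
      + 0 * polar (minusForm m F a b) v (Pi.single (Sum.inl (Sum.inr j)) 1)) •
        (Pi.single (Sum.inl (Sum.inl i)) 1 : _ → F)
    + (0 * polar (minusForm m F a b) v (Pi.single (Sum.inl (Sum.inr i)) 1)
      + (((t⁻¹ : Fˣ) : F) - 1) * polar (minusForm m F a b) v (Pi.single (Sum.inl (Sum.inr j)) 1)) •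
        (Pi.single (Sum.inl (Sum.inl j)) 1 : _ → F)
    + ((((t⁻¹ : Fˣ) : F) - 1) * polar (minusForm m F a b) v (Pi.single (Sum.inl (Sum.inl i)) 1)
      - 0 * polar (minusForm m F a b) v (Pi.single (Sum.inl (Sum.inl j)) 1)) •
        (Pi.single (Sum.inl (Sum.inr i)) 1 : _ → F)
    + (-0 * polar (minusForm m F a b) v (Pi.single (Sum.inl (Sum.inl i)) 1)
      + ((t : F) - 1) * polar (minusForm m F a b) v (Pi.single (Sum.inl (Sum.inl j)) 1)) •
        (Pi.single (Sum.inl (Sum.inr j)) 1 : _ → F) = _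
  simp only [h_e, h_f]
  funext k
  rcases k with (k | k) | k
  · by_cases hk : k = i
    · subst hk
      simp [Pi.mulSingle_apply, hij]
      ring
    · by_cases hk' : k = j
      · subst hk'
        simp [Pi.mulSingle_apply, hk]
        ring
      · simp [Pi.mulSingle_apply, hk, hk']
  · by_cases hk : k = i
    · subst hk
      simp [Pi.mulSingle_apply, hij]
      ring
    · by_cases hk' : k = j
      · subst hk'
        simp [Pi.mulSingle_apply, hk]
        ring
      · simp [Pi.mulSingle_apply, hk, hk']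
  · fin_cases k
    · simp
    · simp

/-- conjugation of units -/
def starU : (EE a b)ˣ →* (EE a b)ˣ where
  toFun t := ⟨star (t : EE a b), star ((t⁻¹ : (EE a b)ˣ) : EE a b), by
    rw [← star_mul, t.inv_mul, star_one], by rw [← star_mul, t.mul_inv, star_one]⟩
  map_one' := Units.ext (star_one _)
  map_mul' s t := Units.ext (by
    change star ((s : EE a b) * t) = star (s : EE a b) * star (t : EE a b)
    rw [star_mul, mul_comm])

/-- the multiplier on the anisotropic plane -/
def om : (EE a b)ˣ →* (EE a b)ˣ := (MonoidHom.id _) * (starU a b)⁻¹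

theorem om_apply (t : (EE a b)ˣ) : om a b t = t * (starU a b t)⁻¹ := rfl

theorem om_val (t : (EE a b)ˣ) : ((om a b t : (EE a b)ˣ) : EE a b) = t * star ((t⁻¹ : (EE a b)ˣ) : EE a b) := rfl

/-- the norm -/
def nrm : (EE a b)ˣ →* Fˣ := Units.map QuadraticAlgebra.norm

theorem PsiM_dg (i : Fin m) (t : (EE a b)ˣ) :
    PsiM m a b i (dg t) = DM m a b (Pi.mulSingle i (nrm a b t), om a b t) := by
  refine LinearEquiv.ext fun v => ?_
  rw [DM_apply, PsiM_apply]
  have hN : (((nrm a b t)⁻¹ : Fˣ) : F) = QuadraticAlgebra.norm ((t⁻¹ : (EE a b)ˣ) : EE a b) := by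
    rw [← map_inv]; rfl
  have hN' : ((nrm a b t : Fˣ) : F) = QuadraticAlgebra.norm (t : EE a b) := rfl
  have hN2 : (((nrm a b t : Fˣ) : F))⁻¹ = QuadraticAlgebra.norm ((t⁻¹ : (EE a b)ˣ) : EE a b) := by
    rw [← hN, Units.val_inv_eq_inv_val]
  funext k
  rcases k with (k | k) | k
  · by_cases hk : k = i
    · subst hk
      simp [jM, rM, OrthFourMinus.actFun, dg_val, hN']
    · simp [jM, rM, OrthFourMinus.actFun, dg_val, hk]
  · by_cases hk : k = i
    · subst hk
      simp [jM, rM, OrthFourMinus.actFun, dg_val, hN2]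
    · simp [jM, rM, OrthFourMinus.actFun, dg_val, hk]
  · fin_cases k
    · simp [jM, rM, OrthFourMinus.actFun, dg_val, om_val]
    · simp [jM, rM, OrthFourMinus.actFun, dg_val, om_val]

end Minus

section Odd

variable (m : ℕ) (F : Type) [Field F]

/-- diagonal linear maps -/
def DOlin : (Fin m → Fˣ) × Fˣ →*
    ((Unit ⊕ (Fin m ⊕ Fin m) → F) →ₗ[F] (Unit ⊕ (Fin m ⊕ Fin m) → F)) where
  toFun p :=
    { toFun := fun v => Sum.elim (fun _ => (p.2 : F) * v (.inl ())) (Sum.elim (fun i => (p.1 i : F) * v (.inr (.inl i)))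
        (fun i => (((p.1 i)⁻¹ : Fˣ) : F) * v (.inr (.inr i))))
      map_add' := fun v w => by
        funext k
        rcases k with k | (k | k)
        · simp [mul_add]
        · simp [mul_add]
        · simp [mul_add]
      map_smul' := fun c v => by
        funext k
        rcases k with k | (k | k)
        · simp; ring
        · simp; ring
        · simp; ring }
  map_one' := by
    refine LinearMap.ext fun v => ?_
    funext k
    rcases k with k | (k | k)
    · simp
    · simp
    · simp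
  map_mul' p q := by
    refine LinearMap.ext fun v => ?_
    funext k
    rcases k with k | (k | k)
    · simp; ring
    · simp; ring
    · simp; ring

/-- diagonal automorphisms -/
def DO : (Fin m → Fˣ) × Fˣ →*
    ((Unit ⊕ (Fin m ⊕ Fin m) → F) ≃ₗ[F] (Unit ⊕ (Fin m ⊕ Fin m) → F)) :=
  (LinearMap.GeneralLinearGroup.generalLinearEquiv F _).toMonoidHom.comp
    (MonoidHom.toHomUnits (DOlin m F))

variable {F}

theorem DO_apply (p : (Fin m → Fˣ) × Fˣ) (v : Unit ⊕ (Fin m ⊕ Fin m) → F) :
    DO m F p v = Sum.elim (fun _ => (p.2 : F) * v (.inl ())) (Sum.elim (fun i => (p.1 i : F) * v (.inr (.inl i)))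
        (fun i => (((p.1 i)⁻¹ : Fˣ) : F) * v (.inr (.inr i)))) := rfl

theorem Phi_dgO {i j : Fin m} (hij : i ≠ j) (t : Fˣ) :
    Phi (toFrame (wodd m F)) (x := (i, true)) (y := (j, false)) hij (dg t) =
      DO m F (Pi.mulSingle i t * Pi.mulSingle j t⁻¹, 1) := by
  refine LinearEquiv.ext fun v => ?_
  rw [DO_apply]
  change v + (((t : F) - 1) * polar (oddForm m F) v (Pi.single (Sum.inr (Sum.inr i)) 1)
      + 0 * polar (oddForm m F) v (Pi.single (Sum.inr (Sum.inr j)) 1)) •
        (Pi.single (Sum.inr (Sum.inl i)) 1 : _ → F)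
    + (0 * polar (oddForm m F) v (Pi.single (Sum.inr (Sum.inr i)) 1)
      + (((t⁻¹ : Fˣ) : F) - 1) * polar (oddForm m F) v (Pi.single (Sum.inr (Sum.inr j)) 1)) •
        (Pi.single (Sum.inr (Sum.inl j)) 1 : _ → F)
    + ((((t⁻¹ : Fˣ) : F) - 1) * polar (oddForm m F) v (Pi.single (Sum.inr (Sum.inl i)) 1)
      - 0 * polar (oddForm m F) v (Pi.single (Sum.inr (Sum.inl j)) 1)) •
        (Pi.single (Sum.inr (Sum.inr i)) 1 : _ → F)
    + (-0 * polar (oddForm m F) v (Pi.single (Sum.inr (Sum.inl i)) 1)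
      + ((t : F) - 1) * polar (oddForm m F) v (Pi.single (Sum.inr (Sum.inl j)) 1)) •
        (Pi.single (Sum.inr (Sum.inr j)) 1 : _ → F) = _
  simp only [hO_e, hO_f]
  funext k
  rcases k with k | (k | k)
  · simp
  · by_cases hk : k = i
    · subst hk
      simp [Pi.mulSingle_apply, hij]
      ring
    · by_cases hk' : k = j
      · subst hk'
        simp [Pi.mulSingle_apply, hk]
        ring
      · simp [Pi.mulSingle_apply, hk, hk']
  · by_cases hk : k = i
    · subst hk
      simp [Pi.mulSingle_apply, hij]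
      ring
    · by_cases hk' : k = j
      · subst hk'
        simp [Pi.mulSingle_apply, hk]
        ring
      · simp [Pi.mulSingle_apply, hk, hk']

theorem PsiO_dg (i : Fin m) (t : Fˣ) :
    PsiO m i (dg t) = DO m F (Pi.mulSingle i (t ^ 2), 1) := by
  refine LinearEquiv.ext fun v => ?_
  rw [DO_apply, PsiO_apply]
  have ht : (t : F) ≠ 0 := t.ne_zero
  funext k
  rcases k with k | (k | k)
  · simp [jO, rO, actO, dg_val]
  · by_cases hk : k = i
    · subst hk
      simp [jO, rO, actO, dg_val]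
    · simp [jO, rO, actO, dg_val, hk]
  · by_cases hk : k = i
    · subst hk
      simp [jO, rO, actO, dg_val]
    · simp [jO, rO, actO, dg_val, hk]

end Odd

end Cfsg.Agent.OddHalf.NI.OmegaTorus
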