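import Mathlib
import Cfsg.Agent.OddHalf.NI.OmegaNodes
import Cfsg.Agent.OddHalf.NI.OmegaTorus

/-!
# (T') for `PΩ_{2m+1}(q)` and `PΩ⁻_{2m}(q)`, `q` odd (ODD node NI; helper448)

* `sheetM`, `sheetO` : the sheets of `Ω(V)` for `minusForm m F a b`, `oddForm m F`, `m ≥ 3`;
* `frame_minus`, `frame_odd` : the rows of `FrameFact`.
-/

set_option autoImplicit false
set_option linter.unusedSectionVars false

namespace Cfsg.Agent.OddHalf.NI.OmegaRows

open CoxeterSystem Cfsg.Agent.ChevalleyStructure.CoxeterGeom Cfsg.Agent.Tits.Roots Cfsg.Agent.Tits.Core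
  Cfsg.Agent.Tits.RootComb Cfsg.Agent.Nodes.Comb Cfsg.Agent.Nodes.Reps Cfsg.Agent.Nodes.BNOf
  Cfsg.Agent.Nodes.RGDLib Cfsg.Agent.Nodes.Chart
open QuadraticMap
open Matrix (SpecialLinearGroup)
open Cfsg.Agent.LieClassical Cfsg.Agent.LieClassical.OrthCore Cfsg.Agent.LieClassical.OrthTrans
open Cfsg.Agent.LieClassical.OrthSimple Cfsg.Agent.LieClassical.OrthFinite Cfsg.Agent.LieClassical.OrthForms
open Cfsg.Agent.TitsThree Cfsg.Agent.TitsThree.Siegel Cfsg.Agent.TitsThree.SiegelGen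
  Cfsg.Agent.TitsThree.WittFrame Cfsg.Agent.TitsThree.WittWeyl Cfsg.Agent.TitsThree.WBridge
  Cfsg.Agent.TitsThree.KSideO
open Cfsg.Agent.Nodes
open Cfsg.Agent.Nodes.WittRoot (Amb XG ZG PG PG_ne PG_self Mono XG_swap rg rg_eq)
open Cfsg.Agent.Nodes.WittRGD (Tor mem_Tor nn nn_mem)
open Cfsg.Agent.Nodes.TypeC Cfsg.Agent.Nodes.TypeCForm Cfsg.Agent.Nodes.KindBC
open Cfsg.Agent.OddHalf.LongSL.OrthPhi Cfsg.Agent.OddHalf.LongSL.Orth
open Cfsg.Agent.OddHalf.NI.OmegaSheet Cfsg.Agent.OddHalf.NI.OmegaNodes Cfsg.Agent.OddHalf.NI.OmegaLast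
  Cfsg.Agent.OddHalf.NI.OmegaTorus

/-! ### The minus form -/

section Minus

variable {F : Type} [Field F] (m : ℕ) (a b : F)
  (hab : ∀ z₁ z₂ : F, z₁ ^ 2 + a * z₁ * z₂ + b * z₂ ^ 2 = 0 → z₁ = 0 ∧ z₂ = 0)

include hab in
theorem fact : Fact (∀ r : F, r ^ 2 ≠ -b + a * r) := by
  refine ⟨fun r hr => ?_⟩
  have h1 := (hab r (-1) (by linear_combination hr)).2
  exact (neg_ne_zero.2 one_ne_zero) h1

/-- the scalars on the anisotropic plane -/
def embM (ε : Fˣ) : (EE a b)ˣ := Units.map (algebraMap F (EE a b)).toMonoidHom ε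

/-- the scalars in the torus -/
theorem scalM (hm : 0 < m) : Scal (DM m a b) (embM a b) := by
  intro c w ε h
  have h1 : ∀ j, c j = ε ∧ (c j)⁻¹ = ε := by
    intro j
    have h2 := congrFun (h (Pi.single (Sum.inl (Sum.inl j)) 1)) (Sum.inl (Sum.inl j))
    have h3 := congrFun (h (Pi.single (Sum.inl (Sum.inr j)) 1)) (Sum.inl (Sum.inr j))
    rw [DM_apply] at h2 h3
    constructor
    · apply Units.ext
      simpa using h2
    · apply Units.ext
      simpa using h3
  have h4 : w = embM a b ε := by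
    have h2 := congrFun (h (Pi.single (Sum.inr 0) 1)) (Sum.inr 0)
    have h3 := congrFun (h (Pi.single (Sum.inr 0) 1)) (Sum.inr 1)
    rw [DM_apply] at h2 h3
    apply Units.ext
    change (w : EE a b) = algebraMap F (EE a b) ε
    apply QuadraticAlgebra.ext
    · simpa using h2
    · simpa using h3
  refine ⟨?_, fun j => (h1 j).1, h4⟩
  obtain ⟨h5, h6⟩ := h1 ⟨0, hm⟩
  rw [pow_two]
  nth_rw 1 [← h5]
  rw [← h6, mul_inv_cancel]

/-- the side condition -/
def PM (ε : Fˣ) : Prop := ε = 1 ∨ Odd m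

/-- the equations at the last node -/
theorem solM {i : Fin m} (hi : (i : ℕ) + 1 = m) {ε : Fˣ} (h2 : ε ^ 2 = 1) (hP : PM m ε) {t : (EE a b)ˣ}
    (h3 : nrm a b t = ε ^ ((i : ℕ) + 1)) (h4 : om a b t = embM a b ε) : t ^ 2 = 1 := by
  have h5 : (t : EE a b) = algebraMap F (EE a b) ε * star (t : EE a b) := by
    have h6 := congrArg (fun u : (EE a b)ˣ => (u : EE a b) * star (t : EE a b)) h4
    simp only [om_val] at h6
    rw [mul_assoc, ← star_mul, t.mul_inv, star_one, mul_one] at h6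
    exact h6
  have h7 : (t : EE a b) * star (t : EE a b) = algebraMap F (EE a b) ((ε : F) ^ ((i : ℕ) + 1)) := by
    rw [← QuadraticAlgebra.algebraMap_norm_eq_mul_star]
    have h8 := congrArg (fun u : Fˣ => (u : F)) h3
    simp only [Units.val_pow_eq_pow_val] at h8
    rw [← h8]
    rfl
  have h9 : (ε : F) * (ε : F) ^ ((i : ℕ) + 1) = 1 := by
    rw [← pow_succ', hi, ← Units.val_pow_eq_pow_val]
    rcases hP with rfl | hP
    · rw [one_pow, Units.val_one]
    · obtain ⟨k, hk⟩ := hP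
      rw [hk, show 2 * k + 1 + 1 = 2 * (k + 1) by ring, pow_mul, h2, one_pow, Units.val_one]
  apply Units.ext
  rw [Units.val_pow_eq_pow_val, Units.val_one, pow_two]
  nth_rw 1 [h5]
  rw [mul_assoc, mul_comm (star (t : EE a b)), h7, ← map_mul, h9, map_one]

/-- the coordinate of the last node -/
noncomputable def lastM [Finite F] (i : Fin m) (hi : ¬ (i : ℕ) + 1 < m) :
    Node (wminus m F a b hab) (DM m a b) (embM a b) (PM m) i :=
  letI := fact a b hab
  { K := EE a b
    fin := Finite.of_injective (fun z : EE a b => (z.re, z.im)) fun z w h =>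
      QuadraticAlgebra.ext (congrArg Prod.fst h) (congrArg Prod.snd h)
    s := PsiM m a b i
    up := fun g => by
      have hnx : nx i = (i, true) := by unfold nx; rw [dif_neg hi]
      rw [WittRGD.rg_sr, hnx, PG_self]
      constructor
      · rintro ⟨q, rfl⟩
        obtain ⟨z, rfl⟩ := admM_surjective m a b hab q
        refine ⟨-z, ?_⟩
        have h1 := PsiM_up m a b hab i (-z)
        rw [_root_.neg_neg] at h1
        exact h1
      · rintro ⟨z, rfl⟩
        exact ⟨_, PsiM_up m a b hab i z⟩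
    lo := fun g => by
      have hnx : nx i = (i, true) := by unfold nx; rw [dif_neg hi]
      rw [WittRGD.rg_neg_sr, hnx, PG_self]
      constructor
      · rintro ⟨q, rfl⟩
        obtain ⟨z, rfl⟩ := admM_surjective m a b hab q
        refine ⟨star z, ?_⟩
        have h1 := PsiM_lo m a b hab i (star z)
        rw [star_star] at h1
        exact h1
      · rintro ⟨z, rfl⟩
        exact ⟨_, PsiM_lo m a b hab i z⟩
    e := nrm a b
    w := om a b
    dg := fun t => by
      have h1 : (nxt i (nrm a b t)⁻¹ : Fin m → Fˣ) = 1 := by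
        unfold nxt
        rw [dif_neg hi]
      rw [h1, mul_one]
      exact PsiM_dg m a b i t
    w1 := fun h => absurd h hi
    sol := fun ε h2 hP t h3 h4 => solM m a b (by have := i.2; omega) h2 hP h3 (h4 hi) }

/-- the nodes -/
noncomputable def nodeM [Finite F] (i : Fin m) : Node (wminus m F a b hab) (DM m a b) (embM a b) (PM m) i :=
  if h : (i : ℕ) + 1 < m then inner h fun t => Phi_dgM m a b (fun e => by simp [Fin.ext_iff] at e) hab t
  else lastM m a b hab i h

end Minus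

/-! ### The odd form -/

section Odd

variable {F : Type} [Field F] (m : ℕ)

/-- the scalars in the torus -/
theorem scalO (hm : 0 < m) : Scal (DO m F) id := by
  intro c w ε h
  have h1 : ∀ j, c j = ε ∧ (c j)⁻¹ = ε := by
    intro j
    have h2 := congrFun (h (Pi.single (Sum.inr (Sum.inl j)) 1)) (Sum.inr (Sum.inl j))
    have h3 := congrFun (h (Pi.single (Sum.inr (Sum.inr j)) 1)) (Sum.inr (Sum.inr j))
    rw [DO_apply] at h2 h3
    constructor
    · apply Units.ext
      simpa using h2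
    · apply Units.ext
      simpa using h3
  have h4 : w = ε := by
    have h2 := congrFun (h (Pi.single (Sum.inl ()) 1)) (Sum.inl ())
    rw [DO_apply] at h2
    apply Units.ext
    simpa using h2
  refine ⟨?_, fun j => (h1 j).1, h4⟩
  obtain ⟨h5, h6⟩ := h1 ⟨0, hm⟩
  rw [pow_two]
  nth_rw 1 [← h5]
  rw [← h6, mul_inv_cancel]

/-- the coordinate of the last node -/
noncomputable def lastO [Finite F] (i : Fin m) (hi : ¬ (i : ℕ) + 1 < m) :
    Node (wodd m F) (DO m F) id (fun _ => True) i where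
  K := F
  s := PsiO m i
  up g := by
    have hnx : nx i = (i, true) := by unfold nx; rw [dif_neg hi]
    rw [WittRGD.rg_sr, hnx, PG_self]
    constructor
    · rintro ⟨q, rfl⟩
      obtain ⟨z, rfl⟩ := admO_surjective m q
      refine ⟨-z, ?_⟩
      have h1 := PsiO_up m i (-z)
      rw [_root_.neg_neg] at h1
      exact h1
    · rintro ⟨z, rfl⟩
      exact ⟨_, PsiO_up m i z⟩
  lo g := by
    have hnx : nx i = (i, true) := by unfold nx; rw [dif_neg hi]
    rw [WittRGD.rg_neg_sr, hnx, PG_self]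
    constructor
    · rintro ⟨q, rfl⟩
      obtain ⟨z, rfl⟩ := admO_surjective m q
      exact ⟨z, PsiO_lo m i z⟩
    · rintro ⟨z, rfl⟩
      exact ⟨_, PsiO_lo m i z⟩
  e := powMonoidHom 2
  w := 1
  dg t := by
    have h1 : (nxt i (powMonoidHom 2 t)⁻¹ : Fin m → Fˣ) = 1 := by
      unfold nxt
      rw [dif_neg hi]
    rw [h1, mul_one]
    exact PsiO_dg m i t
  w1 h := absurd h hi
  sol ε h2 _ t h3 h4 := by
    have h5 : (1 : Fˣ) = ε := h4 hi
    have h6 : t ^ 2 = ε ^ ((i : ℕ) + 1) := h3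
    rw [h6, ← h5, one_pow]

/-- the nodes -/
noncomputable def nodeO [Finite F] (i : Fin m) : Node (wodd m F) (DO m F) id (fun _ => True) i :=
  if h : (i : ℕ) + 1 < m then inner h fun t => Phi_dgO m (fun e => by simp [Fin.ext_iff] at e) t
  else lastO m i h

end Odd

/-! ### The rows -/

section Rows

open Subgroup

universe u

theorem exists_char {F : Type} [Field F] [Fintype F] (ho : Odd (Fintype.card F)) :
    ∃ p : ℕ, p.Prime ∧ CharP F p ∧ Odd p := by
  obtain ⟨p, hp⟩ := CharP.exists F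
  refine ⟨p, CharP.char_is_prime F p, hp, ?_⟩
  obtain ⟨n, hn, e⟩ := FiniteField.card F p
  rw [e] at ho
  rcases Nat.even_or_odd p with h | h
  · exact absurd ho (Nat.not_odd_iff_even.2 (h.pow_of_ne_zero n.2.ne'))
  · exact h

/-- **(T') for `PΩ_{2m+1}(q)`.** -/
theorem frame_odd (F : Type) [Field F] [Fintype F] (m : ℕ) (ho : Odd (Fintype.card F)) (h3 : 3 < Fintype.card F)
    (hm : 3 ≤ m) (N : Type u) [Group N] [Finite N] (hN : commutator N = ⊤) (hZ : IsPGroup 2 ↥(center N))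
    (e : Nonempty (N ⧸ center N ≃* Cfsg.POmega F (Cfsg.quadFormOdd m F))) (z : N) (hz : z ∈ center N)
    (h8 : Even8 z) : Nonempty (Frame N z) := by
  obtain ⟨p, hp, hc, hp2⟩ := exists_char ho
  have : Fact p.Prime := ⟨hp⟩
  obtain ⟨e⟩ := e
  rw [← coe_oddForm] at e
  have h2 : (2 : F) ≠ 0 := two_ne hp2
  have hG : Good (oddForm m F) := by
    apply good_of_finite (nondeg_oddForm m F h2)
    rw [Module.finrank_fintype_fun_eq_card, Fintype.card_sum, Fintype.card_sum, Fintype.card_fin,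
      Fintype.card_unit]
    omega
  have hA := RGDOrth.amb (wodd m F) h2
  obtain ⟨p0, hp0⟩ : ∃ p0 : (toFrame (wodd m F)).Adm, p0.c ≠ 0 := by
    refine ⟨(embOdd m F).ngt ⟨1, -1 ^ 2, rfl⟩, ?_⟩
    change (1 : F)⁻¹ * (-1 ^ 2) ≠ 0
    simp
  have hm0 : 0 < m := by omega
  refine frame_POmega hG hp (fun h => by rw [h] at hp2; exact absurd hp2 (by decide)) h2 ho h3
    (sheet (nodeO m) hA hp2 hm hp0 (scalO m hm0) trivial) ?_ hN hZ e hz h8
  intro _ t ht
  exact k2_of (nodeO m) hA hG hm0 (scalO m hm0) (fun _ => trivial) t ht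

/-- **(T') for `PΩ⁻_{2m+2}(q)`.** -/
theorem frame_minus (F : Type) [Field F] [Fintype F] (m : ℕ) (a b : F) (ho : Odd (Fintype.card F))
    (h3 : 3 < Fintype.card F) (hm : 3 ≤ m)
    (hab : ∀ z₁ z₂ : F, z₁ ^ 2 + a * z₁ * z₂ + b * z₂ ^ 2 = 0 → z₁ = 0 ∧ z₂ = 0)
    (N : Type u) [Group N] [Finite N] (hN : commutator N = ⊤) (hZ : IsPGroup 2 ↥(center N))
    (e : Nonempty (N ⧸ center N ≃* Cfsg.POmega F (Cfsg.quadFormMinus m F a b))) (z : N) (hz : z ∈ center N)
    (h8 : Even8 z) : Nonempty (Frame N z) := by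
  obtain ⟨p, hp, hc, hp2⟩ := exists_char ho
  have : Fact p.Prime := ⟨hp⟩
  obtain ⟨e⟩ := e
  rw [← coe_minusForm] at e
  have h2 : (2 : F) ≠ 0 := two_ne hp2
  have hcard : Fintype.card ((Fin m ⊕ Fin m) ⊕ Fin 2) = 2 * m + 2 := by
    rw [Fintype.card_sum, Fintype.card_sum, Fintype.card_fin, Fintype.card_fin]
    omega
  have hG : Good (minusForm m F a b) := by
    apply good_of_finite (nondeg_minusForm m F a b hab)
    rw [Module.finrank_fintype_fun_eq_card, hcard]
    omega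
  have hA := RGDOrth.amb (wminus m F a b hab) h2
  obtain ⟨p0, hp0⟩ : ∃ p0 : (toFrame (wminus m F a b hab)).Adm, p0.c ≠ 0 := by
    refine ⟨(embMinus m F a b hab).ngt ⟨(1, 0), -StdData.nf a b (1, 0), rfl⟩, ?_⟩
    change (1 : F)⁻¹ * (-StdData.nf a b (1, 0)) ≠ 0
    simp [StdData.nf]
  have hm0 : 0 < m := by omega
  refine frame_POmega hG hp (fun h => by rw [h] at hp2; exact absurd hp2 (by decide)) h2 ho h3
    (sheet (nodeM m a b hab) hA hp2 hm hp0 (scalM m a b hm0) (Or.inl rfl)) ?_ hN hZ e hz h8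
  intro h4 t ht
  rw [hcard] at h4
  have hmo : Odd m := by
    rcases Nat.even_or_odd m with h | h
    · exfalso
      obtain ⟨k, hk⟩ := h
      omega
    · exact h
  exact k2_of (nodeM m a b hab) hA hG hm0 (scalM m a b hm0) (fun _ => Or.inr hmo) t ht

end Rows

end Cfsg.Agent.OddHalf.NI.OmegaRows
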