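import Mathlib
import Cfsg.Agent.OddHalf.NI.FrameFactOf
import Cfsg.Agent.OddHalf.NI.OmegaPlusRow
import Cfsg.Agent.OddHalf.NI.OmegaRows

/-!
# The type fact (T') of node NI (helper598)

`frameFact : FrameFact` : an even central involution of a finite quasisimple group `N` with centre a `2`-group and
`N / Z(N)` of Lie type over a field with `q > 3` elements, `q` odd, of rank at least two, has a frame.
-/

set_option autoImplicit false

namespace Cfsg.Agent.OddHalf.NI.FrameFact

universe u

/-- **(T').** -/
theorem frameFact : FrameFact.{u} :=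
  FrameFactOf.frameFact_of
    { omOdd := fun F _ _ m ho h3 hm N _ _ hq h2 e z hz h8 =>
        OmegaRows.frame_odd F m ho h3 hm N hq.1.commutator_eq_top h2 e z hz h8
      omPlus := fun F _ _ m ho h3 hm => OmegaPlusRow.row F m ho h3 hm
      omMinus := fun F _ _ m a b ho h3 hm hab N _ _ hq h2 e z hz h8 =>
        OmegaRows.frame_minus F (m - 1) a b ho h3 (by omega) hab N hq.1.commutator_eq_top h2 e z hz h8 }

end Cfsg.Agent.OddHalf.NI.FrameFact
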