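import Cfsg.Agent.OddHalf.NI.SolPos

/-!
# The kill of Solomon's configuration Sol(q), `q > 3` (bb ODD #9815)

`sol` : `ThmX.Sol` for the position `SolP`.
-/

set_option autoImplicit false

namespace Cfsg.Agent.OddHalf.NI.Sol

open Subgroup Cfsg Cfsg.Agent.OddHalf.D3 Cfsg.Agent.OddHalf.NI

theorem sl_congr {F K : Type} [Field F] [Field K] (φ : F ≃+* K) : Nonempty (SL F ≃* SL K) := by
  refine ⟨{ toFun := fun A => Matrix.SpecialLinearGroup.map φ.toRingHom A
            invFun := fun A => Matrix.SpecialLinearGroup.map φ.symm.toRingHom A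
            left_inv := fun A => ?_
            right_inv := fun A => ?_
            map_mul' := fun A B => map_mul _ A B }⟩
  · refine Matrix.SpecialLinearGroup.ext _ _ fun i j => ?_
    exact φ.symm_apply_apply (A.1 i j)
  · refine Matrix.SpecialLinearGroup.ext _ _ fun i j => ?_
    exact φ.apply_symm_apply (A.1 i j)

theorem pomega_congr {F K : Type} [Field F] [Field K] (φ : F ≃+* K) (m : ℕ) :
    Nonempty (POmega F (quadFormOdd m F) ≃* POmega K (quadFormOdd m K)) := by
  refine Cfsg.Agent.ClassicalGeometry.OddInvolutions.commutator_quot_center_congr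
    (Cfsg.Agent.ClassicalGeometry.IsoTransfer.isometryGroupCongr φ (quadFormOdd m F) (quadFormOdd m K) ?_)
  intro v
  unfold quadFormOdd
  rw [map_add, map_pow, map_sum]
  simp only [map_mul, Function.comp_apply]

theorem ringEquiv_of_SL {F K : Type} [Field F] [Fintype F] [Field K] [Fintype K] (e : Nonempty (SL F ≃* SL K)) :
    Nonempty (F ≃+* K) := by
  obtain ⟨e⟩ := e
  have h1 := Nat.card_congr e.toEquiv
  have h2 : Fintype.card F = Fintype.card K := by
    have h3 : ∀ (E : Type) [Field E] [Fintype E], Nat.card (SL E) = Fintype.card E * (Fintype.card E ^ 2 - 1) := by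
      intro E _ _
      exact Cfsg.Agent.ClassicalGeometry.PSL2Basic.card_SL2 E
    rw [h3, h3] at h1
    have hF : 1 < Fintype.card F := Fintype.one_lt_card
    have hK : 1 < Fintype.card K := Fintype.one_lt_card
    have mono : ∀ x y : ℕ, 1 < x → x < y → x * (x ^ 2 - 1) < y * (y ^ 2 - 1) := by
      intro x y hx hxy
      have h4 : x ^ 2 < y ^ 2 := Nat.pow_lt_pow_left hxy (by norm_num)
      have h5 : 1 ≤ x ^ 2 := Nat.one_le_pow _ _ (by omega)
      exact Nat.mul_lt_mul'' hxy (by omega)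
    rcases lt_trichotomy (Fintype.card F) (Fintype.card K) with h | h | h
    · have := mono _ _ hF h
      omega
    · exact h
    · have := mono _ _ hK h
      omega
  exact ⟨FiniteField.ringEquivOfCardEq h2⟩

variable {G : Type*} [Group G]

theorem uniq_inv {F : Type} [Field F] [Fintype F] (hq : Odd (Fintype.card F)) (hc : 3 < Fintype.card F)
    {J : Subgroup G} (e : Nonempty (↥J ≃* SL F)) {x y : G} (hx : x ∈ J) (hy : y ∈ J) (ox : orderOf x = 2)
    (oy : orderOf y = 2) : x = y := by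
  obtain ⟨e⟩ := e
  obtain ⟨τ, hτ, s, t, hst, m, hT⟩ := exists_tor hq hc
  have uniq : ∀ X : SL F, orderOf X = 2 → X = -1 := by
    intro X hX
    refine hT.zuniq X ?_ ?_
    · have h3 := pow_orderOf_eq_one X
      rwa [hX, pow_two] at h3
    · rintro rfl
      rw [orderOf_one] at hX
      omega
  have h1 : ∀ z (hz : z ∈ J), orderOf z = 2 → e ⟨z, hz⟩ = -1 := by
    intro z hz oz
    apply uniq
    refine (orderOf_injective e.toMonoidHom e.injective ⟨z, hz⟩).trans ?_
    rw [Subgroup.orderOf_mk, oz]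
  have h2 := e.injective ((h1 x hx ox).trans (h1 y hy oy).symm)
  exact congrArg Subtype.val h2

theorem posP {F : Type} [Field F] [Fintype F] (hq : Odd (Fintype.card F)) (hc3 : 3 < Fintype.card F)
    {c d : G} {D A B B' : Subgroup G} (e : Nonempty (↥D ⧸ center ↥D ≃* POmega F (quadFormOdd 3 F)))
    (hZ : ∀ z ∈ D, z ∈ centralizer (D : Set G) → z = 1 ∨ z = c)
    (eA : Nonempty (↥A ≃* SL F)) (eB : Nonempty (↥B ≃* SL F)) (eB' : Nonempty (↥B' ≃* SL F))
    (cA : c ∈ A) (dB : d ∈ B) (cdB : c * d ∈ B') (oc : orderOf c = 2) (od : orderOf d = 2)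
    (CA : CompIn (D ⊓ centralizer ({d} : Set G)) A) (CB : CompIn (D ⊓ centralizer ({d} : Set G)) B)
    (CB' : CompIn (D ⊓ centralizer ({d} : Set G)) B') (hcD : D ≤ centralizer ({c} : Set G)) (hcd : c ≠ d) :
    PosP F c D A B B' := by
  have AD : A ≤ D := CA.le.trans inf_le_left
  have BD : B ≤ D := CB.le.trans inf_le_left
  have B'D : B' ≤ D := CB'.le.trans inf_le_left
  have cD := AD cA
  have dD := BD dB
  have cen : ∀ x ∈ D, x * c = c * x := fun x hx => mem_centralizer_singleton_iff.mp (hcD hx)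
  have cc : c * c = 1 := by
    have h3 := pow_orderOf_eq_one c
    rwa [oc, pow_two] at h3
  have dd : d * d = 1 := by
    have h3 := pow_orderOf_eq_one d
    rwa [od, pow_two] at h3
  have c1 : c ≠ 1 := by rintro rfl; rw [orderOf_one] at oc; omega
  have d1 : d ≠ 1 := by rintro rfl; rw [orderOf_one] at od; omega
  have ocd : orderOf (c * d) = 2 := by
    apply orderOf_eq_prime
    · rw [pow_two]
      calc c * d * (c * d) = c * (d * c) * d := by group
        _ = c * (c * d) * d := by rw [cen d dD]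
        _ = (c * c) * (d * d) := by group
        _ = 1 := by rw [cc, dd, one_mul]
    · intro h3
      apply hcd
      calc c = c * (d * d) := by rw [dd, mul_one]
        _ = (c * d) * d := by group
        _ = d := by rw [h3, one_mul]
  have nAB : A ≠ B := by
    rintro rfl
    exact hcd (uniq_inv hq hc3 eA cA dB oc od)
  have nAB' : A ≠ B' := by
    rintro rfl
    exact d1 (left_eq_mul.mp (uniq_inv hq hc3 eA cA cdB oc ocd))
  have nBB' : B ≠ B' := by
    rintro rfl
    exact c1 (right_eq_mul.mp (uniq_inv hq hc3 eB dB cdB od ocd))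
  have com : ∀ {X Y : Subgroup G}, CompIn (D ⊓ centralizer ({d} : Set G)) X →
      CompIn (D ⊓ centralizer ({d} : Set G)) Y → X ≠ Y → ∀ x ∈ X, ∀ y ∈ Y, x * y = y * x := by
    intro X Y hX hY hne x hx y hy
    exact (mem_centralizer_iff.mp (hX.comm hY hne hx) y hy).symm
  have sub : ∀ {X Y : Subgroup G}, (∀ x ∈ X, ∀ y ∈ Y, x * y = y * x) →
      ∀ x ∈ X.subgroupOf D, ∀ y ∈ Y.subgroupOf D, x * y = y * x := by
    intro X Y h x hx y hy
    exact Subtype.ext (h x hx y hy)
  have eqv : ∀ {X : Subgroup G}, X ≤ D → Nonempty (↥X ≃* SL F) → Nonempty (↥(X.subgroupOf D) ≃* SL F) := by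
    rintro X hX ⟨E⟩
    exact ⟨(subgroupOfEquivOfLe hX).trans E⟩
  obtain ⟨a, b, b', π, hP, r1, r2, r3⟩ := exists_pos hq hc3 (L := ↥D) (c := ⟨c, cD⟩) (d := ⟨d, dD⟩)
    (A := A.subgroupOf D) (B := B.subgroupOf D) (B' := B'.subgroupOf D) e
    (mem_center_iff.mpr fun x => Subtype.ext (cen x x.2))
    (by
      intro z hz
      rcases hZ z z.2 (mem_centralizer_iff.mpr fun x hx =>
        congrArg Subtype.val (mem_center_iff.mp hz ⟨x, hx⟩)) with h | h
      · exact Or.inl (Subtype.ext h)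
      · exact Or.inr (Subtype.ext h))
    (eqv AD eA) (eqv BD eB) (eqv B'D eB') (sub (com CA CB nAB)) (sub (com CA CB' nAB')) (sub (com CB CB' nBB'))
    cA dB cdB (by rw [Subgroup.orderOf_mk, oc]) (by rw [Subgroup.orderOf_mk, od])
    (fun h => hcd (congrArg Subtype.val h))
  have rng : ∀ {X : Subgroup G}, X ≤ D → ∀ φ : SL F →* ↥D, φ.range = X.subgroupOf D →
      X = (D.subtype.comp φ).range := by
    intro X hX φ hφ
    rw [MonoidHom.range_comp, hφ, subgroupOf_map_subtype, inf_eq_left.mpr hX]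
  exact ⟨⟨c, cD⟩, a, b, b', π, hP, rfl, rng AD a r1, rng BD b r2, rng B'D b' r3⟩

/-- **Solomon's configuration Sol(q), `q > 3` odd, does not exist.** -/
theorem sol [Finite G] : ThmX.Sol (SolP (G := G)) := by
  intro S u v Du Dv Ju Jv Jw hI huv hDu hDv hu hv
  obtain ⟨F, iF, fF, hq, hc3, eO, hZ, eA, eB, eB', cA, dB, cdB, oc, od, CA, CB, CB'⟩ := hu
  obtain ⟨K, iK, fK, hqK, hcK, eOK, hZK, eAK, eBK, eB'K, cAK, dBK, cdBK, ocK, odK, CAK, CBK, CB'K⟩ := hv
  obtain ⟨eAF⟩ := eA
  obtain ⟨eBK'⟩ := eBK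
  obtain ⟨φ⟩ : Nonempty (K ≃+* F) := ringEquiv_of_SL ⟨eBK'.symm.trans eAF⟩
  obtain ⟨σ⟩ := sl_congr φ
  obtain ⟨ψ⟩ := pomega_congr φ 3
  obtain ⟨eOK⟩ := eOK
  obtain ⟨eAK⟩ := eAK
  obtain ⟨eB'K⟩ := eB'K
  have hDuu : Du ≤ centralizer ({u} : Set G) :=
    hDu.le.trans (centralizer_le (Set.singleton_subset_iff.mpr (Set.mem_insert _ _)))
  have hDvv : Dv ≤ centralizer ({v} : Set G) :=
    hDv.le.trans (centralizer_le (Set.singleton_subset_iff.mpr (Set.mem_insert _ _)))
  have Pu : PosP F u Du Ju Jv Jw :=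
    posP hq hc3 eO hZ ⟨eAF⟩ eB eB' cA dB cdB oc od CA CB CB' hDuu huv
  have Pv : PosP F v Dv Jv Ju Jw :=
    posP hq hc3 ⟨eOK.trans ψ⟩ hZK ⟨eAK.trans σ⟩ ⟨eBK'.trans σ⟩ ⟨eB'K.trans σ⟩ cAK dBK cdBK ocK odK CAK CBK CB'K
      hDvv huv.symm
  exact kill_pos hq hc3 huv hDu hDv CA CB CB' cA dB cdB oc od Pu Pv

end Cfsg.Agent.OddHalf.NI.Sol
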