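import Cfsg.Agent.OddHalf.NI.LemmaP
import Cfsg.Prelude.Def_Classical

/-!
# The position `SolP` (output of (F2'), input of the kill of Solomon's configuration; bb ODD #9815, #11123)

`SolP c d D A B B'`: `D / ⟨c⟩ ≃ Ω₇(F)`, `|F| > 3` odd, `A`, `B`, `B' ≃ SL₂(F)` are components of `C_D(d)`, with the
involutions `c ∈ Z(D)`, `d`, `c d`.
-/

set_option autoImplicit false

namespace Cfsg.Agent.OddHalf.NI

open Subgroup Cfsg

variable {G : Type*} [Group G]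

/-- `D ≃ Spin₇(F)`, `c ∈ Z(D)` the involution of `A ≃ SL₂(F)` (`= Spin₃`), `d` and `c d` the involutions of `B`, `B'`
(`B B' = Spin₄⁺`). -/
def SolP (c d : G) (D A B B' : Subgroup G) : Prop :=
  ∃ (F : Type) (_ : Field F) (_ : Fintype F), Odd (Fintype.card F) ∧ 3 < Fintype.card F ∧
    Nonempty (↥D ⧸ center ↥D ≃* POmega F (quadFormOdd 3 F)) ∧
    (∀ z ∈ D, z ∈ centralizer (D : Set G) → z = 1 ∨ z = c) ∧
    Nonempty (↥A ≃* Matrix.SpecialLinearGroup (Fin 2) F) ∧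
    Nonempty (↥B ≃* Matrix.SpecialLinearGroup (Fin 2) F) ∧
    Nonempty (↥B' ≃* Matrix.SpecialLinearGroup (Fin 2) F) ∧
    c ∈ A ∧ d ∈ B ∧ c * d ∈ B' ∧ orderOf c = 2 ∧ orderOf d = 2 ∧
    CompIn (D ⊓ centralizer ({d} : Set G)) A ∧ CompIn (D ⊓ centralizer ({d} : Set G)) B ∧
    CompIn (D ⊓ centralizer ({d} : Set G)) B'

end Cfsg.Agent.OddHalf.NI
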