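import Cfsg.Agent.OddHalf.NI.LemmaP

/-!
# THEOREM X (node NI): no frame of commuting `SL₂(q)`'s

`G` without classical involutions and with L-balance for the centralizers of elementary abelian 2-groups. There is no
nonempty finite family `J i`, `i ∈ R`, of components `≅ SL₂(q)` of `C(y '' R)`, `y i ∈ J i` the involution, the `y i`
distinct and no product of two of them equal to a third one. The inputs are (F2') (the predicate `P c d D A B B'`:
`D ≅ Spin₇(q)`, `c ∈ Z(D) ∩ A`, `d ∈ B`, `c d ∈ B'`, the components of `C_D(d)` are `A`, `B`, `B'`) and the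
impossibility of Solomon's configuration.

Take `A ⊆ R` minimal such that the `J i`, `i ∈ A`, are components of `C(y '' A)`. For `k ∈ A` let `D k` be the
component of `C(y '' (A - k))` containing `J k`. By (F2') there is a unique `β k ∈ A - k` with `J (β k) ≤ D k`; then
`β (β k) = k`, and `D k`, `D (β k)` are Solomon's configuration in `C(y '' (A - {k, β k}))`.
-/

set_option autoImplicit false

namespace Cfsg.Agent.OddHalf.NI.ThmX

open Subgroup Cfsg Cfsg.Agent.SignalizersComponents Cfsg.Agent.OddHalf.D3 Cfsg.Agent.OddHalf.NI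
open scoped commutatorElement

variable {G : Type*} [Group G]

/-- pairwise commuting involutions -/
structure CInv (S : Set G) : Prop where
  ord : ∀ s ∈ S, orderOf s = 2
  comm : ∀ s ∈ S, ∀ s' ∈ S, s * s' = s' * s

/-- The pump-up property for the centralizers of sets of pairwise commuting involutions. -/
def PumpV (G : Type*) [Group G] : Prop :=
  ∀ (S : Set G) (t : G) (K : Subgroup G), S.Nonempty → CInv (insert t S) →
    CompIn (centralizer S ⊓ centralizer ({t} : Set G)) K →
    ∃ D : Subgroup G, CompIn (centralizer S) D ∧ (K = D ∨ (K < D ∧ cj t D = D) ∨ Dg K D t)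

/-- Components of `C_D(t)`, `D` a component of `H`, are components of `C_H(t)`. -/
theorem extend {H D K : Subgroup G} {t : G} (hD : CompIn H D)
    (hK : CompIn (D ⊓ centralizer ({t} : Set G)) K) : CompIn (H ⊓ centralizer ({t} : Set G)) K := by
  have hle : D ⊓ centralizer ({t} : Set G) ≤ H ⊓ centralizer ({t} : Set G) := inf_le_inf_right _ hD.le
  refine ⟨hK.le.trans hle, ?_, ?_⟩
  · set X := H ⊓ centralizer ({t} : Set G) with hX
    have h1 : (K.subgroupOf X) ≤ (D ⊓ centralizer ({t} : Set G)).subgroupOf X := fun x hx => hK.le hx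
    refine Subgroup.IsSubnormal.trans h1 ?_ ?_
    · have h2 : (K.subgroupOf X).subgroupOf ((D ⊓ centralizer ({t} : Set G)).subgroupOf X) =
          (K.subgroupOf (D ⊓ centralizer ({t} : Set G))).comap
            (Subgroup.subgroupOfEquivOfLe hle).toMonoidHom := rfl
      rw [h2]
      exact hK.comp.1.comap _
    · have h3 : (D ⊓ centralizer ({t} : Set G)).subgroupOf X =
          (D.subgroupOf H).comap (Subgroup.inclusion (inf_le_left : X ≤ H)) := by
        ext ⟨x, hx⟩
        simp only [mem_subgroupOf, mem_inf, mem_comap]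
        exact ⟨fun h => h.1, fun h => ⟨h, hx.2⟩⟩
      rw [h3]
      exact hD.comp.1.comap _
  · exact Components.isQuasisimple_of_mulEquiv (Subgroup.subgroupOfEquivOfLe (hK.le.trans hle)).symm
      hK.quasi

/-- The component over a component containing `t`. -/
theorem compOver (hP : PumpV G) {S : Set G} {t : G} {K : Subgroup G} (hS : S.Nonempty)
    (hI : CInv (insert t S)) (hK : CompIn (centralizer S ⊓ centralizer ({t} : Set G)) K) (ht : t ∈ K) :
    ∃ D : Subgroup G, CompIn (centralizer S) D ∧ K ≤ D := by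
  obtain ⟨D, hD, h | ⟨h, -⟩ | h⟩ := hP S t K hS hI hK
  · exact ⟨D, hD, h.le⟩
  · exact ⟨D, hD, h.le⟩
  · exfalso
    apply h.ne
    obtain ⟨d, hd, hdt⟩ := h.ex t ht
    have h1 : t * d * t⁻¹ ∈ centralizer (D : Set G) := by
      have h2 : (cj t D) ≤ centralizer (D : Set G) := comm_symm h.comm
      exact h2 (conj_mem_cj hd)
    have h3 : cj (d * (t * d * t⁻¹)) D = D := by
      rw [← D3.cj_cj, cj_eq_of_mem_centralizer h1, cj_eq_of_mem hd]
    rwa [← hdt] at h3

/-- The component over an arbitrary component, `t` in a component. -/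
theorem compOver' (hP : PumpV G) {S : Set G} {t : G} {K D₀ : Subgroup G} (hS : S.Nonempty)
    (hI : CInv (insert t S)) (hK : CompIn (centralizer S ⊓ centralizer ({t} : Set G)) K)
    (hD₀ : CompIn (centralizer S) D₀) (ht : t ∈ D₀) :
    K ≤ D₀ ∨ (CompIn (centralizer S) K ∧ K ≠ D₀) := by
  have key : ∀ D : Subgroup G, CompIn (centralizer S) D → D ≠ D₀ → D ≤ centralizer ({t} : Set G) := by
    intro D hD hne
    have h1 := hD.comm hD₀ hne
    intro x hx
    rw [mem_cs]
    exact comm_elt h1 hx ht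
  obtain ⟨D, hD, h | ⟨h, -⟩ | h⟩ := hP S t K hS hI hK
  · by_cases hDD : D = D₀
    · left; rw [h, hDD]
    · right
      rw [h]
      exact ⟨hD, hDD⟩
  · by_cases hDD : D = D₀
    · left; rw [← hDD]; exact h.le
    · exfalso
      exact h.ne (hK.eq_of_le hD.quasi (le_inf hD.le (key D hD hDD)) h.le)
  · exfalso
    apply h.ne
    by_cases hDD : D = D₀
    · exact cj_eq_of_mem (hDD ▸ ht)
    · apply cj_eq_of_mem_centralizer
      rw [mem_centralizer_iff]
      intro x hx
      exact (mem_cs.mp (key D hD hDD hx))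

variable {Q : Subgroup G → Prop} {P : G → G → Subgroup G → Subgroup G → Subgroup G → Subgroup G → Prop}

/-- at most one involution -/
def UI (K : Subgroup G) : Prop := ∀ x ∈ K, ∀ y ∈ K, orderOf x = 2 → orderOf y = 2 → x = y

/-- (F2'): `c ∈ Z(D) ∩ A`, `d ∈ B`, `A ≠ B` components of `C_D(d)` of type `Q` (`≅ SL₂(q)`): then `P c d D A B B'`
for some component `B'` of `C_D(d)` containing `c d`, and there are no other components. -/
def F2p (Q : Subgroup G → Prop) (P : G → G → Subgroup G → Subgroup G → Subgroup G → Subgroup G → Prop) : Prop :=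
  ∀ (S : Set G) (c d : G) (D A B : Subgroup G), S.Nonempty → CInv S → CompIn (centralizer S) D →
    orderOf c = 2 → c ∈ centralizer (D : Set G) → orderOf d = 2 → c ∈ A → d ∈ B → Q A → Q B → A ≠ B →
    CompIn (D ⊓ centralizer ({d} : Set G)) A → CompIn (D ⊓ centralizer ({d} : Set G)) B →
    ∃ B' : Subgroup G, CompIn (D ⊓ centralizer ({d} : Set G)) B' ∧ UI B' ∧ c * d ∈ B' ∧
      (∀ K : Subgroup G, CompIn (D ⊓ centralizer ({d} : Set G)) K → K = A ∨ K = B ∨ K = B') ∧
      P c d D A B B'

/-- Solomon's configuration does not exist. -/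
def Sol (P : G → G → Subgroup G → Subgroup G → Subgroup G → Subgroup G → Prop) : Prop :=
  ∀ (S : Set G) (u v : G) (Du Dv Ju Jv Jw : Subgroup G), CInv (insert u (insert v S)) → u ≠ v →
    CompIn (centralizer (insert u S)) Du → CompIn (centralizer (insert v S)) Dv →
    P u v Du Ju Jv Jw → P v u Dv Jv Ju Jw → False

theorem centralizer_insert (t : G) (S : Set G) :
    centralizer (insert t S) = centralizer S ⊓ centralizer ({t} : Set G) := by
  ext x
  simp only [mem_inf, mem_centralizer_iff, Set.mem_insert_iff, Set.mem_singleton_iff, forall_eq_or_imp,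
    forall_eq]
  tauto

theorem CInv.mono {S T : Set G} (h : CInv T) (hST : S ⊆ T) : CInv S :=
  ⟨fun s hs => h.ord s (hST hs), fun s hs s' hs' => h.comm s (hST hs) s' (hST hs')⟩

/-- **THEOREM X** -/
theorem false_of_frame (hP : PumpV G)
    (hQ : ∀ K : Subgroup G, Q K → UI K)
    (hcl : ∀ (z : G) (K : Subgroup G), orderOf z = 2 → z ∈ K → Q K →
      ¬ CompIn (centralizer ({z} : Set G)) K)
    (hF : F2p Q P) (hSol : Sol P) {ι : Type*} (R : Finset ι) (hne : R.Nonempty) (J : ι → Subgroup G)
    (y : ι → G) (hJ : ∀ i ∈ R, CompIn (centralizer (y '' (R : Set ι))) (J i)) (hQJ : ∀ i ∈ R, Q (J i))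
    (hy : ∀ i ∈ R, y i ∈ J i) (ho : ∀ i ∈ R, orderOf (y i) = 2)
    (hinj : ∀ i ∈ R, ∀ k ∈ R, i ≠ k → y i ≠ y k)
    (h3 : ∀ a ∈ R, ∀ b ∈ R, ∀ c ∈ R, a ≠ b → a ≠ c → b ≠ c → y a * y b ≠ y c) : False := by
  classical
  -- a minimal `A`
  let good : Finset ι → Prop := fun A =>
    A ⊆ R ∧ A.Nonempty ∧ ∀ i ∈ A, CompIn (centralizer (y '' (A : Set ι))) (J i)
  have hex : ∃ n : ℕ, ∃ A : Finset ι, good A ∧ A.card = n := ⟨_, R, ⟨subset_rfl, hne, hJ⟩, rfl⟩
  obtain ⟨A, ⟨hAR, hAne, hAJ⟩, hAc⟩ := Nat.find_spec hex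
  have hmin : ∀ B : Finset ι, B ⊆ A → B.Nonempty → B ≠ A →
      ¬ ∀ i ∈ B, CompIn (centralizer (y '' (B : Set ι))) (J i) := by
    intro B hBA hB hBne h
    have h1 : B.card < A.card := Finset.card_lt_card (Finset.ssubset_iff_subset_ne.mpr ⟨hBA, hBne⟩)
    exact Nat.find_min hex (hAc ▸ h1) ⟨B, ⟨hBA.trans hAR, hB, h⟩, rfl⟩
  clear hAc
  -- the involutions commute
  have hcomm : ∀ i ∈ A, ∀ k ∈ A, y i * y k = y k * y i := by
    intro i hi k hk
    have h1 := (hAJ i hi).le (hy i (hAR hi))
    exact (mem_centralizer_iff.mp h1 (y k) ⟨k, hk, rfl⟩).symm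
  have hInv : CInv (y '' (A : Set ι)) := by
    refine ⟨?_, ?_⟩
    · rintro _ ⟨i, hi, rfl⟩
      exact ho i (hAR hi)
    · rintro _ ⟨i, hi, rfl⟩ _ ⟨k, hk, rfl⟩
      exact hcomm i hi k hk
  -- the sets `A - k`
  have hins : ∀ k ∈ A, y '' (A : Set ι) = insert (y k) (y '' ((A.erase k : Finset ι) : Set ι)) := by
    intro k hk
    rw [← Set.image_insert_eq, ← Finset.coe_insert, Finset.insert_erase hk]
  have hC : ∀ k ∈ A, centralizer (y '' (A : Set ι)) =
      centralizer (y '' ((A.erase k : Finset ι) : Set ι)) ⊓ centralizer ({y k} : Set G) := by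
    intro k hk
    rw [hins k hk, centralizer_insert]
  have hAk : ∀ k ∈ A, (A.erase k).Nonempty := by
    intro k hk
    by_contra hcon
    rw [Finset.not_nonempty_iff_eq_empty] at hcon
    have h1 := hins k hk
    rw [hcon, Finset.coe_empty, Set.image_empty, insert_empty_eq] at h1
    have h2 := hAJ k hk
    rw [h1] at h2
    exact hcl _ _ (ho k (hAR hk)) (hy k (hAR hk)) (hQJ k (hAR hk)) h2
  have hSne : ∀ k ∈ A, (y '' ((A.erase k : Finset ι) : Set ι)).Nonempty := by
    intro k hk
    obtain ⟨i, hi⟩ := hAk k hk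
    exact ⟨y i, i, hi, rfl⟩
  have hSI : ∀ k ∈ A, CInv (insert (y k) (y '' ((A.erase k : Finset ι) : Set ι))) := by
    intro k hk
    rw [← hins k hk]; exact hInv
  have hcomp : ∀ k ∈ A, ∀ K : Subgroup G, CompIn (centralizer (y '' (A : Set ι))) K →
      CompIn (centralizer (y '' ((A.erase k : Finset ι) : Set ι)) ⊓ centralizer ({y k} : Set G)) K := by
    intro k hk K hK
    rw [← hC k hk]; exact hK
  -- the groups `D k`
  have hexD : ∀ k ∈ A, ∃ D : Subgroup G,
      CompIn (centralizer (y '' ((A.erase k : Finset ι) : Set ι))) D ∧ J k ≤ D := fun k hk =>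
    compOver hP (hSne k hk) (hSI k hk) (hcomp k hk _ (hAJ k hk)) (hy k (hAR hk))
  choose! D hD hJD using hexD
  have hyD : ∀ k ∈ A, y k ∈ D k := fun k hk => hJD k hk (hy k (hAR hk))
  have hdich : ∀ k ∈ A, ∀ K : Subgroup G, CompIn (centralizer (y '' (A : Set ι))) K →
      K ≤ D k ∨ (CompIn (centralizer (y '' ((A.erase k : Finset ι) : Set ι))) K ∧ K ≠ D k) :=
    fun k hk K hK => compOver' hP (hSne k hk) (hSI k hk) (hcomp k hk K hK) (hD k hk) (hyD k hk)
  -- `y i` is central in `D k`
  have hcen : ∀ k ∈ A, ∀ i ∈ A, i ≠ k → y i ∈ centralizer (D k : Set G) := by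
    intro k hk i hi hik
    rw [mem_centralizer_iff]
    intro x hx
    have h1 := (hD k hk).le hx
    exact (mem_centralizer_iff.mp h1 (y i) ⟨i, by
      rw [Finset.mem_coe, Finset.mem_erase]; exact ⟨hik, hi⟩, rfl⟩).symm
  -- `y k` is not central in `D k` if `D k` contains another component of `C(y '' A)`
  have hJne : ∀ i ∈ A, ∀ k ∈ A, i ≠ k → J i ≠ J k := by
    intro i hi k hk hik h
    apply hinj i (hAR hi) k (hAR hk) hik
    exact hQ (J i) (hQJ i (hAR hi)) _ (hy i (hAR hi)) _ (h ▸ hy k (hAR hk)) (ho i (hAR hi)) (ho k (hAR hk))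
  -- data given by (F2')
  have hfp : ∀ k ∈ A, ∀ i ∈ A, i ≠ k → J i ≤ D k → ∃ B' : Subgroup G,
      CompIn (D k ⊓ centralizer ({y k} : Set G)) B' ∧ UI B' ∧ y i * y k ∈ B' ∧
      (∀ K : Subgroup G, CompIn (D k ⊓ centralizer ({y k} : Set G)) K → K = J i ∨ K = J k ∨ K = B') ∧
      P (y i) (y k) (D k) (J i) (J k) B' := by
    intro k hk i hi hik hle
    have hsub : ∀ K : Subgroup G, CompIn (centralizer (y '' (A : Set ι))) K → K ≤ D k →
        CompIn (D k ⊓ centralizer ({y k} : Set G)) K := by
      intro K hK hKD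
      have h1 := hcomp k hk K hK
      exact h1.mono (le_inf hKD (h1.le.trans inf_le_right)) (inf_le_inf_right _ (hD k hk).le)
    exact hF _ (y i) (y k) (D k) (J i) (J k) (hSne k hk) ((hSI k hk).mono (Set.subset_insert _ _))
      (hD k hk) (ho i (hAR hi)) (hcen k hk i hi hik) (ho k (hAR hk)) (hy i (hAR hi)) (hy k (hAR hk))
      (hQJ i (hAR hi)) (hQJ k (hAR hk)) (hJne i hi k hk hik) (hsub _ (hAJ i hi) hle)
      (hsub _ (hAJ k hk) (hJD k hk))
  have hext : ∀ k ∈ A, ∀ K : Subgroup G, CompIn (D k ⊓ centralizer ({y k} : Set G)) K →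
      CompIn (centralizer (y '' (A : Set ι))) K := by
    intro k hk K hK
    rw [hC k hk]
    exact extend (hD k hk) hK
  have hsub : ∀ k ∈ A, ∀ K : Subgroup G, CompIn (centralizer (y '' (A : Set ι))) K → K ≤ D k →
      CompIn (D k ⊓ centralizer ({y k} : Set G)) K := by
    intro k hk K hK hKD
    have h1 := hcomp k hk K hK
    exact h1.mono (le_inf hKD (h1.le.trans inf_le_right)) (inf_le_inf_right _ (hD k hk).le)
  -- `y k` does not centralize `D k` if `J i < D k`
  have hnc : ∀ k ∈ A, ∀ i ∈ A, i ≠ k → J i ≤ D k → y k ∉ centralizer (D k : Set G) := by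
    intro k hk i hi hik hle hcon
    have h1 : D k ≤ centralizer ({y k} : Set G) := by
      intro x hx
      rw [mem_cs]
      exact mem_centralizer_iff.mp hcon x hx
    have h2 : D k ≤ D k ⊓ centralizer ({y k} : Set G) := le_inf le_rfl h1
    have h3 := (hsub k hk _ (hAJ i hi) hle).eq_of_le (hD k hk).quasi h2 hle
    have h4 := (hsub k hk _ (hAJ k hk) (hJD k hk)).eq_of_le (hD k hk).quasi h2 (hJD k hk)
    exact hJne i hi k hk hik (h3.trans h4.symm)
  -- existence of `β k`
  have hbex : ∀ k ∈ A, ∃ i ∈ A, i ≠ k ∧ J i ≤ D k := by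
    intro k hk
    by_contra hcon
    push Not at hcon
    apply hmin (A.erase k) (Finset.erase_subset k A) (hAk k hk)
      (fun h => Finset.notMem_erase k A (by rw [h]; exact hk))
    intro i hi
    rw [Finset.mem_erase] at hi
    rcases hdich k hk (J i) (hAJ i hi.2) with h | h
    · exact absurd h (hcon i hi.2 hi.1)
    · exact h.1
  choose! β hβA hβne hβD using hbex
  -- uniqueness
  have hbuni : ∀ k ∈ A, ∀ i ∈ A, i ≠ k → J i ≤ D k → i = β k := by
    intro k hk i hi hik hle
    by_contra hne'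
    obtain ⟨B', hB', hQB, hm, hall, -⟩ := hfp k hk (β k) (hβA k hk) (hβne k hk) (hβD k hk)
    rcases hall _ (hsub k hk _ (hAJ i hi) hle) with h | h | h
    · exact hJne i hi (β k) (hβA k hk) hne' h
    · exact hJne i hi k hk hik h
    · -- `y i = y (β k) * y k`
      have h1 : orderOf (y (β k) * y k) = 2 := by
        apply order_of_sq
        · have e1 := hcomm (β k) (hβA k hk) k hk
          have e2 := sq_of_order (ho (β k) (hAR (hβA k hk)))
          have e3 := sq_of_order (ho k (hAR hk))
          calc y (β k) * y k * (y (β k) * y k) = y (β k) * (y k * y (β k)) * y k := by group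
            _ = (y (β k) * y (β k)) * (y k * y k) := by rw [← e1]; group
            _ = 1 := by rw [e2, e3, one_mul]
        · intro h
          apply hinj (β k) (hAR (hβA k hk)) k (hAR hk) (hβne k hk)
          rw [mul_eq_one_iff_eq_inv] at h
          rw [h]
          have e3 := sq_of_order (ho k (hAR hk))
          exact inv_eq_of_mul_eq_one_left e3
      have h2 := hQB _ hm _ (h ▸ hy i (hAR hi)) h1 (ho i (hAR hi))
      exact h3 (β k) (hAR (hβA k hk)) k (hAR hk) i (hAR hi) (hβne k hk) (Ne.symm hne') (Ne.symm hik) h2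
  -- order of the products
  have hord : ∀ a ∈ A, ∀ b ∈ A, a ≠ b → orderOf (y a * y b) = 2 := by
    intro a ha b hb hab
    apply order_of_sq
    · have e1 := hcomm a ha b hb
      have e2 := sq_of_order (ho a (hAR ha))
      have e3 := sq_of_order (ho b (hAR hb))
      calc y a * y b * (y a * y b) = y a * (y b * y a) * y b := by group
        _ = (y a * y a) * (y b * y b) := by rw [← e1]; group
        _ = 1 := by rw [e2, e3, one_mul]
    · intro h
      apply hinj a (hAR ha) b (hAR hb) hab
      rw [mul_eq_one_iff_eq_inv] at h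
      rw [h]
      exact inv_eq_of_mul_eq_one_left (sq_of_order (ho b (hAR hb)))
  -- the third component
  have hstar : ∀ k ∈ A, ∃ B' : Subgroup G,
      CompIn (D k ⊓ centralizer ({y k} : Set G)) B' ∧ UI B' ∧ y (β k) * y k ∈ B' ∧
      (∀ K : Subgroup G, CompIn (D k ⊓ centralizer ({y k} : Set G)) K → K = J (β k) ∨ K = J k ∨ K = B') ∧
      P (y (β k)) (y k) (D k) (J (β k)) (J k) B' := fun k hk =>
    hfp k hk (β k) (hβA k hk) (hβne k hk) (hβD k hk)
  choose! T hTc hTQ hTm hTall hTP using hstar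
  -- `β (β k) = k`
  have hinvo : ∀ k ∈ A, β (β k) = k := by
    intro k hk
    by_contra hne'
    have hl := hβA k hk
    have hlk := hβne k hk
    -- `J k` is not in `D (β k)`
    have hkl : ¬ J k ≤ D (β k) := fun h => hne' (hbuni (β k) hl k hk (Ne.symm hlk) h).symm
    have h1 : y k ∈ centralizer (D (β k) : Set G) := hcen (β k) hl k hk (Ne.symm hlk)
    have hTcomp := hext k hk _ (hTc k hk)
    rcases hdich (β k) hl (T k) hTcomp with h | ⟨h, h'⟩
    · rcases hTall (β k) hl (T k) (hsub (β k) hl _ hTcomp h) with h2 | h2 | h2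
      · -- `T k = J (β (β k))`
        have h4 := hTQ k hk _ (hTm k hk) _ (h2 ▸ hy _ (hAR (hβA _ hl)))
          (hord _ hl _ hk hlk) (ho _ (hAR (hβA _ hl)))
        exact h3 (β k) (hAR hl) k (hAR hk) (β (β k)) (hAR (hβA _ hl)) hlk (Ne.symm (hβne _ hl))
          (Ne.symm hne') h4
      · -- `T k = J (β k)`
        have h4 := hTQ k hk _ (hTm k hk) _ (h2 ▸ hy _ (hAR hl))
          (hord _ hl _ hk hlk) (ho _ (hAR hl))
        have h5 : y k = 1 := by
          rwa [mul_eq_left] at h4
        have h6 := ho k (hAR hk)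
        rw [h5, orderOf_one] at h6
        exact absurd h6 (by norm_num)
      · -- `T k = T (β k)`
        have h4 := hTQ k hk _ (hTm k hk) _ (h2 ▸ hTm _ hl)
          (hord _ hl _ hk hlk) (hord _ (hβA _ hl) _ hl (hβne _ hl))
        have h5 : y k = y (β (β k)) := by
          rw [← hcomm (β k) hl _ (hβA _ hl)] at h4
          exact mul_left_cancel h4
        exact hinj k (hAR hk) _ (hAR (hβA _ hl)) (Ne.symm hne') h5
    · -- `T k` centralizes `D (β k)`
      have h4 := h.comm (hD (β k) hl) h'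
      have h5 : y (β k) ∈ centralizer (D (β k) : Set G) := by
        have h6 : y (β k) = (y (β k) * y k) * (y k)⁻¹ := by group
        rw [h6]
        exact mul_mem (h4 (hTm k hk)) (inv_mem h1)
      exact hnc (β k) hl (β (β k)) (hβA _ hl) (hβne _ hl) (hβD _ hl) h5
  -- Solomon's configuration
  obtain ⟨k, hk⟩ := hAne
  have hl := hβA k hk
  have hlk := hβne k hk
  have hkk := hinvo k hk
  -- `T k = T (β k)`
  have hTT : T k = T (β k) := by
    have hTcomp := hext k hk _ (hTc k hk)
    rcases hdich (β k) hl (T k) hTcomp with h | ⟨h, h'⟩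
    · rcases hTall (β k) hl (T k) (hsub (β k) hl _ hTcomp h) with h2 | h2 | h2
      · exfalso
        rw [hkk] at h2
        have h4 := hTQ k hk _ (hTm k hk) _ (h2 ▸ hy _ (hAR hk))
          (hord _ hl _ hk hlk) (ho _ (hAR hk))
        have h5 : y (β k) = 1 := by
          rwa [mul_eq_right] at h4
        have h6 := ho _ (hAR hl)
        rw [h5, orderOf_one] at h6
        exact absurd h6 (by norm_num)
      · exfalso
        have h4 := hTQ k hk _ (hTm k hk) _ (h2 ▸ hy _ (hAR hl))
          (hord _ hl _ hk hlk) (ho _ (hAR hl))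
        have h5 : y k = 1 := by
          rwa [mul_eq_left] at h4
        have h6 := ho k (hAR hk)
        rw [h5, orderOf_one] at h6
        exact absurd h6 (by norm_num)
      · exact h2
    · exfalso
      have h1 : y k ∈ centralizer (D (β k) : Set G) := hcen (β k) hl k hk (Ne.symm hlk)
      have h4 := h.comm (hD (β k) hl) h'
      have h5 : y (β k) ∈ centralizer (D (β k) : Set G) := by
        have h6 : y (β k) = (y (β k) * y k) * (y k)⁻¹ := by group
        rw [h6]
        exact mul_mem (h4 (hTm k hk)) (inv_mem h1)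
      exact hnc (β k) hl (β (β k)) (hβA _ hl) (hβne _ hl) (hβD _ hl) h5
  -- the sets
  set S : Set G := y '' (((A.erase k).erase (β k) : Finset ι) : Set ι) with hSdef
  have hS1 : y '' ((A.erase k : Finset ι) : Set ι) = insert (y (β k)) S := by
    rw [hSdef, ← Set.image_insert_eq, ← Finset.coe_insert, Finset.insert_erase]
    rw [Finset.mem_erase]
    exact ⟨hlk, hl⟩
  have hS2 : y '' ((A.erase (β k) : Finset ι) : Set ι) = insert (y k) S := by
    rw [hSdef, Finset.erase_right_comm, ← Set.image_insert_eq, ← Finset.coe_insert, Finset.insert_erase]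
    rw [Finset.mem_erase]
    exact ⟨Ne.symm hlk, hk⟩
  have hS3 : y '' (A : Set ι) = insert (y (β k)) (insert (y k) S) := by
    rw [hins (β k) hl, hS2]
  have hP1 := hTP k hk
  have hP2 := hTP (β k) hl
  rw [hkk, ← hTT] at hP2
  refine hSol S (y (β k)) (y k) (D k) (D (β k)) (J (β k)) (J k) (T k) (hS3 ▸ hInv)
    (hinj _ (hAR hl) _ (hAR hk) hlk) ?_ ?_ hP1 hP2
  · rw [← hS1]; exact hD k hk
  · rw [← hS2]; exact hD (β k) hl

end Cfsg.Agent.OddHalf.NI.ThmX
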