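import Cfsg.Agent.OddHalf.NI.SolToFr
import Cfsg.Agent.OddHalf.NI.SolDef
import Cfsg.Agent.OddHalf.NI.ThmX
import Cfsg.Agent.TwoFusion.SLTwoFacts

/-!
# Sol(q): from two linear models to a contradiction
-/

set_option autoImplicit false

namespace Cfsg.Agent.OddHalf.NI.Sol

open Subgroup Cfsg Cfsg.Agent.OddHalf.D3 Cfsg.Agent.OddHalf.NI

variable {G : Type*} [Group G]

/-- `D` has a linear model in which `A`, `B`, `B'` are the three groups. -/
def PosP (F : Type) [Field F] (c : G) (D A B B' : Subgroup G) : Prop :=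
  ∃ (u : ↥D) (a b b' : SL F →* ↥D) (π : ↥D →* ((M2 F × M2 F) ≃ₗ[F] (M2 F × M2 F))),
    Pos u a b b' π ∧ (u : G) = c ∧ A = (D.subtype.comp a).range ∧ B = (D.subtype.comp b).range ∧
      B' = (D.subtype.comp b').range

theorem exists_aut {S : Type*} [Group S] {φ ψ : S →* G} (hφ : Function.Injective φ)
    (hψ : Function.Injective ψ) (h : φ.range = ψ.range) : ∃ α : MulAut S, ∀ A, ψ A = φ (α A) := by
  let e1 := MonoidHom.ofInjective hφ
  let e2 := MonoidHom.ofInjective hψ
  refine ⟨(e2.trans (MulEquiv.subgroupCongr h.symm)).trans e1.symm, fun A => ?_⟩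
  have h1 : e1 (e1.symm (MulEquiv.subgroupCongr h.symm (e2 A))) = MulEquiv.subgroupCongr h.symm (e2 A) :=
    MulEquiv.apply_symm_apply _ _
  exact (congrArg Subtype.val h1).symm

theorem kill_pos {F : Type} [Field F] [Fintype F] (hq : Odd (Fintype.card F)) (hc : 3 < Fintype.card F)
    {S : Set G} {u v : G} {Du Dv Ju Jv Jw : Subgroup G} (huv : u ≠ v)
    (hDu : CompIn (centralizer (insert u S)) Du) (hDv : CompIn (centralizer (insert v S)) Dv)
    (Cu : CompIn (Du ⊓ centralizer ({v} : Set G)) Ju) (Cv : CompIn (Du ⊓ centralizer ({v} : Set G)) Jv)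
    (Cw : CompIn (Du ⊓ centralizer ({v} : Set G)) Jw)
    (uJ : u ∈ Ju) (vJ : v ∈ Jv) (wJ : u * v ∈ Jw) (ou : orderOf u = 2) (ov : orderOf v = 2)
    (Pu : PosP F u Du Ju Jv Jw) (Pv : PosP F v Dv Jv Ju Jw) : False := by
  have h2 : (2 : F) ≠ 0 := Cfsg.Agent.LFourR.AutTorus.two_ne_zero' hq
  have perf : commutator (SL F) = ⊤ := Cfsg.Agent.TwoFusion.SLTwoFacts.commutator_eq_top hc
  obtain ⟨τ, hτ, x, y, hxy, m, hT⟩ := exists_tor hq hc
  obtain ⟨u1, a, b, b', π, Hu, hu1, hJu, hJv, hJw⟩ := Pu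
  obtain ⟨v1, a1, b1, b1', π', Hv, hv1, hJv1, hJu1, hJw1⟩ := Pv
  obtain ⟨g, Fu⟩ := Hu.frame perf h2 hτ hxy hT
  obtain ⟨g', Fv⟩ := Hv.frame perf h2 hτ hxy hT
  obtain ⟨U, hU⟩ : ∃ U, U = Du.subtype.comp a := ⟨_, rfl⟩
  obtain ⟨V, hV⟩ : ∃ V, V = Du.subtype.comp b := ⟨_, rfl⟩
  obtain ⟨W, hW⟩ : ∃ W, W = Du.subtype.comp b' := ⟨_, rfl⟩
  obtain ⟨V', hV'⟩ : ∃ V', V' = Dv.subtype.comp a1 := ⟨_, rfl⟩
  obtain ⟨U', hU'⟩ : ∃ U', U' = Dv.subtype.comp b1 := ⟨_, rfl⟩
  obtain ⟨W', hW'⟩ : ∃ W', W' = Dv.subtype.comp b1' := ⟨_, rfl⟩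
  rw [← hU, ← hV, ← hW] at Fu
  rw [← hV', ← hU', ← hW'] at Fv
  rw [← hU] at hJu
  rw [← hV] at hJv
  rw [← hW] at hJw
  rw [← hV'] at hJv1
  rw [← hU'] at hJu1
  rw [← hW'] at hJw1
  have Uz : U (-1) = u := by
    rw [hU, ← hu1]
    exact congrArg Subtype.val Hu.au
  have Vz1 : V' (-1) = v := by
    rw [hV', ← hv1]
    exact congrArg Subtype.val Hv.au
  -- involutions of the `J`s
  have u2 : u ^ 2 = 1 := by
    have h3 := pow_orderOf_eq_one u
    rwa [ou] at h3
  have v2 : v ^ 2 = 1 := by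
    have h3 := pow_orderOf_eq_one v
    rwa [ov] at h3
  have uniq : ∀ (X : SL F →* G), Function.Injective X → ∀ A, orderOf (X A) = 2 → A = -1 := by
    intro X hX A hA
    have h3 : A * A = 1 := by
      apply hX
      have h4 := pow_orderOf_eq_one (X A)
      rw [hA, pow_two] at h4
      rw [map_mul, map_one]
      exact h4
    refine hT.zuniq A h3 ?_
    rintro rfl
    rw [map_one, orderOf_one] at hA
    omega
  obtain ⟨αu, hαu⟩ := exists_aut Fu.ia Fv.ib (by rw [← hJu, ← hJu1])
  obtain ⟨αv, hαv⟩ := exists_aut Fu.ib Fv.ia (by rw [← hJv, ← hJv1])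
  obtain ⟨αw, hαw⟩ := exists_aut Fu.ic Fv.ic (by rw [← hJw, ← hJw1])
  have Vz : V (-1) = v := by
    rw [hJv] at vJ
    obtain ⟨A, hA⟩ := vJ
    have := uniq V Fu.ib A (by rw [hA]; exact ov)
    rw [← this, hA]
  have Wz : W (-1) = u * v := by
    rw [hJw] at wJ
    obtain ⟨A, hA⟩ := wJ
    have huv' : u * v = v * u := by
      have h3 := Fu.ab (-1) (-1)
      rw [Uz, Vz] at h3
      exact h3
    have ho : orderOf (u * v) = 2 := by
      apply orderOf_eq_prime
      · rw [(show Commute u v from huv').mul_pow, u2, v2, one_mul]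
      · intro h3
        apply huv
        have h4 : u = v⁻¹ := mul_eq_one_iff_eq_inv.mp h3
        have h5 : v⁻¹ = v := inv_eq_of_mul_eq_one_left (by rw [← pow_two, v2])
        rw [h4, h5]
    have := uniq W Fu.ic A (by rw [hA]; exact ho)
    rw [← this, hA]
  -- ambient group
  have hDuH : Du ≤ centralizer S := hDu.le.trans (centralizer_le (Set.subset_insert _ _))
  have hDvH : Dv ≤ centralizer S := hDv.le.trans (centralizer_le (Set.subset_insert _ _))
  have ncomm : ∃ A B : SL F, A * B ≠ B * A := by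
    by_contra hcon
    push Not at hcon
    have h3 : commutator (SL F) = ⊥ := by
      rw [eq_bot_iff, _root_.commutator_def, Subgroup.commutator_le]
      intro A _ B _
      rw [Subgroup.mem_bot, commutatorElement_eq_one_iff_mul_comm]
      exact hcon A B
    rw [perf] at h3
    have h4 : (-1 : SL F) ∈ (⊤ : Subgroup (SL F)) := mem_top _
    rw [h3, Subgroup.mem_bot] at h4
    exact hT.z1 h4
  have norm : ∀ {w : G} {D : Subgroup G}, CompIn (centralizer (insert w S)) D → ∀ X : SL F →* G,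
      Function.Injective X → (∀ A, X A ∈ D) → ∀ p ∈ centralizer S, p * w = w * p → (∀ A, p * X A = X A * p) →
      ∀ q, q ∈ D ↔ p * q * p⁻¹ ∈ D := by
    intro w D hD X iX mX p hp hpw hpX
    have hpc : p ∈ centralizer (insert w S) := by
      rw [mem_centralizer_iff]
      intro s hs
      rcases Set.mem_insert_iff.mp hs with rfl | hs
      · exact hpw.symm
      · exact mem_centralizer_iff.mp hp s hs
    have h3 := hD.conj_of_norm (cj_eq_of_mem hpc)
    have h4 : cj p D = D := by
      by_contra hne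
      have h5 := h3.comm hD hne
      obtain ⟨A, B, hAB⟩ := ncomm
      apply hAB
      apply iX
      have h6 : X A ∈ cj p D := by
        have h7 := conj_mem_cj (g := p) (mX A)
        rwa [hpX, mul_inv_cancel_right] at h7
      have h8 := mem_centralizer_iff.mp (h5 h6) (X B) (mX B)
      rw [map_mul, map_mul, h8]
    intro q
    constructor
    · intro hq
      rw [← h4]
      exact conj_mem_cj hq
    · intro hq
      rw [← h4, mem_cj] at hq
      have : p⁻¹ * (p * q * p⁻¹) * p = q := by group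
      rwa [this] at hq
  refine kill hT perf (H := centralizer S) hDuH hDvH Fu Fv hαu hαv hαw ?_ ?_ ?_
  · intro p hp hc
    exact norm hDu U Fu.ia Fu.ma p hp (by rw [← Uz]; exact hc.1 _) hc.1
  · intro p hp hc
    refine norm hDv U' Fv.ib Fv.mb p hp (by rw [← Vz]; exact hc.2.1 _) fun A => ?_
    rw [hαu]
    exact hc.1 _
  · intro p hp pu pv
    rw [Uz] at pu
    rw [Vz] at pv
    -- components of `K = C(u, v, S)`
    obtain ⟨K, hK⟩ : ∃ K, K = centralizer (insert u S) ⊓ centralizer ({v} : Set G) := ⟨_, rfl⟩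
    have Ku : CompIn K Ju := by rw [hK]; exact ThmX.extend hDu Cu
    have Kv : CompIn K Jv := by rw [hK]; exact ThmX.extend hDu Cv
    have Kw : CompIn K Jw := by rw [hK]; exact ThmX.extend hDu Cw
    have hpK : p ∈ K := by
      rw [hK]
      refine ⟨?_, ?_⟩
      · refine mem_centralizer_iff.mpr ?_
        intro s hs
        rcases Set.mem_insert_iff.mp hs with rfl | hs
        · exact pu.symm
        · exact mem_centralizer_iff.mp hp s hs
      · exact mem_centralizer_singleton_iff.mpr pv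
    have gen : ∀ (X : SL F →* G) (J : Subgroup G), Function.Injective X → J = X.range → CompIn K J →
        p * X (-1) = X (-1) * p → (∀ X' : SL F →* G, (X' = U ∨ X' = V ∨ X' = W) → X (-1) = X' (-1) → X = X') →
        (∀ A, ∃ B, p * X A * p⁻¹ = X B) ∨ ∀ A, Cen U V W (p * X A * p⁻¹) := by
      intro X J iX hJ hKJ pX hdis
      have h3 : CompIn K (cj p J) := hKJ.conj_of_norm (cj_eq_of_mem hpK)
      have hmem : ∀ A, p * X A * p⁻¹ ∈ cj p J := fun A => conj_mem_cj (by rw [hJ]; exact ⟨A, rfl⟩)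
      by_cases h4 : cj p J = J
      · left
        intro A
        have h5 := hmem A
        rw [h4, hJ] at h5
        obtain ⟨B, hB⟩ := h5
        exact ⟨B, hB.symm⟩
      · right
        have h5 : ∀ (X' : SL F →* G) (J' : Subgroup G), (X' = U ∨ X' = V ∨ X' = W) → Function.Injective X' →
            J' = X'.range → CompIn K J' → ∀ A B, p * X A * p⁻¹ * X' B = X' B * (p * X A * p⁻¹) := by
          intro X' J' hX' iX' hJ' hKJ' A B
          have h6 : cj p J ≠ J' := by
            intro h7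
            have h8 := hmem (-1)
            rw [pX, mul_inv_cancel_right, h7, hJ'] at h8
            obtain ⟨C, hC⟩ := h8
            have hoX : orderOf (X (-1)) = 2 := by
              rw [orderOf_injective X iX]
              apply orderOf_eq_prime
              · rw [pow_two, hT.zz]
              · exact hT.z1
            have h9 := uniq X' iX' C (by rw [hC]; exact hoX)
            rw [h9] at hC
            have h10 := hdis X' hX' hC.symm
            apply h4
            rw [h7, hJ', hJ, h10]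
          exact (mem_centralizer_iff.mp (h3.comm hKJ' h6 (hmem A)) (X' B) (by rw [hJ']; exact ⟨B, rfl⟩)).symm
        intro A
        exact ⟨h5 U Ju (Or.inl rfl) Fu.ia hJu Ku A, h5 V Jv (Or.inr (Or.inl rfl)) Fu.ib hJv Kv A,
          h5 W Jw (Or.inr (Or.inr rfl)) Fu.ic hJw Kw A⟩
    have u1' : u ≠ 1 := by rintro rfl; rw [orderOf_one] at ou; omega
    have v1' : v ≠ 1 := by rintro rfl; rw [orderOf_one] at ov; omega
    have nuw : u ≠ u * v := fun h => v1' (left_eq_mul.mp h)
    have nvw : v ≠ u * v := fun h => u1' (right_eq_mul.mp h)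
    refine ⟨gen U Ju Fu.ia hJu Ku (by rw [Uz]; exact pu) ?_, gen V Jv Fu.ib hJv Kv (by rw [Vz]; exact pv) ?_,
      gen W Jw Fu.ic hJw Kw ?_ ?_⟩
    · rintro X' (rfl | rfl | rfl) h3
      · rfl
      · rw [Uz, Vz] at h3; exact absurd h3 huv
      · rw [Uz, Wz] at h3; exact absurd h3 nuw
    · rintro X' (rfl | rfl | rfl) h3
      · rw [Uz, Vz] at h3; exact absurd h3.symm huv
      · rfl
      · rw [Vz, Wz] at h3; exact absurd h3 nvw
    · rw [Wz]
      exact ((show Commute p u from pu).mul_right pv).eq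
    · rintro X' (rfl | rfl | rfl) h3
      · rw [Uz, Wz] at h3; exact absurd h3.symm nuw
      · rw [Vz, Wz] at h3; exact absurd h3.symm nvw
      · rfl

end Cfsg.Agent.OddHalf.NI.Sol
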