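import Cfsg.Agent.OddHalf.NI.SolPosRep
import Cfsg.Agent.OddHalf.NI.SolGlue
import Cfsg.Agent.ClassicalGeometry.IsoTransfer
import Cfsg.Agent.ClassicalGeometry.OddInvolutions

/-!
# Sol(q): the linear model of the position `SolP`

`exists_pos` : `L / Z(L) ≃ PΩ₇(F)`, `Z(L) = {1, c}`, `A`, `B`, `B' ≃ SL₂(F)` commute pairwise, `c ∈ A`, `d ∈ B`, `c d ∈ B'`
⟹ the linear model `Pos`.
-/

set_option autoImplicit false

namespace Cfsg.Agent.OddHalf.NI.Sol

open Matrix Module QuadraticMap Subgroup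
open Cfsg.Agent.LieClassical.OrthCore (Nondeg)
open Cfsg.Agent.LieClassical.OmegaReindex (quadOdd coe_quadOdd quadOdd_nondegenerate)
open scoped commutatorElement

variable {F : Type} [Field F]

abbrev I7 : Type := Unit ⊕ (Fin 3 ⊕ Fin 3)

theorem card_I7 : Fintype.card I7 = 7 := by decide

theorem center_omega_seven (h2 : (2 : F) ≠ 0) :
    Subgroup.center (Cfsg.Omega F (Cfsg.quadFormOdd 3 F)) = ⊥ := by
  classical
  have h3 := Cfsg.Agent.LieClassical.OrthCenter.center_omega_eq_bot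
    (quadOdd_nondegenerate (F := F) (m := 3) h2) (by decide)
    ⟨Pi.single (.inr (.inl 0)) 1, by
      intro h
      have := congrFun h (.inr (.inl 0))
      rw [Pi.single_eq_same] at this
      exact one_ne_zero this, by
      rw [coe_quadOdd]
      unfold Cfsg.quadFormOdd
      rw [Fin.sum_univ_three]
      simp [Pi.single_apply]⟩
    (by
      intro g hg h
      have h4 := Cfsg.Agent.LieClassical.OrthCenter.det_of_mem_omega g hg
      rw [h, Matrix.det_neg, Matrix.det_one, card_I7] at h4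
      apply h2
      linear_combination -h4)
  rwa [coe_quadOdd] at h3

theorem rep_of [Fintype F] (h2 : (2 : F) ≠ 0) {L : Type*} [Group L] {c : L}
    (e : L ⧸ Subgroup.center L ≃* Cfsg.POmega F (Cfsg.quadFormOdd 3 F)) (hc : c ∈ Subgroup.center L)
    (hZ : ∀ z ∈ Subgroup.center L, z = 1 ∨ z = c) (oc : orderOf c = 2) :
    ∃ R : L →* Module.End F (I7 → F), Rep (quadOdd (F := F) (m := 3)) R c := by
  classical
  have hcen := center_omega_seven h2
  let e1 : Cfsg.POmega F (Cfsg.quadFormOdd 3 F) ≃* Cfsg.Omega F (Cfsg.quadFormOdd 3 F) :=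
    (QuotientGroup.quotientMulEquivOfEq hcen).trans QuotientGroup.quotientBot
  obtain ⟨ρ0, ker0, sur0⟩ : ∃ ρ0 : L →* Cfsg.Omega F (Cfsg.quadFormOdd 3 F),
      (∀ x, ρ0 x = 1 ↔ x ∈ Subgroup.center L) ∧ Function.Surjective ρ0 := by
    refine ⟨(e.trans e1).toMonoidHom.comp (QuotientGroup.mk' (Subgroup.center L)), ?_, ?_⟩
    · intro x
      change (e.trans e1) (QuotientGroup.mk' (Subgroup.center L) x) = 1 ↔ _
      rw [map_eq_one_iff _ (e.trans e1).injective]
      exact QuotientGroup.eq_one_iff x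
    · exact (e.trans e1).surjective.comp (QuotientGroup.mk'_surjective _)
  obtain ⟨R, hR⟩ : ∃ R : L →* Module.End F (I7 → F), ∀ x, R x =
      Matrix.toLin' (((ρ0 x : Cfsg.isometryGroup F (Cfsg.quadFormOdd 3 F)) : Matrix.GeneralLinearGroup I7 F) :
        Matrix I7 I7 F) := by
    refine ⟨{ toFun := fun x => Matrix.toLin' (((ρ0 x : Cfsg.isometryGroup F (Cfsg.quadFormOdd 3 F)) :
      Matrix.GeneralLinearGroup I7 F) : Matrix I7 I7 F), map_one' := ?_, map_mul' := ?_ }, fun x => rfl⟩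
    · rw [map_one]
      exact Matrix.toLin'_one
    · intro x y
      rw [map_mul]
      exact Matrix.toLin'_mul _ _
  refine ⟨R, { dim := ?_, nd := ?_, iso := ?_, ker := ?_, Rc := ?_, cc := ?_, c1 := ?_, cen := ?_, img := ?_ }⟩
  · rw [Module.finrank_fintype_fun_eq_card]
    exact card_I7
  · exact Cfsg.Agent.LieClassical.OrthCore.nondeg_of_nondegenerate (quadOdd_nondegenerate (m := 3) h2)
  · intro x v
    rw [hR, Matrix.toLin'_apply, coe_quadOdd]
    exact (ρ0 x : Cfsg.isometryGroup F (Cfsg.quadFormOdd 3 F)).2 v v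
  · intro x hx
    apply hZ
    rw [← ker0]
    apply Subtype.ext
    apply Subtype.ext
    apply Units.ext
    apply Matrix.toLin'.injective
    rw [← hR, hx]
    exact Matrix.toLin'_one.symm
  · rw [hR, (ker0 c).mpr hc]
    exact Matrix.toLin'_one
  · have h3 := pow_orderOf_eq_one c
    rwa [oc, pow_two] at h3
  · rintro rfl
    rw [orderOf_one] at oc
    omega
  · intro x
    exact Subgroup.mem_center_iff.mp hc x
  · intro g r gQ rQ g3 r2 rgr
    have mm : ∀ f f' : Module.End F (I7 → F), LinearMap.toMatrix' f * LinearMap.toMatrix' f' =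
        LinearMap.toMatrix' (f * f') := fun f f' => (LinearMap.toMatrix'_mul f f').symm
    have gg : g * (g * g) = 1 := LinearMap.ext g3
    have gg' : (g * g) * g = 1 := by rw [mul_assoc, gg]
    have rr : r * r = 1 := LinearMap.ext r2
    have m1 : LinearMap.toMatrix' (1 : Module.End F (I7 → F)) = 1 := LinearMap.toMatrix'_one
    obtain ⟨G, hG⟩ : ∃ G : Matrix.GeneralLinearGroup I7 F, (G : Matrix I7 I7 F) = LinearMap.toMatrix' g :=
      ⟨⟨LinearMap.toMatrix' g, LinearMap.toMatrix' (g * g), by rw [mm, gg, m1], by rw [mm, gg', m1]⟩, rfl⟩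
    obtain ⟨X, hX⟩ : ∃ X : Matrix.GeneralLinearGroup I7 F, (X : Matrix I7 I7 F) = LinearMap.toMatrix' r :=
      ⟨⟨LinearMap.toMatrix' r, LinearMap.toMatrix' r, by rw [mm, rr, m1], by rw [mm, rr, m1]⟩, rfl⟩
    have memG : G ∈ Cfsg.isometryGroup F (Cfsg.quadFormOdd 3 F) := by
      rw [Cfsg.Agent.LieClassical.OrthThree.mem_isometryGroup_iff]
      intro v
      rw [hG, ← Matrix.toLin'_apply, Matrix.toLin'_toMatrix', ← coe_quadOdd, gQ]
    have memX : X ∈ Cfsg.isometryGroup F (Cfsg.quadFormOdd 3 F) := by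
      rw [Cfsg.Agent.LieClassical.OrthThree.mem_isometryGroup_iff]
      intro v
      rw [hX, ← Matrix.toLin'_apply, Matrix.toLin'_toMatrix', ← coe_quadOdd, rQ]
    obtain ⟨G', hG'⟩ : ∃ G' : Cfsg.isometryGroup F (Cfsg.quadFormOdd 3 F), (G' : Matrix.GeneralLinearGroup I7 F) = G :=
      ⟨⟨G, memG⟩, rfl⟩
    obtain ⟨X', hX'⟩ : ∃ X' : Cfsg.isometryGroup F (Cfsg.quadFormOdd 3 F), (X' : Matrix.GeneralLinearGroup I7 F) = X :=
      ⟨⟨X, memX⟩, rfl⟩
    have XX : X' * X' = 1 := by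
      apply Subtype.ext
      apply Units.ext
      change ((X' : Matrix.GeneralLinearGroup I7 F) : Matrix I7 I7 F) *
        ((X' : Matrix.GeneralLinearGroup I7 F) : Matrix I7 I7 F) = 1
      rw [hX', hX, mm, rr, m1]
    have XGX : X' * G' * X' = G' * G' := by
      apply Subtype.ext
      apply Units.ext
      change ((X' : Matrix.GeneralLinearGroup I7 F) : Matrix I7 I7 F) *
        ((G' : Matrix.GeneralLinearGroup I7 F) : Matrix I7 I7 F) *
        ((X' : Matrix.GeneralLinearGroup I7 F) : Matrix I7 I7 F) =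
        ((G' : Matrix.GeneralLinearGroup I7 F) : Matrix I7 I7 F) *
        ((G' : Matrix.GeneralLinearGroup I7 F) : Matrix I7 I7 F)
      rw [hX', hG', hX, hG, mm, mm, mm]
      congr 1
      exact LinearMap.ext rgr
    have hcomm : G' = ⁅X', G'⁆ := by
      have h3 : X'⁻¹ = X' := inv_eq_of_mul_eq_one_left XX
      rw [commutatorElement_def, h3, XGX, mul_assoc, mul_inv_cancel, mul_one]
    have memO : G' ∈ Cfsg.Omega F (Cfsg.quadFormOdd 3 F) := by
      rw [hcomm]
      exact Subgroup.commutator_mem_commutator (Subgroup.mem_top _) (Subgroup.mem_top _)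
    obtain ⟨x, hx⟩ := sur0 ⟨G', memO⟩
    refine ⟨x, ?_⟩
    rw [hR, hx]
    change Matrix.toLin' (((G' : Cfsg.isometryGroup F (Cfsg.quadFormOdd 3 F)) : Matrix.GeneralLinearGroup I7 F) :
      Matrix I7 I7 F) = g
    rw [hG', hG, Matrix.toLin'_toMatrix']

theorem exists_pos [Fintype F] (hq : Odd (Fintype.card F)) (hc3 : 3 < Fintype.card F) {L : Type*} [Group L]
    {c d : L} {A B B' : Subgroup L}
    (e : Nonempty (L ⧸ Subgroup.center L ≃* Cfsg.POmega F (Cfsg.quadFormOdd 3 F)))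
    (hc : c ∈ Subgroup.center L) (hZ : ∀ z ∈ Subgroup.center L, z = 1 ∨ z = c)
    (eA : Nonempty (↥A ≃* SL F)) (eB : Nonempty (↥B ≃* SL F)) (eB' : Nonempty (↥B' ≃* SL F))
    (AB : ∀ x ∈ A, ∀ y ∈ B, x * y = y * x) (AB' : ∀ x ∈ A, ∀ y ∈ B', x * y = y * x)
    (BB' : ∀ x ∈ B, ∀ y ∈ B', x * y = y * x)
    (cA : c ∈ A) (dB : d ∈ B) (cdB : c * d ∈ B') (oc : orderOf c = 2) (od : orderOf d = 2) (hcd : c ≠ d) :
    ∃ (a b b' : SL F →* L) (π : L →* ((M2 F × M2 F) ≃ₗ[F] (M2 F × M2 F))), Pos c a b b' π ∧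
      a.range = A ∧ b.range = B ∧ b'.range = B' := by
  have h2 : (2 : F) ≠ 0 := Cfsg.Agent.LFourR.AutTorus.two_ne_zero' hq
  obtain ⟨e⟩ := e
  obtain ⟨eA⟩ := eA
  obtain ⟨eB⟩ := eB
  obtain ⟨eB'⟩ := eB'
  obtain ⟨R, H⟩ := rep_of h2 e hc hZ oc
  obtain ⟨τ, hτ, x, y, hxy, m, hT⟩ := exists_tor hq hc3
  have uniq : ∀ X : SL F, orderOf X = 2 → X = -1 := by
    intro X hX
    refine hT.zuniq X ?_ ?_
    · have h3 := pow_orderOf_eq_one X
      rwa [hX, pow_two] at h3
    · rintro rfl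
      rw [orderOf_one] at hX
      omega
  have gen : ∀ (J : Subgroup L) (E : ↥J ≃* SL F) (z : L), z ∈ J → orderOf z = 2 →
      ∃ φ : SL F →* L, Function.Injective φ ∧ φ.range = J ∧ φ (-1) = z := by
    intro J E z hz oz
    refine ⟨J.subtype.comp E.symm.toMonoidHom, J.subtype_injective.comp E.symm.injective, ?_, ?_⟩
    · ext w
      constructor
      · rintro ⟨X, rfl⟩
        exact (E.symm X).2
      · intro hw
        refine ⟨E ⟨w, hw⟩, ?_⟩
        change ((E.symm (E ⟨w, hw⟩) : ↥J) : L) = w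
        rw [MulEquiv.symm_apply_apply]
    · have h3 : E ⟨z, hz⟩ = -1 := by
        apply uniq
        refine (orderOf_injective E.toMonoidHom E.injective ⟨z, hz⟩).trans ?_
        rw [Subgroup.orderOf_mk, oz]
      change ((E.symm (-1) : ↥J) : L) = z
      rw [← h3, MulEquiv.symm_apply_apply]
  have cen := Subgroup.mem_center_iff.mp hc
  have cc : c * c = 1 := H.cc
  have dd : d * d = 1 := by
    have h3 := pow_orderOf_eq_one d
    rwa [od, pow_two] at h3
  have ocd : orderOf (c * d) = 2 := by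
    apply orderOf_eq_prime
    · rw [pow_two]
      calc c * d * (c * d) = c * (d * c) * d := by group
        _ = c * (c * d) * d := by rw [cen d]
        _ = (c * c) * (d * d) := by group
        _ = 1 := by rw [cc, dd, one_mul]
    · intro h3
      apply hcd
      calc c = c * (d * d) := by rw [dd, mul_one]
        _ = (c * d) * d := by group
        _ = d := by rw [h3, one_mul]
  obtain ⟨a, ia, ra, ha⟩ := gen A eA c cA oc
  obtain ⟨b, ib, rb, hb⟩ := gen B eB d dB od
  obtain ⟨b', ib', rb', hb'⟩ := gen B' eB' (c * d) cdB ocd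
  have mA : ∀ X, a X ∈ A := fun X => by rw [← ra]; exact ⟨X, rfl⟩
  have mB : ∀ X, b X ∈ B := fun X => by rw [← rb]; exact ⟨X, rfl⟩
  have mB' : ∀ X, b' X ∈ B' := fun X => by rw [← rb']; exact ⟨X, rfl⟩
  obtain ⟨a1, b1, b1', π, hP, r1, r2, r3⟩ := pos_of_rep h2 hc3 H a b b' ia ha
    (by rw [hb]; rintro rfl; rw [orderOf_one] at od; omega) (by rw [hb]; exact fun h => hcd h.symm)
    (by
      rw [hb, hb']
      calc d * (c * d) = (d * c) * d := by group
        _ = (c * d) * d := by rw [cen d]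
        _ = c * (d * d) := by group
        _ = c := by rw [dd, mul_one])
    (fun X Y => AB _ (mA X) _ (mB Y)) (fun X Y => AB' _ (mA X) _ (mB' Y)) (fun X Y => BB' _ (mB X) _ (mB' Y))
  exact ⟨a1, b1, b1', π, hP, r1.trans ra, r2.trans rb, r3.trans rb'⟩

end Cfsg.Agent.OddHalf.NI.Sol
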