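import Cfsg.Agent.OddHalf.NI.SolTor
import Cfsg.Agent.LFourR.AutTorus

/-!
# Sol(q): the torus for `q = 3^n`, `n` odd
-/

set_option autoImplicit false

namespace Cfsg.Agent.OddHalf.NI.Sol

open Matrix Cfsg.Agent.Lib.SL2Mat Cfsg.Agent.Lib.AutSL2 Cfsg.Agent.Lib.AutSL2Out
open Cfsg.Agent.LFourR.Mat2
open Cfsg.Agent.LFourR.FieldPart (val_mul val_one val_pow)

/-- the arithmetic: `C = ± 3^a` is not a root of `C² + C + 2` modulo `(3^n - 1) / 2` -/
theorem arith_three {n m : ℕ} (hm : 3 ^ n = 2 * m + 1) (hn : Odd n) (h3 : 3 ≤ n) {a : ℕ} (ha : a < n)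
    {ε : ZMod m} (hε : ε = 1 ∨ ε = -1) : (3 : ZMod m) ^ (2 * a) + ε * 3 ^ a + 2 ≠ 0 := by
  have h3n : (3 : ZMod m) ^ n = 1 := by
    have h1 : ((3 ^ n : ℕ) : ZMod m) = ((2 * m + 1 : ℕ) : ZMod m) := by rw [hm]
    rw [Nat.cast_pow, Nat.cast_add, Nat.cast_mul, ZMod.natCast_self, mul_zero, zero_add, Nat.cast_one,
      Nat.cast_ofNat] at h1
    exact h1
  by_cases hn3 : n = 3
  · subst hn3
    have hm13 : m = 13 := by omega
    subst hm13
    rcases hε with rfl | rfl
    · interval_cases a <;> decide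
    · interval_cases a <;> decide
  have hn5 : 5 ≤ n := by
    obtain ⟨k, hk⟩ := hn
    omega
  have h243 : 243 ≤ 3 ^ n := by
    calc 243 = 3 ^ 5 := by norm_num
      _ ≤ 3 ^ n := Nat.pow_le_pow_right (by norm_num) hn5
  -- a general principle
  have key : ∀ N : ℤ, N ≠ 0 → |N| < m → ((N : ℤ) : ZMod m) ≠ 0 := by
    intro N h0 hlt h1
    rw [ZMod.intCast_zmod_eq_zero_iff_dvd] at h1
    exact h0 (Int.eq_zero_of_abs_lt_dvd h1 hlt)
  obtain ⟨e, he, heε⟩ : ∃ e : ℤ, (e = 1 ∨ e = -1) ∧ ((e : ℤ) : ZMod m) = ε := by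
    rcases hε with h | h
    · exact ⟨1, Or.inl rfl, by rw [h, Int.cast_one]⟩
    · exact ⟨-1, Or.inr rfl, by rw [h, Int.cast_neg, Int.cast_one]⟩
  have hmZ : (3 : ℤ) ^ n = 2 * m + 1 := by exact_mod_cast hm
  by_cases h2a : 2 * a < n
  · have h1 := key (3 ^ (2 * a) + e * 3 ^ a + 2) ?_ ?_
    · rw [Int.cast_add, Int.cast_add, Int.cast_mul, Int.cast_pow, Int.cast_pow, heε] at h1
      push_cast at h1
      exact h1
    · have hx : (0 : ℤ) < 3 ^ a := by positivity
      rw [pow_mul']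
      rcases he with rfl | rfl <;> nlinarith
    · -- size
      obtain ⟨x, hx⟩ : ∃ x : ℤ, x = 3 ^ a := ⟨_, rfl⟩
      have hxx : (3 : ℤ) ^ (2 * a) = x ^ 2 := by rw [hx, pow_mul']
      rw [hxx, ← hx]
      have hx1 : 1 ≤ x := by rw [hx]; exact one_le_pow₀ (by norm_num)
      have hb : 3 * x ^ 2 ≤ 2 * m + 1 := by
        rw [← hmZ, hx, ← pow_mul, mul_comm 3, ← pow_succ]
        exact pow_le_pow_right₀ (by norm_num) (by omega)
      have h243' : (243 : ℤ) ≤ 2 * m + 1 := by rw [← hmZ]; exact_mod_cast h243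
      have hcase : x = 1 ∨ x = 3 ∨ 9 ≤ x := by
        rcases Nat.lt_or_ge a 2 with h | h
        · interval_cases a
          · left; rw [hx]; norm_num
          · right; left; rw [hx]; norm_num
        · right; right
          rw [hx]
          calc (9 : ℤ) = 3 ^ 2 := by norm_num
            _ ≤ 3 ^ a := pow_le_pow_right₀ (by norm_num) h
      rw [abs_lt]
      clear hxx hx key hm h243 h2a
      have h9 : x = 1 ∨ x = 3 ∨ 9 * x ≤ x ^ 2 := by
        rcases hcase with h | h | h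
        · exact Or.inl h
        · exact Or.inr (Or.inl h)
        · right; right
          calc 9 * x ≤ x * x := mul_le_mul_of_nonneg_right h (by omega)
            _ = x ^ 2 := (sq x).symm
      rcases he with rfl | rfl <;> rcases h9 with h | h | h
      · rw [h]; constructor <;> omega
      · rw [h]; constructor <;> omega
      · generalize x ^ 2 = w at *
        constructor <;> omega
      · rw [h]; constructor <;> omega
      · rw [h]; constructor <;> omega
      · generalize x ^ 2 = w at *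
        constructor <;> omega
  · -- `2 a > n`
    have hb : ∃ b, 2 * a = n + b ∧ 1 ≤ b ∧ b + 1 ≤ a := by
      obtain ⟨k, hk⟩ := hn
      exact ⟨2 * a - n, by omega, by omega, by omega⟩
    obtain ⟨b, hab, hb1, hba⟩ := hb
    rw [hab, pow_add, h3n, one_mul]
    have h1 := key (3 ^ b + e * 3 ^ a + 2) ?_ ?_
    · rw [Int.cast_add, Int.cast_add, Int.cast_mul, Int.cast_pow, Int.cast_pow, heε] at h1
      push_cast at h1
      exact h1
    · intro h0
      obtain ⟨b', rfl⟩ := Nat.exists_eq_add_of_le' hb1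
      obtain ⟨a', rfl⟩ := Nat.exists_eq_add_of_le' (show 1 ≤ a by omega)
      rw [pow_succ, pow_succ] at h0
      have h4 : (3 : ℤ) * (3 ^ b' + e * 3 ^ a') = -2 := by linear_combination h0
      omega
    · obtain ⟨y, hy⟩ : ∃ y : ℤ, y = 3 ^ (n - 2) := ⟨_, rfl⟩
      have hy27 : 27 ≤ y := by
        rw [hy]
        calc (27 : ℤ) = 3 ^ 3 := by norm_num
          _ ≤ 3 ^ (n - 2) := pow_le_pow_right₀ (by norm_num) (by omega)
      have hy9 : 9 * y = 2 * m + 1 := by
        rw [← hmZ, hy]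
        have : n = (n - 2) + 2 := by omega
        conv_rhs => rw [this, pow_add]
        ring
      have hby : (3 : ℤ) ^ b ≤ y := by
        rw [hy]
        exact pow_le_pow_right₀ (by norm_num) (by omega)
      have hay : (3 : ℤ) ^ a ≤ 3 * y := by
        rw [hy, mul_comm, ← pow_succ]
        exact pow_le_pow_right₀ (by norm_num) (by omega)
      have hb0 : (0 : ℤ) < 3 ^ b := by positivity
      have ha0 : (0 : ℤ) < 3 ^ a := by positivity
      rw [abs_lt]
      rcases he with rfl | rfl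
      · constructor <;> linarith
      · constructor <;> linarith

/-- the version with two exponents -/
theorem arith_three' {n m : ℕ} (hm : 3 ^ n = 2 * m + 1) (hn : Odd n) (h3 : 3 ≤ n) {i j : ℕ} (hi : i < n)
    (hj : j < n) {ε ε' : ZMod m} (hε : ε = 1 ∨ ε = -1) (hε' : ε' = 1 ∨ ε' = -1) :
    (ε' * 3 ^ j) ^ 2 + (ε * 3 ^ i) * (ε' * 3 ^ j) + 2 * (ε * 3 ^ i) ^ 2 ≠ 0 := by
  have h3n : (3 : ZMod m) ^ n = 1 := by
    have h1 : ((3 ^ n : ℕ) : ZMod m) = ((2 * m + 1 : ℕ) : ZMod m) := by rw [hm]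
    rw [Nat.cast_pow, Nat.cast_add, Nat.cast_mul, ZMod.natCast_self, mul_zero, zero_add, Nat.cast_one,
      Nat.cast_ofNat] at h1
    exact h1
  intro h
  obtain ⟨a, ha, haa⟩ : ∃ a, a < n ∧ (3 : ZMod m) ^ a = 3 ^ j * 3 ^ (n - i) := by
    by_cases hij : i ≤ j
    · refine ⟨j - i, by omega, ?_⟩
      rw [← pow_add, show j + (n - i) = (j - i) + n by omega, pow_add, h3n, mul_one]
    · refine ⟨j + n - i, by omega, ?_⟩
      rw [← pow_add]
      congr 1
      omega
  have hii : (3 : ZMod m) ^ i * 3 ^ (n - i) = 1 := by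
    rw [← pow_add, show i + (n - i) = n by omega, h3n]
  have e2 : ε ^ 2 = 1 := by rcases hε with rfl | rfl <;> ring
  have e2' : ε' ^ 2 = 1 := by rcases hε' with rfl | rfl <;> ring
  have hee : ε * ε' = 1 ∨ ε * ε' = -1 := by
    rcases hε with rfl | rfl <;> rcases hε' with rfl | rfl <;> simp
  apply arith_three hm hn h3 ha hee
  have h5 : (3 : ZMod m) ^ (2 * a) + ε * ε' * 3 ^ a + 2 =
      ((ε' * 3 ^ j) ^ 2 + (ε * 3 ^ i) * (ε' * 3 ^ j) + 2 * (ε * 3 ^ i) ^ 2) * (3 ^ (n - i)) ^ 2 := by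
    rw [pow_mul', haa]
    generalize (3 : ZMod m) ^ j = J at *
    generalize (3 : ZMod m) ^ (n - i) = N at *
    generalize (3 : ZMod m) ^ i = I at *
    linear_combination (-(J * N) ^ 2) * e2' - (ε * ε' * (J * N)) * hii - 2 * (1 + I * N) * hii - 2 * (I * N) ^ 2 * e2
  rw [h5, h, zero_mul]

/-- automorphisms of a finite field of characteristic 3 -/
theorem exists_frob {F : Type*} [Field F] [Fintype F] [CharP F 3] {n : ℕ} (hn : Fintype.card F = 3 ^ n)
    (σ : F ≃+* F) : ∃ i < n, ∀ x, σ x = x ^ (3 ^ i) := by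
  classical
  have hpp : Fact (Nat.Prime 3) := ⟨Nat.prime_three⟩
  let _ : Algebra (ZMod 3) F := ZMod.algebra F 3
  let τ : F ≃ₐ[ZMod 3] F := AlgEquiv.ofRingEquiv (f := σ) (fun r => by
    have : (σ : F →+* F).comp (algebraMap (ZMod 3) F) = algebraMap (ZMod 3) F := RingHom.ext_zmod _ _
    exact congrFun (congrArg DFunLike.coe this) r)
  obtain ⟨⟨j, hj⟩, hτ⟩ := (FiniteField.bijective_frobeniusAlgEquivOfAlgebraic_pow (ZMod 3) F).2 τ
  have hτ' : FiniteField.frobeniusAlgEquivOfAlgebraic (ZMod 3) F ^ j = τ := hτ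
  have hfr : Module.finrank (ZMod 3) F = n := by
    have h1 := Module.card_eq_pow_finrank (K := ZMod 3) (V := F)
    rw [ZMod.card, hn] at h1
    exact (Nat.pow_right_injective (by norm_num) h1).symm
  refine ⟨j, by rw [← hfr]; exact hj, fun x => ?_⟩
  have h1 : τ x = σ x := rfl
  rw [← h1, ← hτ', AlgEquiv.coe_pow, FiniteField.coe_frobeniusAlgEquivOfAlgebraic_iterate, ZMod.card]

/-- the case `q = 3^n`, `n ≥ 3` odd: `m = (q - 1) / 2` -/
theorem exists_tor_split {F : Type*} [Field F] [Fintype F] (h3 : (3 : F) = 0) (hns : ¬ IsSquare (-1 : F))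
    (hcard : 3 < Fintype.card F) :
    ∃ (τ : F) (hτ : τ ^ 2 ≠ 4) (x y : F) (hxy : x ^ 2 - τ * x * y + y ^ 2 = -1) (m : ℕ),
      Tor (conjGL (Dgl τ hτ)) (tt τ) (nn τ x y hxy) (-1) m := by
  classical
  have hpp : Fact (Nat.Prime 3) := ⟨Nat.prime_three⟩
  have hch : CharP F 3 := by
    have h1 : ringChar F ∣ 3 := (ringChar.spec F 3).1 (by exact_mod_cast h3)
    rcases (Nat.dvd_prime Nat.prime_three).1 h1 with h4 | h4
    · exact absurd h4 CharP.ringChar_ne_one
    · exact h4 ▸ ringChar.charP F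
  obtain ⟨⟨n, hn0⟩, -, hn⟩ := FiniteField.card F 3
  change Fintype.card F = 3 ^ n at hn
  have hmod : Fintype.card F % 4 = 3 := by
    by_contra h
    exact hns (FiniteField.isSquare_neg_one_iff.mpr h)
  have hnodd : Odd n := by
    by_contra h
    rw [Nat.not_odd_iff_even] at h
    obtain ⟨k, hk⟩ := h
    rw [hn, hk, ← two_mul, pow_mul, Nat.pow_mod] at hmod
    norm_num at hmod
  have hn3 : 3 ≤ n := by
    obtain ⟨k, hk⟩ := hnodd
    rcases Nat.eq_zero_or_pos k with h | h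
    · rw [hn, hk, h] at hcard
      norm_num at hcard
    · omega
  obtain ⟨m, hm⟩ : ∃ m, 3 ^ n = 2 * m + 1 := by
    have h1 : Odd (3 ^ n) := Odd.pow (by decide)
    obtain ⟨m, hm⟩ := h1
    exact ⟨m, hm⟩
  have hmodd : Odd m := by
    rw [hn, hm] at hmod
    rw [Nat.odd_iff]
    omega
  have hm1 : 1 < m := by
    have h27 : 27 ≤ 3 ^ n := by
      calc 27 = 3 ^ 3 := by norm_num
        _ ≤ 3 ^ n := Nat.pow_le_pow_right (by norm_num) hn3
    omega
  have h2 : (2 : F) ≠ 0 := by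
    intro h
    have h4 : (1 : F) = 0 := by linear_combination h3 - h
    exact one_ne_zero h4
  have hq : Odd (Fintype.card F) := by rw [hn]; exact Odd.pow (by decide)
  -- `λ` of order `m`
  obtain ⟨l, hl⟩ : ∃ l : F, orderOf l = m := by
    obtain ⟨g, hg⟩ := IsCyclic.exists_ofOrder_eq_natCard (α := Fˣ)
    have h4 : orderOf g = 2 * m := by
      rw [hg, Nat.card_eq_fintype_card, Fintype.card_units, hn, hm]
      omega
    refine ⟨((g ^ 2 : Fˣ) : F), ?_⟩
    rw [orderOf_units, orderOf_pow, h4]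
    simp
  have hlm : l ^ m = 1 := by rw [← hl, pow_orderOf_eq_one]
  have hl0 : l ≠ 0 := by
    rintro rfl
    rw [zero_pow (by omega)] at hlm
    exact zero_ne_one hlm
  have hli : l * l⁻¹ = 1 := mul_inv_cancel₀ hl0
  obtain ⟨τ, hτdef⟩ : ∃ τ, τ = l + l⁻¹ := ⟨_, rfl⟩
  have hroot : l ^ 2 - (RingHom.id F) τ * l + 1 = 0 := by
    rw [RingHom.id_apply, hτdef]
    linear_combination -hli
  have hτ : τ ^ 2 ≠ 4 := by
    intro h
    have h4 : (l ^ 2 - 1) ^ 2 = 0 := by
      have h5 : l ^ 2 * τ ^ 2 = l ^ 2 * 4 := by rw [h]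
      rw [hτdef] at h5
      have h6 : l ^ 2 * (l + l⁻¹) ^ 2 = (l ^ 2 + 1) ^ 2 := by
        have : l * (l + l⁻¹) = l ^ 2 + 1 := by rw [mul_add, hli]; ring
        calc l ^ 2 * (l + l⁻¹) ^ 2 = (l * (l + l⁻¹)) ^ 2 := by ring
          _ = _ := by rw [this]
      rw [h6] at h5
      linear_combination h5
    have h5 : l ^ 2 = 1 := by
      have := pow_eq_zero_iff (two_ne_zero) |>.1 h4
      linear_combination this
    have h6 : m ∣ 2 := by rw [← hl]; exact orderOf_dvd_of_pow_eq_one h5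
    have h7 := Nat.le_of_dvd (by norm_num) h6
    obtain ⟨k, hk⟩ := hmodd
    omega
  obtain ⟨x, y, hxy⟩ := exists_xy hq h2 hτ
  have ord : orderOf (tt τ) = m := by
    rw [← hl, orderOf_eq_orderOf_iff]
    intro k
    rw [← chi_tt (RingHom.id F) l τ, ← chi_pow (RingHom.id F) l hroot rfl]
    constructor
    · intro h
      rw [h, chi_one]
    · intro h
      exact chi_inj (RingHom.id F) l hτ hroot (comm_pow rfl k) h
  have ttm : tt τ ^ m = 1 := by rw [← ord, pow_orderOf_eq_one]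
  -- the traces
  have htr : ∀ k : ℕ, (tt τ ^ k).1.trace * l ^ k = (l ^ k) ^ 2 + 1 := by
    intro k
    have h4 := chi_trace (RingHom.id F) l hroot (comm_pow (A := tt τ) rfl k)
    rw [chi_pow (RingHom.id F) l hroot rfl, chi_tt] at h4
    exact h4
  have hred : ∀ k : ℤ, ∃ k' : ℕ, tt τ ^ k = tt τ ^ k' ∧ ((k : ℤ) : ZMod m) = ((k' : ℕ) : ZMod m) := by
    intro k
    refine ⟨(k % m).toNat, ?_, ?_⟩
    · have h4 : (((k % m).toNat : ℕ) : ℤ) = k % m := Int.toNat_of_nonneg (Int.emod_nonneg _ (by omega))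
      rw [← zpow_natCast (tt τ) ((k % m).toNat), h4]
      conv_lhs => rw [← Int.emod_add_mul_ediv k m, _root_.zpow_add, _root_.zpow_mul, zpow_natCast, ttm, _root_.one_zpow, mul_one]
    · have h4 : (((k % m).toNat : ℕ) : ℤ) = k % m := Int.toNat_of_nonneg (Int.emod_nonneg _ (by omega))
      rw [← Int.cast_natCast, h4, ZMod.intCast_mod]
  have hpow : ∀ a b : ℕ, l ^ a = l ^ b → a ≡ b [MOD m] := by
    intro a b hab
    have h4 : (Units.mk0 l hl0) ^ a = (Units.mk0 l hl0) ^ b := by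
      apply Units.ext
      rw [Units.val_pow_eq_pow_val, Units.val_pow_eq_pow_val, Units.val_mk0, hab]
    rw [pow_eq_pow_iff_modEq, ← orderOf_units, Units.val_mk0, hl] at h4
    exact h4
  -- exponents
  have hexp : ∀ (σ : F ≃+* F) (k : ℤ), (tt τ ^ k).1.trace = σ τ →
      ∃ i < n, ∃ ε : ZMod m, (ε = 1 ∨ ε = -1) ∧ ((k : ℤ) : ZMod m) = ε * 3 ^ i := by
    intro σ k hk
    obtain ⟨i, hi, hσ⟩ := exists_frob hn σ
    obtain ⟨k', hk', hkk⟩ := hred k
    refine ⟨i, hi, ?_⟩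
    rw [hk'] at hk
    have h4 := htr k'
    rw [hk, hτdef, map_add, map_inv₀, hσ] at h4
    obtain ⟨a, ha⟩ : ∃ a, a = l ^ 3 ^ i := ⟨_, rfl⟩
    obtain ⟨b, hb⟩ : ∃ b, b = l ^ k' := ⟨_, rfl⟩
    have ha0 : a ≠ 0 := by rw [ha]; exact pow_ne_zero _ hl0
    rw [← ha, ← hb] at h4
    have h5 : (b - a) * (a * b - 1) = 0 := by
      have h6 : a * a⁻¹ = 1 := mul_inv_cancel₀ ha0
      linear_combination (-a) * h4 + b * h6
    rcases mul_eq_zero.mp h5 with h6 | h6
    · refine ⟨1, Or.inl rfl, ?_⟩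
      have h7 : l ^ k' = l ^ 3 ^ i := by rw [← ha, ← hb]; linear_combination h6
      rw [hkk, (ZMod.natCast_eq_natCast_iff _ _ _).mpr (hpow _ _ h7), one_mul, Nat.cast_pow, Nat.cast_ofNat]
    · refine ⟨-1, Or.inr rfl, ?_⟩
      have h7 : l ^ (3 ^ i + k') = l ^ 0 := by
        rw [pow_add, ← ha, ← hb, pow_zero]; linear_combination h6
      have h8 := (ZMod.natCast_eq_natCast_iff _ _ _).mpr (hpow _ _ h7)
      rw [Nat.cast_add, Nat.cast_pow, Nat.cast_zero, Nat.cast_ofNat] at h8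
      rw [hkk]
      linear_combination h8
  refine ⟨τ, hτ, x, y, hxy, m, tor_of hq h2 hτ hxy hmodd hm1 ord ?_ ?_⟩
  · intro σ
    obtain ⟨i, hi, hσ⟩ := exists_frob hn σ
    refine ⟨((3 ^ i : ℕ) : ℤ), ?_⟩
    rw [zpow_natCast]
    have h4 := htr (3 ^ i)
    rw [hτdef, map_add, map_inv₀, hσ]
    rw [← hτdef]
    have hp0 : l ^ 3 ^ i ≠ 0 := pow_ne_zero _ hl0
    have h5 : (l ^ 3 ^ i) * (l ^ 3 ^ i)⁻¹ = 1 := mul_inv_cancel₀ hp0
    apply mul_right_cancel₀ hp0
    rw [h4]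
    linear_combination -h5
  · intro σ σ' k l' hk hl'
    obtain ⟨i, hi, ε, hε, hki⟩ := hexp σ k hk
    obtain ⟨j, hj, ε', hε', hlj⟩ := hexp σ' l' hl'
    rw [hki, hlj]
    exact arith_three' hm hnodd hn3 hi hj hε hε'

/-- **The torus data exist** for every finite field of odd order `> 3`. -/
theorem exists_tor {F : Type*} [Field F] [Fintype F] (hq : Odd (Fintype.card F)) (hcard : 3 < Fintype.card F) :
    ∃ (τ : F) (hτ : τ ^ 2 ≠ 4) (x y : F) (hxy : x ^ 2 - τ * x * y + y ^ 2 = -1) (m : ℕ),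
      Tor (conjGL (Dgl τ hτ)) (tt τ) (nn τ x y hxy) (-1) m := by
  have h2 : (2 : F) ≠ 0 := Cfsg.Agent.LFourR.AutTorus.two_ne_zero' hq
  by_cases h3 : (3 : F) = 0
  · by_cases hs : IsSquare (-1 : F)
    · obtain ⟨i, hi⟩ := hs
      refine exists_tor_five hq h2 ?_ (τ := 1 - i) ?_
      · intro h5
        apply h2
        linear_combination h5 - h3
      · linear_combination (-i) * h3 - hi + h3 * 0
    · exact exists_tor_split h3 hs hcard
  · exact exists_tor_three hq h2 h3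

end Cfsg.Agent.OddHalf.NI.Sol
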