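import Cfsg.Agent.OddHalf.NI.SolFrame

/-!
# Sol(q): `Pos` gives a frame
-/

set_option autoImplicit false

namespace Cfsg.Agent.OddHalf.NI.Sol

open Matrix Cfsg.Agent.Lib.SL2Mat Cfsg.Agent.Lib.AutSL2 Cfsg.Agent.Lib.AutSL2Out
open Cfsg.Agent.LFourR.Mat2
open Cfsg.Agent.LFourR.FieldPart (val_mul val_one val_pow)
open scoped commutatorElement

variable {F : Type*} [Field F] {L : Type*} [Group L] {u : L} {a b c : SL F →* L}
  {π : L →* ((M2 F × M2 F) ≃ₗ[F] (M2 F × M2 F))}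

theorem val_neg_one_mul (X : M2 F) : (-1 : SL F).1 * X = -X := by
  have : (-1 : SL F).1 = -1 := rfl
  rw [this, Matrix.neg_mul, Matrix.one_mul]

/-- **`Pos` gives a frame.** -/
theorem Pos.aframe [Finite F] (H : Pos u a b c π) (perf : commutator (SL F) = ⊤) (h2 : (2 : F) ≠ 0) {τ x y : F}
    (hτ : τ ^ 2 ≠ 4) (hxy : x ^ 2 - τ * x * y + y ^ 2 = -1) {m : ℕ}
    (hT : Tor (conjGL (Dgl τ hτ)) (tt τ) (nn τ x y hxy) (-1) m) :
    ∃ g : L, AFr (conjGL (Dgl τ hτ)) (tt τ) u a b c g := by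
  obtain ⟨δ, hδ⟩ : ∃ δ, δ = conjGL (Dgl τ hτ) := ⟨_, rfl⟩
  obtain ⟨t, ht⟩ : ∃ t, t = tt τ := ⟨_, rfl⟩
  obtain ⟨n, hn⟩ : ∃ n, n = nn τ x y hxy := ⟨_, rfl⟩
  obtain ⟨D, hD⟩ : ∃ D : M2 F, D = (Dgl τ hτ).1 := ⟨_, rfl⟩
  obtain ⟨Di, hDi⟩ : ∃ Di : M2 F, Di = (Dgl τ hτ)⁻¹.1 := ⟨_, rfl⟩
  have tns : ¬ IsSc (tt τ).1 := by
    rintro ⟨c, hc⟩
    have h1 := congrFun (congrFun hc 1) 0
    rw [tt_val] at h1
    simp at h1
  have h : QD D Di n.1 t.1 (t⁻¹).1 := by
    rw [hD, hDi, hn, ht]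
    exact QD_of h2 hτ hxy rfl tns
  -- the square root of `t`
  obtain ⟨k, hk⟩ := hT.odd
  obtain ⟨r, hr⟩ : ∃ r, r = t ^ (k + 1) := ⟨_, rfl⟩
  have htm : t ^ m = 1 := by rw [ht, ← hT.ord, pow_orderOf_eq_one]
  have hrr : r * r = t := by
    rw [hr, ← pow_add]
    have : k + 1 + (k + 1) = m + 1 := by omega
    rw [this, pow_succ, htm, one_mul]
  have h' : QD D Di n.1 r.1 (r⁻¹).1 := by
    rw [hD, hDi, hn]
    refine QD_of h2 hτ hxy ?_ ?_
    · rw [hr, ht]
      exact ((Commute.refl (tt τ)).pow_left (k + 1)).eq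
    · rintro ⟨c, hc⟩
      apply tns
      refine ⟨c * c, ?_⟩
      rw [← ht, ← hrr, val_mul, hc, Matrix.smul_mul, Matrix.one_mul, smul_smul]
  have hRR : r.1 * r.1 = t.1 := by rw [← val_mul, hrr]
  obtain ⟨g, hg3, hg⟩ := H.exists_g h
  -- `v`, `e`
  obtain ⟨v, hv⟩ : ∃ v, v = b (-1) := ⟨_, rfl⟩
  obtain ⟨e, he⟩ : ∃ e, e = g⁻¹ * v * g := ⟨_, rfl⟩
  have πv : ∀ X Y, π v (X, Y) = (-X, Y) := by
    intro X Y
    rw [hv, H.πb, val_neg_one_mul]
  have πe : ∀ X Y, π e (X, Y) = (kap D Di X, kap D Di Y) := by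
    intro X Y
    rw [he, H.πmul, H.πmul, hg]
    have h1 : π v (gb D Di n.1 (X, Y)) = π g (kap D Di X, kap D Di Y) := by
      rw [hg, h.gb_e]
      exact πv _ _
    rw [h1, H.πinv']
  have hkap : ∀ A : SL F, kap D Di A.1 = (δ A).1 := by
    intro A
    rw [hδ, conjGL_val, kap_apply, hD, hDi]
  have hb1 : b (-1) = v := hv.symm
  have eX : ∀ (X : SL F →* L), (∀ A p, π e (π (X A) p) = π (X (δ A)) (π e p)) → ∀ A, e * X A = X (δ A) * e := by
    intro X hX A
    exact H.conj_eq perf X (X.comp δ.toMonoidHom) e hX A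
  have ea : ∀ A, e * a A = a (δ A) * e := by
    apply eX
    rintro A ⟨X, Y⟩
    rw [H.πa, πe, πe, H.πa, h.kap_mul, h.kap_mul, hkap, hkap, map_inv]
  have eb : ∀ A, e * b A = b (δ A) * e := by
    apply eX
    rintro A ⟨X, Y⟩
    rw [H.πb, πe, πe, H.πb, h.kap_mul, hkap]
  have ec : ∀ A, e * c A = c (δ A) * e := by
    apply eX
    rintro A ⟨X, Y⟩
    rw [H.πc, πe, πe, H.πc, h.kap_mul, hkap, map_inv]
  -- `g v g⁻¹`
  have gsurj : ∀ p, ∃ q, p = gb D Di n.1 q := fun p => ⟨π g⁻¹ p, by rw [← hg, H.πinv]⟩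
  have gi : ∀ q, π g⁻¹ (gb D Di n.1 q) = q := by
    intro q
    rw [← hg, H.πinv']
  have πgvg : π (g * v * g⁻¹) = π (v * e) := by
    apply LinearEquiv.ext
    intro p
    obtain ⟨⟨X, Y⟩, rfl⟩ := gsurj p
    rw [H.πmul, H.πmul, gi, πv, hg, h.gb_v, H.πmul]
    generalize gb D Di n.1 (X, Y) = w
    obtain ⟨X1, Y1⟩ := w
    rw [πe, πv]
  have gv : g * v * g⁻¹ = v * e ∨ g * v * g⁻¹ = v * e * u := by
    have h1 : π ((v * e)⁻¹ * (g * v * g⁻¹)) = 1 := by rw [map_mul, πgvg, map_inv, inv_mul_cancel]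
    rcases H.ker _ h1 with h3 | h3
    · left; exact (inv_mul_eq_one.mp h3).symm
    · right; rw [← h3]; group
  -- the torus
  have bm : ∀ X : SL F →* L, X t ^ m = 1 := by
    intro X
    rw [← map_pow, htm, map_one]
  have hbct : Commute (b t) (c t) := H.bc perf t t
  have ol : ∀ {p q : L}, π p = π q → p ^ m = 1 → q ^ m = 1 → p = q := fun h1 h2 h3 =>
    odd_lift H.ker H.uu H.cen h1 hT.odd h2 h3
  have cm : ∀ p : L, p ^ m = 1 → (g * p * g⁻¹) ^ m = 1 := by
    intro p hp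
    rw [conj_pow, hp, mul_one, mul_inv_cancel]
  have πbct : ∀ X Y, π (b t * c t) (X, Y) = (t.1 * X * (t⁻¹).1, Y) := by
    intro X Y
    rw [H.πmul, H.πc, H.πb, Matrix.mul_assoc]
  have πbct' : ∀ X Y, π (b t * (c t)⁻¹) (X, Y) = (t.1 * X * t.1, Y) := by
    intro X Y
    rw [← map_inv, H.πmul, H.πc, H.πb, inv_inv, Matrix.mul_assoc]
  have bct1 : (b t * c t) ^ m = 1 := by rw [hbct.mul_pow, bm, bm, one_mul]
  have bct2 : (b t * (c t)⁻¹) ^ m = 1 := by rw [hbct.inv_right.mul_pow, bm, inv_pow, bm, inv_one, one_mul]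
  have ga : g * a t * g⁻¹ = b t * c t := by
    apply ol _ (cm _ (bm a)) bct1
    apply LinearEquiv.ext
    intro p
    obtain ⟨⟨X, Y⟩, rfl⟩ := gsurj p
    rw [H.πmul, H.πmul, gi, H.πa, hg, h.gb_a]
    generalize gb D Di n.1 (X, Y) = w
    obtain ⟨X1, Y1⟩ := w
    rw [πbct]
  have gbb : g * (b t * c t) * g⁻¹ = b t * (c t)⁻¹ := by
    apply ol _ (cm _ bct1) bct2
    apply LinearEquiv.ext
    intro p
    obtain ⟨⟨X, Y⟩, rfl⟩ := gsurj p
    rw [H.πmul, H.πmul, gi, πbct, hg, h.gb_b]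
    generalize gb D Di n.1 (X, Y) = w
    obtain ⟨X1, Y1⟩ := w
    rw [πbct']
  have gc : g * (b t * (c t)⁻¹) * g⁻¹ = a t := by
    apply ol _ (cm _ bct2) (bm a)
    apply LinearEquiv.ext
    intro p
    obtain ⟨⟨X, Y⟩, rfl⟩ := gsurj p
    rw [H.πmul, H.πmul, gi, πbct', hg, h.gb_c]
    generalize gb D Di n.1 (X, Y) = w
    obtain ⟨X1, Y1⟩ := w
    rw [H.πa]
  -- `h b(A) h⁻¹ = c(A)`, `h = g b(n) g`
  have hh : ∀ A, (g * b n * g) * b A = c A * (g * b n * g) := by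
    intro A
    apply H.conj_eq perf b c
    rintro B ⟨X, Y⟩
    have e1 : ∀ X Y, π (g * b n * g) (X, Y) = (n.1 * adjugate X, pl D Di Y + n.1 * ql D Di Y * n.1) := by
      intro X Y
      rw [H.πmul, H.πmul, hg, hg]
      have e2 : π (b n) (gb D Di n.1 (X, Y)) = (n.1 * (gb D Di n.1 (X, Y)).1, (gb D Di n.1 (X, Y)).2) := H.πb _ _ _
      rw [e2, h.gb_h]
    rw [H.πb, e1, e1, H.πc, adjugate_mul_distrib, ← Matrix.mul_assoc]
    rfl
  -- `e₀`
  obtain ⟨e0, he0⟩ : ∃ e0, e0 = a n * (b n * c n) := ⟨_, rfl⟩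
  have hni : (n⁻¹).1 = -n.1 := by
    have h1 : (n⁻¹).1 = adjugate n.1 := rfl
    rw [h1, h.adj_N]
  have πe0 : ∀ X Y, π e0 (X, Y) = (-(n.1 * X * n.1), -(n.1 * Y * n.1)) := by
    intro X Y
    rw [he0, H.πmul, H.πmul, H.πc, H.πb, H.πa, hni, Matrix.mul_neg, Matrix.mul_neg, Matrix.mul_neg,
      ← Matrix.mul_assoc]
  have ge0 : ∃ ζ : L, (ζ = 1 ∨ ζ = u) ∧ g * e0 * g⁻¹ = e0 * ζ := by
    have h1 : π (e0⁻¹ * (g * e0 * g⁻¹)) = 1 := by
      rw [map_mul, map_inv, inv_mul_eq_one]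
      symm
      apply LinearEquiv.ext
      intro p
      obtain ⟨⟨X, Y⟩, rfl⟩ := gsurj p
      rw [H.πmul, H.πmul, gi, πe0, hg]
      have h3 : ((-(n.1 * X * n.1), -(n.1 * Y * n.1)) : M2 F × M2 F) = -(n.1 * X * n.1, n.1 * Y * n.1) := rfl
      rw [h3, map_neg, h.gb_n]
      generalize gb D Di n.1 (X, Y) = w
      obtain ⟨X1, Y1⟩ := w
      rw [πe0]
      rfl
    exact ⟨_, H.ker _ h1, by group⟩
  refine ⟨g, ?_⟩
  rw [← hδ, ← ht]
  refine
    { gv := by rw [hb1, ← he]; exact gv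
      ea := by rw [hb1, ← he]; exact ea
      eb := by rw [hb1, ← he]; exact eb
      ec := by rw [hb1, ← he]; exact ec
      ga := ga
      gb := gbb
      gc := gc
      rig := ?_ }
  intro β βa βb βc
  rw [hb1]
  have βu : β u = u := by rw [← H.au, βa]
  have βv : β v = v := by rw [hv, βb]
  obtain ⟨z, hz⟩ : ∃ z, z = g⁻¹ * β g := ⟨_, rfl⟩
  have hgz : β g = g * z := by rw [hz]; group
  -- `z` commutes with `x` if `β` fixes `x` and `g x g⁻¹`
  have zc : ∀ p : L, β p = p → β (g * p * g⁻¹) = g * p * g⁻¹ → Commute z p := by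
    intro p h1 h3
    rw [map_mul, map_mul, map_inv, h1, hgz] at h3
    have h4 : z * p * z⁻¹ = p := by
      calc z * p * z⁻¹ = g⁻¹ * (g * z * p * (g * z)⁻¹) * g := by group
        _ = g⁻¹ * (g * p * g⁻¹) * g := by rw [h3]
        _ = p := by group
    exact mul_inv_eq_iff_eq_mul.mp h4
  have za : Commute z (a t) := by
    apply zc _ (βa t)
    rw [ga, map_mul, βb, βc]
  have zbc : Commute z (b t * c t) := by
    apply zc _ (by rw [map_mul, βb, βc])
    rw [gbb, map_mul, map_inv, βb, βc]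
  have zbc' : Commute z (b t * (c t)⁻¹) := by
    apply zc _ (by rw [map_mul, map_inv, βb, βc])
    rw [gc, βa]
  have zb : Commute z (b t) := by
    have h1 : b t = (b t * c t * (b t * (c t)⁻¹)) ^ (k + 1) := by
      have h3 : b t * c t * (b t * (c t)⁻¹) = b t ^ 2 := by
        calc b t * c t * (b t * (c t)⁻¹) = b t * (c t * b t) * (c t)⁻¹ := by group
          _ = b t * (b t * c t) * (c t)⁻¹ := by rw [hbct.eq]
          _ = b t ^ 2 := by rw [pow_two, mul_assoc, mul_assoc, mul_inv_cancel, mul_one]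
      rw [h3, ← pow_mul]
      have : 2 * (k + 1) = m + 1 := by omega
      rw [this, pow_succ, bm, one_mul]
    rw [h1]
    exact (zbc.mul_right zbc').pow_right _
  have zcc : Commute z (c t) := by
    have h1 : c t = (b t)⁻¹ * (b t * c t) := by group
    rw [h1]
    exact zb.inv_right.mul_right zbc
  have zar : Commute z (a r) := by
    rw [hr, map_pow]
    exact za.pow_right _
  have ze0 : Commute z e0 := by
    obtain ⟨ζ, hζ, hge⟩ := ge0
    have h1 : β e0 = e0 := by rw [he0, map_mul, map_mul, βa, βb, βc]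
    apply zc _ h1
    rw [hge, map_mul, h1]
    rcases hζ with rfl | rfl
    · rw [map_one]
    · rw [βu]
  -- the cube
  have gz3 : (g * z) ^ 3 = 1 := by rw [← hgz, ← map_pow, hg3, map_one]
  -- the relation (R)
  have hR : (g * z) * b n * (g * z) * b n = c n * ((g * z) * b n * (g * z)) := by
    have h1 := congrArg β (hh n)
    simp only [map_mul, βb, βc, hgz] at h1
    exact h1
  -- `Z = π z`
  let Z : (M2 F × M2 F) →ₗ[F] (M2 F × M2 F) := (π z).toLinearMap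
  have hZ : ∀ p, Z p = π z p := fun p => rfl
  have comm2 : ∀ {p : L}, Commute z p → ∀ w, π z (π p w) = π p (π z w) := by
    intro p hp w
    rw [← H.πmul, ← H.πmul, hp.eq]
  have πb' : ∀ (A : SL F) (w : M2 F × M2 F), π (b A) w = (A.1 * w.1, w.2) := fun A w => H.πb A _ _
  have πc' : ∀ (A : SL F) (w : M2 F × M2 F), π (c A) w = (w.1 * (A⁻¹).1, w.2) := fun A w => H.πc A _ _
  have πa' : ∀ (A : SL F) (w : M2 F × M2 F), π (a A) w = (w.1, A.1 * w.2 * (A⁻¹).1) := fun A w => H.πa A _ _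
  have πe0' : ∀ w, π e0 w = (-(n.1 * w.1 * n.1), -(n.1 * w.2 * n.1)) := fun w => πe0 _ _
  have main : (∀ p, Z p = p) ∨ (∀ X Y, Z (X, Y) = (-kap D Di X, kap D Di Y)) := by
    apply h.rigid h' hRR Z
    · intro X Y
      rw [hZ, ← H.πb, comm2 zb, πb']
      rfl
    · intro X Y
      rw [hZ, ← H.πc, comm2 zcc, πc']
      rfl
    · intro X Y
      rw [hZ, ← H.πa, comm2 zar, πa']
      rfl
    · intro X Y
      have h1 : ((n.1 * X * n.1, n.1 * Y * n.1) : M2 F × M2 F) = -(π e0 (X, Y)) := by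
        rw [πe0]
        ext1 <;> simp
      rw [hZ, h1, map_neg, comm2 ze0, πe0']
      ext1 <;> simp [hZ]
    · intro w
      rw [hZ]
      exact H.det z w
    · rw [hZ]
      exact H.fix z
    · intro w
      simp only [hZ, ← hg]
      rw [← H.πmul, ← H.πmul, ← H.πmul, ← H.πmul, ← H.πmul]
      have h1 : g * z * g * z * g * z = 1 := by
        rw [← gz3, pow_succ, pow_two]
        group
      rw [h1, map_one]
      rfl
    · intro X Y
      have h1 := congrArg (fun q => π q (X, Y)) hR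
      simp only [H.πmul, hg, πb', πc', hni, Matrix.mul_neg] at h1
      exact h1
  rcases main with h1 | h1
  · left
    have h3 : π z = 1 := LinearEquiv.ext h1
    have h4 : z = 1 := by
      rcases H.ker z h3 with h5 | h5
      · exact h5
      · exfalso
        rw [h5, (show Commute g u from H.cen g).mul_pow, hg3, one_mul, pow_succ, pow_two, H.uu, one_mul] at gz3
        exact H.u1 gz3
    rw [hgz, h4, mul_one]
  · right
    have h3 : β e = z⁻¹ * e * z := by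
      rw [he, map_mul, map_mul, map_inv, βv, hgz]
      group
    have h4 : β (v * g * v⁻¹) = g * (e * z * v⁻¹) := by
      have h5 : v * g * v⁻¹ = g * e * v⁻¹ := by rw [he]; group
      rw [h5, map_mul, map_mul, map_inv, βv, h3, hgz]
      group
    have h5 : π (e * z * v⁻¹) = 1 := by
      apply LinearEquiv.ext
      rintro ⟨X, Y⟩
      have h6 : π v⁻¹ (X, Y) = (-X, Y) := by
        have h7 := H.πinv' v (-X, Y)
        rw [πv, neg_neg] at h7
        exact h7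
      rw [H.πmul, H.πmul, h6]
      have h7 : π z (-X, Y) = (kap D Di X, kap D Di Y) := by
        have h8 := h1 (-X) Y
        rw [map_neg, neg_neg] at h8
        exact h8
      rw [h7, πe, h.kap_kap, h.kap_kap]
      rfl
    have h6 : (g * (e * z * v⁻¹)) ^ 3 = 1 := by
      rw [← h4, ← map_pow, conj_pow, hg3, mul_one, mul_inv_cancel, map_one]
    have h7 : e * z * v⁻¹ = 1 := by
      rcases H.ker _ h5 with h8 | h8
      · exact h8
      · exfalso
        rw [h8, (show Commute g u from H.cen g).mul_pow, hg3, one_mul, pow_succ, pow_two, H.uu, one_mul] at h6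
        exact H.u1 h6
    rw [h4, h7, mul_one]

end Cfsg.Agent.OddHalf.NI.Sol
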