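import Cfsg.Agent.OddHalf.NI.Rows
import Cfsg.Agent.OddHalf.D4.Cut

/-!
# Node NI: the rows of D4 in odd characteristic

`rowsOdd_of`: the rows `D4.Cut.RowsOdd` from `NoBig` (all types of rank at least 2 over `F_q`, `q ≥ 5`), the rows
`L_2(7)`, `L_2(q)`, Ree, and one row for the groups of rank at least 2 over the field with 3 elements.
-/

set_option autoImplicit false

namespace Cfsg.Agent.OddHalf.NI.RowsD4

open Subgroup Cfsg Cfsg.Agent.OddHalf.Iface Cfsg.Agent.OddHalf.LieOddFam Cfsg.Agent.OddHalf.D4.Cut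

universe u

/-- odd order of a finite field -/
theorem oddPow_of_odd {F : Type} [Field F] [Fintype F] (h : Odd (Fintype.card F)) : OddPow (Fintype.card F) := by
  obtain ⟨p, hp⟩ := CharP.exists F
  haveI := hp
  obtain ⟨n, hn, hc⟩ := FiniteField.card F p
  refine oddPow_card hn ?_
  rintro rfl
  rw [hc] at h
  exact (Nat.not_odd_iff_even.mpr ((Nat.even_pow' n.pos.ne').mpr even_two)) h

/-- `q` odd, `q ^ k` the order of a field, `k ≠ 0`: `q` is an odd prime power. -/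
theorem oddPow_of_pow {F : Type} [Field F] [Fintype F] {q k : ℕ} (hk : k ≠ 0) (h : Odd q)
    (hF : Fintype.card F = q ^ k) : OddPow q := by
  obtain ⟨p, a, hp, h2, ha, h3⟩ := oddPow_of_odd (F := F) (by rw [hF]; exact h.pow)
  exact oddPow_root hp h2 hk ha (hF.symm.trans h3)

/-- One row `Rk K q` for all odd prime powers `q` from `NoBig` and the row `q = 3`. -/
theorem rk (hB : NoBig.{u}) (h3 : Row1.{u} (fun K _ => Rk K 3)) :
    Row1.{u} (fun K _ => ∃ q : ℕ, OddPow q ∧ Rk K q) := by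
  rintro G _ C K S hr hz ⟨q, hq, h⟩
  by_cases hq3 : q = 3
  · subst hq3
    exact h3 G C K S hr hz h
  · exact Rows.d6_big hB C S.toStd0 hz hq (hq.ne_four hq3) h

/-- **The rows of D4 in odd characteristic.** -/
theorem rowsOdd_of (hB : NoBig.{u}) (l27 : Row1.{u} (fun K _ => L27 K)) (l2o : Row1.{u} (fun K _ => L2o K))
    (ree : Row1.{u} (fun K _ => Reeo K)) (h3 : Row1.{u} (fun K _ => Rk K 3)) : RowsOdd.{u} := by
  have key := rk hB h3
  refine ⟨l27, l2o, ree, ?_, ?_, ?_, ?_, ?_, ?_, ?_, ?_, ?_, ?_⟩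
  · refine key.mono ?_
    rintro K _ ⟨F, i, j, n, h, hn, f⟩
    exact ⟨_, oddPow_of_odd h, Or.inl ⟨F, i, j, n, rfl, hn, f⟩⟩
  · refine key.mono ?_
    rintro K _ ⟨F, i, j, n, q, hq, h, hn, f⟩
    exact ⟨q, oddPow_of_pow two_ne_zero hq h, Or.inr (Or.inr (Or.inl ⟨F, i, j, n, h, hn, f⟩))⟩
  · refine key.mono ?_
    rintro K _ ⟨F, i, j, n, h, hn, f⟩
    exact ⟨_, oddPow_of_odd h, Or.inr (Or.inl ⟨F, i, j, n, rfl, hn, f⟩)⟩
  · refine key.mono ?_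
    rintro K _ ⟨F, i, j, n, h, hn, f⟩
    exact ⟨_, oddPow_of_odd h, Or.inr (Or.inr (Or.inr (Or.inl ⟨F, i, j, n, rfl, hn, f⟩)))⟩
  · refine key.mono ?_
    rintro K _ ⟨F, i, j, n, h, hn, f⟩
    exact ⟨_, oddPow_of_odd h, Or.inr (Or.inr (Or.inr (Or.inr (Or.inl ⟨F, i, j, n, rfl, hn, f⟩))))⟩
  · refine key.mono ?_
    rintro K _ ⟨F, i, j, n, b, c, h, hn, hbc, f⟩
    exact ⟨_, oddPow_of_odd h,
      Or.inr (Or.inr (Or.inr (Or.inr (Or.inr (Or.inl ⟨F, i, j, n, b, c, rfl, hn, hbc, f⟩)))))⟩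
  · refine key.mono ?_
    rintro K _ ⟨F, i, j, h, f⟩
    exact ⟨_, oddPow_of_odd h, Or.inr (Or.inr (Or.inr (Or.inr (Or.inr (Or.inr (Or.inl ⟨F, i, j, rfl, f⟩))))))⟩
  · refine key.mono ?_
    rintro K _ ⟨F, i, j, h, f⟩
    refine ⟨_, oddPow_of_odd h, Or.inr (Or.inr (Or.inr (Or.inr (Or.inr (Or.inr (Or.inr ?_))))))⟩
    rcases f with f | f | f | f
    · exact Or.inl ⟨F, i, j, rfl, f⟩
    · exact Or.inr (Or.inl ⟨F, i, j, rfl, f⟩)
    · exact Or.inr (Or.inr (Or.inl ⟨F, i, j, rfl, f⟩))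
    · exact Or.inr (Or.inr (Or.inr (Or.inl ⟨F, i, j, rfl, f⟩)))
  · refine key.mono ?_
    rintro K _ ⟨F, i, j, q, hq, -, h, f⟩
    exact ⟨q, oddPow_of_pow two_ne_zero hq h, Or.inr (Or.inr (Or.inr (Or.inr (Or.inr (Or.inr (Or.inr (Or.inr (Or.inr
      (Or.inr (Or.inr (Or.inl ⟨F, i, j, h, f⟩)))))))))))⟩
  · refine key.mono ?_
    rintro K _ ⟨F, i, j, q, hq, -, h, f⟩
    exact ⟨q, oddPow_of_pow three_ne_zero hq h, Or.inr (Or.inr (Or.inr (Or.inr (Or.inr (Or.inr (Or.inr (Or.inr (Or.inr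
      (Or.inr (Or.inr (Or.inr ⟨F, i, j, h, f⟩)))))))))))⟩

end Cfsg.Agent.OddHalf.NI.RowsD4
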