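import Cfsg.Agent.OddHalf.NI.Final
import Cfsg.Agent.OddHalf.LieOddFam

/-!
# Node NI: the rows

`lieBig_of_rk`: the families of `LieOddFam` over `F_q`, `q ≥ 5`, are `LieBig`. `NoBig` gives the row `big` of U2 and
every row of D6 with `K` of type `Rk q`, `q ≥ 5`.
-/

set_option autoImplicit false

namespace Cfsg.Agent.OddHalf.NI.Rows

open Subgroup Cfsg Cfsg.Agent.OddHalf.Iface Cfsg.Agent.OddHalf.LieOddFam

universe u

theorem lieBig_of_rk {X : Type u} [Group X] {q : ℕ} (hq : OddPow q) (h5 : 5 ≤ q) (h : Rk X q) : LieBig X := by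
  have h2 : 3 < q ^ 2 := by nlinarith
  have h3 : 3 < q ^ 3 := by nlinarith [Nat.pow_le_pow_left h5 3]
  rcases h with h | h | h | h | h | h | h | h | h | h | h | h | h
  · obtain ⟨F, i, j, n, hF, h3, f⟩ := h
    exact ⟨F, i, j, by rw [hF]; exact hq.odd, by omega, Or.inl ⟨n, h3, f⟩⟩
  · obtain ⟨F, i, j, n, hF, h3, f⟩ := h
    exact ⟨F, i, j, by rw [hF]; exact hq.odd, by omega, Or.inr (Or.inl ⟨n, h3, f⟩)⟩
  · obtain ⟨F, i, j, n, hF, h3, f⟩ := h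
    exact ⟨F, i, j, by rw [hF]; exact hq.odd.pow, by omega,
      Or.inr (Or.inr (Or.inl ⟨n, q, by omega, hF, h3, f⟩))⟩
  · obtain ⟨F, i, j, n, hF, h3, f⟩ := h
    exact ⟨F, i, j, by rw [hF]; exact hq.odd, by omega, Or.inr (Or.inr (Or.inr (Or.inl ⟨n, h3, f⟩)))⟩
  · obtain ⟨F, i, j, n, hF, h3, f⟩ := h
    exact ⟨F, i, j, by rw [hF]; exact hq.odd, by omega,
      Or.inr (Or.inr (Or.inr (Or.inr (Or.inl ⟨n, h3, f⟩))))⟩
  · obtain ⟨F, i, j, n, b, c, hF, h3, hbc, f⟩ := h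
    exact ⟨F, i, j, by rw [hF]; exact hq.odd, by omega,
      Or.inr (Or.inr (Or.inr (Or.inr (Or.inr (Or.inl ⟨n, b, c, h3, hbc, f⟩)))))⟩
  · obtain ⟨F, i, j, hF, f⟩ := h
    exact ⟨F, i, j, by rw [hF]; exact hq.odd, by omega,
      Or.inr (Or.inr (Or.inr (Or.inr (Or.inr (Or.inr (Or.inl f))))))⟩
  · obtain ⟨F, i, j, hF, f⟩ := h
    exact ⟨F, i, j, by rw [hF]; exact hq.odd, by omega,
      Or.inr (Or.inr (Or.inr (Or.inr (Or.inr (Or.inr (Or.inr (Or.inl f)))))))⟩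
  · obtain ⟨F, i, j, hF, f⟩ := h
    exact ⟨F, i, j, by rw [hF]; exact hq.odd, by omega,
      Or.inr (Or.inr (Or.inr (Or.inr (Or.inr (Or.inr (Or.inr (Or.inr (Or.inl f))))))))⟩
  · obtain ⟨F, i, j, hF, f⟩ := h
    exact ⟨F, i, j, by rw [hF]; exact hq.odd, by omega,
      Or.inr (Or.inr (Or.inr (Or.inr (Or.inr (Or.inr (Or.inr (Or.inr (Or.inr (Or.inl f)))))))))⟩
  · obtain ⟨F, i, j, hF, f⟩ := h
    exact ⟨F, i, j, by rw [hF]; exact hq.odd, by omega,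
      Or.inr (Or.inr (Or.inr (Or.inr (Or.inr (Or.inr (Or.inr (Or.inr (Or.inr (Or.inr (Or.inl f))))))))))⟩
  · obtain ⟨F, i, j, hF, f⟩ := h
    exact ⟨F, i, j, by rw [hF]; exact hq.odd.pow, by omega,
      Or.inr (Or.inr (Or.inr (Or.inr (Or.inr (Or.inr (Or.inr (Or.inr (Or.inr (Or.inr (Or.inr (Or.inl
        ⟨q, hq.isPrimePow, by omega, hF, f⟩)))))))))))⟩
  · obtain ⟨F, i, j, hF, f⟩ := h
    exact ⟨F, i, j, by rw [hF]; exact hq.odd.pow, by omega,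
      Or.inr (Or.inr (Or.inr (Or.inr (Or.inr (Or.inr (Or.inr (Or.inr (Or.inr (Or.inr (Or.inr (Or.inr
        ⟨q, hq.isPrimePow, by omega, hF, f⟩)))))))))))⟩

/-- No component of an involution centralizer has a quotient of type `Rk q`, `q ≥ 5` (order-free, intrinsic or not). -/
theorem comp_false (h : NoBig.{u}) {G : Type u} [Group G] (C : Ctx G) {t : G} {K : Subgroup G}
    (ht : orderOf t = 2) (hK : CompOf t K) {q : ℕ} (hq : OddPow q) (h5 : 5 ≤ q)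
    (hr : Rk (↥K ⧸ center ↥K) q) : False :=
  h G C t K ht hK (lieBig_of_rk hq h5 hr)

/-- **Rows of U2 and D6**: no standard component with quotient of type `Rk q`, `q ≥ 5`. -/
theorem std0_false (h : NoBig.{u}) {G : Type u} [Group G] (C : Ctx G) {K : Subgroup G} (S : Std0 G K) {q : ℕ}
    (hq : OddPow q) (h5 : 5 ≤ q) (hr : Rk (↥K ⧸ center ↥K) q) : False := by
  obtain ⟨t, ht, hK⟩ := S.comp
  exact comp_false h C ht hK hq h5 hr

/-- The row `big` of U2, literally `U2.Cut.Row` over `Std0`. -/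
theorem u2_big (h : NoBig.{u}) : ∀ (G : Type u) [Group G], Ctx G → ∀ K : Subgroup G, Std0 G K →
    center ↥K ≠ ⊥ → (∃ q : ℕ, OddPow q ∧ 5 ≤ q ∧ Rk (↥K ⧸ center ↥K) q) → False := by
  rintro G _ C K S - ⟨q, hq, h5, hr⟩
  exact std0_false h C S hq h5 hr

/-- The row of D6 (`Z(K) = 1`). -/
theorem d6_big (h : NoBig.{u}) {G : Type u} [Group G] (C : Ctx G) {K : Subgroup G} (S : Std0 G K)
    (hz : center ↥K = ⊥) {q : ℕ} (hq : OddPow q) (h5 : 5 ≤ q) (hr : Rk ↥K q) : False := by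
  have e : ↥K ⧸ center ↥K ≃* ↥K := (QuotientGroup.quotientMulEquivOfEq hz).trans QuotientGroup.quotientBot
  exact std0_false h C S hq h5 (rk_congr e.symm hr)

end Cfsg.Agent.OddHalf.NI.Rows
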