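import Cfsg.Agent.OddHalf.NI.LemmaP

/-!
# `NoFam G`: the output of THEOREM X for the node theorem

No nonempty family of components `J i ≃ SL₂(F)` (`|F| > 3` odd) of the centralizer of its involutions `y i ∈ J i`, the
`y i` distinct and no three of them with product one.
-/

set_option autoImplicit false

namespace Cfsg.Agent.OddHalf.NI

open Subgroup Cfsg

/-- **THEOREM X** for `G`. -/
def NoFam (G : Type*) [Group G] : Prop :=
  ∀ (F : Type) [Field F] [Fintype F], Odd (Fintype.card F) → 3 < Fintype.card F →
    ∀ (m : ℕ) (J : Fin m → Subgroup G) (y : Fin m → G), 0 < m →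
      (∀ i, CompIn (centralizer (Set.range y)) (J i)) →
      (∀ i, Nonempty (↥(J i) ≃* Matrix.SpecialLinearGroup (Fin 2) F)) → (∀ i, y i ∈ J i) →
      (∀ i, orderOf (y i) = 2) → Function.Injective y →
      (∀ a b c, a ≠ b → a ≠ c → b ≠ c → y a * y b ≠ y c) → False

end Cfsg.Agent.OddHalf.NI
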