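import Cfsg.Agent.OddHalf.NI.Props
import Cfsg.Agent.OddHalf.NI.NoFam
import Cfsg.Agent.OddHalf.NI.CovTwo
import Cfsg.Agent.OddHalf.Soft
import Cfsg.Agent.Cit.ParabSL2
import Cfsg.Agent.SignalizersComponents.SLQuasisimple

/-!
# The node theorem `NIV` (text (N) of bb ODD #9884, #10203)

`J ≃ SL₂(F)`, `|F| > 3` odd, `y ∈ J`, `J` a component of `C(t) ∩ C(y)`. The pump-up of `J` in `C(y)` is

* `J` itself: `y` is a classical involution (`Ctx.classical`);
* diagonal, `J = {a a^t : a ∈ A}`: `A ≃ SL₂(F)` (the 2-multiplier of `SL₂` is trivial), and `A`, `A^t` are components of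
  the centralizer of their involutions: THEOREM X (`NoFam`);
* vertical, `J < N`, `y ∈ Z(N)`: `N / Z(N)` is not `LieBig` (`NotBig`), or `N` has a frame for `y` (`FrameFact`), whose
  members are components of the centralizer in `G` of their involutions: THEOREM X.
-/

set_option autoImplicit false
set_option linter.style.haveILetI false

namespace Cfsg.Agent.OddHalf.NI

open Subgroup Cfsg Cfsg.Agent.OddHalf.Iface Cfsg.Agent.SignalizersComponents
open Cfsg.Agent.OddHalf.D3 (cj Comp FT BL)
open scoped commutatorElement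

universe u

/-- `O(C(t)) = 1` for all involutions gives `L_{2'}(C(t)) = E(C(t))`. -/
theorem bl_core {G : Type*} [Group G] [Finite G] (hFT : FT G)
    (h : ∀ t : G, orderOf t = 2 → centralizerPPrimeCore 2 t = ⊥) : BL G := by
  haveI : Fact (Nat.Prime 2) := ⟨Nat.prime_two⟩
  intro y hy
  have h0 : pPrimeCore 2 ↥(centralizer ({y} : Set G)) = ⊥ := by
    have h1 := h y hy
    unfold centralizerPPrimeCore at h1
    rwa [Subgroup.map_eq_bot_iff_of_injective _ (Subgroup.subtype_injective _)] at h1
  apply le_antisymm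
  · apply sSup_le
    intro J hJ
    have h1 : ⁅J, pPrimeCore 2 ↥(centralizer ({y} : Set G))⁆ = ⊥ := by
      rw [h0, Subgroup.commutator_bot_right]
    exact Components.component_le_layer
      (ClassificationK.PCompTransport.isComponent_of_isPComponent 2 hJ h1)
  · rw [Components.layer_le_iff]
    intro K hK
    exact le_sSup (EvenComponent.isPComponent_of_isComponent hK (hFT.even' hK.2))

/-- `SL₂(F)` contains a quaternion group over `-1` -/
theorem even8_neg_one {F : Type*} [Field F] [Fintype F] (hF : Odd (Fintype.card F)) :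
    Even8 (-1 : Matrix.SpecialLinearGroup (Fin 2) F) := by
  refine ⟨TwoFusion.QuatCoverSL.orderOf_neg_one hF, ?_⟩
  obtain ⟨p, hpc⟩ := CharP.exists F
  have hp : p.Prime := CharP.char_is_prime F p
  haveI : NeZero p := ⟨hp.ne_zero⟩
  obtain ⟨a, b, hab⟩ := CharP.sq_add_sq F p (-1)
  have hab' : (a : F) ^ 2 + (b : F) ^ 2 = -1 := by
    rw [hab]; push_cast; rfl
  obtain ⟨A, hA⟩ : ∃ A : F, A = a := ⟨_, rfl⟩
  obtain ⟨B, hB⟩ : ∃ B : F, B = b := ⟨_, rfl⟩
  rw [← hA, ← hB] at hab'
  let u : Matrix.SpecialLinearGroup (Fin 2) F := ⟨!![0, 1; -1, 0], by simp [Matrix.det_fin_two]⟩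
  let x : Matrix.SpecialLinearGroup (Fin 2) F :=
    ⟨!![A, B; B, -A], by rw [Matrix.det_fin_two_of]; linear_combination -hab'⟩
  have huu : u * u = -1 := by
    apply Subtype.ext
    rw [Matrix.SpecialLinearGroup.coe_mul, Matrix.SpecialLinearGroup.coe_neg, Matrix.SpecialLinearGroup.coe_one]
    ext r s
    fin_cases r <;> fin_cases s <;> simp [u, Matrix.mul_apply, Fin.sum_univ_two]
  have hxx : x * x = -1 := by
    apply Subtype.ext
    rw [Matrix.SpecialLinearGroup.coe_mul, Matrix.SpecialLinearGroup.coe_neg, Matrix.SpecialLinearGroup.coe_one]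
    ext r s
    fin_cases r <;> fin_cases s <;> simp [x, Matrix.mul_apply, Fin.sum_univ_two]
    · linear_combination hab'
    · ring
    · ring
    · linear_combination hab'
  have hux : u * x = -(x * u) := by
    apply Subtype.ext
    rw [Matrix.SpecialLinearGroup.coe_mul, Matrix.SpecialLinearGroup.coe_neg, Matrix.SpecialLinearGroup.coe_mul]
    ext r s
    fin_cases r <;> fin_cases s <;> simp [u, x, Matrix.mul_apply, Fin.sum_univ_two]
  refine ⟨u, x, huu, hxx, ?_⟩
  rw [commutatorElement_def, hux]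
  simp [mul_assoc]

/-- a component `J ≃ SL₂(F)` of `C(y)`, `y ∈ J`, is classical -/
theorem classical_false {G : Type u} [Group G] (C : Ctx G) {y : G} {J : Subgroup G} (hy : orderOf y = 2)
    (hJ : Comp y J) (hyJ : y ∈ J) {F : Type} [Field F] [Fintype F] (hF : Odd (Fintype.card F))
    (e : ↥J ≃* Matrix.SpecialLinearGroup (Fin 2) F) : False := by
  haveI := C.fin
  have hcore : oddCore ↥J = ⊥ := by
    have h1 := Cit.ParabSL2.oddCore_sl hF
    have h2 := Lib.Cores.map_equiv_pPrimeCore e 2
    rw [eq_bot_iff]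
    intro x hx
    have h3 : e x ∈ (oddCore ↥J).map e.toMonoidHom := ⟨x, hx, rfl⟩
    rw [show (oddCore ↥J).map e.toMonoidHom = oddCore _ from h2, h1, mem_bot] at h3
    rw [mem_bot]
    exact e.injective (by rw [h3, map_one])
  exact C.classical y J hy ⟨hJ.le, hyJ, hJ.comp.1⟩
    (Or.inl ⟨F, inferInstance, inferInstance, hF,
      ⟨(QuotientGroup.quotientMulEquivOfEq hcore).trans (QuotientGroup.quotientBot.trans e)⟩⟩)

/-- the involution of a copy of `SL₂(F)` -/
theorem eq_of_involutions {J : Type*} [Group J] {F : Type*} [Field F] [Fintype F] (hF : Odd (Fintype.card F))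
    (e : J ≃* Matrix.SpecialLinearGroup (Fin 2) F) {x : J} (hx : orderOf x = 2) : e x = -1 := by
  have h0 : x * x = 1 := by
    have := pow_orderOf_eq_one x
    rwa [hx, pow_two] at this
  have h1 : e x * e x = 1 := by rw [← map_mul, h0, map_one]
  rcases Lib.PSL2Inv.sq_eq_one (TwoFusion.QuatCoverSL.two_ne_zero_of_odd hF) h1 with h | h
  · exfalso
    have h2 : x = 1 := e.injective (by rw [h, map_one])
    rw [h2, orderOf_one] at hx
    exact absurd hx (by decide)
  · exact h

theorem Even8.of_sl {N : Type*} [Group N] {F : Type*} [Field F] [Fintype F] (hF : Odd (Fintype.card F))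
    {J : Subgroup N} (e : ↥J ≃* Matrix.SpecialLinearGroup (Fin 2) F) {y : N} (hy : orderOf y = 2) (hyJ : y ∈ J) :
    Even8 y := by
  have h1 := eq_of_involutions hF e (x := ⟨y, hyJ⟩) (by rw [Subgroup.orderOf_mk]; exact hy)
  have h2 : ((e.symm (-1) : ↥J) : N) = y := by
    rw [← h1, e.symm_apply_apply]
  have h3 := (even8_neg_one hF).map (J.subtype.comp e.symm.toMonoidHom) (by
    change ((e.symm (-1) : ↥J) : N) ≠ 1
    rw [h2]
    rintro rfl
    rw [orderOf_one] at hy
    exact absurd hy (by decide))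
  change Even8 ((e.symm (-1) : ↥J) : N) at h3
  rwa [h2] at h3

/-- **Transport of a frame of a component `D` of `C(y)`, `y ∈ D`, to `G`.** -/
theorem frame_false {G : Type*} [Group G] (hX : NoFam G) {y : G} {D : Subgroup G} (hD : Comp y D) (hyD : y ∈ D)
    (fr : Frame ↥D ⟨y, hyD⟩) : False := by
  obtain ⟨m, pos, J, Y, F, hodd, hcard, hiso, hmem, hord, hle, hsub, hcomm, hinj, hthree, hgen⟩ := fr
  let Y' : Fin m → G := fun i => (Y i : G)
  let J' : Fin m → Subgroup G := fun i => (J i).map D.subtype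
  have e : ∀ i, ↥(J' i) ≃* ↥(J i) := fun i =>
    ((J i).equivMapOfInjective D.subtype (Subgroup.subtype_injective D)).symm
  -- the centralizer of the involutions lies in `C(y)`
  have hCy : centralizer (Set.range Y') ≤ centralizer ({y} : Set G) := by
    have h1 : y ∈ closure (Set.range Y') := by
      have h2 : (⟨y, hyD⟩ : ↥D) ∈ (closure (Set.range Y')).comap D.subtype := by
        refine (closure_le _).mpr ?_ hgen
        rintro _ ⟨i, rfl⟩
        exact Subgroup.subset_closure ⟨i, rfl⟩
      exact h2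
    rw [← centralizer_closure]
    exact centralizer_le (Set.singleton_subset_iff.mpr h1)
  have hJC : ∀ i, J' i ≤ centralizer (Set.range Y') := by
    rintro i _ ⟨a, ha, rfl⟩
    rw [mem_centralizer_iff]
    rintro _ ⟨j, rfl⟩
    by_cases hij : i = j
    · subst hij
      exact congrArg Subtype.val (mem_centralizer_iff.mp (hle i ha) (Y i) rfl)
    · exact (congrArg Subtype.val (hcomm i j hij a ha (Y j) (hmem j))).symm
  refine hX F hodd hcard m J' Y' pos (fun i => ⟨hJC i, ?_, ?_⟩) (fun i => ?_) (fun i => ?_) (fun i => ?_) ?_ ?_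
  · -- subnormality
    set C := centralizer (Set.range Y') with hC
    have hDC : D ⊓ C ≤ C := inf_le_right
    have hJD : J' i ≤ D ⊓ C := le_inf (map_subtype_le _) (hJC i)
    have h1 : ((J' i).subgroupOf C) ≤ (D ⊓ C).subgroupOf C := fun x hx => hJD hx
    refine Subgroup.IsSubnormal.trans h1 ?_ ?_
    · let ι : ((D ⊓ C).subgroupOf C) →* centralizer ({Y i} : Set ↥D) :=
        MonoidHom.codRestrict
          (MonoidHom.codRestrict (C.subtype.comp ((D ⊓ C).subgroupOf C).subtype) D (fun x => (mem_subgroupOf.mp x.2).1))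
          _ (by
            intro x
            rw [mem_centralizer_singleton_iff]
            apply Subtype.ext
            have h2 : ((x : ↥C) : G) ∈ centralizer (Set.range Y') := (x : ↥C).2
            exact (mem_centralizer_iff.mp h2 (Y' i) ⟨i, rfl⟩).symm)
      have h2 : ((J' i).subgroupOf C).subgroupOf ((D ⊓ C).subgroupOf C) =
          ((J i).subgroupOf (centralizer ({Y i} : Set ↥D))).comap ι := by
        ext x
        rw [mem_subgroupOf, mem_subgroupOf, mem_comap, mem_subgroupOf]
        constructor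
        · rintro ⟨a, ha, hax⟩
          have h3 : ((ι x : centralizer ({Y i} : Set ↥D)) : ↥D) = a := Subtype.ext hax.symm
          rw [h3]
          exact ha
        · intro hx
          exact ⟨_, hx, rfl⟩
      rw [h2]
      exact (hsub i).comap ι
    · have h3 : (D ⊓ C).subgroupOf C =
          (D.subgroupOf (centralizer ({y} : Set G))).comap (Subgroup.inclusion hCy) := by
        ext ⟨x, hx⟩
        simp only [mem_subgroupOf, mem_inf, mem_comap]
        exact ⟨fun h => h.1, fun h => ⟨h, hx⟩⟩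
      rw [h3]
      exact hD.comp.1.comap _
  · -- quasisimple
    obtain ⟨f⟩ := hiso i
    exact Components.isQuasisimple_of_mulEquiv
      ((subgroupOfEquivOfLe (hJC i)).trans ((e i).trans f)).symm
      (SLQuasisimple.isQuasisimple_two (by rw [Nat.card_eq_fintype_card]; omega))
  · obtain ⟨f⟩ := hiso i
    exact ⟨(e i).trans f⟩
  · exact ⟨Y i, hmem i, rfl⟩
  · rw [Subgroup.orderOf_coe]
    exact hord i
  · intro i j hij
    exact hinj (Subtype.ext hij)
  · intro a b c hab hac hbc h
    exact hthree a b c hab hac hbc (Subtype.ext h)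

/-- **The diagonal pump-up.** -/
theorem diag_false {G : Type u} [Group G] (C : Ctx G) (hX : NoFam G) {t y : G} (hy : orderOf y = 2)
    (hty : t * y = y * t) {J D : Subgroup G} (hD : Comp y D) (hJ : Dg J D t) (hyJ : y ∈ J)
    {F : Type} [Field F] [Fintype F] (hF : Odd (Fintype.card F)) (h3 : 3 < Fintype.card F)
    (e : ↥J ≃* Matrix.SpecialLinearGroup (Fin 2) F) : False := by
  haveI := C.fin
  have hcm : ∀ a ∈ D, ∀ b ∈ D, a * (t * b * t⁻¹) = (t * b * t⁻¹) * a := fun a ha b hb =>
    D3.comm_elt hJ.comm ha (D3.conj_mem_cj hb)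
  -- the projection `D → J`
  let f : ↥D →* ↥J :=
    { toFun := fun d => ⟨d * (t * d * t⁻¹), hJ.mem d d.2⟩
      map_one' := by
        apply Subtype.ext
        change (1 : G) * (t * 1 * t⁻¹) = 1
        group
      map_mul' := by
        intro a b
        apply Subtype.ext
        change (a * b : G) * (t * (a * b) * t⁻¹) = (a * (t * a * t⁻¹)) * (b * (t * b * t⁻¹))
        have h1 := hcm b b.2 a a.2
        calc (a * b : G) * (t * (a * b) * t⁻¹) = a * (b * (t * a * t⁻¹)) * (t * b * t⁻¹) := by group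
          _ = a * ((t * a * t⁻¹) * b) * (t * b * t⁻¹) := by rw [h1]
          _ = _ := by group }
  have hf : ∀ d : ↥D, ((f d : ↥J) : G) = d * (t * d * t⁻¹) := fun _ => rfl
  have hker : f.ker ≤ center ↥D := by
    intro d hd
    have h1 : (d : G) * (t * d * t⁻¹) = 1 := congrArg Subtype.val (MonoidHom.mem_ker.mp hd)
    rw [mem_center_iff]
    intro g
    apply Subtype.ext
    change (g : G) * d = d * g
    have h2 : (d : G) = (t * d * t⁻¹)⁻¹ := eq_inv_of_mul_eq_one_left h1
    have h4 := hcm g g.2 d d.2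
    have h5 : (g : G) * (t * d * t⁻¹)⁻¹ = (t * d * t⁻¹)⁻¹ * g := by
      rw [mul_inv_eq_iff_eq_mul, mul_assoc, h4, inv_mul_cancel_left]
    rw [h2, h5, ← h2]
  have h2Z : IsPGroup 2 (center ↥D) := Soft.CompOf.center_isPGroup (C.bal y hy) ⟨hD.le, hD.comp⟩
  have h2 : IsPGroup 2 f.ker := by
    intro x
    obtain ⟨k, hk⟩ := h2Z ⟨x, hker x.2⟩
    refine ⟨k, ?_⟩
    apply Subtype.ext
    have := congrArg (fun z : center ↥D => (z : ↥D)) hk
    exact this
  have hperf : commutator ↥D = ⊤ := hD.quasi.1.commutator_eq_top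
  let g : ↥D →* Matrix.SpecialLinearGroup (Fin 2) F := e.toMonoidHom.comp f
  have hgk : g.ker = f.ker := by
    ext x
    rw [MonoidHom.mem_ker, MonoidHom.mem_ker]
    exact map_eq_one_iff e e.injective
  have hginj : Function.Injective g :=
    CovTwo.injective_of_sl hF hperf g (by rw [hgk]; exact hker) (by rw [hgk]; exact h2)
  have hgsurj : Function.Surjective g := by
    intro s
    obtain ⟨d, hd, hds⟩ := hJ.ex (e.symm s : ↥J) (e.symm s).2
    refine ⟨⟨d, hd⟩, ?_⟩
    change e (f ⟨d, hd⟩) = s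
    have h5 : f ⟨d, hd⟩ = e.symm s := Subtype.ext hds.symm
    rw [h5, e.apply_symm_apply]
  let E : ↥D ≃* Matrix.SpecialLinearGroup (Fin 2) F := MulEquiv.ofBijective g ⟨hginj, hgsurj⟩
  -- the involution of `D`
  obtain ⟨d, hd, hdy⟩ := hJ.ex y hyJ
  have hy1 : y ≠ 1 := by
    rintro rfl
    rw [orderOf_one] at hy
    exact absurd hy (by decide)
  have hdd : d * d = 1 := by
    have h5 : (⟨d, hd⟩ : ↥D) * ⟨d, hd⟩ = 1 := by
      apply hginj
      rw [map_mul, map_one]
      have h6 : f ⟨d, hd⟩ = ⟨y, hyJ⟩ := Subtype.ext hdy.symm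
      change e (f ⟨d, hd⟩) * e (f ⟨d, hd⟩) = 1
      rw [h6, ← map_mul, ← pow_two]
      have h7 : (⟨y, hyJ⟩ : ↥J) ^ 2 = 1 := Subtype.ext (by
        change y ^ 2 = 1
        rw [← hy, pow_orderOf_eq_one])
      rw [h7, map_one]
    exact congrArg Subtype.val h5
  have hd1 : d ≠ 1 := by
    rintro rfl
    apply hy1
    rw [hdy]; group
  have hdo : orderOf d = 2 := orderOf_eq_prime (by rw [pow_two]; exact hdd) hd1
  have hdc : ∀ a ∈ D, a * d = d * a := by
    intro a ha
    have h5 : (⟨d, hd⟩ : ↥D) ∈ center ↥D := by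
      rw [mem_center_iff]
      intro b
      apply hginj
      rw [map_mul, map_mul]
      have h6 : g ⟨d, hd⟩ = -1 := eq_of_involutions hF E (x := ⟨d, hd⟩) (by rw [Subgroup.orderOf_mk]; exact hdo)
      rw [h6, mul_neg, neg_mul, mul_one, one_mul]
    exact congrArg Subtype.val (mem_center_iff.mp h5 ⟨a, ha⟩)
  set d' := t * d * t⁻¹ with hd'
  have hd'o : orderOf d' = 2 := by rw [hd', D3.orderOf_conj, hdo]
  have hd'D : d' ∈ cj t D := D3.conj_mem_cj hd
  have hne : d ≠ d' := by
    intro h
    apply hy1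
    rw [hdy, ← h, hdd]
  have hDt : Comp y (cj t D) := hD.conj_of_comm hty
  have htt : t * t = 1 := hJ.xx
  have hcjcj : cj t (cj t D) = D := hJ.cj_cj
  have hd'c : ∀ a ∈ cj t D, a * d' = d' * a := by
    intro a ha
    have h5 : t⁻¹ * a * t ∈ D := D3.mem_cj.mp ha
    have h6 := hdc _ h5
    calc a * d' = t * ((t⁻¹ * a * t) * d) * t⁻¹ := by rw [hd']; group
      _ = t * (d * (t⁻¹ * a * t)) * t⁻¹ := by rw [h6]
      _ = d' * a := by rw [hd']; group
  let Y : Fin 2 → G := ![d, d']
  let K : Fin 2 → Subgroup G := ![D, cj t D]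
  have hrange : ∀ a : G, (∀ b, (b = d ∨ b = d') → b * a = a * b) → a ∈ centralizer (Set.range Y) := by
    intro a ha
    rw [mem_centralizer_iff]
    rintro _ ⟨i, rfl⟩
    fin_cases i
    · exact ha d (Or.inl rfl)
    · exact ha d' (Or.inr rfl)
  have hsubC : centralizer (Set.range Y) ≤ centralizer ({y} : Set G) := by
    intro a ha
    rw [mem_centralizer_singleton_iff, hdy]
    have h5 : d * a = a * d := mem_centralizer_iff.mp ha d ⟨0, rfl⟩
    have h6 : d' * a = a * d' := mem_centralizer_iff.mp ha d' ⟨1, rfl⟩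
    calc a * (d * d') = (a * d) * d' := by group
      _ = d * (a * d') := by rw [← h5]; group
      _ = d * d' * a := by rw [← h6]; group
  have hDle : D ≤ centralizer (Set.range Y) := by
    intro a ha
    refine hrange a ?_
    rintro b (rfl | rfl)
    · exact (hdc a ha).symm
    · exact (hcm a ha d hd).symm
  have hDtle : cj t D ≤ centralizer (Set.range Y) := by
    intro a ha
    refine hrange a ?_
    rintro b (rfl | rfl)
    · exact D3.comm_elt hJ.comm hd ha
    · exact (hd'c a ha).symm
  have hiso' : Nonempty (↥(cj t D) ≃* Matrix.SpecialLinearGroup (Fin 2) F) :=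
    ⟨(D.equivMapOfInjective (MulAut.conj t).toMonoidHom (MulAut.conj t).injective).symm.trans E⟩
  refine hX F hF h3 2 K Y (by norm_num) (fun i => ?_) (fun i => ?_) (fun i => ?_) (fun i => ?_) ?_ ?_
  · fin_cases i
    · exact (compIn_of_comp hD).mono hDle hsubC
    · exact (compIn_of_comp hDt).mono hDtle hsubC
  · fin_cases i
    · exact ⟨E⟩
    · exact hiso'
  · fin_cases i
    · exact hd
    · exact hd'D
  · fin_cases i
    · exact hdo
    · exact hd'o
  · intro i j hij
    fin_cases i <;> fin_cases j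
    · rfl
    · exact absurd hij hne
    · exact absurd hij.symm hne
    · rfl
  · intro a b c hab hac hbc
    exfalso
    fin_cases a <;> fin_cases b <;> fin_cases c <;> simp_all

/-- **NIV.** -/
theorem niv (hFT : ∀ (G : Type u) [Group G] [Finite G], FT G) (hX : ∀ (G : Type u) [Group G], Ctx G → NoFam G)
    (hT : FrameFact.{u}) (hE : NotBig.{u}) : NIV.{u} := by
  intro G _ C t y J ht hy hty hcomm hJ hyJ hSL
  haveI := C.fin
  have hSL' := hSL
  obtain ⟨F, _, _, hF, h3, ⟨e⟩⟩ := hSL
  have hJ' : CompIn (centralizer ({y} : Set G) ⊓ centralizer ({t} : Set G)) J := by rwa [inf_comm]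
  obtain ⟨D, hD, h | ⟨hlt, hcj⟩ | h⟩ := pump2 (hFT G) (bl_core (hFT G) C.bal) hy ht hcomm.symm hJ'
  · subst h
    exact classical_false C hy hD hyJ hF e
  · have hyD : y ∈ D := hlt.le hyJ
    by_cases hb : LieBig (↥D ⧸ center ↥D)
    · have hyZ : (⟨y, hyD⟩ : ↥D) ∈ center ↥D := by
        rw [mem_center_iff]
        intro g
        exact Subtype.ext (D3.mem_cs.mp (hD.le g.2))
      have h8 : Even8 (⟨y, hyD⟩ : ↥D) :=
        Even8.of_sl hF (J := J.subgroupOf D) ((subgroupOfEquivOfLe hlt.le).trans e)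
          (by rw [Subgroup.orderOf_mk]; exact hy) (mem_subgroupOf.mpr hyJ)
      obtain ⟨fr⟩ := hT ↥D hD.quasi (Soft.CompOf.center_isPGroup (C.bal y hy) ⟨hD.le, hD.comp⟩) hb _ hyZ h8
      exact frame_false (hX G C) hD hyD fr
    · exact hE G C t y J D ht hy hty hcomm hJ hyJ hSL' hD hlt hcj hb
  · exact diag_false C (hX G C) hy hcomm hD h hyJ hF h3 e

end Cfsg.Agent.OddHalf.NI
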