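import Cfsg.Agent.OddHalf.NI.NoFrame
import Cfsg.Agent.OddHalf.NI.NoFam

/-!
# `NoFam` from THEOREM X (`NoFrame.no_family`)
-/

set_option autoImplicit false

namespace Cfsg.Agent.OddHalf.NI

open Subgroup Cfsg Cfsg.Agent.OddHalf.Iface

universe u

/-- **THEOREM X** in the form consumed by `niv`. -/
theorem noFam {S7 : ∀ (N : Type u) [Group N], N → N → Subgroup N → Subgroup N → Subgroup N → Prop}
    (hF2 : F2' S7) (hA : AutM S7) (hS : NI.Sol S7) (hL : FrameKill.LieCl.{u})
    (hft : ∀ (X : Type u) [Group X] [Finite X], Odd (Nat.card X) → Group.IsSolvable X) :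
    ∀ (G : Type u) [Group G], Ctx G → NoFam G := by
  intro G _ C F _ _ hF h3 m J y pos hJ hQ hy ho hinj hthree
  have himg : y '' ((Finset.univ : Finset (Fin m)) : Set (Fin m)) = Set.range y := by
    rw [Finset.coe_univ, Set.image_univ]
  refine NoFrame.no_family hF2 hA hS hL hft C F hF h3 Finset.univ ⟨⟨0, pos⟩, Finset.mem_univ _⟩ J y
    (fun i _ => ?_) (fun i _ => hQ i) (fun i _ => hy i) (fun i _ => ho i) (fun i _ k _ hik h => hik (hinj h))
    (fun a _ b _ c _ hab hac hbc => hthree a b c hab hac hbc)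
  rw [himg]
  exact hJ i

end Cfsg.Agent.OddHalf.NI
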