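import Cfsg.Agent.OddHalf.NI.Rows
import Cfsg.Agent.OddHalf.NI.Niv

/-!
# `NotBig` from (EX) and NI(3)

The component `N > J` of `C(y)`, `y ∈ J ≃ SL₂(q)`. `N / Z(N)` of Lie type in odd characteristic is `L₂(q')` (then
`N ≃ SL₂(q')` is classical), a Ree group (no even centre), `Rk q'` with `q' ≥ 5` (`LieBig`) or `Rk 3`.
-/

set_option autoImplicit false
set_option linter.style.haveILetI false

namespace Cfsg.Agent.OddHalf.NI

open Subgroup Cfsg Cfsg.Agent.OddHalf.Iface Cfsg.Agent.OddHalf.LieOddFam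
open Cfsg.Agent.OddHalf.D3 (cj Comp)

universe u

/-- **(EX)**: the exotic pump-ups. -/
def EX : Prop :=
  ∀ (G : Type u) [Group G], Ctx G → ∀ (t y : G) (J N : Subgroup G), orderOf t = 2 → orderOf y = 2 →
    t ≠ y → t * y = y * t → CompIn (centralizer ({t} : Set G) ⊓ centralizer ({y} : Set G)) J → y ∈ J → IsSL ↥J →
    Comp y N → J < N → cj t N = N → ¬ LieOdd (↥N ⧸ center ↥N) → False

/-- **NI(3)** at the entrance of NI: `N / Z(N)` of Lie type over the field with three elements. -/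
def NI3 : Prop :=
  ∀ (G : Type u) [Group G], Ctx G → ∀ (t y : G) (J N : Subgroup G), orderOf t = 2 → orderOf y = 2 →
    t ≠ y → t * y = y * t → CompIn (centralizer ({t} : Set G) ⊓ centralizer ({y} : Set G)) J → y ∈ J → IsSL ↥J →
    Comp y N → J < N → cj t N = N → Rk (↥N ⧸ center ↥N) 3 → False

/-- The families of Lie type in odd characteristic, alternating groups included. -/
theorem lieOdd_split {X : Type u} [Group X] (h : LieOdd X) :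
    (∃ (F : Type) (_ : Field F) (_ : Fintype F), Odd (Fintype.card F) ∧
      Nonempty (X ≃* Matrix.ProjectiveSpecialLinearGroup (Fin 2) F)) ∨ Lie.IsoRee X ∨
      ∃ q : ℕ, OddPow q ∧ Rk X q := by
  obtain ⟨p, hp, h2, h⟩ := h
  rcases h with h | h | h | h | h | h | h | h | ⟨h', -⟩ | ⟨h', -⟩ | ⟨-, h⟩
  · -- linear groups
    obtain ⟨F, _, _, _, n, h1, h3, ⟨e⟩⟩ := h
    have hq := oddPow_card (F := F) hp h2
    by_cases hn : n = 2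
    · subst hn
      exact Or.inl ⟨F, _, _, hq.odd, ⟨e⟩⟩
    · exact Or.inr (Or.inr ⟨_, hq, Or.inl ⟨F, _, _, n, rfl, by omega, ⟨e⟩⟩⟩)
  · -- symplectic groups
    obtain ⟨F, _, _, _, m, h1, -, ⟨e⟩⟩ := h
    exact Or.inr (Or.inr ⟨_, oddPow_card (F := F) hp h2, Or.inr (Or.inl ⟨F, _, _, m, rfl, h1, ⟨e⟩⟩)⟩)
  · -- unitary groups
    obtain ⟨F, _, _, _, n, q, h1, h3, -, ⟨e⟩⟩ := h
    obtain ⟨a, ha, hF⟩ := card_pow (F := F) p
    have hq := oddPow_root hp h2 two_ne_zero ha (h1.symm.trans hF)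
    exact Or.inr (Or.inr ⟨q, hq, Or.inr (Or.inr (Or.inl ⟨F, _, _, n, h1, h3, ⟨e⟩⟩))⟩)
  · -- odd orthogonal groups
    obtain ⟨F, _, _, _, m, h1, -, ⟨e⟩⟩ := h
    exact Or.inr (Or.inr ⟨_, oddPow_card (F := F) hp h2, Or.inr (Or.inr (Or.inr (Or.inl ⟨F, _, _, m, rfl, h1, ⟨e⟩⟩)))⟩)
  · -- `Ω⁺`
    obtain ⟨F, _, _, _, m, h1, ⟨e⟩⟩ := h
    exact Or.inr (Or.inr ⟨_, oddPow_card (F := F) hp h2,
      Or.inr (Or.inr (Or.inr (Or.inr (Or.inl ⟨F, _, _, m, rfl, h1, ⟨e⟩⟩))))⟩)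
  · -- `Ω⁻`
    obtain ⟨F, _, _, _, m, b, c, h1, h3, ⟨e⟩⟩ := h
    exact Or.inr (Or.inr ⟨_, oddPow_card (F := F) hp h2,
      Or.inr (Or.inr (Or.inr (Or.inr (Or.inr (Or.inl ⟨F, _, _, m, b, c, rfl, h1, h3, ⟨e⟩⟩)))))⟩)
  · -- untwisted exceptional groups
    obtain ⟨F, _, _, _, h⟩ := h
    refine Or.inr (Or.inr ⟨_, oddPow_card (F := F) hp h2, Or.inr (Or.inr (Or.inr (Or.inr (Or.inr (Or.inr ?_)))))⟩)
    rcases h with ⟨-, ⟨e⟩⟩ | ⟨⟨e⟩⟩ | ⟨⟨e⟩⟩ | ⟨⟨e⟩⟩ | ⟨⟨e⟩⟩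
    · exact Or.inl ⟨F, _, _, rfl, ⟨e⟩⟩
    · exact Or.inr (Or.inl ⟨F, _, _, rfl, ⟨e⟩⟩)
    · exact Or.inr (Or.inr (Or.inl ⟨F, _, _, rfl, ⟨e⟩⟩))
    · exact Or.inr (Or.inr (Or.inr (Or.inl ⟨F, _, _, rfl, ⟨e⟩⟩)))
    · exact Or.inr (Or.inr (Or.inr (Or.inr (Or.inl ⟨F, _, _, rfl, ⟨e⟩⟩))))
  · -- twisted `E_6`, `D_4`
    obtain ⟨F, _, _, _, q, -, h⟩ := h
    obtain ⟨a, ha, hF⟩ := card_pow (F := F) p
    rcases h with ⟨h1, ⟨e⟩⟩ | ⟨h1, ⟨e⟩⟩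
    · exact Or.inr (Or.inr ⟨q, oddPow_root hp h2 two_ne_zero ha (h1.symm.trans hF),
        Or.inr (Or.inr (Or.inr (Or.inr (Or.inr (Or.inr (Or.inr (Or.inr (Or.inr (Or.inr (Or.inr
          (Or.inl ⟨F, _, _, h1, ⟨e⟩⟩)))))))))))⟩)
    · exact Or.inr (Or.inr ⟨q, oddPow_root hp h2 three_ne_zero ha (h1.symm.trans hF),
        Or.inr (Or.inr (Or.inr (Or.inr (Or.inr (Or.inr (Or.inr (Or.inr (Or.inr (Or.inr (Or.inr
          (Or.inr ⟨F, _, _, h1, ⟨e⟩⟩)))))))))))⟩)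
  · exact absurd h' h2
  · exact absurd h' h2
  · exact Or.inr (Or.inl h)

/-- **`NotBig`** from (EX), NI(3) and 'the Ree groups have no perfect 2-covers' (`U2.Cut.Mult.ree`). -/
theorem notBig (hRee : ∀ (K : Type u) [Group K], Finite K → IsQuasisimple K → IsPGroup 2 ↥(center K) →
    center K ≠ ⊥ → ¬ Lie.IsoRee (K ⧸ center K)) (hEX : EX.{u})
    (h3 : NI3.{u}) : NotBig.{u} := by
  intro G _ C t y J N ht hy hty hcomm hJ hyJ hSL hN hlt hcj hb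
  haveI := C.fin
  by_cases hL : LieOdd (↥N ⧸ center ↥N)
  swap
  · exact hEX G C t y J N ht hy hty hcomm hJ hyJ hSL hN hlt hcj hL
  have hyN : y ∈ N := hlt.le hyJ
  have hyZ : (⟨y, hyN⟩ : ↥N) ∈ center ↥N := by
    rw [mem_center_iff]
    intro g
    exact Subtype.ext (D3.mem_cs.mp (hN.le g.2))
  have hy1 : (⟨y, hyN⟩ : ↥N) ≠ 1 := by
    intro h
    have h1 : y = 1 := congrArg Subtype.val h
    rw [h1, orderOf_one] at hy
    exact absurd hy (by decide)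
  have hZ2 := Soft.CompOf.center_isPGroup (C.bal y hy) ⟨hN.le, hN.comp⟩
  rcases lieOdd_split hL with ⟨F, _, _, hF, ⟨e⟩⟩ | h | ⟨q, hq, h⟩
  · obtain ⟨f⟩ := CovTwo.equiv_sl hF hN.quasi.1.commutator_eq_top hZ2 e hyZ hy1
    exact classical_false C hy hN hyN hF f
  · refine hRee ↥N inferInstance hN.quasi hZ2 ?_ h
    intro hbot
    rw [hbot, mem_bot] at hyZ
    exact hy1 hyZ
  · by_cases hq3 : q = 3
    · subst hq3
      exact h3 G C t y J N ht hy hty hcomm hJ hyJ hSL hN hlt hcj h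
    · exact hb (Rows.lieBig_of_rk hq (hq.ne_four hq3) h)

end Cfsg.Agent.OddHalf.NI
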