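import Cfsg.Agent.OddHalf.NI.Quot
import Cfsg.Agent.OddHalf.NI.Props
import Cfsg.Agent.SporadicA.M11Facts
import Cfsg.Agent.UGT.End.MEleven
import Cfsg.Agent.ClassicalGeometry.PSL2Basic

/-!
# The quotient step without `M₁₁` (helper803)

`L` finite quasisimple, `b ∉ Z(L)` an involution, `B ∋ b` a component of `C_L(b)`, `B ≅ SL(2,F)`, `F` finite of odd
order `> 3`. Then `L / Z(L)` is of Lie type in odd characteristic: in `M₁₁` involution centralizers have order 48.
-/

set_option autoImplicit false

namespace Cfsg.Agent.OddHalf.NI.Quot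

open Subgroup Cfsg Cfsg.Agent.OddHalf.Iface

universe u

/-- `48 < |SL(2,F)|` for `|F| > 3`. -/
theorem card_sl {F : Type} [Field F] [Fintype F] (h3 : 3 < Fintype.card F) :
    48 < Nat.card (Matrix.SpecialLinearGroup (Fin 2) F) := by
  rw [ClassicalGeometry.PSL2Basic.card_SL2]
  have : 15 ≤ Fintype.card F ^ 2 - 1 := by
    have : 4 ^ 2 ≤ Fintype.card F ^ 2 := Nat.pow_le_pow_left h3 2
    omega
  nlinarith

/-- **The quotient step**, final form. -/
theorem lieOdd (P : Stmts.P1310.{u}) {L : Type u} [Group L] [Finite L] (hq : IsQuasisimple L)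
    {b : L} (hb : orderOf b = 2) (hbZ : b ∉ center L) {B : Subgroup L} (hbB : b ∈ B)
    (hB : CompIn (centralizer ({b} : Set L)) B) (hS : IsSL ↥B) : LieOdd (L ⧸ center L) := by
  obtain ⟨F, iF, iF2, hF, h3, ⟨e⟩⟩ := hS
  rcases lieOdd_of_classical P hq hb hbZ hB.le hbB hB.comp.1 hF e with h | h
  · exact h
  exfalso
  have h11 := UGT.End.MEleven.isM11 h
  let π : L →* L ⧸ center L := QuotientGroup.mk' (center L)
  have hinj : ∀ x ∈ B, x ∈ center L → x = 1 := by
    intro x hx hxZ
    have h1 : (⟨x, hx⟩ : ↥B) ∈ center ↥B := by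
      rw [mem_center_iff]
      intro g
      exact Subtype.ext (mem_center_iff.mp hxZ g)
    rcases sl_center hF e (b := ⟨b, hbB⟩) (by rw [← orderOf_coe]; exact hb) h1 with h2 | h2
    · exact congrArg Subtype.val h2
    · exfalso
      apply hbZ
      rw [← show x = b from congrArg Subtype.val h2]
      exact hxZ
  have hzo : orderOf (π b) = 2 := by
    refine orderOf_eq_prime ?_ ?_
    · rw [← map_pow, ← hb, pow_orderOf_eq_one, map_one]
    · intro h
      exact hbZ ((QuotientGroup.eq_one_iff b).mp h)
  have h48 := SporadicA.M11Facts.card_centralizer_two h11 hzo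
  let r : ↥B →* ↥(centralizer ({π b} : Set (L ⧸ center L))) :=
    (π.comp B.subtype).codRestrict _ (by
      intro x
      rw [mem_centralizer_singleton_iff]
      change π x * π b = π b * π x
      rw [← map_mul, ← map_mul, mem_centralizer_singleton_iff.mp (hB.le x.2)])
  have hr : Function.Injective r := by
    rw [injective_iff_map_eq_one]
    intro x hx
    exact Subtype.ext (hinj x x.2 ((QuotientGroup.eq_one_iff (x : L)).mp (congrArg Subtype.val hx)))
  have h4 := Nat.card_le_card_of_injective r hr
  rw [h48, Nat.card_congr e.toEquiv] at h4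
  have := card_sl h3
  omega

end Cfsg.Agent.OddHalf.NI.Quot
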