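import Cfsg.Agent.OddHalf.NI.Rows
import Cfsg.Agent.OddHalf.NI.Niv
import Cfsg.Agent.OddHalf.NI.NoFamOf
import Cfsg.Agent.OddHalf.NI.NotBigOf
import Cfsg.Agent.OddHalf.NI.QuotOdd
import Cfsg.Agent.OddHalf.LongSL.All
import Cfsg.Agent.OddHalf.U2.MultOf
import Cfsg.Agent.OddHalf.D6.Cut

/-!
# Node NI (`q > 3`): assembly

`noBig : Facts S7 → NoBig`, where `Facts S7` is the list of the facts which are proved elsewhere:

* `frame` ((T')), `f2`, `autM`, `sol` (`S7` = the chart of type `B₃`), `p1310`, `ex`, `ni3`, `ft` (odd order theorem).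

(F1) is `LongSL.f1`; the multiplier fact on Ree groups is `U2.MultOf.ree`.
-/

set_option autoImplicit false

namespace Cfsg.Agent.OddHalf.NI.Assemble

open Subgroup Cfsg Cfsg.Agent.OddHalf.Iface Cfsg.Agent.OddHalf.LieOddFam

universe u

/-- The facts used by node NI, `q > 3`. -/
structure Facts (S7 : ∀ (N : Type u) [Group N], N → N → Subgroup N → Subgroup N → Subgroup N → Prop) : Prop where
  /-- (T') -/
  frame : FrameFact.{u}
  /-- (F2') -/
  f2 : F2' S7
  autM : AutM S7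
  sol : NI.Sol S7
  /-- S1310 -/
  p1310 : Stmts.P1310.{u}
  ex : EX.{u}
  ni3 : NI3.{u}
  /-- the odd order theorem -/
  ft : ∀ (X : Type u) [Group X] [Finite X], Odd (Nat.card X) → Group.IsSolvable X

variable {S7 : ∀ (N : Type u) [Group N], N → N → Subgroup N → Subgroup N → Subgroup N → Prop}

theorem lieCl (P : Stmts.P1310.{u}) : FrameKill.LieCl.{u} :=
  fun _ _ _ hq _ _ hb hbZ hB hbB hS => Quot.lieOdd P hq hb hbZ hbB hB hS

theorem niv_of (H : Facts S7) : NIV.{u} :=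
  niv (fun _ _ _ K hK => H.ft ↥K hK) (noFam H.f2 H.autM H.sol (lieCl H.p1310) H.ft) H.frame
    (notBig (fun _ _ h1 h2 h3 h4 => U2.MultOf.ree ⟨h1, h2, h3, h4⟩) H.ex H.ni3)

/-- **Node NI, `q > 3`.** -/
theorem noBig_of (H : Facts S7) : NoBig.{u} := Final.noBig LongSL.f1 (niv_of H)

/-- Row `big` of U2. -/
theorem u2_big_of (H : Facts S7) : U2.Cut.Row.{u} (fun X _ => ∃ q : ℕ, OddPow q ∧ 5 ≤ q ∧ Rk X q) :=
  Rows.u2_big (noBig_of H)

/-- **Node U2** from node NI (`q > 3`) and the row over the field with 3 elements. -/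
theorem u2_of (H : Facts S7) (h3 : U2.Cut.Row.{u} (fun X _ => Rk X 3)) : Iface.U2.{u} :=
  U2.Cut.u2_of_rows U2.MultOf.mult ⟨u2_big_of H, h3⟩

/-- **Node D6** (`Z(K) = 1`) from node NI (`q > 3`) and the rows `L_2(q)`, Ree, `q = 3`. -/
theorem d6_of (H : Facts S7) (R : D6.Cut.Rows.{u}) : D6.Cut.D6z.{u} :=
  D6.Cut.d6_of_rows (noBig_of H) R

end Cfsg.Agent.OddHalf.NI.Assemble
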