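import Mathlib
import Cfsg.Agent.Nodes.BOdd

/-!
# The root system of type `B₃` (`C`-labels) in explicit vectors (node NI, (K5))

* `q` : the scalar product of two vectors in simple root coordinates; `ip_eq`, `nonneg_iff`, `zero_iff`;
* `rr = e₁+e₂`, `rs = e₁-e₂`, `rb = e₃`, `ry = e₁+e₃`, `rx = e₁-e₃`, `l1 = e₁`, `l2 = e₂`, `pp = e₂+e₃`, `mm = e₂-e₃`;
* `pos_cases` : the nine positive roots; `refl_eq` : reflections.
-/

set_option autoImplicit false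
set_option linter.unusedSectionVars false
set_option linter.dupNamespace false

namespace Cfsg.Agent.OddHalf.NI.AutB3Comb

open Cfsg.Agent.ChevalleyStructure.CoxeterGeom Cfsg.Agent.Tits.Roots Cfsg.Agent.Tits.RootComb
  Cfsg.Agent.Nodes.Coroot Cfsg.Agent.Nodes.TypeC Cfsg.Agent.Nodes.TypeCForm Cfsg.Agent.Nodes.KindBC

/-- The scalar product in simple root coordinates. -/
def q (x y : Fin 3 → ℤ) : ℤ :=
  x 0 * y 0 + (x 1 - x 0) * (y 1 - y 0) + (2 * x 2 - x 1) * (2 * y 2 - y 1)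

theorem ee_eq (x : Fin 3 → ℤ) : ee x = ![x 0, x 1 - x 0, 2 * x 2 - x 1] := by
  funext k
  unfold ee
  rw [Fin.sum_univ_three]
  simp only [Pi.add_apply, Pi.smul_apply, smul_eq_mul, bt_apply]
  fin_cases k <;> simp <;> ring

theorem ip_eq (x y : Fin 3 → ℤ) : ip (ee x) (ee y) = q x y := by
  rw [ee_eq, ee_eq, ip, Fin.sum_univ_three]
  rfl

/-- `e₁ + e₂` -/
def rr : Fin 3 → ℤ := ![1, 2, 1]
/-- `e₁ - e₂` -/
def rs : Fin 3 → ℤ := ![1, 0, 0]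
/-- `e₃` -/
def rb : Fin 3 → ℤ := ![0, 0, 1]
/-- `e₁ + e₃` -/
def ry : Fin 3 → ℤ := ![1, 1, 1]
/-- `e₁ - e₃` -/
def rx : Fin 3 → ℤ := ![1, 1, 0]
/-- `e₁` -/
def l1 : Fin 3 → ℤ := ![2, 2, 1]
/-- `e₂` -/
def l2 : Fin 3 → ℤ := ![0, 2, 1]
/-- `e₂ + e₃` -/
def pp : Fin 3 → ℤ := ![0, 1, 1]
/-- `e₂ - e₃` -/
def mm : Fin 3 → ℤ := ![0, 1, 0]

section

variable {W : Type*} [Group W] (cs : CoxeterSystem (CoxeterMatrix.B 3) W)

theorem rr_mem : rr ∈ RB 3 := ⟨(0, true), (1, true), by decide, by rw [ee_eq]; decide⟩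
theorem rs_mem : rs ∈ RB 3 := ⟨(0, true), (1, false), by decide, by rw [ee_eq]; decide⟩
theorem ry_mem : ry ∈ RB 3 := ⟨(0, true), (2, true), by decide, by rw [ee_eq]; decide⟩
theorem rx_mem : rx ∈ RB 3 := ⟨(0, true), (2, false), by decide, by rw [ee_eq]; decide⟩
theorem pp_mem : pp ∈ RB 3 := ⟨(1, true), (2, true), by decide, by rw [ee_eq]; decide⟩
theorem mm_mem : mm ∈ RB 3 := ⟨(1, true), (2, false), by decide, by rw [ee_eq]; decide⟩
theorem rb_mem : rb ∈ RC 3 := ⟨(2, true), by rw [ee_eq]; decide⟩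
theorem l1_mem : l1 ∈ RC 3 := ⟨(0, true), by rw [ee_eq]; decide⟩
theorem l2_mem : l2 ∈ RC 3 := ⟨(1, true), by rw [ee_eq]; decide⟩

theorem sr0 : (sr 0 : Fin 3 → ℤ) = rs := by decide
theorem sr1 : (sr 1 : Fin 3 → ℤ) = mm := by decide
theorem sr2 : (sr 2 : Fin 3 → ℤ) = rb := by decide

theorem dom_rr : Dom (A 3) rr := by
  intro i
  rw [← Cf_ee, ee_eq]
  fin_cases i <;> decide

/-- The nine positive roots. -/
theorem pos_cases {x : Fin 3 → ℤ} (hx : IsRoot cs (isCartan 3) x) (h0 : 0 ≤ x) :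
    x = rr ∨ x = rs ∨ x = rb ∨ x = ry ∨ x = rx ∨ x = l1 ∨ x = l2 ∨ x = pp ∨ x = mm := by
  obtain ⟨a, b, hab, e⟩ := exists_of_isRoot cs hx
  rw [ee_eq] at e
  have e0 := congrFun e 0
  have e1 := congrFun e 1
  have e2 := congrFun e 2
  have h00 := h0 0
  have h01 := h0 1
  have h02 := h0 2
  simp only [Pi.zero_apply] at h00 h01 h02
  have key : ∀ a b : Fin 3 × Bool, Ok a b → ∀ u v w : ℤ, 0 ≤ u → 0 ≤ v → 0 ≤ w → u = (wt a + wt b) 0 →
      v - u = (wt a + wt b) 1 → 2 * w - v = (wt a + wt b) 2 →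
      (![u, v, w] = rr ∨ ![u, v, w] = rs ∨ ![u, v, w] = rb ∨ ![u, v, w] = ry ∨ ![u, v, w] = rx ∨
      ![u, v, w] = l1 ∨ ![u, v, w] = l2 ∨ ![u, v, w] = pp ∨ ![u, v, w] = mm) := by
    rintro ⟨a, s⟩ ⟨b, t⟩ hab u v w hu hv hw e0 e1 e2
    unfold Ok at hab
    fin_cases a <;> fin_cases b <;> cases s <;> cases t <;>
      simp [wt, rr, rs, rb, ry, rx, l1, l2, pp, mm] at hab e0 e1 e2 ⊢ <;> omega
  have h1 := key a b hab (x 0) (x 1) (x 2) h00 h01 h02 e0 e1 e2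
  have h2 : x = ![x 0, x 1, x 2] := by funext k; fin_cases k <;> rfl
  rw [← h2] at h1
  exact h1

variable {cs}

theorem nonneg_iff [Fintype W] {x r : Fin 3 → ℤ} (hr : IsRoot cs (isCartan 3) r) :
    0 ≤ form cs (isCartan 3) x r ↔ 0 ≤ q x r := by
  rw [form_nonneg_iff cs hr, ip_eq]

theorem zero_iff [Fintype W] {x r : Fin 3 → ℤ} (hr : IsRoot cs (isCartan 3) r) :
    form cs (isCartan 3) x r = 0 ↔ q x r = 0 := by
  rw [form_eq_zero_iff cs hr, ip_eq]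

theorem cpr_q [Finite W] (x : Fin 3 → ℤ) {y : Fin 3 → ℤ} (hy : IsRoot cs (isCartan 3) y) {k : ℤ}
    (h0 : q y y ≠ 0) (hk : k * q y y = 2 * q x y) : cpr cs (isCartan 3) x y = k := by
  have h1 := cpr_mul_ip cs x hy
  rw [ip_eq, ip_eq, ← hk] at h1
  exact mul_right_cancel₀ h0 h1

/-- Reflections. -/
theorem refl_eq [Finite W] {x y x' : Fin 3 → ℤ} (hy : IsRoot cs (isCartan 3) y) (k : ℤ)
    (h0 : q y y ≠ 0) (hk : k * q y y = 2 * q x y) (hx' : x' = x - k • y) :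
    x - cpr cs (isCartan 3) x y • y = x' := by
  rw [cpr_q x hy h0 hk, hx']

end

end Cfsg.Agent.OddHalf.NI.AutB3Comb
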