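import Mathlib
import Cfsg.Agent.Nodes.ChartLoc
import Cfsg.Agent.Nodes.ShortSum
import Cfsg.Agent.Nodes.NormalForm
import Cfsg.Agent.OddHalf.NI.AutB3Comb

/-!
# The root group `X (e₁+e₃)` in a chart of type `B₃` (node NI, (K5))

`S : Std cs p T nn X Z z` : classical data of type `B₃` of `Y`, `X r = Z r` for the long roots.

* `Std.short` : an element of `X e₁` commuting with `X e₃` is trivial;
* `Std.mem_ry` : `v ∈ VV (e₁+e₂) ⊓ VV (e₁-e₂)` inverted by `z (e₁+e₂)`, commuting with `X (e₁-e₂)`, `X e₃` lies in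
  `X (e₁+e₃)`;
* `Std.map_ry` : an automorphism which fixes `X (e₁+e₂)`, `X (e₁-e₂)`, `X e₃` and `z (e₁+e₂)` fixes `X (e₁+e₃)`.
-/

set_option autoImplicit false
set_option linter.unusedSectionVars false
set_option linter.dupNamespace false

namespace Cfsg.Agent.OddHalf.NI.AutB3Std

open CoxeterSystem Cfsg.Agent.ChevalleyStructure.CoxeterGeom Cfsg.Agent.Tits.Roots Cfsg.Agent.Tits.Core
  Cfsg.Agent.Tits.RootComb Cfsg.Agent.Nodes.Comb Cfsg.Agent.Nodes.Reps Cfsg.Agent.Nodes.BNOf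
  Cfsg.Agent.Nodes.RGDLib Cfsg.Agent.Nodes.Chart Cfsg.Agent.Nodes.Coroot Cfsg.Agent.Nodes.Perp
  Cfsg.Agent.Nodes.ZRel Cfsg.Agent.Nodes.TypeC Cfsg.Agent.Nodes.TypeCForm Cfsg.Agent.Nodes.KindBC
  Cfsg.Agent.Nodes.ShortSum Cfsg.Agent.Nodes.ChartLoc Cfsg.Agent.Nodes.Bruhat Cfsg.Agent.Nodes.LeviDec
  Cfsg.Agent.OddHalf.NI.AutB3Comb
open scoped commutatorElement

variable {W Y : Type*} [Group W] [Fintype W] [Group Y]

/-- Classical data of type `B₃` of the whole group `Y`. -/
structure Std (cs : CoxeterSystem (CoxeterMatrix.B 3) W) (p : ℕ) (T : Subgroup Y) (nn : Fin 3 → Y)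
    (X Z : (Fin 3 → ℤ) → Subgroup Y) (z : (Fin 3 → ℤ) → Y) : Prop where
  C : Cls cs (isCartan 3) p T nn X (RB 3) Z z
  prime : p.Prime
  odd : p ≠ 2
  XZ : ∀ r ∈ RB 3, X r = Z r
  gen : G1 cs (isCartan 3) X = ⊤
  cen : ∀ g, z rr * z rs * g = g * (z rr * z rs)

namespace Std

variable {cs : CoxeterSystem (CoxeterMatrix.B 3) W} {p : ℕ} {T : Subgroup Y} {nn : Fin 3 → Y}
  {X Z : (Fin 3 → ℤ) → Subgroup Y} {z : (Fin 3 → ℤ) → Y} (S : Std cs p T nn X Z z)

include S

/-! ### Elementary -/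

theorem rB {r : Fin 3 → ℤ} (hr : r ∈ RB 3) : IsRoot cs (isCartan 3) r := root_RB cs hr

theorem rC {r : Fin 3 → ℤ} (hr : r ∈ RC 3) : IsRoot cs (isCartan 3) r := root_RC cs hr

theorem cent {r x : Fin 3 → ℤ} (hr : r ∈ RB 3) (hx : IsRoot cs (isCartan 3) x) (hq : 0 ≤ q x r) {a b : Y}
    (ha : a ∈ X x) (hb : b ∈ X r) : a * b = b * a :=
  S.C.cent r hr x hx ((nonneg_iff (S.rB hr)).2 hq) a ha b (S.XZ r hr ▸ hb)

theorem zz (r : Fin 3 → ℤ) (hr : r ∈ RB 3) : z r * z r = 1 := S.C.z_sq r hr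

theorem zi (r : Fin 3 → ℤ) (hr : r ∈ RB 3) : (z r)⁻¹ = z r := inv_eq_of_mul_eq_one_left (S.zz r hr)

theorem zinv {r x : Fin 3 → ℤ} (hr : r ∈ RB 3) (hx : IsRoot cs (isCartan 3) x) (h1 : x ≠ r) (h2 : x ≠ -r)
    (hq : q x r ≠ 0) {a : Y} (ha : a ∈ X x) : z r * a * z r = a⁻¹ :=
  S.C.z_inv r hr x hx h1 h2 (fun h0 => hq ((zero_iff (S.rB hr)).1 h0)) a ha

theorem zcent {r x : Fin 3 → ℤ} (hr : r ∈ RB 3) (hx : IsRoot cs (isCartan 3) x) (hq : q x r = 0) {a : Y}
    (ha : a ∈ X x) : z r * a * z r = a := by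
  rw [← z_cent_of_orth S.C hr hx ((zero_iff (S.rB hr)).2 hq) ha, mul_assoc, S.zz r hr, mul_one]

theorem zself {r : Fin 3 → ℤ} (hr : r ∈ RB 3) {a : Y} (ha : a ∈ X r) : z r * a * z r = a := by
  rw [S.C.z_cent r hr a (S.XZ r hr ▸ ha), mul_assoc, S.zz r hr, mul_one]

theorem neg_mem {r : Fin 3 → ℤ} (hr : r ∈ RB 3) : -r ∈ RB 3 := Cfsg.Agent.Nodes.Perp.neg_mem S.C hr

theorem zself' {r : Fin 3 → ℤ} (hr : r ∈ RB 3) {a : Y} (ha : a ∈ X (-r)) : z r * a * z r = a := by
  rw [← S.C.z_neg r hr]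
  exact S.zself (S.neg_mem hr) ha

theorem ex {x : Fin 3 → ℤ} (hx : IsRoot cs (isCartan 3) x) : ∃ u ∈ X x, u ≠ 1 := by
  by_contra h0
  push Not at h0
  exact Cfsg.Agent.Nodes.StdConn.X_ne_bot S.C hx ((Subgroup.eq_bot_iff_forall _).2 h0)

theorem eq_one {x : Fin 3 → ℤ} (hx : IsRoot cs (isCartan 3) x) {b : Y} (hb : b ∈ X x) (e : b = b⁻¹) : b = 1 :=
  eq_one_of_inv S.C S.prime S.odd hx hb e

theorem inf {x y : Fin 3 → ℤ} (hx : IsRoot cs (isCartan 3) x) (hy : IsRoot cs (isCartan 3) y) (hxy : x ≠ y)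
    {g : Y} (h1 : g ∈ X x) (h2 : g ∈ X y) : g = 1 := by
  have h3 := Cfsg.Agent.Nodes.OppDec.X_inf_X S.C.rgd hx hy hxy
  have h4 : g ∈ X x ⊓ X y := ⟨h1, h2⟩
  rw [h3] at h4
  exact h4

/-- The element `n (u)`. -/
theorem exists_n {c : Fin 3 → ℤ} (hc : IsRoot cs (isCartan 3) c) {u : Y} (hu : u ∈ X c) (hu1 : u ≠ 1) :
    ∃ a ∈ X (-c), ∃ a' ∈ X (-c), ∀ x x' : Fin 3 → ℤ, IsRoot cs (isCartan 3) x →
      x - cpr cs (isCartan 3) x c • c = x' → cj (a * u * a') (X x) = X x' := by
  obtain ⟨a, ha, a', ha', w, hw, ew⟩ := exists_refl_LL S.C.rgd hc.neg (b := u) (by rw [neg_neg]; exact hu) hu1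
  refine ⟨a, ha, a', ha', fun x x' hx e => ?_⟩
  rw [S.C.rgd.conj_rp hw hx, ew, ← e]
  congr 1
  rw [cpr_neg_right cs (isCartan 3) x hc]
  module

theorem kill {a c a' : Fin 3 → ℤ} (ha : IsRoot cs (isCartan 3) a) (hc : IsRoot cs (isCartan 3) c)
    (hrefl : a - cpr cs (isCartan 3) a c • c = a') (ha' : IsRoot cs (isCartan 3) a') (hne : a ≠ a') {g u : Y}
    (hg : g ∈ X a) (hu : u ∈ X c) (hu1 : u ≠ 1) (hgu : g * u = u * g) (hcm : ∀ v ∈ X (-c), g * v = v * g) :
    g = 1 := by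
  obtain ⟨b, hb, b', hb', h1⟩ := S.exists_n hc hu hu1
  refine S.inf ha ha' hne hg ?_
  rw [← h1 a a' ha hrefl, mem_cj]
  have h2 : g * (b * u * b') = (b * u * b') * g := by
    rw [← mul_assoc, ← mul_assoc, hcm b hb, mul_assoc b g u, hgu, mul_assoc, mul_assoc, mul_assoc, hcm b' hb']
    group
  rw [mul_assoc, h2, inv_mul_cancel_left]
  exact hg

/-- **Short roots.** An element of `X e₁` commuting with `X e₃` is trivial. -/
theorem short {d : Y} (hd : d ∈ X l1) (hc : ∀ u ∈ X rb, d * u = u * d) : d = 1 := by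
  have r1 := S.rC l1_mem
  have r3 := S.rC rb_mem
  have ry' := S.rB ry_mem
  have rx' := S.rB rx_mem
  have o13 : form cs (isCartan 3) l1 rb = 0 := (zero_iff r3).2 (by decide)
  have hlen : form cs (isCartan 3) l1 l1 = form cs (isCartan 3) rb rb := by
    have e1 := two_form_cpr cs (isCartan 3) ry r1
    have e2 := two_form_cpr cs (isCartan 3) ry r3
    have e3 := two_form_cpr cs (isCartan 3) l1 ry'
    have e4 := two_form_cpr cs (isCartan 3) rb ry'
    rw [cpr_q ry r1 (k := 1) (by decide) (by decide)] at e1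
    rw [cpr_q ry r3 (k := 1) (by decide) (by decide)] at e2
    rw [cpr_q l1 ry' (k := 2) (by decide) (by decide), form_comm] at e3
    rw [cpr_q rb ry' (k := 2) (by decide) (by decide), form_comm] at e4
    omega
  have sq := Sq.of_add (m := 2) (by norm_num) r1 r3 ry' o13 hlen (by decide)
  have e0 : ry - cpr cs (isCartan 3) ry l1 • l1 = -rx := refl_eq r1 1 (by decide) (by decide) (by decide)
  rw [e0] at sq
  have sS := sq.flip
  by_contra hd1
  obtain ⟨u, hu, hu1⟩ := S.ex rx'.neg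
  -- `⁅d, u⁆ = g3 * gy`
  obtain ⟨g3, h3, gy, hy, hg⟩ : ∃ v ∈ X rb, ∃ w ∈ X ry, ⁅d, u⁆ = v * w := by
    refine mem_sup_of_cm (fun a ha c hc => S.cent ry_mem r3 (by decide) ha hc) ?_
    refine btw_le ?_ (S.C.rgd.comm l1 (-rx) r1 rx'.neg sq.ne_b.1 sq.ne_b.2 d hd u hu)
    intro r hr
    rcases sq.btwn' hr with rfl | rfl
    · exact le_sup_left
    · exact le_sup_right
  have hcy : ∀ g ∈ X ry, d * g = g * d := fun g hg => S.cent ry_mem r1 (by decide) hd hg
  have h3y : g3 * gy = gy * g3 := S.cent ry_mem r3 (by decide) h3 hy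
  -- `z (e₁-e₃)`
  have zr := S.zz rx rx_mem
  have zd := S.zinv rx_mem r1 (by decide) (by decide) (by decide) hd
  have zu := S.zself' rx_mem hu
  have z3 := S.zinv rx_mem r3 (by decide) (by decide) (by decide) h3
  have zy := S.zcent rx_mem ry' (by decide) hy
  have hdg : d * (g3 * gy) = g3 * gy * d := by
    rw [← mul_assoc, hc g3 h3, mul_assoc, hcy gy hy, mul_assoc]
  have hdiv : ∀ a b : Y, z rx * (a * b) * z rx = (z rx * a * z rx) * (z rx * b * z rx) := by
    intro a b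
    calc z rx * (a * b) * z rx = z rx * a * 1 * b * z rx := by group
      _ = z rx * a * (z rx * z rx) * b * z rx := by rw [zr]
      _ = _ := by group
  have zinv' : ∀ a : Y, z rx * a⁻¹ * z rx = (z rx * a * z rx)⁻¹ := by
    intro a
    rw [mul_inv_rev, mul_inv_rev, S.zi rx rx_mem]; group
  have h5 : z rx * ⁅d, u⁆ * z rx = ⁅d, u⁆⁻¹ := by
    rw [commutatorElement_def, hdiv, hdiv, hdiv, zinv', zinv', zd, zu]
    have h6 : ⁅d, u⁆ = d * u * d⁻¹ * u⁻¹ := commutatorElement_def _ _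
    rw [hg] at h6
    have h7 : u * d * u⁻¹ * d⁻¹ = (g3 * gy)⁻¹ := by rw [h6]; group
    have h8 : d⁻¹ * u * d * u⁻¹ = d⁻¹ * (u * d * u⁻¹ * d⁻¹) * d := by group
    rw [inv_inv, h8, h7, ← h6]
    have h9 : d⁻¹ * (g3 * gy)⁻¹ * d = (d⁻¹ * (g3 * gy) * d)⁻¹ := by group
    rw [h9, mul_assoc, ← hdg, inv_mul_cancel_left]
  have hy1 : gy = 1 := by
    rw [hg, hdiv, z3, zy, mul_inv_rev] at h5
    refine S.eq_one ry' hy ?_
    have h6 : g3⁻¹ * gy = gy⁻¹ * g3⁻¹ := h5
    have h7 : g3⁻¹ * gy = gy * g3⁻¹ := by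
      rw [inv_mul_eq_iff_eq_mul, ← mul_assoc, h3y, mul_inv_cancel_right]
    rw [h7] at h6
    exact mul_right_cancel h6
  subst hy1
  rw [mul_one] at hg
  have hdu : d * u * d⁻¹ = g3 * u := by
    rw [← hg, commutatorElement_def]; group
  obtain ⟨a, ha, a', ha', hn⟩ := S.exists_n r1 hd hd1
  have hca : ∀ v ∈ X (-l1), v * u = u * v := fun v hv => S.cent (S.neg_mem rx_mem) r1.neg (by decide) hv hu
  obtain ⟨f, hf, h4⟩ : ∃ f ∈ X (-rx), a * g3 * a⁻¹ = f * g3 := by
    refine ⟨⁅a, g3⁆, ?_, by rw [commutatorElement_def]; group⟩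
    refine btw_le ?_ (S.C.rgd.comm (-l1) rb r1.neg r3 sS.ne₁ sS.ne₂ a ha g3 h3)
    intro r hr
    rw [sS.btwn hr]
  have h6 : (a * d * a') * u * (a * d * a')⁻¹ = f * (g3 * u) := by
    calc (a * d * a') * u * (a * d * a')⁻¹ = a * (d * (a' * u * a'⁻¹) * d⁻¹) * a⁻¹ := by group
      _ = a * (g3 * u) * a⁻¹ := by rw [hca a' ha', mul_inv_cancel_right, hdu]
      _ = (a * g3 * a⁻¹) * (a * u * a⁻¹) := by group
      _ = _ := by rw [h4, hca a ha, mul_inv_cancel_right, mul_assoc]
  have h7 : (a * d * a') * u * (a * d * a')⁻¹ ∈ X ry := by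
    rw [← hn (-rx) ry rx'.neg (refl_eq r1 (-1) (by decide) (by decide) (by decide))]
    exact conj_mem_cj.2 hu
  rw [h6] at h7
  have z1 := S.zcent rx_mem ry' (by decide) h7
  have zf := S.zself' rx_mem hf
  rw [hdiv, hdiv, zf, z3, zu] at z1
  have h8 : g3⁻¹ = g3 := by
    have := mul_left_cancel z1
    exact mul_right_cancel this
  have h9 : g3 = 1 := S.eq_one r3 h3 h8.symm
  rw [h9, one_mul] at h7
  have h10 := S.inf rx'.neg ry' (by decide) (mul_mem hf hu) h7
  rw [h9, one_mul] at hdu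
  refine hu1 (S.inf rx'.neg ry' (by decide) hu ?_)
  have h11 : (a * d * a') * u * (a * d * a')⁻¹ = u := by
    calc (a * d * a') * u * (a * d * a')⁻¹ = a * (d * (a' * u * a'⁻¹) * d⁻¹) * a⁻¹ := by group
      _ = u := by rw [hca a' ha', mul_inv_cancel_right, hdu, hca a ha, mul_inv_cancel_right]
  rw [← h11, ← hn (-rx) ry rx'.neg (refl_eq r1 (-1) (by decide) (by decide) (by decide))]
  exact conj_mem_cj.2 hu

/-! ### `X (e₁+e₃)` -/

theorem zdiv {r : Fin 3 → ℤ} (hr : r ∈ RB 3) (a b : Y) : z r * (a * b) * z r = (z r * a * z r) * (z r * b * z r) := by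
  calc z r * (a * b) * z r = z r * a * 1 * b * z r := by group
    _ = z r * a * (z r * z r) * b * z r := by rw [S.zz r hr]
    _ = _ := by group

theorem zinv' {r : Fin 3 → ℤ} (hr : r ∈ RB 3) (a : Y) : z r * a⁻¹ * z r = (z r * a * z r)⁻¹ := by
  rw [mul_inv_rev, mul_inv_rev, S.zi r hr]; group

theorem zcomm {r : Fin 3 → ℤ} (hr : r ∈ RB 3) {a : Y} (h : z r * a * z r = a) : a * z r = z r * a := by
  nth_rewrite 1 [← h]
  rw [mul_assoc, S.zz r hr, mul_one]

/-- An element of `U` commuting with `t ∈ T` lies in every subgroup containing the root elements commuting with `t`. -/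
theorem mem_of_cent {t v : Y} (ht : t ∈ T) (hv : v ∈ RGD.Sup X (RGD.Pos cs (isCartan 3))) (hvt : v * t = t * v)
    {P : Subgroup Y} (hP : ∀ x, IsRoot cs (isCartan 3) x → 0 ≤ x → ∀ g ∈ X x, g * t = t * g → g ∈ P) : v ∈ P := by
  have h1 : v ∈ RGD.Sup (fun x => X x ⊓ Subgroup.centralizer {t}) (RGD.Pos cs (isCartan 3)) := by
    rw [← Cfsg.Agent.Nodes.NormalForm.centralizer_U S.C.rgd (Set.singleton_subset_iff.2 ht)]
    exact ⟨hv, Subgroup.mem_centralizer_singleton_iff.2 hvt⟩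
  refine (RGD.Sup_le (fun x hx => ?_)) h1
  rintro g ⟨hg, hgt⟩
  exact hP x hx.1 hx.2 g hg (Subgroup.mem_centralizer_singleton_iff.1 hgt)

theorem VV_le_U : VV cs (isCartan 3) X rr ≤ RGD.Sup X (RGD.Pos cs (isCartan 3)) := by
  rw [VV_eq_VJ dom_rr]
  exact VJ_le_U _

theorem mem_VV {r x : Fin 3 → ℤ} (hr : r ∈ RB 3) (hx : IsRoot cs (isCartan 3) x) (hq : 0 < q x r) {a : Y}
    (ha : a ∈ X x) : a ∈ VV cs (isCartan 3) X r := by
  refine RGD.le_Sup (S := {y | IsRoot cs (isCartan 3) y ∧ 0 < form cs (isCartan 3) y r}) ⟨hx, ?_⟩ ha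
  have h1 := (nonneg_iff (cs := cs) (x := x) (S.rB hr)).2 hq.le
  have h2 : form cs (isCartan 3) x r ≠ 0 := fun h0 => hq.ne' ((zero_iff (S.rB hr)).1 h0)
  omega

variable [Finite Y]

theorem sq_eq_one {v : Y} {r : Fin 3 → ℤ} (hv : v ∈ VV cs (isCartan 3) X r) {K : Subgroup Y} (h : v * v ∈ K) :
    v ∈ K := by
  have : Fact p.Prime := ⟨S.prime⟩
  refine mem_of_odd_sq S.C S.odd ?_ h
  have h1 := odd_card_VV S.C S.odd r
  have h2 : orderOf v ∣ Nat.card (VV cs (isCartan 3) X r) := by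
    rw [← Subgroup.orderOf_mk v hv]
    exact orderOf_dvd_natCard _
  exact h1.of_dvd_nat h2

/-- **The root group of `e₁ + e₃`.** -/
theorem mem_ry {v : Y} (hv : v ∈ VV cs (isCartan 3) X rr) (hv' : v ∈ VV cs (isCartan 3) X rs)
    (hvs : ∀ u ∈ X rs, v * u = u * v) (hvb : ∀ u ∈ X rb, v * u = u * v) (hz : z rr * v * z rr = v⁻¹) :
    v ∈ X ry := by
  have : Fact p.Prime := ⟨S.prime⟩
  have Rr := S.rB rr_mem
  have Rs := S.rB rs_mem
  have Ry := S.rB ry_mem
  have Rx := S.rB rx_mem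
  have Rp := S.rB pp_mem
  have Rm := S.rB mm_mem
  have Rb := S.rC rb_mem
  have R1 := S.rC l1_mem
  have R2 := S.rC l2_mem
  have zy := S.zz ry ry_mem
  set w := z ry * v * z ry with hw
  -- `w` is in the same groups
  have hzN : ∀ r : Fin 3 → ℤ, ∀ g ∈ VV cs (isCartan 3) X r, z ry * g * z ry ∈ VV cs (isCartan 3) X r := by
    intro r g hg
    have h1 : z ry ∈ Subgroup.normalizer (VV cs (isCartan 3) X r : Set Y) :=
      S.C.rgd.T_le_normalizer (fun _ hy => hy.1) (S.C.z_torus ry ry_mem)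
    have h2 := (Subgroup.mem_normalizer_iff.1 h1 g).1 hg
    rwa [S.zi ry ry_mem] at h2
  have hw1 : w ∈ VV cs (isCartan 3) X rr := hzN rr v hv
  have hw2 : w ∈ VV cs (isCartan 3) X rs := hzN rs v hv'
  have hvw : v * w = w * v := by
    have h1 : ⁅v, w⁆ ∈ Z rr := commutator_VV_le S.C S.odd rr_mem (Subgroup.commutator_mem_commutator hv hw1)
    have h2 : ⁅v, w⁆ ∈ Z rs := commutator_VV_le S.C S.odd rs_mem (Subgroup.commutator_mem_commutator hv' hw2)
    rw [← S.XZ rr rr_mem] at h1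
    rw [← S.XZ rs rs_mem] at h2
    exact commutatorElement_eq_one_iff_mul_comm.1 (S.inf Rr Rs (by decide) h1 h2)
  have hzw : z ry * w * z ry = v := by
    rw [hw]
    calc z ry * (z ry * v * z ry) * z ry = (z ry * z ry) * v * (z ry * z ry) := by group
      _ = v := by rw [zy, one_mul, mul_one]
  -- commutation with `X rs`, `X rb`
  have hwc : ∀ c : Fin 3 → ℤ, (∀ u ∈ X c, z ry * u * z ry ∈ X c) → (∀ u ∈ X c, v * u = u * v) →
      ∀ u ∈ X c, w * u = u * w := by
    intro c h1 h2 u hu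
    have h3 := h2 _ (h1 u hu)
    have h4 : z ry * (v * (z ry * u * z ry)) * z ry = z ry * ((z ry * u * z ry) * v) * z ry := by rw [h3]
    have h5 : z ry * (z ry * u * z ry) * z ry = u := by
      calc z ry * (z ry * u * z ry) * z ry = (z ry * z ry) * u * (z ry * z ry) := by group
        _ = u := by rw [zy, one_mul, mul_one]
    rw [S.zdiv ry_mem v, S.zdiv ry_mem (z ry * u * z ry) v, h5] at h4
    exact h4
  have hws := hwc rs (fun u hu => by
    rw [S.zinv ry_mem Rs (by decide) (by decide) (by decide) hu]; exact inv_mem hu) hvs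
  have hwb := hwc rb (fun u hu => by
    rw [S.zinv ry_mem Rb (by decide) (by decide) (by decide) hu]; exact inv_mem hu) hvb
  have hwi : z rr * w * z rr = w⁻¹ := by
    have h1 := z_comm S.C rr_mem ry_mem
    calc z rr * (z ry * v * z ry) * z rr = (z rr * z ry) * v * (z ry * z rr) := by group
      _ = (z ry * z rr) * v * (z rr * z ry) := by rw [h1]
      _ = z ry * (z rr * v * z rr) * z ry := by group
      _ = w⁻¹ := by rw [hz, S.zinv' ry_mem]
  -- the part centralised by `z ry`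
  have hA : v * w ∈ X ry := by
    have h1 : v * w ∈ X ry ⊔ (X rx ⊔ X l2) := by
      refine S.mem_of_cent (S.C.z_torus ry ry_mem) (S.VV_le_U (mul_mem hv hw1)) ?_ ?_
      · refine S.zcomm ry_mem ?_
        rw [S.zdiv ry_mem, ← hw, hzw, hvw]
      · intro x hx h0 g hg hgt
        have hfix : z ry * g * z ry = g := by rw [← hgt, mul_assoc, zy, mul_one]
        have hk : x ≠ ry → x ≠ -ry → q x ry ≠ 0 → g ∈ X ry ⊔ (X rx ⊔ X l2) := by
          intro h1 h2 h3
          have h4 := S.zinv ry_mem hx h1 h2 h3 hg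
          rw [hfix] at h4
          rw [S.eq_one hx hg h4]
          exact one_mem _
        rcases pos_cases cs hx h0 with e | e | e | e | e | e | e | e | e
        · subst e; exact hk (by decide) (by decide) (by decide)
        · subst e; exact hk (by decide) (by decide) (by decide)
        · subst e; exact hk (by decide) (by decide) (by decide)
        · subst e; exact le_sup_left (a := X ry) hg
        · subst e; exact (le_sup_left.trans le_sup_right : X rx ≤ X ry ⊔ (X rx ⊔ X l2)) hg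
        · subst e; exact hk (by decide) (by decide) (by decide)
        · subst e; exact (le_sup_right.trans le_sup_right : X l2 ≤ X ry ⊔ (X rx ⊔ X l2)) hg
        · subst e; exact hk (by decide) (by decide) (by decide)
        · subst e; exact hk (by decide) (by decide) (by decide)
    have cxy : ∀ a ∈ X rx, ∀ b ∈ X ry, a * b = b * a := fun a ha b hb => S.cent ry_mem Rx (by decide) ha hb
    have c2y : ∀ a ∈ X l2, ∀ b ∈ X ry, a * b = b * a := fun a ha b hb => S.cent ry_mem R2 (by decide) ha hb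
    have c2x : ∀ a ∈ X l2, ∀ b ∈ X rx, a * b = b * a := fun a ha b hb => S.cent rx_mem R2 (by decide) ha hb
    obtain ⟨gy, hgy, g', hg', e1⟩ := mem_sup_of_cm (K := X ry) (L := X rx ⊔ X l2) (by
      intro a ha b hb
      have h2 : X rx ⊔ X l2 ≤ Subgroup.centralizer (X ry : Set Y) := by
        refine sup_le (fun b hb => ?_) (fun b hb => ?_)
        · exact Subgroup.mem_centralizer_iff.2 fun a ha => (cxy b hb a ha).symm
        · exact Subgroup.mem_centralizer_iff.2 fun a ha => (c2y b hb a ha).symm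
      exact Subgroup.mem_centralizer_iff.1 (h2 hb) a ha) h1
    obtain ⟨gx, hgx, g2, hg2, e2⟩ := mem_sup_of_cm (K := X rx) (L := X l2)
      (fun a ha b hb => (c2x b hb a ha).symm) hg'
    -- `g2 = 1`
    have hc : ∀ u ∈ X rs, (v * w) * u = u * (v * w) := fun u hu => by
      rw [mul_assoc, hws u hu, ← mul_assoc, hvs u hu, mul_assoc]
    have hc' : ∀ u ∈ X rb, (v * w) * u = u * (v * w) := fun u hu => by
      rw [mul_assoc, hwb u hu, ← mul_assoc, hvb u hu, mul_assoc]
    have h2 : g2 = 1 := by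
      obtain ⟨u, hu, hu1⟩ := S.ex Rs
      refine S.kill R2 Rs (refl_eq Rs (-2) (by decide) (by decide) (by decide) : _ = l1) R1 (by decide) hg2 hu hu1 ?_
        (fun a ha => S.cent (S.neg_mem rs_mem) R2 (by decide) hg2 ha)
      have h3 := hc u hu
      rw [e1, e2] at h3
      have k1 : gy * u = u * gy := S.cent rs_mem Ry (by decide) hgy hu
      have k2 : gx * u = u * gx := S.cent rs_mem Rx (by decide) hgx hu
      have h4 : gy * (gx * (g2 * u)) = gy * (gx * (u * g2)) := by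
        calc gy * (gx * (g2 * u)) = gy * (gx * g2) * u := by group
          _ = u * (gy * (gx * g2)) := h3
          _ = (u * gy) * gx * g2 := by group
          _ = gy * (u * gx) * g2 := by rw [← k1]; group
          _ = _ := by rw [← k2]; group
      exact mul_left_cancel (mul_left_cancel h4)
    have h3 : gx = 1 := by
      obtain ⟨u, hu, hu1⟩ := S.ex Rb
      refine S.kill Rx Rb (refl_eq Rb (-1) (by decide) (by decide) (by decide) : _ = ry) Ry (by decide) hgx hu hu1 ?_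
        (fun a ha => (S.cent rx_mem Rb.neg (by decide) ha hgx).symm)
      have h3 := hc' u hu
      rw [e1, e2, h2, mul_one] at h3
      have k1 : gy * u = u * gy := (S.cent ry_mem Rb (by decide) hu hgy).symm
      have h4 : gy * (gx * u) = gy * (u * gx) := by
        rw [← mul_assoc, h3, ← mul_assoc, ← mul_assoc, k1]
      exact mul_left_cancel h4
    rw [e1, e2, h2, h3, mul_one, mul_one]
    exact hgy
  -- the part inverted by `z ry`
  have hB : v * w⁻¹ = 1 := by
    set d := v * w⁻¹ with hd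
    have hd1 : z ry * d * z ry = d⁻¹ := by
      rw [hd, S.zdiv ry_mem, ← hw, S.zinv' ry_mem, hzw]; group
    have hd2 : z rr * d * z rr = d⁻¹ := by
      rw [hd, S.zdiv rr_mem, hz, S.zinv' rr_mem, hwi, inv_inv, mul_inv_rev, inv_inv, inv_mul_eq_iff_eq_mul,
        ← mul_assoc, hvw, mul_inv_cancel_right]
    have h1 : d ∈ X l1 ⊔ (X pp ⊔ X mm) := by
      refine S.mem_of_cent (t := z rr * z ry) (mul_mem (S.C.z_torus rr rr_mem) (S.C.z_torus ry ry_mem))
        (S.VV_le_U (mul_mem hv (inv_mem hw1))) ?_ ?_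
      · have h2 : z rr * (z ry * d * z ry) * z rr = d := by rw [hd1, S.zinv' rr_mem, hd2, inv_inv]
        have h3 : d * (z rr * z ry) = z rr * (z ry * d * z ry) * z rr * (z rr * z ry) := by rw [h2]
        rw [h3]
        calc z rr * (z ry * d * z ry) * z rr * (z rr * z ry) = z rr * z ry * d * z ry * (z rr * z rr) * z ry := by
              group
          _ = z rr * z ry * d * (z ry * z ry) := by rw [S.zz rr rr_mem]; group
          _ = _ := by rw [zy, mul_one]
      · intro x hx h0 g hg hgt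
        have hfix : z rr * (z ry * g * z ry) * z rr = g := by
          have h3 := z_comm S.C rr_mem ry_mem
          calc z rr * (z ry * g * z ry) * z rr = (z rr * z ry) * g * (z ry * z rr) := by group
            _ = g * (z rr * z ry) * (z ry * z rr) := by rw [hgt]
            _ = g * z rr * (z ry * z ry) * z rr := by group
            _ = g * (z rr * z rr) := by rw [zy]; group
            _ = g := by rw [S.zz rr rr_mem, mul_one]
        have ky : x ≠ ry → x ≠ -ry → q x ry ≠ 0 → (∀ a ∈ X x, z rr * a * z rr = a) →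
            g ∈ X l1 ⊔ (X pp ⊔ X mm) := by
          intro h1 h2 h3 h4
          rw [S.zinv ry_mem hx h1 h2 h3 hg, h4 _ (inv_mem hg)] at hfix
          rw [S.eq_one hx hg hfix.symm]
          exact one_mem _
        have kr : x ≠ rr → x ≠ -rr → q x rr ≠ 0 → (∀ a ∈ X x, z ry * a * z ry = a) →
            g ∈ X l1 ⊔ (X pp ⊔ X mm) := by
          intro h1 h2 h3 h4
          rw [h4 _ hg, S.zinv rr_mem hx h1 h2 h3 hg] at hfix
          rw [S.eq_one hx hg hfix.symm]
          exact one_mem _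
        rcases pos_cases cs hx h0 with e | e | e | e | e | e | e | e | e
        · subst e; exact ky (by decide) (by decide) (by decide) fun a ha => S.zself rr_mem ha
        · subst e; exact ky (by decide) (by decide) (by decide) fun a ha => S.zcent rr_mem Rs (by decide) ha
        · subst e; exact ky (by decide) (by decide) (by decide) fun a ha => S.zcent rr_mem Rb (by decide) ha
        · subst e; exact kr (by decide) (by decide) (by decide) fun a ha => S.zself ry_mem ha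
        · subst e; exact kr (by decide) (by decide) (by decide) fun a ha => S.zcent ry_mem Rx (by decide) ha
        · subst e; exact le_sup_left (a := X l1) hg
        · subst e; exact kr (by decide) (by decide) (by decide) fun a ha => S.zcent ry_mem R2 (by decide) ha
        · subst e; exact (le_sup_left.trans le_sup_right : X pp ≤ X l1 ⊔ (X pp ⊔ X mm)) hg
        · subst e; exact (le_sup_right.trans le_sup_right : X mm ≤ X l1 ⊔ (X pp ⊔ X mm)) hg
    have cp1 : ∀ a ∈ X l1, ∀ b ∈ X pp, a * b = b * a := fun a ha b hb => S.cent pp_mem R1 (by decide) ha hb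
    have cm1 : ∀ a ∈ X l1, ∀ b ∈ X mm, a * b = b * a := fun a ha b hb => S.cent mm_mem R1 (by decide) ha hb
    have cpm : ∀ a ∈ X pp, ∀ b ∈ X mm, a * b = b * a := fun a ha b hb => S.cent mm_mem Rp (by decide) ha hb
    obtain ⟨g1, hg1, g', hg', e1⟩ := mem_sup_of_cm (K := X l1) (L := X pp ⊔ X mm) (by
      intro a ha b hb
      have h2 : X pp ⊔ X mm ≤ Subgroup.centralizer (X l1 : Set Y) := by
        refine sup_le (fun b hb => ?_) (fun b hb => ?_)
        · exact Subgroup.mem_centralizer_iff.2 fun a ha => cp1 a ha b hb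
        · exact Subgroup.mem_centralizer_iff.2 fun a ha => cm1 a ha b hb
      exact Subgroup.mem_centralizer_iff.1 (h2 hb) a ha) h1
    obtain ⟨gp, hgp, gm, hgm, e2⟩ := mem_sup_of_cm (K := X pp) (L := X mm) cpm hg'
    have hcs : ∀ u ∈ X rs, d * u = u * d := fun u hu => by
      have k1 : w⁻¹ * u = u * w⁻¹ := by
        rw [inv_mul_eq_iff_eq_mul, ← mul_assoc, hws u hu, mul_inv_cancel_right]
      rw [hd, mul_assoc, k1, ← mul_assoc, hvs u hu, mul_assoc]
    have hcb : ∀ u ∈ X rb, d * u = u * d := fun u hu => by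
      have k1 : w⁻¹ * u = u * w⁻¹ := by
        rw [inv_mul_eq_iff_eq_mul, ← mul_assoc, hwb u hu, mul_inv_cancel_right]
      rw [hd, mul_assoc, k1, ← mul_assoc, hvb u hu, mul_assoc]
    have hg'1 : g' = 1 := by
      obtain ⟨u, hu, hu1⟩ := S.ex Rs
      have h3 : g' * u = u * g' := by
        have h4 := hcs u hu
        have k1 : g1 * u = u * g1 := S.cent rs_mem R1 (by decide) hg1 hu
        rw [e1] at h4
        have h5 : g1 * (g' * u) = g1 * (u * g') := by
          rw [← mul_assoc, h4, ← mul_assoc, ← mul_assoc, k1]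
        exact mul_left_cancel h5
      obtain ⟨b, hb, b', hb', hn⟩ := S.exists_n Rs hu hu1
      have h4 : ∀ a ∈ X (-rs), g' * a = a * g' := by
        intro a ha
        have k1 : gp * a = a * gp := S.cent (S.neg_mem rs_mem) Rp (by decide) hgp ha
        have k2 : gm * a = a * gm := S.cent (S.neg_mem rs_mem) Rm (by decide) hgm ha
        rw [e2, mul_assoc, k2, ← mul_assoc, k1, mul_assoc]
      have h5 : g' * (b * u * b') = (b * u * b') * g' := by
        calc g' * (b * u * b') = (g' * b) * u * b' := by group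
          _ = b * (g' * u) * b' := by rw [h4 b hb]; group
          _ = b * u * (g' * b') := by rw [h3]; group
          _ = _ := by rw [h4 b' hb']; group
      have h6 : g' ∈ X ry ⊔ X rx := by
        have h7 : (b * u * b') * g' * (b * u * b')⁻¹ ∈ cj (b * u * b') (X pp ⊔ X mm) :=
          conj_mem_cj.2 hg'
        rw [cj_sup, hn pp ry Rp (refl_eq Rs (-1) (by decide) (by decide) (by decide)),
          hn mm rx Rm (refl_eq Rs (-1) (by decide) (by decide) (by decide)), ← h5, mul_inv_cancel_right] at h7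
        exact h7
      have cxy : ∀ a ∈ X ry, ∀ b ∈ X rx, a * b = b * a := fun a ha b hb => S.cent rx_mem Ry (by decide) ha hb
      obtain ⟨k1, hk1, k2, hk2, e3⟩ := mem_sup_of_cm cxy h6
      have h8 : z ry * g' * z ry = g' := by
        rw [e3, S.zdiv ry_mem, S.zself ry_mem hk1, S.zcent ry_mem Rx (by decide) hk2]
      have h9 : z ry * g' * z ry = g'⁻¹ := by
        rw [e2, S.zdiv ry_mem, S.zinv ry_mem Rp (by decide) (by decide) (by decide) hgp,
          S.zinv ry_mem Rm (by decide) (by decide) (by decide) hgm, cpm gp hgp gm hgm, mul_inv_rev]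
      have hgV : g' ∈ VV cs (isCartan 3) X rr := by
        rw [e2]
        exact mul_mem (S.mem_VV rr_mem Rp (by decide) hgp) (S.mem_VV rr_mem Rm (by decide) hgm)
      have h10 : g' * g' ∈ (⊥ : Subgroup Y) := by
        rw [Subgroup.mem_bot, ← mul_inv_cancel g', ← h9, h8]
      exact Subgroup.mem_bot.1 (S.sq_eq_one hgV h10)
    rw [hg'1, mul_one] at e1
    rw [e1] at hcb ⊢
    exact S.short hg1 hcb
  have hwv : w = v := by
    rw [mul_inv_eq_one] at hB
    exact hB.symm
  rw [hwv] at hA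
  exact S.sq_eq_one hv hA

/-- Elements commuting with `X (e₁+e₂)`, `X (e₁-e₂)`, `X e₃`. -/
theorem comm_mem_ry {w : Y} (h1 : ∀ u ∈ X rr, w * u = u * w) (h2 : ∀ u ∈ X rs, w * u = u * w)
    (h3 : ∀ u ∈ X rb, w * u = u * w) : w * z rr * w⁻¹ * z rr ∈ X ry := by
  have : Fact p.Prime := ⟨S.prime⟩
  have hGG : ∀ g : Y, g ∈ GG cs (isCartan 3) T X := by
    intro g
    have h4 : G1 cs (isCartan 3) X ≤ GG cs (isCartan 3) T X := le_sup_right
    rw [S.gen] at h4
    exact h4 (Subgroup.mem_top g)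
  have hN : ∀ r : Fin 3 → ℤ, r ∈ RB 3 → (∀ u ∈ X r, w * u = u * w) → w ∈ Subgroup.normalizer (Z r : Set Y) := by
    intro r hr hc
    rw [← S.XZ r hr]
    refine Subgroup.mem_normalizer_iff.2 fun u => ⟨fun hu => ?_, fun hu => ?_⟩
    · rw [hc u hu, mul_inv_cancel_right]; exact hu
    · have h4 := hc _ hu
      have h5 : u = w⁻¹ * (w * u * w⁻¹) * w := by group
      rw [h5]
      have h6 : w⁻¹ * (w * u * w⁻¹) * w = w * u * w⁻¹ := by
        rw [mul_assoc, ← h4, inv_mul_cancel_left]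
      rw [h6]; exact hu
  have e1 := comm_mem_VV S.C rr_mem (hGG w) (hN rr rr_mem h1)
  have e2 := comm_mem_VV S.C rs_mem (hGG w) (hN rs rs_mem h2)
  rw [S.zi rr rr_mem] at e1
  rw [S.zi rs rs_mem] at e2
  have hc := S.cen
  have e3 : w * z rr * w⁻¹ * z rr = w * z rs * w⁻¹ * z rs := by
    have k1 : z rr = (z rr * z rs) * z rs := by rw [mul_assoc, S.zz rs rs_mem, mul_one]
    have k2 : (z rr * z rs) * (z rr * z rs) = 1 := by
      rw [hc (z rr * z rs)]
      have := z_comm S.C rr_mem rs_mem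
      calc z rr * z rs * (z rr * z rs) = z rr * (z rs * z rr) * z rs := by group
        _ = (z rr * z rr) * (z rs * z rs) := by rw [← this]; group
        _ = 1 := by rw [S.zz rr rr_mem, S.zz rs rs_mem, mul_one]
    calc w * z rr * w⁻¹ * z rr = w * ((z rr * z rs) * z rs) * w⁻¹ * ((z rr * z rs) * z rs) := by rw [← k1]
      _ = (w * (z rr * z rs)) * (z rs * w⁻¹) * (z rr * z rs) * z rs := by group
      _ = (z rr * z rs) * (w * (z rs * w⁻¹) * (z rr * z rs)) * z rs := by rw [← hc w]; group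
      _ = ((z rr * z rs) * (z rr * z rs)) * (w * (z rs * w⁻¹)) * z rs := by rw [← hc (w * (z rs * w⁻¹))]; group
      _ = _ := by rw [k2]; group
  rw [← e3] at e2
  refine S.mem_ry e1 e2 ?_ ?_ ?_
  · intro u hu
    have k1 := h2 u hu
    have k2 : z rr * u = u * z rr := (S.zcomm rr_mem (S.zcent rr_mem (S.rB rs_mem) (by decide) hu)).symm
    have k3 : w⁻¹ * u = u * w⁻¹ := by
      rw [inv_mul_eq_iff_eq_mul, ← mul_assoc, k1, mul_inv_cancel_right]
    calc w * z rr * w⁻¹ * z rr * u = w * z rr * w⁻¹ * (z rr * u) := by group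
      _ = w * z rr * (w⁻¹ * u) * z rr := by rw [k2]; group
      _ = w * (z rr * u) * w⁻¹ * z rr := by rw [k3]; group
      _ = (w * u) * z rr * w⁻¹ * z rr := by rw [k2]; group
      _ = _ := by rw [k1]; group
  · intro u hu
    have k1 := h3 u hu
    have k2 : z rr * u = u * z rr := (S.zcomm rr_mem (S.zcent rr_mem (S.rC rb_mem) (by decide) hu)).symm
    have k3 : w⁻¹ * u = u * w⁻¹ := by
      rw [inv_mul_eq_iff_eq_mul, ← mul_assoc, k1, mul_inv_cancel_right]
    calc w * z rr * w⁻¹ * z rr * u = w * z rr * w⁻¹ * (z rr * u) := by group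
      _ = w * z rr * (w⁻¹ * u) * z rr := by rw [k2]; group
      _ = w * (z rr * u) * w⁻¹ * z rr := by rw [k3]; group
      _ = (w * u) * z rr * w⁻¹ * z rr := by rw [k2]; group
      _ = _ := by rw [k1]; group
  · calc z rr * (w * z rr * w⁻¹ * z rr) * z rr = z rr * w * z rr * w⁻¹ * (z rr * z rr) := by group
      _ = z rr * w * z rr * w⁻¹ := by rw [S.zz rr rr_mem, mul_one]
      _ = (z rr)⁻¹ * w * (z rr)⁻¹ * w⁻¹ := by rw [S.zi rr rr_mem]
      _ = _ := by group

/-- **An endomorphism fixing `z (e₁+e₂)`, whose image on `X (e₁+e₂)`, `X (e₁-e₂)`, `X e₃` contains these groups, maps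
`X (e₁+e₃)` into itself.** -/
theorem map_ry (f : Y →* Y) (hz : f (z rr) = z rr) (h1 : ∀ u ∈ X rr, ∃ v ∈ X rr, f v = u)
    (h2 : ∀ u ∈ X rs, ∃ v ∈ X rs, f v = u) (h3 : ∀ u ∈ X rb, ∃ v ∈ X rb, f v = u) {x : Y} (hx : x ∈ X ry) :
    f x ∈ X ry := by
  have Ry := S.rB ry_mem
  -- `x = u * u`
  obtain ⟨u, hu, e⟩ : ∃ u ∈ X ry, u * u = x := by
    have : Fact p.Prime := ⟨S.prime⟩
    obtain ⟨k, hk⟩ := odd_of_mem_X S.C S.odd Ry hx
    refine ⟨x ^ (k + 1), pow_mem hx _, ?_⟩
    rw [← pow_add]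
    have h4 : k + 1 + (k + 1) = orderOf x + 1 := by omega
    rw [h4, pow_succ, pow_orderOf_eq_one, one_mul]
  have h4 := S.comm_mem_ry (w := f u) (fun a ha => by
    obtain ⟨b, hb, rfl⟩ := h1 a ha
    rw [← map_mul, S.cent rr_mem Ry (by decide) hu hb, map_mul]) (fun a ha => by
    obtain ⟨b, hb, rfl⟩ := h2 a ha
    rw [← map_mul, S.cent rs_mem Ry (by decide) hu hb, map_mul]) (fun a ha => by
    obtain ⟨b, hb, rfl⟩ := h3 a ha
    rw [← map_mul, ← S.cent ry_mem (S.rC rb_mem) (by decide) hb hu, map_mul])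
  have h5 : f u * z rr * (f u)⁻¹ * z rr = f x := by
    have h6 := S.zinv rr_mem Ry (by decide) (by decide) (by decide) (inv_mem hu)
    rw [inv_inv] at h6
    calc f u * z rr * (f u)⁻¹ * z rr = f (u * (z rr * u⁻¹ * z rr)) := by
          simp only [map_mul, map_inv, hz]; group
      _ = f x := by rw [h6, e]
  rw [← h5]
  exact h4

end Std

end Cfsg.Agent.OddHalf.NI.AutB3Std
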