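import Mathlib
import Cfsg.Agent.Cit.ParabSL2
import Cfsg.Agent.TwoFusion.QuatCoverSL
import Cfsg.Agent.Nodes.GenBase
import Cfsg.Agent.OddHalf.NI.AutB3Std

/-!
# (K5) : automorphisms of a chart group of type `B₃` trivial on `A`, `B`, `A'` (node NI)

* `exists_torus` : the torus of `K ≅ SL₂(F)` normalising a given `P ≤ K` of order `|F|`;
* `eq_one_of_fix` : an automorphism trivial on `⟨X (±(e₁+e₂))⟩`, `⟨X (±(e₁-e₂))⟩`, `⟨X (±e₃)⟩` and `X (e₁+e₃)` is trivial;
* `aut_eq` : `S : Std ...`, `⟨X (±(e₁+e₂))⟩ ≅ SL₂(F)`, `|F|` odd (3 included): `α` trivial on `⟨X (±(e₁+e₂))⟩`,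
  `⟨X (±(e₁-e₂))⟩`, `⟨X (±e₃)⟩` is `1` or the conjugation by `z (e₁+e₂)`; `aut_sq : α ^ 2 = 1`.
-/

set_option autoImplicit false
set_option linter.unusedSectionVars false
set_option linter.dupNamespace false

namespace Cfsg.Agent.OddHalf.NI.AutB3

open CoxeterSystem Cfsg.Agent.ChevalleyStructure.CoxeterGeom Cfsg.Agent.Tits.Roots Cfsg.Agent.Tits.Core
  Cfsg.Agent.Tits.RootComb Cfsg.Agent.Nodes.Comb Cfsg.Agent.Nodes.Reps Cfsg.Agent.Nodes.BNOf
  Cfsg.Agent.Nodes.RGDLib Cfsg.Agent.Nodes.Chart Cfsg.Agent.Nodes.Coroot Cfsg.Agent.Nodes.Perp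
  Cfsg.Agent.Nodes.ZRel Cfsg.Agent.Nodes.TypeC Cfsg.Agent.Nodes.TypeCForm Cfsg.Agent.Nodes.KindBC
  Cfsg.Agent.Nodes.ShortSum Cfsg.Agent.Nodes.ChartLoc Cfsg.Agent.Nodes.Bruhat Cfsg.Agent.Nodes.LeviDec
  Cfsg.Agent.OddHalf.NI.AutB3Comb Cfsg.Agent.OddHalf.NI.AutB3Std
open Cfsg.Agent.Lib.SL2Mat
open scoped commutatorElement

section Torus

variable {Y F : Type*} [Group Y] [Field F] [Fintype F]

theorem dg_up (l : Fˣ) (b : F) : dg (l : F) l.ne_zero * up b * (dg (l : F) l.ne_zero)⁻¹ = up (l * l * b) := by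
  have h0 := l.ne_zero
  rw [mul_inv_eq_iff_eq_mul]
  refine ext_ent ?_ ?_ ?_ ?_ <;> simp only [ent_mul, dg_00, dg_01, dg_10, dg_11, up_00, up_01, up_10, up_11] <;>
    field_simp <;> ring

theorem dg_mul (l m : Fˣ) : dg (l : F) l.ne_zero * dg (m : F) m.ne_zero = dg ((l * m : Fˣ) : F) (l * m).ne_zero := by
  refine ext_ent ?_ ?_ ?_ ?_ <;> simp only [ent_mul, dg_00, dg_01, dg_10, dg_11, Units.val_mul]
  · ring
  · ring
  · ring
  · rw [mul_inv]; ring

theorem dg_one : dg ((1 : Fˣ) : F) (1 : Fˣ).ne_zero = 1 := by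
  refine ext_ent ?_ ?_ ?_ ?_ <;> simp

/-- The torus as a homomorphism. -/
def dgh : Fˣ →* Matrix.SpecialLinearGroup (Fin 2) F where
  toFun l := dg (l : F) l.ne_zero
  map_one' := dg_one
  map_mul' l m := (dg_mul l m).symm

/-- The torus of `K ≅ SL₂(F)` normalising `P`. -/
theorem exists_torus {K P : Subgroup Y} (e : Matrix.SpecialLinearGroup (Fin 2) F ≃* K) (hP : P ≤ K)
    (hc : Nat.card P = Fintype.card F) : ∃ t : Fˣ →* Y, Function.Injective t ∧ (∀ l, t l ∈ K) ∧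
      (∀ l, ∀ g ∈ P, t l * g * (t l)⁻¹ ∈ P) ∧ ∀ l, ∀ g ∈ P, g ≠ 1 → t l * g = g * t l → l * l = 1 := by
  obtain ⟨k, hk, hkP⟩ := Cfsg.Agent.Cit.ParabSL2.exists_conj_root e hP hc
  let t : Fˣ →* Y := (MulAut.conj k).toMonoidHom.comp (K.subtype.comp (e.toMonoidHom.comp dgh))
  have ht : ∀ l, t l = k * (e (dg (l : F) l.ne_zero) : Y) * k⁻¹ := fun l => rfl
  have hmem : ∀ g ∈ P, ∃ b : F, g = k * (e (up b) : Y) * k⁻¹ := by
    intro g hg
    rw [← hkP, Cfsg.Agent.Cit.mem_cj] at hg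
    obtain ⟨b, hb⟩ := Cfsg.Agent.Cit.ParabSL2.mem_root.1 hg
    exact ⟨b, by rw [hb]; group⟩
  have hcj : ∀ l (b : F), t l * (k * (e (up b) : Y) * k⁻¹) * (t l)⁻¹ = k * (e (up (l * l * b)) : Y) * k⁻¹ := by
    intro l b
    rw [← dg_up, map_mul, map_mul, map_inv, Subgroup.coe_mul, Subgroup.coe_mul, Subgroup.coe_inv, ht]
    group
  refine ⟨t, ?_, fun l => ?_, fun l g hg => ?_, fun l g hg hg1 hcm => ?_⟩
  · rw [injective_iff_map_eq_one]
    intro l hl
    rw [ht] at hl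
    have h1 : (e (dg (l : F) l.ne_zero) : Y) = 1 := by
      have h2 : (e (dg (l : F) l.ne_zero) : Y) = k⁻¹ * (k * (e (dg (l : F) l.ne_zero) : Y) * k⁻¹) * k := by group
      rw [h2, hl]; group
    have h3 : dg (l : F) l.ne_zero = 1 := e.injective (Subtype.ext (by rw [h1, map_one]; rfl))
    have h4 := congrArg (fun g => ent g 0 0) h3
    simp only [dg_00, ent_one_00] at h4
    exact Units.ext h4
  · rw [ht]
    exact mul_mem (mul_mem hk (e _).2) (inv_mem hk)
  · obtain ⟨b, rfl⟩ := hmem g hg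
    rw [hcj, ← hkP, Cfsg.Agent.Cit.mem_cj]
    refine Cfsg.Agent.Cit.ParabSL2.mem_root.2 ⟨l * l * b, ?_⟩
    group
  · obtain ⟨b, rfl⟩ := hmem g hg
    have h1 := hcj l b
    rw [hcm, mul_inv_cancel_right] at h1
    have h2 : (e (up b) : Y) = e (up (l * l * b)) := mul_left_cancel (mul_right_cancel h1)
    have h3 := up_inj (e.injective (Subtype.ext h2))
    have hb : b ≠ 0 := by
      rintro rfl
      apply hg1
      rw [up_zero, map_one]; simp
    have h4 : (l : F) * l = 1 := by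
      have : 1 * b = (l * l : F) * b := by rw [one_mul]; exact h3
      exact (mul_right_cancel₀ hb this).symm
    exact Units.ext (by rw [Units.val_mul, h4, Units.val_one])

/-- Two involutions of `K ≅ SL₂(F)` are equal. -/
theorem inv_unique {K : Subgroup Y} (e : Matrix.SpecialLinearGroup (Fin 2) F ≃* K) (hF : Odd (Fintype.card F))
    {a b : Y} (ha : a ∈ K) (hb : b ∈ K) (ha2 : a * a = 1) (hb2 : b * b = 1) (ha1 : a ≠ 1) (hb1 : b ≠ 1) : a = b := by
  have key : ∀ a (ha : a ∈ K), a * a = 1 → a ≠ 1 → e.symm ⟨a, ha⟩ = -1 := by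
    intro a ha h2 h1
    refine Cfsg.Agent.TwoFusion.QuatCoverSL.eq_neg_one_of_orderOf_two hF _ ?_
    refine orderOf_eq_prime ?_ ?_
    · rw [← map_pow, pow_two]
      have : (⟨a, ha⟩ : K) * ⟨a, ha⟩ = 1 := Subtype.ext h2
      rw [this, map_one]
    · intro h
      rw [MulEquiv.map_eq_one_iff] at h
      exact h1 (congrArg Subtype.val h)
  have h1 := (key a ha ha2 ha1).trans (key b hb hb2 hb1).symm
  exact congrArg Subtype.val (e.symm.injective h1)

end Torus

variable {W Y : Type*} [Group W] [Fintype W] [Group Y] [Finite Y]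
  {cs : CoxeterSystem (CoxeterMatrix.B 3) W} {p : ℕ} {T : Subgroup Y} {nn : Fin 3 → Y}
  {X Z : (Fin 3 → ℤ) → Subgroup Y} {z : (Fin 3 → ℤ) → Y} (S : Std cs p T nn X Z z)

include S

/-- A subgroup containing the root groups of `± (e₁-e₂)`, `± e₃`, `± (e₂-e₃)` is the whole group. -/
theorem eq_top {P : Subgroup Y} (h1 : X rs ≤ P) (h1' : X (-rs) ≤ P) (h2 : X mm ≤ P) (h2' : X (-mm) ≤ P)
    (h3 : X rb ≤ P) (h3' : X (-rb) ≤ P) : P = ⊤ := by
  rw [eq_top_iff, ← S.gen]
  refine RGD.Sup_le fun x hx => ?_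
  refine Cfsg.Agent.Nodes.GenBase.gen_of_cartan cs (isCartan 3) (β := fun i => sr i)
    (fun i => isRoot_sr cs (isCartan 3) i) (fun i j => ?_) S.C.rgd (fun j => ?_) x hx
  · rw [cpr_sr]
    unfold pairing
    rw [Finset.sum_eq_single j]
    · rw [sr_self, mul_one]
    · intro k _ hk
      rw [sr_ne hk, mul_zero]
    · intro h0; exact absurd (Finset.mem_univ _) h0
  · fin_cases j
    · change X (sr 0) ≤ P ∧ X (-sr 0) ≤ P
      rw [sr0]; exact ⟨h1, h1'⟩
    · change X (sr 1) ≤ P ∧ X (-sr 1) ≤ P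
      rw [sr1]; exact ⟨h2, h2'⟩
    · change X (sr 2) ≤ P ∧ X (-sr 2) ≤ P
      rw [sr2]; exact ⟨h3, h3'⟩

variable {F : Type*} [Field F] [Fintype F]

/-- The element `n` of `⟨X (±(e₁-e₂))⟩ ⟨X (±e₃)⟩` with `n (X (e₁+e₃)) n⁻¹ = X (e₂-e₃)`. -/
theorem exists_nm : ∃ m₁ ∈ X rs ⊔ X (-rs), ∃ m₂ ∈ X rb ⊔ X (-rb), cj (m₁ * m₂) (X ry) = X mm := by
  have Rs := S.rB rs_mem
  have Ry := S.rB ry_mem
  have Rx := S.rB rx_mem
  have Rb := S.rC rb_mem
  obtain ⟨u, hu, hu1⟩ := S.ex Rb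
  obtain ⟨a, ha, a', ha', h1⟩ := S.exists_n Rb hu hu1
  obtain ⟨v, hv, hv1⟩ := S.ex Rs
  obtain ⟨b, hb, b', hb', h2⟩ := S.exists_n Rs hv hv1
  refine ⟨b * v * b', ?_, a * u * a', ?_, ?_⟩
  · exact mul_mem (mul_mem (le_sup_right (a := X rs) hb) (le_sup_left (a := X rs) hv)) (le_sup_right (a := X rs) hb')
  · exact mul_mem (mul_mem (le_sup_right (a := X rb) ha) (le_sup_left (a := X rb) hu)) (le_sup_right (a := X rb) ha')
  · rw [cj_mul, h1 ry rx Ry (refl_eq Rb 1 (by decide) (by decide) (by decide)),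
      h2 rx mm Rx (refl_eq Rs 1 (by decide) (by decide) (by decide))]

/-- Generation. -/
theorem eq_one_of_fix (α : MulAut Y)
    (hB : ∀ g ∈ X rr ⊔ X (-rr), α g = g) (hA' : ∀ g ∈ X rs ⊔ X (-rs), α g = g)
    (hA : ∀ g ∈ X rb ⊔ X (-rb), α g = g) (hy : ∀ g ∈ X ry, α g = g) : α = 1 := by
  have Rr := S.rB rr_mem
  have Ry := S.rB ry_mem
  let P : Subgroup Y := α.toMonoidHom.eqLocus (MonoidHom.id Y)
  have hP : ∀ g, g ∈ P ↔ α g = g := fun g => Iff.rfl
  obtain ⟨m₁, hm₁, m₂, hm₂, hn⟩ := exists_nm S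
  have hnP : m₁ * m₂ ∈ P := mul_mem ((hP _).2 (hA' _ hm₁)) ((hP _).2 (hA _ hm₂))
  have hryP : X ry ≤ P := fun g hg => (hP g).2 (hy g hg)
  have htop : P = ⊤ := by
    refine eq_top S (fun g hg => (hP g).2 (hA' g (le_sup_left (a := X rs) hg)))
      (fun g hg => (hP g).2 (hA' g (le_sup_right (a := X rs) hg))) ?_ ?_
      (fun g hg => (hP g).2 (hA g (le_sup_left (a := X rb) hg)))
      (fun g hg => (hP g).2 (hA g (le_sup_right (a := X rb) hg)))
    · intro g hg
      rw [← hn, mem_cj] at hg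
      have h1 : g = (m₁ * m₂) * ((m₁ * m₂)⁻¹ * g * (m₁ * m₂)) * (m₁ * m₂)⁻¹ := by group
      rw [h1]
      exact mul_mem (mul_mem hnP (hryP hg)) (inv_mem hnP)
    · obtain ⟨u, hu, hu1⟩ := S.ex Rr
      obtain ⟨a, ha, a', ha', h1⟩ := S.exists_n Rr hu hu1
      have m1 : a * u * a' ∈ X rr ⊔ X (-rr) :=
        mul_mem (mul_mem (le_sup_right (a := X rr) ha) (le_sup_left (a := X rr) hu)) (le_sup_right (a := X rr) ha')
      have m2 : a * u * a' ∈ P := (hP _).2 (hB _ m1)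
      intro g hg
      rw [← h1 ry (-mm) Ry (refl_eq Rr 1 (by decide) (by decide) (by decide)), mem_cj] at hg
      have h3 : g = (a * u * a') * ((a * u * a')⁻¹ * g * (a * u * a')) * (a * u * a')⁻¹ := by group
      rw [h3]
      exact mul_mem (mul_mem m2 (hryP hg)) (inv_mem m2)
  ext g
  have h1 : g ∈ P := htop ▸ Subgroup.mem_top g
  exact (hP g).1 h1

/-- **(K5) in standard coordinates.** -/
theorem aut_eq (hF : Odd (Fintype.card F)) (e : Matrix.SpecialLinearGroup (Fin 2) F ≃* ↥(X rr ⊔ X (-rr)))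
    (hcr : Nat.card (X rr) = Fintype.card F) (hcy : Nat.card (X ry) = Fintype.card F) (α : MulAut Y)
    (hB : ∀ g ∈ X rr ⊔ X (-rr), α g = g) (hA' : ∀ g ∈ X rs ⊔ X (-rs), α g = g)
    (hA : ∀ g ∈ X rb ⊔ X (-rb), α g = g) : α = 1 ∨ α = MulAut.conj (z rr) := by
  have Rr := S.rB rr_mem
  have Rs := S.rB rs_mem
  have Ry := S.rB ry_mem
  have Rx := S.rB rx_mem
  have Rp := S.rB pp_mem
  have Rm := S.rB mm_mem
  have Rb := S.rC rb_mem
  have hzB : z rr ∈ X rr ⊔ X (-rr) := by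
    rw [S.XZ rr rr_mem, S.XZ (-rr) (S.neg_mem rr_mem)]
    exact S.C.z_mem rr rr_mem
  obtain ⟨x0, hx0, hx01⟩ := S.ex Ry
  have hz1 : z rr ≠ 1 := by
    intro h0
    have h1 := S.zinv rr_mem Ry (by decide) (by decide) (by decide) hx0
    rw [h0, one_mul, mul_one] at h1
    exact hx01 (S.eq_one Ry hx0 h1)
  -- `X (± e₁ ± e₂)` etc. commute
  have cBA' : ∀ g ∈ X rr ⊔ X (-rr), ∀ u ∈ X rs ⊔ X (-rs), g * u = u * g := by
    intro g hg
    have h1 : X rs ⊔ X (-rs) ≤ Subgroup.centralizer {g} := by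
      have h2 : ∀ c ∈ RB 3, q c rr = 0 → X c ≤ Subgroup.centralizer {g} := by
        intro c hc hq u hu
        rw [Subgroup.mem_centralizer_singleton_iff]
        have h3 : X rr ⊔ X (-rr) ≤ Subgroup.centralizer {u} := by
          refine sup_le (fun a ha => ?_) (fun a ha => ?_)
          · rw [Subgroup.mem_centralizer_singleton_iff]
            exact (S.cent rr_mem (S.rB hc) hq.ge hu ha).symm
          · rw [Subgroup.mem_centralizer_singleton_iff]
            refine (S.cent (S.neg_mem rr_mem) (S.rB hc) ?_ hu ha).symm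
            have : q c (-rr) = - q c rr := by unfold q; simp only [Pi.neg_apply]; ring
            rw [this, hq, neg_zero]
        exact (Subgroup.mem_centralizer_singleton_iff.1 (h3 hg)).symm
      exact sup_le (h2 rs rs_mem (by decide)) (h2 (-rs) (S.neg_mem rs_mem) (by decide))
    intro u hu
    exact (Subgroup.mem_centralizer_singleton_iff.1 (h1 hu)).symm
  have cBA : ∀ g ∈ X rr ⊔ X (-rr), ∀ u ∈ X rb ⊔ X (-rb), g * u = u * g := by
    intro g hg
    have h1 : X rb ⊔ X (-rb) ≤ Subgroup.centralizer {g} := by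
      have h2 : ∀ c, IsRoot cs (isCartan 3) c → q c rr = 0 → X c ≤ Subgroup.centralizer {g} := by
        intro c hc hq u hu
        rw [Subgroup.mem_centralizer_singleton_iff]
        have h3 : X rr ⊔ X (-rr) ≤ Subgroup.centralizer {u} := by
          refine sup_le (fun a ha => ?_) (fun a ha => ?_)
          · rw [Subgroup.mem_centralizer_singleton_iff]
            exact (S.cent rr_mem hc hq.ge hu ha).symm
          · rw [Subgroup.mem_centralizer_singleton_iff]
            refine (S.cent (S.neg_mem rr_mem) hc ?_ hu ha).symm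
            have : q c (-rr) = - q c rr := by unfold q; simp only [Pi.neg_apply]; ring
            rw [this, hq, neg_zero]
        exact (Subgroup.mem_centralizer_singleton_iff.1 (h3 hg)).symm
      exact sup_le (h2 rb Rb (by decide)) (h2 (-rb) Rb.neg (by decide))
    intro u hu
    exact (Subgroup.mem_centralizer_singleton_iff.1 (h1 hu)).symm
  -- `α (X ry) ≤ X ry`
  have hαy : ∀ x ∈ X ry, α x ∈ X ry := fun x hx =>
    S.map_ry α.toMonoidHom (hB _ hzB) (fun u hu => ⟨u, hu, hB u (le_sup_left (a := X rr) hu)⟩)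
      (fun u hu => ⟨u, hu, hA' u (le_sup_left (a := X rs) hu)⟩)
      (fun u hu => ⟨u, hu, hA u (le_sup_left (a := X rb) hu)⟩) hx
  obtain ⟨t, htinj, htK, htN, htc⟩ := exists_torus (P := X rr) e le_sup_left hcr
  have hty : ∀ l, ∀ x ∈ X ry, t l * x * (t l)⁻¹ ∈ X ry := fun l x hx => by
    refine S.map_ry (MulAut.conj (t l)).toMonoidHom ?_ ?_ ?_ ?_ hx
    · change t l * z rr * (t l)⁻¹ = z rr
      have h1 : t l ∈ Z rr ⊔ Z (-rr) := by
        rw [← S.XZ rr rr_mem, ← S.XZ (-rr) (S.neg_mem rr_mem)]; exact htK l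
      rw [cls_commute_z S.C rr_mem h1, mul_inv_cancel_right]
    · intro u hu
      refine ⟨t l⁻¹ * u * (t l⁻¹)⁻¹, htN l⁻¹ u hu, ?_⟩
      change t l * (t l⁻¹ * u * (t l⁻¹)⁻¹) * (t l)⁻¹ = u
      rw [map_inv]; group
    · intro u hu
      refine ⟨u, hu, ?_⟩
      change t l * u * (t l)⁻¹ = u
      rw [cBA' _ (htK l) u (le_sup_left (a := X rs) hu), mul_inv_cancel_right]
    · intro u hu
      refine ⟨u, hu, ?_⟩
      change t l * u * (t l)⁻¹ = u
      rw [cBA _ (htK l) u (le_sup_left (a := X rb) hu), mul_inv_cancel_right]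
  -- the element `n ∈ A' A` with `n (X ry) n⁻¹ = X mm`
  obtain ⟨n, hnA, hnB, hn⟩ : ∃ n : Y, α n = n ∧ (∀ g ∈ X rr ⊔ X (-rr), g * n = n * g) ∧
      cj n (X ry) = X mm := by
    obtain ⟨m₁, hm₁, m₂, hm₂, hn⟩ := exists_nm S
    refine ⟨m₁ * m₂, by rw [map_mul, hA' _ hm₁, hA _ hm₂], fun g hg => ?_, hn⟩
    calc g * (m₁ * m₂) = (g * m₁) * m₂ := by group
      _ = m₁ * (g * m₂) := by rw [cBA' g hg _ hm₁]; group
      _ = _ := by rw [cBA g hg _ hm₂]; group
  -- commutators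
  have hk : ∀ x ∈ X ry, x ≠ 1 → ⁅x, n * x * n⁻¹⁆ ∈ X rr ∧ ⁅x, n * x * n⁻¹⁆ ≠ 1 := by
    intro x hx hx1
    have hw : n * x * n⁻¹ ∈ X mm := by rw [← hn]; exact conj_mem_cj.2 hx
    have hw1 : n * x * n⁻¹ ≠ 1 := by
      intro h0
      apply hx1
      have h1 : x = n⁻¹ * (n * x * n⁻¹) * n := by group
      rw [h1, h0]; group
    constructor
    · rw [S.XZ rr rr_mem]
      have : Fact p.Prime := ⟨S.prime⟩
      exact commutator_VV_le S.C S.odd rr_mem (Subgroup.commutator_mem_commutator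
        (S.mem_VV rr_mem Ry (by decide) hx) (S.mem_VV rr_mem Rm (by decide) hw))
    · intro h0
      refine hx1 (S.kill Ry Rm (refl_eq Rm (-1) (by decide) (by decide) (by decide) : _ = rr) Rr (by decide) hx hw hw1
        (commutatorElement_eq_one_iff_mul_comm.1 h0) fun v hv => ?_)
      exact S.cent (S.neg_mem mm_mem) Ry (by decide) hx hv
  -- `t l` commuting with a nontrivial element of `X rr`
  have ht2 : ∀ l, l * l = 1 → t l = 1 ∨ t l = z rr := by
    intro l hl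
    by_cases h1 : t l = 1
    · exact Or.inl h1
    · refine Or.inr (inv_unique e hF (htK l) hzB ?_ (S.zz rr rr_mem) h1 hz1)
      rw [← map_mul, hl, map_one]
  have ht3 : ∀ l m : Fˣ, t l * t m = t m * t l := fun l m => by rw [← map_mul, ← map_mul, mul_comm]
  -- regularity
  have hreg : ∀ l, ∀ x ∈ X ry, x ≠ 1 → t l * x = x * t l → t l = 1 := by
    intro l x hx hx1 hcm
    obtain ⟨h1, h2⟩ := hk x hx hx1
    have h3 : t l * (n * x * n⁻¹) = (n * x * n⁻¹) * t l := by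
      have h4 := hnB _ (htK l)
      have h5 : t l * n⁻¹ = n⁻¹ * t l := by
        rw [eq_inv_mul_iff_mul_eq, ← mul_assoc, ← h4, mul_inv_cancel_right]
      calc t l * (n * x * n⁻¹) = (t l * n) * x * n⁻¹ := by group
        _ = n * (t l * x) * n⁻¹ := by rw [h4]; group
        _ = n * x * (t l * n⁻¹) := by rw [hcm]; group
        _ = _ := by rw [h5]; group
    have h4 : Commute (t l) ⁅x, n * x * n⁻¹⁆ := by
      rw [commutatorElement_def]
      have c1 : Commute (t l) x := hcm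
      have c2 : Commute (t l) (n * x * n⁻¹) := h3
      exact ((c1.mul_right c2).mul_right c1.inv_right).mul_right c2.inv_right
    rcases ht2 l (htc l _ h1 h2 h4.eq) with h5 | h5
    · exact h5
    · exfalso
      rw [h5] at hcm
      have h6 := S.zinv rr_mem Ry (by decide) (by decide) (by decide) hx
      rw [hcm, mul_assoc, S.zz rr rr_mem, mul_one] at h6
      exact hx1 (S.eq_one Ry hx h6)
  -- transitivity
  have htr : ∀ x ∈ X ry, x ≠ 1 → ∃ l, t l * x0 * (t l)⁻¹ = x := by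
    classical
    let f : F → X ry := fun a => if h : a = 0 then 1 else ⟨t (Units.mk0 a h) * x0 * (t (Units.mk0 a h))⁻¹,
      hty _ x0 hx0⟩
    have hf0 : f 0 = 1 := dif_pos rfl
    have hf : ∀ a (h : a ≠ 0), (f a : Y) = t (Units.mk0 a h) * x0 * (t (Units.mk0 a h))⁻¹ := by
      intro a h
      simp only [f, dif_neg h]
    have hne : ∀ a (_ : a ≠ 0), (f a : Y) ≠ 1 := by
      intro a h h0
      rw [hf a h, mul_inv_eq_one] at h0
      exact hx01 (mul_eq_left.1 h0)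
    have hinj : Function.Injective f := by
      intro a b hab
      by_cases ha : a = 0
      · by_cases hb : b = 0
        · rw [ha, hb]
        · exfalso
          apply hne b hb
          rw [← hab, ha, hf0]; rfl
      · by_cases hb : b = 0
        · exfalso
          apply hne a ha
          rw [hab, hb, hf0]; rfl
        · have h1 : t (Units.mk0 a ha) * x0 * (t (Units.mk0 a ha))⁻¹ =
              t (Units.mk0 b hb) * x0 * (t (Units.mk0 b hb))⁻¹ := by
            rw [← hf a ha, ← hf b hb, hab]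
          have h2 : t ((Units.mk0 b hb)⁻¹ * Units.mk0 a ha) * x0 = x0 * t ((Units.mk0 b hb)⁻¹ * Units.mk0 a ha) := by
            rw [map_mul, map_inv]
            have h3 : t (Units.mk0 a ha) * x0 =
                t (Units.mk0 b hb) * x0 * (t (Units.mk0 b hb))⁻¹ * t (Units.mk0 a ha) := by
              rw [← h1]; group
            rw [mul_assoc, h3]; group
          have h3 := htinj ((hreg _ x0 hx0 hx01 h2).trans (map_one t).symm)
          rw [inv_mul_eq_one] at h3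
          exact (congrArg Units.val h3).symm
    have hbij := hinj.bijective_of_nat_card_le (by rw [hcy, Nat.card_eq_fintype_card])
    intro x hx hx1
    obtain ⟨a, ha⟩ := hbij.2 ⟨x, hx⟩
    have ha0 : a ≠ 0 := by
      rintro rfl
      rw [hf0] at ha
      exact hx1 (congrArg Subtype.val ha).symm
    exact ⟨Units.mk0 a ha0, by rw [← hf a ha0, ha]⟩
  -- `α` on `X ry`
  have hαx0 : α x0 ≠ 1 := fun h0 => hx01 (by rwa [MulEquiv.map_eq_one_iff] at h0)
  obtain ⟨l, hl⟩ := htr (α x0) (hαy x0 hx0) hαx0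
  have hαt : ∀ m, α (t m) = t m := fun m => hB _ (htK m)
  have hαr : ∀ x ∈ X ry, α x = t l * x * (t l)⁻¹ := by
    intro x hx
    by_cases hx1 : x = 1
    · rw [hx1, map_one]; group
    · obtain ⟨m, rfl⟩ := htr x hx hx1
      rw [map_mul, map_mul, map_inv, hαt, ← hl]
      calc t m * (t l * x0 * (t l)⁻¹) * (t m)⁻¹ = (t m * t l) * x0 * (t m * t l)⁻¹ := by group
        _ = (t l * t m) * x0 * (t l * t m)⁻¹ := by rw [ht3 m l]
        _ = _ := by group
  have hll : l * l = 1 := by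
    obtain ⟨h1, h2⟩ := hk x0 hx0 hx01
    refine htc l _ h1 h2 ?_
    have hw : α (n * x0 * n⁻¹) = t l * (n * x0 * n⁻¹) * (t l)⁻¹ := by
      have h4 := hnB _ (htK l)
      have h5 : (t l)⁻¹ * n⁻¹ = n⁻¹ * (t l)⁻¹ := by rw [← mul_inv_rev, ← mul_inv_rev, h4]
      calc α (n * x0 * n⁻¹) = n * (t l * x0 * (t l)⁻¹) * n⁻¹ := by
            rw [map_mul, map_mul, map_inv, hnA, hαr x0 hx0]
        _ = (n * t l) * x0 * ((t l)⁻¹ * n⁻¹) := by group
        _ = (t l * n) * x0 * (n⁻¹ * (t l)⁻¹) := by rw [h4, h5]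
        _ = _ := by group
    have h3 : α ⁅x0, n * x0 * n⁻¹⁆ = t l * ⁅x0, n * x0 * n⁻¹⁆ * (t l)⁻¹ := by
      rw [map_commutatorElement, hαr x0 hx0, hw]
      simp only [commutatorElement_def]
      group
    rw [hB _ (le_sup_left (a := X rr) h1)] at h3
    nth_rewrite 2 [h3]
    group
  rcases ht2 l hll with h1 | h1
  · refine Or.inl (eq_one_of_fix S α hB hA' hA fun x hx => ?_)
    rw [hαr x hx, h1, one_mul, inv_one, mul_one]
  · right
    have hzc : ∀ K : Subgroup Y, (∀ g ∈ K, z rr * g = g * z rr) → ∀ g ∈ K, MulAut.conj (z rr) g = g := by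
      intro K hK g hg
      rw [MulAut.conj_apply, hK g hg, mul_inv_cancel_right]
    have hz2 : (MulAut.conj (z rr))⁻¹ = MulAut.conj (z rr) := by
      rw [← map_inv, S.zi rr rr_mem]
    have h2 : (MulAut.conj (z rr))⁻¹ * α = 1 := by
      rw [hz2]
      refine eq_one_of_fix S _ (fun g hg => ?_) (fun g hg => ?_) (fun g hg => ?_) fun g hg => ?_
      · rw [MulAut.mul_apply, hB g hg]
        refine hzc _ (fun u hu => ?_) g hg
        have h3 : u ∈ Z rr ⊔ Z (-rr) := by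
          rw [← S.XZ rr rr_mem, ← S.XZ (-rr) (S.neg_mem rr_mem)]; exact hu
        exact (cls_commute_z S.C rr_mem h3).symm
      · rw [MulAut.mul_apply, hA' g hg]
        exact hzc _ (fun u hu => cBA' _ hzB u hu) g hg
      · rw [MulAut.mul_apply, hA g hg]
        exact hzc _ (fun u hu => cBA _ hzB u hu) g hg
      · rw [MulAut.mul_apply, hαr g hg, h1, MulAut.conj_apply]
        have h3 := S.zz rr rr_mem
        calc z rr * (z rr * g * (z rr)⁻¹) * (z rr)⁻¹ = (z rr * z rr) * g * (z rr * z rr)⁻¹ := by group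
          _ = g := by rw [h3]; group
    exact (inv_mul_eq_one.1 h2).symm

/-- **(K5)**, `α² = 1`. -/
theorem aut_sq (hF : Odd (Fintype.card F)) (e : Matrix.SpecialLinearGroup (Fin 2) F ≃* ↥(X rr ⊔ X (-rr)))
    (hcr : Nat.card (X rr) = Fintype.card F) (hcy : Nat.card (X ry) = Fintype.card F) (α : MulAut Y)
    (hB : ∀ g ∈ X rr ⊔ X (-rr), α g = g) (hA' : ∀ g ∈ X rs ⊔ X (-rs), α g = g)
    (hA : ∀ g ∈ X rb ⊔ X (-rb), α g = g) : α ^ 2 = 1 := by
  rcases aut_eq S hF e hcr hcy α hB hA' hA with h | h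
  · rw [h, one_pow]
  · rw [h, pow_two, ← map_mul, S.zz rr rr_mem, map_one]

end Cfsg.Agent.OddHalf.NI.AutB3
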