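import Cfsg.Agent.OddHalf.NI.FrameDef
import Cfsg.Agent.OddHalf.NI.LinEnd

/-!
# NODE NI, (T'): frames from blocks

`Blocks M F m c`: commuting subgroups `e i (SL₂(F))`, `i < m`, of `M`, normal in the centralizer of their involution
`e i (-1)`, with product of the involutions `c` (the blocks of `SL_{2m}(F)`, `Sp_{2m}(F)`, `SU_{2m}(F)`).
`frame`: if `φ : M → N` is surjective with central kernel and `φ c ≠ 1`, they give a `Frame N (φ c)`.
-/

set_option autoImplicit false

namespace Cfsg.Agent.OddHalf.NI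

open Subgroup Cfsg

namespace Blocks

/-- `-1 ∈ SL₂(F)` -/
def negOne (F : Type*) [Field F] : Matrix.SpecialLinearGroup (Fin 2) F :=
  ⟨-1, by simp [Matrix.det_neg]⟩

@[simp] theorem coe_negOne (F : Type*) [Field F] :
    ((negOne F : Matrix.SpecialLinearGroup (Fin 2) F) : Matrix (Fin 2) (Fin 2) F) = -1 := rfl

theorem negOne_mul (F : Type*) [Field F] : negOne F * negOne F = 1 := by
  apply Subtype.ext
  simp

theorem two_ne_zero_of_odd {F : Type*} [Field F] [Fintype F] (h : Odd (Fintype.card F)) : (2 : F) ≠ 0 := by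
  intro h2
  have h3 : (addOrderOf (1 : F)) ∣ Fintype.card F := addOrderOf_dvd_card
  have h4 : addOrderOf (1 : F) ∣ 2 := by
    rw [addOrderOf_dvd_iff_nsmul_eq_zero, nsmul_one]
    exact_mod_cast h2
  rcases (Nat.dvd_prime Nat.prime_two).mp h4 with h5 | h5
  · rw [AddMonoid.addOrderOf_eq_one_iff] at h5
    exact one_ne_zero h5
  · rw [h5] at h3
    exact (Nat.not_even_iff_odd.mpr h) (even_iff_two_dvd.mpr h3)

theorem negOne_ne_one {F : Type*} [Field F] (h2 : (2 : F) ≠ 0) : negOne F ≠ 1 := by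
  intro h
  have h3 := congrArg (fun A : Matrix.SpecialLinearGroup (Fin 2) F => (A : Matrix (Fin 2) (Fin 2) F) 0 0) h
  simp at h3
  apply h2
  linear_combination (-1 : F) * h3

theorem orderOf_negOne {F : Type*} [Field F] (h2 : (2 : F) ≠ 0) : orderOf (negOne F) = 2 :=
  orderOf_eq_prime (by rw [pow_two, negOne_mul]) (negOne_ne_one h2)

end Blocks

open Blocks in
/-- Blocks of `M`, with product of the involutions `c`. -/
structure Blocks (M : Type*) [Group M] (F : Type) [Field F] (m : ℕ) (c : M) where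
  /-- the blocks -/
  e : Fin m → (Matrix.SpecialLinearGroup (Fin 2) F →* M)
  comm : ∀ i j, i ≠ j → ∀ a b, e i a * e j b = e j b * e i a
  norm : ∀ (i : Fin m) (g : M), g * e i (negOne F) = e i (negOne F) * g → ∀ a, g * e i a * g⁻¹ ∈ (e i).range
  one : ∀ i a, e i a ∈ center M → a = 1
  two : ∀ i j, i ≠ j → e i (negOne F) * e j (negOne F) ∈ center M → e i (negOne F) * e j (negOne F) = c
  three : ∀ i j k, i ≠ j → i ≠ k → j ≠ k →
    e i (negOne F) * e j (negOne F) * e k (negOne F) ∈ center M →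
    e i (negOne F) * e j (negOne F) * e k (negOne F) = c
  gen : c ∈ closure (Set.range fun i => e i (negOne F))

namespace Blocks

variable {M N : Type*} [Group M] [Group N] {F : Type} [Field F] {m : ℕ} {c : M}

/-- the composition of a block with a central extension is injective -/
theorem injective (B : Blocks M F m c) (φ : M →* N) (hk : φ.ker ≤ center M) (i : Fin m) :
    Function.Injective (φ.comp (B.e i)) := by
  rw [injective_iff_map_eq_one]
  intro a ha
  exact B.one i a (hk (by simpa using ha))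

/-- a block is normal in the centralizer of its involution, and subnormal in it modulo a central subgroup -/
theorem subnormal (B : Blocks M F m c) (φ : M →* N) (hs : Function.Surjective φ)
    (hk : φ.ker ≤ center M) (i : Fin m) :
    ((φ.comp (B.e i)).range.subgroupOf (centralizer {φ (B.e i (negOne F))})).IsSubnormal := by
  set y := B.e i (negOne F) with hy
  set C := centralizer {φ y} with hC
  -- the image of `C_M(y)`
  set D := (centralizer {y}).map φ with hD
  have hDC : D ≤ C := by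
    rintro _ ⟨g, hg, rfl⟩
    rw [SetLike.mem_coe, mem_centralizer_singleton_iff] at hg
    rw [hC, mem_centralizer_singleton_iff, ← map_mul, ← map_mul, hg]
  have hJD : (φ.comp (B.e i)).range ≤ D := by
    rintro _ ⟨a, rfl⟩
    refine ⟨B.e i a, ?_, rfl⟩
    rw [SetLike.mem_coe, mem_centralizer_singleton_iff, hy, ← map_mul, ← map_mul]
    congr 1
    apply Subtype.ext
    simp
  -- elements of `C` lift to elements commuting with `y` modulo the kernel
  have hlift : ∀ g : M, φ g ∈ C → g * y * g⁻¹ * y⁻¹ ∈ φ.ker := by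
    intro g hg
    rw [hC, mem_centralizer_singleton_iff] at hg
    rw [MonoidHom.mem_ker, map_mul, map_mul, map_mul, map_inv, map_inv]
    rw [hg]
    group
  have hnorm1 : ((φ.comp (B.e i)).range.subgroupOf D).Normal := by
    constructor
    rintro ⟨x, hx⟩ hxJ ⟨g, hg⟩
    obtain ⟨g', hg', rfl⟩ := hg
    rw [mem_subgroupOf] at hxJ ⊢
    obtain ⟨a, ha⟩ := hxJ
    simp only at ha
    rw [SetLike.mem_coe, mem_centralizer_singleton_iff] at hg'
    obtain ⟨b, hb⟩ := B.norm i g' hg' a
    refine ⟨b, ?_⟩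
    simp only [MonoidHom.comp_apply] at ha ⊢
    rw [hb, map_mul, map_mul, map_inv, ha]
    rfl
  have hnorm2 : (D.subgroupOf C).Normal := by
    constructor
    rintro ⟨x, hx⟩ hxD ⟨g, hg⟩
    rw [mem_subgroupOf] at hxD ⊢
    obtain ⟨x', hx', hxx⟩ := hxD
    obtain ⟨g', rfl⟩ := hs g
    simp only at hxx
    subst hxx
    refine ⟨g' * x' * g'⁻¹, ?_, by simp⟩
    rw [SetLike.mem_coe, mem_centralizer_singleton_iff] at hx' ⊢
    have h1 := hk (hlift g' hg)
    -- `g' y g'⁻¹ = k y` with `k` central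
    set k := g' * y * g'⁻¹ * y⁻¹ with hkd
    have hkc : ∀ w, w * k⁻¹ = k⁻¹ * w := fun w => mem_center_iff.mp (inv_mem h1) w
    have h2 : g'⁻¹ * y * g' = y * k⁻¹ := by
      calc g'⁻¹ * y * g' = g'⁻¹ * (y * k⁻¹) * k * g' := by group
        _ = g'⁻¹ * (k⁻¹ * y) * k * g' := by rw [hkc]
        _ = g'⁻¹ * k⁻¹ * (y * k) * g' := by group
        _ = g'⁻¹ * k⁻¹ * (k * y) * g' := by rw [mem_center_iff.mp h1 y]
        _ = g'⁻¹ * k⁻¹ * (g' * y * g'⁻¹) * g' := by rw [hkd]; group
        _ = g'⁻¹ * (k⁻¹ * g') * y := by group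
        _ = g'⁻¹ * (g' * k⁻¹) * y := by rw [hkc]
        _ = k⁻¹ * y := by group
        _ = y * k⁻¹ := by rw [hkc]
    calc g' * x' * g'⁻¹ * y = g' * x' * (g'⁻¹ * y * g') * g'⁻¹ := by group
      _ = g' * x' * (y * k⁻¹) * g'⁻¹ := by rw [h2]
      _ = g' * (x' * y) * k⁻¹ * g'⁻¹ := by group
      _ = g' * (y * x') * k⁻¹ * g'⁻¹ := by rw [hx']
      _ = g' * y * (x' * k⁻¹) * g'⁻¹ := by group
      _ = g' * y * (k⁻¹ * x') * g'⁻¹ := by rw [hkc]
      _ = g' * (y * k⁻¹) * x' * g'⁻¹ := by group
      _ = g' * (g'⁻¹ * y * g') * x' * g'⁻¹ := by rw [h2]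
      _ = y * (g' * x' * g'⁻¹) := by group
  refine IsSubnormal.step _ (D.subgroupOf C) ?_ hnorm2.isSubnormal ?_
  · intro x hx
    exact hJD hx
  · constructor
    rintro ⟨⟨x, hxC⟩, hxD⟩ hxJ ⟨⟨g, hgC⟩, hgD⟩
    have := hnorm1.conj_mem ⟨x, hxD⟩ hxJ ⟨g, hgD⟩
    exact this

/-- **the frame of the image of a group with blocks** -/
theorem frame [Fintype F] (B : Blocks M F m c) (hm : 0 < m) (hodd : Odd (Fintype.card F))
    (h3 : 3 < Fintype.card F) (φ : M →* N) (hs : Function.Surjective φ) (hk : φ.ker ≤ center M)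
    (hc : φ c ≠ 1) : Nonempty (Frame N (φ c)) := by
  have h2 := two_ne_zero_of_odd hodd
  have hinj := B.injective φ hk
  have hyy : ∀ i, B.e i (negOne F) * B.e i (negOne F) = 1 := fun i => by rw [← map_mul, negOne_mul, map_one]
  refine ⟨{
    m := m
    pos := hm
    J := fun i => (φ.comp (B.e i)).range
    y := fun i => φ (B.e i (negOne F))
    F := F
    odd := hodd
    card := h3
    iso := fun i => ⟨(MonoidHom.ofInjective (hinj i)).symm⟩
    mem := fun i => ⟨negOne F, rfl⟩
    ord := fun i => by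
      have := orderOf_injective (φ.comp (B.e i)) (hinj i) (negOne F)
      rw [orderOf_negOne h2] at this
      exact this
    le := ?_
    sub := fun i => B.subnormal φ hs hk i
    comm := ?_
    inj := ?_
    three := ?_
    gen := ?_ }⟩
  · rintro i _ ⟨a, rfl⟩
    rw [mem_centralizer_singleton_iff]
    simp only [MonoidHom.comp_apply]
    rw [← map_mul, ← map_mul, ← map_mul, ← map_mul]
    congr 2
    apply Subtype.ext
    simp
  · rintro i j hij _ ⟨a, rfl⟩ _ ⟨b, rfl⟩
    simp only [MonoidHom.comp_apply]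
    rw [← map_mul, ← map_mul, B.comm i j hij]
  · intro i j hij
    by_contra hne
    apply hc
    simp only at hij
    have h1 : φ (B.e i (negOne F) * B.e j (negOne F)) = 1 := by
      rw [map_mul, hij, ← map_mul, hyy, map_one]
    rw [← B.two i j hne (hk (MonoidHom.mem_ker.mpr h1)), h1]
  · intro i j k hij hik hjk h
    apply hc
    have h1 : φ (B.e i (negOne F) * B.e j (negOne F) * B.e k (negOne F)) = 1 := by
      rw [map_mul, map_mul, h, ← map_mul, hyy, map_one]
    rw [← B.three i j k hij hik hjk (hk (MonoidHom.mem_ker.mpr h1)), h1]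
  · have h1 : φ c ∈ (closure (Set.range fun i => B.e i (negOne F))).map φ := mem_map_of_mem φ B.gen
    rw [MonoidHom.map_closure] at h1
    convert h1 using 2
    ext x
    constructor
    · rintro ⟨i, rfl⟩
      exact ⟨_, ⟨i, rfl⟩, rfl⟩
    · rintro ⟨_, ⟨i, rfl⟩, rfl⟩
      exact ⟨i, rfl⟩

end Blocks

end Cfsg.Agent.OddHalf.NI
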