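import Cfsg.Agent.OddHalf.NI.LemmaP
import Cfsg.Agent.SignalizersComponents.PCompQuot
import Cfsg.Agent.SignalizersComponents.ComponentImage

/-!
# Components modulo a central subgroup of odd order

`COdd f`: `f : Y →* Z` is surjective with central kernel of odd order. Components of `H` and of `f(H)`, and
centralizers of involutions, correspond.
-/

set_option autoImplicit false

namespace Cfsg.Agent.OddHalf.NI.OddQ

open Subgroup Cfsg Cfsg.Agent.SignalizersComponents Cfsg.Agent.OddHalf.D3 Cfsg.Agent.OddHalf.NI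
open scoped commutatorElement

variable {Y Z : Type*} [Group Y] [Group Z]

structure COdd (f : Y →* Z) : Prop where
  surj : Function.Surjective f
  cen : f.ker ≤ center Y
  odd : Odd (Nat.card f.ker)

variable {f : Y →* Z}

/-- An element of the kernel whose square lies in `K` lies in `K`. -/
theorem COdd.mem_of_sq (hf : COdd f) {K : Subgroup Y} {z : Y} (hz : z ∈ f.ker) (h : z * z ∈ K) :
    z ∈ K := by
  have h1 : z ^ Nat.card f.ker = 1 := by
    have := pow_card_eq_one' (G := f.ker) (x := ⟨z, hz⟩)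
    exact congrArg Subtype.val this
  obtain ⟨m, hm⟩ := hf.odd
  rw [hm] at h1
  have h2 : z = ((z * z) ^ m)⁻¹ := by
    rw [eq_inv_iff_mul_eq_one, ← pow_two, ← pow_mul, ← pow_succ', h1]
  rw [h2]
  exact inv_mem (pow_mem h m)

theorem COdd.eq_one_of_sq (hf : COdd f) {z : Y} (hz : z ∈ f.ker) (h : z * z = 1) : z = 1 := by
  have h1 := hf.mem_of_sq (K := ⊥) hz (by rw [h]; exact one_mem _)
  exact Subgroup.mem_bot.mp h1

/-- Involutions: `f d` and `f x` commute iff `d` and `x` commute. -/
theorem COdd.comm_iff (hf : COdd f) {d x : Y} (hd : d * d = 1) :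
    f x * f d = f d * f x ↔ x * d = d * x := by
  constructor
  · intro h
    have h1 : x * d * (d * x)⁻¹ ∈ f.ker := by
      rw [MonoidHom.mem_ker, map_mul, map_inv, map_mul, map_mul, h, mul_inv_cancel]
    set o := x * d * (d * x)⁻¹ with ho
    have hc : ∀ y, y * o = o * y := fun y => mem_center_iff.mp (hf.cen h1) y
    have h2 : x * d = o * (d * x) := by rw [ho]; group
    have h3 : x * d * d = o * o * (d * d * x) := by
      calc x * d * d = o * (d * x) * d := by rw [h2]
        _ = o * d * (x * d) := by group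
        _ = o * d * (o * (d * x)) := by rw [h2]
        _ = o * (d * o) * (d * x) := by group
        _ = o * (o * d) * (d * x) := by rw [hc]
        _ = o * o * (d * d * x) := by group
    rw [mul_assoc, hd, mul_one, one_mul] at h3
    have h4 : o * o = 1 := by
      have := congrArg (· * x⁻¹) h3
      simpa using this.symm
    have h5 := hf.eq_one_of_sq h1 h4
    rw [h2, h5, one_mul]
  · intro h
    rw [← map_mul, ← map_mul, h]

theorem COdd.map_inf_cs (hf : COdd f) {H : Subgroup Y} {d : Y} (hd : d * d = 1) :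
    (H ⊓ centralizer ({d} : Set Y)).map f = H.map f ⊓ centralizer ({f d} : Set Z) := by
  ext z
  constructor
  · rintro ⟨x, hx, rfl⟩
    exact ⟨⟨x, hx.1, rfl⟩, mem_cs.mpr ((hf.comm_iff hd).mpr (mem_cs.mp hx.2))⟩
  · rintro ⟨⟨x, hx, rfl⟩, h⟩
    exact ⟨x, ⟨hx, mem_cs.mpr ((hf.comm_iff hd).mp (mem_cs.mp h))⟩, rfl⟩

theorem COdd.map_cs (hf : COdd f) {d : Y} (hd : d * d = 1) :
    (centralizer ({d} : Set Y)).map f = centralizer ({f d} : Set Z) := by
  have h1 := hf.map_inf_cs (H := ⊤) hd
  rwa [top_inf_eq, Subgroup.map_top_of_surjective f hf.surj, top_inf_eq] at h1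

theorem COdd.orderOf_map (hf : COdd f) {d : Y} (hd : orderOf d = 2) : orderOf (f d) = 2 := by
  apply order_of_sq
  · rw [← map_mul, sq_of_order hd, map_one]
  · intro h
    have h1 := hf.eq_one_of_sq (z := d) h (sq_of_order hd)
    rw [h1, orderOf_one] at hd
    exact absurd hd (by norm_num)

/-- An involution whose image lies in `f(K)` lies in `K`. -/
theorem COdd.mem_of_map (hf : COdd f) {K : Subgroup Y} {d : Y} (hd : d * d = 1) (h : f d ∈ K.map f) :
    d ∈ K := by
  obtain ⟨k, hk, hkd⟩ := h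
  have h1 : k⁻¹ * d ∈ f.ker := by
    rw [MonoidHom.mem_ker, map_mul, map_inv, hkd, inv_mul_cancel]
  have hc : ∀ y, y * (k⁻¹ * d) = (k⁻¹ * d) * y := fun y => mem_center_iff.mp (hf.cen h1) y
  have h2 : d = k * (k⁻¹ * d) := by group
  have h3 : (k⁻¹ * d) * (k⁻¹ * d) ∈ K := by
    have h4 : k * (k⁻¹ * d) * (k * (k⁻¹ * d)) = 1 := by rw [← h2, hd]
    have h5 : k * k * ((k⁻¹ * d) * (k⁻¹ * d)) = 1 := by
      calc k * k * ((k⁻¹ * d) * (k⁻¹ * d)) = k * (k * (k⁻¹ * d)) * (k⁻¹ * d) := by group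
        _ = k * ((k⁻¹ * d) * k) * (k⁻¹ * d) := by rw [hc k]
        _ = k * (k⁻¹ * d) * (k * (k⁻¹ * d)) := by group
        _ = 1 := h4
    have h6 : (k⁻¹ * d) * (k⁻¹ * d) = (k * k)⁻¹ := by
      rw [eq_inv_iff_mul_eq_one, ← h5]
      have h7 : ∀ y, y * ((k⁻¹ * d) * (k⁻¹ * d)) = ((k⁻¹ * d) * (k⁻¹ * d)) * y := by
        intro y
        rw [← mul_assoc, hc y, mul_assoc, hc y, ← mul_assoc]
      rw [h7]
    rw [h6]
    exact inv_mem (mul_mem hk hk)
  have h4 := hf.mem_of_sq h1 h3
  rw [h2]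
  exact mul_mem hk h4

/-- The image of a component. -/
theorem COdd.comp_map (hf : COdd f) {H K : Subgroup Y} (hK : CompIn H K) : CompIn (H.map f) (K.map f) := by
  refine ⟨Subgroup.map_mono hK.le, ?_⟩
  let g : H →* H.map f := f.subgroupMap H
  have hg : Function.Surjective g := f.subgroupMap_surjective H
  have e : (K.subgroupOf H).map g = (K.map f).subgroupOf (H.map f) := by
    ext ⟨x, hx⟩
    rw [mem_subgroupOf]
    constructor
    · rintro ⟨⟨y, hyH⟩, hy, hyx⟩
      exact ⟨y, hy, congrArg Subtype.val hyx⟩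
    · rintro ⟨y, hy, hyx⟩
      exact ⟨⟨y, hK.le hy⟩, hy, Subtype.ext hyx⟩
  rw [← e]
  rcases ComponentImage.map_eq_bot_or_isComponent hg hK.comp with h | h
  · exfalso
    apply not_comm_self hK.quasi
    intro x hx
    have h1 : (⟨x, hK.le hx⟩ : H) ∈ g.ker := by
      rw [Subgroup.map_eq_bot_iff] at h
      exact h hx
    have h2 : x ∈ f.ker := congrArg Subtype.val h1
    rw [mem_centralizer_iff]
    intro y _
    exact mem_center_iff.mp (hf.cen h2) y
  · exact h

/-- Components with the same image are equal. -/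
theorem COdd.comp_inj (hf : COdd f) {H K K' : Subgroup Y} (hK : CompIn H K) (hK' : CompIn H K')
    (h : K.map f = K'.map f) : K = K' := by
  by_contra hne
  have h1 := hK.comm hK' hne
  have h2 := (hf.comp_map hK).quasi
  apply not_comm_self h2
  rintro _ ⟨x, hx, rfl⟩
  rw [mem_centralizer_iff]
  intro z hz
  rw [h] at hz
  obtain ⟨y, hy, rfl⟩ := hz
  rw [← map_mul, ← map_mul, comm_elt h1 hx hy]

/-- The preimage of a component. -/
theorem COdd.comp_lift (hf : COdd f) {H : Subgroup Y} {L : Subgroup Z} (hL : CompIn (H.map f) L) :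
    ∃ K : Subgroup Y, CompIn H K ∧ K.map f = L := by
  let g : H →* H.map f := f.subgroupMap H
  have hg : Function.Surjective g := f.subgroupMap_surjective H
  have hgc : g.ker ≤ center H := by
    intro x hx
    have h1 : (x : Y) ∈ f.ker := congrArg Subtype.val hx
    rw [mem_center_iff]
    intro y
    exact Subtype.ext (mem_center_iff.mp (hf.cen h1) y)
  -- the full preimage
  obtain ⟨P, hP⟩ : ∃ P : Subgroup H, P = (L.subgroupOf (H.map f)).comap g := ⟨_, rfl⟩
  have hPs : P.IsSubnormal := by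
    rw [hP]; exact hL.comp.1.comap g
  have hPm : P.map g = L.subgroupOf (H.map f) := by
    rw [hP, Subgroup.map_comap_eq_self_of_surjective hg]
  have hkP : g.ker ≤ P := by
    rw [hP]
    intro x hx
    rw [mem_comap, MonoidHom.mem_ker.mp hx]
    exact one_mem _
  obtain ⟨K, hK⟩ : ∃ K : Subgroup H, K = ⁅P, P⁆ := ⟨_, rfl⟩
  have hKP : K ≤ P := hK ▸ commutator_le_self P
  have hLp : ⁅L.subgroupOf (H.map f), L.subgroupOf (H.map f)⁆ = L.subgroupOf (H.map f) :=
    Subgroup.isPerfect_iff.mp hL.comp.2.1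
  have hKm : K.map g = L.subgroupOf (H.map f) := by
    rw [hK, map_commutator, hPm, hLp]
  -- `P = K · ker g`
  have hPK : P ≤ K ⊔ g.ker := by
    intro x hx
    have h1 : g x ∈ K.map g := by rw [hKm, ← hPm]; exact ⟨x, hx, rfl⟩
    obtain ⟨k, hk, hkx⟩ := h1
    have h2 : k⁻¹ * x ∈ g.ker := by
      rw [MonoidHom.mem_ker, map_mul, map_inv, hkx, inv_mul_cancel]
    have h3 : x = k * (k⁻¹ * x) := by group
    rw [h3]
    exact mul_mem ((le_sup_left : K ≤ _) hk) ((le_sup_right : g.ker ≤ _) h2)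
  have hKp : ⁅K, K⁆ = K := by
    apply le_antisymm (commutator_le_self K)
    conv_lhs => rw [hK]
    rw [commutator_le]
    intro x hx y hy
    have hx1 := hPK hx
    have hy1 := hPK hy
    have dec : ∀ w ∈ P, ∃ k ∈ K, ∃ c ∈ g.ker, w = k * c := by
      intro w hw
      have h1 : g w ∈ K.map g := by rw [hKm, ← hPm]; exact ⟨w, hw, rfl⟩
      obtain ⟨k, hk, hkx⟩ := h1
      refine ⟨k, hk, k⁻¹ * w, ?_, by group⟩
      rw [MonoidHom.mem_ker, map_mul, map_inv, hkx, inv_mul_cancel]
    obtain ⟨k, hk, c, hc, rfl⟩ := dec x hx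
    obtain ⟨l, hl, d, hd, rfl⟩ := dec y hy
    have hc' : ∀ y : H, y * c = c * y := fun y => mem_center_iff.mp (hgc hc) y
    have hd' : ∀ y : H, y * d = d * y := fun y => mem_center_iff.mp (hgc hd) y
    have h4 : ⁅k * c, l * d⁆ = ⁅k, l⁆ := by
      rw [commutatorElement_def, commutatorElement_def, mul_inv_rev, mul_inv_rev]
      calc k * c * (l * d) * (c⁻¹ * k⁻¹) * (d⁻¹ * l⁻¹)
          = k * (c * l) * (d * (c⁻¹ * k⁻¹ * d⁻¹)) * l⁻¹ := by group
        _ = k * (l * c) * (d * (c⁻¹ * k⁻¹ * d⁻¹)) * l⁻¹ := by rw [hc' l]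
        _ = k * (l * c) * ((c⁻¹ * k⁻¹ * d⁻¹) * d) * l⁻¹ := by rw [← hd' (c⁻¹ * k⁻¹ * d⁻¹)]
        _ = k * l * k⁻¹ * l⁻¹ := by group
    rw [h4]
    exact commutator_mem_commutator hk hl
  have hKs : K.IsSubnormal := by
    refine Subgroup.IsSubnormal.trans hKP ?_ hPs
    apply Normal.isSubnormal
    rw [hK]
    exact (show (⁅P, P⁆.subgroupOf P).Normal from by
      rw [normal_subgroupOf_iff_le_normalizer (commutator_le_self P), le_normalizer_iff_commutator_le_left]
      exact commutator_mono (commutator_le_self P) le_rfl)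
  have hKq : IsQuasisimple K := by
    let h : K →* (L.subgroupOf (H.map f) : Subgroup (H.map f)) :=
      (MulEquiv.subgroupCongr hKm).toMonoidHom.comp (g.subgroupMap K)
    have hh : Function.Surjective h :=
      (MulEquiv.subgroupCongr hKm).surjective.comp (g.subgroupMap_surjective K)
    have hker : h.ker ≤ center K := by
      intro x hx
      have h1 : g x = 1 := by
        have h2 : ((h x : L.subgroupOf (H.map f)) : H.map f) = 1 := by
          rw [MonoidHom.mem_ker.mp hx]; rfl
        exact h2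
      rw [mem_center_iff]
      intro y
      exact Subtype.ext (mem_center_iff.mp (hgc h1) y)
    have e := QuotientGroup.quotientKerEquivOfSurjective h hh
    exact PCompQuot.quasisimple_of_central_quotient (Subgroup.isPerfect_iff.mpr hKp) hker
      (Components.isQuasisimple_of_mulEquiv e.symm hL.comp.2)
  refine ⟨K.map H.subtype, ⟨map_subtype_le K, ?_⟩, ?_⟩
  · have h1 : (K.map H.subtype).subgroupOf H = K :=
      Subgroup.comap_map_eq_self_of_injective (Subgroup.subtype_injective _) K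
    rw [h1]
    exact ⟨hKs, hKq⟩
  · ext z
    constructor
    · rintro ⟨_, ⟨x, hx, rfl⟩, rfl⟩
      have h1 : g x ∈ L.subgroupOf (H.map f) := by rw [← hKm]; exact ⟨x, hx, rfl⟩
      exact h1
    · intro hz
      have h1 : (⟨z, hL.le hz⟩ : H.map f) ∈ L.subgroupOf (H.map f) := hz
      rw [← hKm] at h1
      obtain ⟨x, hx, hxz⟩ := h1
      exact ⟨x, ⟨x, hx, rfl⟩, congrArg Subtype.val hxz⟩

end Cfsg.Agent.OddHalf.NI.OddQ
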