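import Cfsg.Agent.OddHalf.NI.LemmaP

/-!
# Pump-ups in `C(W)`, `W` an elementary abelian 2-group

`blw`: `L_{2'}(C(W)) = E(C(W))` for every elementary abelian 2-subgroup `W ≠ 1`, if this holds for
involutions and the B-property holds for the subgroups. `pumpH`, `exists_over`: components of `C_H(x)` and
components of `H`, for a subgroup `H` with `L_{2'}(H) = E(H)` and an involution `x ∈ H`.
-/

set_option autoImplicit false
set_option linter.style.haveILetI false

namespace Cfsg.Agent.OddHalf.NI

open Subgroup Cfsg Cfsg.Agent.SignalizersComponents Cfsg.Agent.OddHalf.D3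
open scoped commutatorElement

/-- `L_{2'}(H) = E(H)`. -/
def BLH {G : Type*} [Group G] (H : Subgroup G) : Prop := pLayer 2 ↥H = layer ↥H

section BL

variable {G : Type*} [Group G] [Finite G]

theorem blh_of_bl (hB : BL G) {y : G} (hy : orderOf y = 2) : BLH (centralizer ({y} : Set G)) := hB y hy

/-- It is enough that the 2-components commute with the odd core. -/
theorem pLayer_eq_layer {X : Type*} [Group X] [Finite X]
    (hev : ∀ K : Subgroup X, IsComponent K → 2 ∣ Nat.card K)
    (h : ∀ J : Subgroup X, IsPComponent 2 J → ⁅J, pPrimeCore 2 X⁆ = ⊥) : pLayer 2 X = layer X := by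
  haveI : Fact (Nat.Prime 2) := ⟨Nat.prime_two⟩
  apply le_antisymm
  · apply sSup_le
    intro J hJ
    exact Components.component_le_layer
      (ClassificationK.PCompTransport.isComponent_of_isPComponent 2 hJ (h J hJ))
  · rw [Components.layer_le_iff]
    intro K hK
    exact le_sSup (EvenComponent.isPComponent_of_isComponent hK (hev K hK))

/-- The step from `X` to `C_X(x)`. -/
theorem pLayer_centralizer {X : Type*} [Group X] [Finite X] (hFT : FT X)
    (hX : pLayer 2 X = layer X) (hB : HasBProperty X) {x : X} (hx : orderOf x = 2) :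
    pLayer 2 ↥(centralizer ({x} : Set X)) = layer ↥(centralizer ({x} : Set X)) := by
  haveI : Fact (Nat.Prime 2) := ⟨Nat.prime_two⟩
  set C : Subgroup X := centralizer ({x} : Set X) with hC
  apply pLayer_eq_layer
  · intro K hK
    exact hFT.even' hK.2
  · intro J hJ
    have hJp : Group.IsPerfect J := Subgroup.isPerfect_iff.mpr
      (ClassificationK.PCompTransport.isPComponent_perfect 2 hJ)
    rw [commutator_comm]
    apply Components.commutator_eq_bot_of_commutator_commutator_eq_bot hJp
    -- the images in `X`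
    have h1 : (⁅pPrimeCore 2 ↥C, J⁆).map C.subtype ≤ oddCore X := by
      refine le_trans (Subgroup.map_mono ?_) (hB x hx)
      rw [commutator_comm]
      exact commutator_mono (le_sSup hJ) le_rfl
    have h2 : J.map C.subtype ≤ layer X := by
      have h3 := Cfsg.Agent.S1301.result (Subgroup.zpowers x) (isPGroup_zpowers hx)
      have hc : Subgroup.centralizer ((Subgroup.zpowers x : Subgroup X) : Set X) =
          Subgroup.centralizer ({x} : Set X) := by
        rw [Subgroup.zpowers_eq_closure, Subgroup.centralizer_closure]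
      rw [hc, hX] at h3
      exact (Subgroup.map_mono (le_sSup hJ)).trans h3
    have h4 : ⁅layer X, oddCore X⁆ = ⊥ := by
      rw [commutator_eq_bot_iff_le_centralizer, Components.layer_le_iff]
      intro K hK
      rw [← commutator_eq_bot_iff_le_centralizer]
      have hn : (pPrimeCore 2 X).Normal := Lib.Cores.pPrimeCore_normal 2
      rcases Components.component_le_or_commutator_eq_bot_of_le_normalizer hK
        (H := oddCore X) (by rw [normalizer_eq_top_iff.mpr hn]; exact le_top) with h | h
      · exfalso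
        have h5 : 2 ∣ Nat.card K := hFT.even hK.2
        have h6 : 2 ∣ Nat.card (oddCore X) := h5.trans (Subgroup.card_dvd_of_le h)
        have h7 : (Nat.card (oddCore X)).Coprime 2 := Lib.Cores.pPrimeCore_coprime 2
        exact Nat.not_coprime_of_dvd_of_dvd (by norm_num) h6 dvd_rfl h7
      · exact h
    have h5 : (⁅⁅pPrimeCore 2 ↥C, J⁆, J⁆).map C.subtype = ⊥ := by
      rw [Subgroup.map_commutator, eq_bot_iff, ← h4, commutator_comm]
      exact commutator_mono h2 h1
    exact (Subgroup.map_eq_bot_iff_of_injective _ (Subgroup.subtype_injective _)).mp h5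

theorem blh_congr {H H' : Subgroup G} (h : H = H') (hH : BLH H) : BLH H' := h ▸ hH

/-- `L_{2'} = E` is invariant under isomorphisms. -/
theorem pLayer_eq_layer_congr {X Y : Type*} [Group X] [Finite X] [Group Y] [Finite Y] (e : X ≃* Y)
    (hX : pLayer 2 X = layer X) : pLayer 2 Y = layer Y := by
  haveI : Fact (Nat.Prime 2) := ⟨Nat.prime_two⟩
  rw [← Components.map_equiv_layer e, ← hX]
  exact (PLayerAut.map_equiv_pLayer 2 e).symm

theorem FT.sub {G : Type*} [Group G] (h : FT G) (H : Subgroup G) : FT ↥H := by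
  intro K hK
  have e := K.equivMapOfInjective H.subtype (Subgroup.subtype_injective H)
  have h1 : Odd (Nat.card (K.map H.subtype)) := by rwa [← Nat.card_congr e.toEquiv]
  have h2 := h _ h1
  exact Group.isSolvable_of_isSolvable_injective (f := e.toMonoidHom) e.injective

/-- The step from `H` to `C_H(x)`. -/
theorem BLH.centralizer (hFT : FT G) {H : Subgroup G} (hH : BLH H) (hB : HasBProperty ↥H) {x : G}
    (hxH : x ∈ H) (hx : orderOf x = 2) : BLH (H ⊓ centralizer ({x} : Set G)) := by
  have h1 := pLayer_centralizer (x := (⟨x, hxH⟩ : H)) (FT.sub hFT H) hH hB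
    (by rw [Subgroup.orderOf_mk, hx])
  have h2 := subgroupOf_inf_cs (⟨x, hxH⟩ : H)
  change (H ⊓ Subgroup.centralizer ({x} : Set G)).subgroupOf H = _ at h2
  rw [← h2] at h1
  exact pLayer_eq_layer_congr (Subgroup.subgroupOfEquivOfLe (inf_le_left)) h1

/-- An elementary abelian 2-subgroup. -/
def EA {G : Type*} [Group G] (W : Subgroup G) : Prop := ∀ w ∈ W, w * w = 1

omit [Finite G] in
theorem EA.comm {W : Subgroup G} (hW : EA W) {u v : G} (hu : u ∈ W) (hv : v ∈ W) :
    u * v = v * u := by
  have h1 := hW (u * v) (mul_mem hu hv)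
  have h2 : (u * v)⁻¹ = u * v := inv_eq_of_mul_eq_one_left h1
  have h3 : u⁻¹ = u := inv_eq_of_mul_eq_one_left (hW u hu)
  have h4 : v⁻¹ = v := inv_eq_of_mul_eq_one_left (hW v hv)
  rw [mul_inv_rev, h3, h4] at h2
  exact h2.symm

omit [Finite G] in
theorem centralizer_sup_zpowers (W : Subgroup G) (x : G) :
    Subgroup.centralizer ((W ⊔ zpowers x : Subgroup G) : Set G) =
      Subgroup.centralizer (W : Set G) ⊓ Subgroup.centralizer ({x} : Set G) := by
  apply le_antisymm
  · refine le_inf (Subgroup.centralizer_le (fun y hy => (le_sup_left : W ≤ _) hy)) ?_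
    apply Subgroup.centralizer_le
    rintro y rfl
    exact (le_sup_right : zpowers y ≤ _) (mem_zpowers y)
  · rw [le_centralizer_iff, sup_le_iff]
    constructor
    · rw [le_centralizer_iff]
      exact inf_le_left
    · rw [zpowers_le]
      rw [mem_centralizer_iff]
      rintro y ⟨-, hy⟩
      exact mem_cs.mp hy

/-- **(P0)**: `L_{2'}(C(W)) = E(C(W))` for every elementary abelian 2-subgroup `W ≠ 1`. -/
theorem blw (hFT : FT G) (hB : BL G) (hBP : ∀ H : Subgroup G, HasBProperty ↥H) (W : Subgroup G)
    (hW : EA W) (hne : W ≠ ⊥) : BLH (Subgroup.centralizer (W : Set G)) := by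
  induction hn : Nat.card W using Nat.strong_induction_on generalizing W with
  | _ n ih =>
    -- a maximal proper subgroup
    obtain ⟨W', hW', hmax⟩ : ∃ W' : Subgroup G, W' < W ∧ ∀ V : Subgroup G, W' < V → V ≤ W → V = W := by
      obtain ⟨W', h1, h2⟩ := Set.Finite.exists_maximalFor (fun V : Subgroup G => V)
        {V : Subgroup G | V < W} (Set.toFinite _) ⟨⊥, bot_lt_iff_ne_bot.mpr hne⟩
      refine ⟨W', h1, fun V hV hVW => ?_⟩
      by_contra hcon
      have h3 := h2 (j := V) (lt_of_le_of_ne hVW hcon) hV.le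
      exact absurd hV (not_lt_of_ge h3)
    obtain ⟨x, hxW, hxW'⟩ := SetLike.exists_of_lt hW'
    have hx1 : x ≠ 1 := by
      rintro rfl
      exact hxW' (one_mem _)
    have hx2 : orderOf x = 2 := order_of_sq (hW x hxW) hx1
    have hsup : W' ⊔ zpowers x = W := by
      apply hmax
      · refine lt_of_le_of_ne le_sup_left ?_
        intro h
        exact hxW' (h ▸ (le_sup_right : zpowers x ≤ W' ⊔ zpowers x) (mem_zpowers x))
      · exact sup_le hW'.le ((zpowers_le).mpr hxW)
    have hc := centralizer_sup_zpowers W' x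
    rw [hsup] at hc
    by_cases hbot : W' = ⊥
    · rw [hbot] at hc
      have h1 : Subgroup.centralizer ((⊥ : Subgroup G) : Set G) = ⊤ := by
        rw [eq_top_iff]
        intro y _
        rw [mem_centralizer_iff]
        intro z hz
        rw [Subgroup.mem_bot.mp hz, one_mul, mul_one]
      rw [h1, top_inf_eq] at hc
      exact blh_congr hc.symm (hB x hx2)
    · have hlt : Nat.card W' < n := by
        rw [← hn]
        exact Set.ncard_lt_ncard hW' (Set.toFinite _)
      have h1 := ih _ hlt W' (fun w hw => hW w (hW'.le hw)) hbot rfl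
      have hxC : x ∈ Subgroup.centralizer (W' : Set G) := by
        rw [mem_centralizer_iff]
        intro y hy
        exact hW.comm (hW'.le hy) hxW
      exact blh_congr hc.symm (h1.centralizer hFT (hBP _) hxC hx2)

end BL

section PumpH

variable {G : Type*} [Group G] [Finite G]

/-- The pump-up in `H` of a component of `C_H(x)`. -/
theorem pumpH (hFT : FT G) {H : Subgroup G} (hH : BLH H) {x : G} (hxH : x ∈ H) (hx : orderOf x = 2)
    {K : Subgroup G} (hK : CompIn (H ⊓ centralizer ({x} : Set G)) K) :
    ∃ D : Subgroup G, CompIn H D ∧ (K = D ∨ (K < D ∧ cj x D = D) ∨ Dg K D x) := by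
  have hKY : K ≤ H := hK.le.trans inf_le_left
  have hKz : K ≤ centralizer ({x} : Set G) := hK.le.trans inf_le_right
  have hzK : x ∈ centralizer (K : Set G) := by
    rw [mem_centralizer_iff]
    intro y hy
    exact mem_cs.mp (hKz hy)
  have h1 : Comp (⟨x, hxH⟩ : H) (K.subgroupOf H) := hK.comp_of hxH
  have hz' : orderOf (⟨x, hxH⟩ : H) = 2 := by rw [Subgroup.orderOf_mk, hx]
  have h2 : 2 ∣ Nat.card (K.subgroupOf H) := hFT.even' h1.quasi
  have h3 := le_layer hH hz' h1 h2
  have hsq : (⟨x, hxH⟩ : H) * ⟨x, hxH⟩ = 1 := sq_of_order hz'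
  obtain ⟨D, hD, hcase⟩ := trichotomy_of_le_layer (⟨x, hxH⟩ : H) hsq (K.subgroupOf H) h1 h3
  have hDH : D.map H.subtype ≤ H := map_subtype_le D
  have hDc : CompIn H (D.map H.subtype) := by
    refine ⟨hDH, ?_⟩
    have h1 : (D.map H.subtype).subgroupOf H = D :=
      Subgroup.comap_map_eq_self_of_injective (Subgroup.subtype_injective _) D
    rwa [h1]
  have hxn : cj x H = H := cj_eq_of_mem hxH
  refine ⟨D.map H.subtype, hDc, ?_⟩
  have hKm : (K.subgroupOf H).map H.subtype = K := Subgroup.map_subgroupOf_eq_of_le hKY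
  have hlt : ∀ D' : Subgroup G, CompIn H D' → K ≤ D' → cj x D' = D' := by
    intro D' hD' hle
    by_contra hne
    have h4 := hD'.comm (hD'.conj_of_norm hxn) (fun h => hne h.symm)
    apply not_comm_self hK.quasi
    intro y hy
    rw [mem_centralizer_iff]
    intro y' hy'
    have hy'' : y' ∈ cj x D' := by
      have := conj_mem_cj (g := x) (hle hy')
      rwa [← mem_centralizer_iff.mp hzK y' hy', mul_inv_cancel_right] at this
    exact (comm_elt h4 (hle hy) hy'').symm
  rcases hcase with h | h | ⟨h4, h5, h6⟩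
  · left
    rw [← h, hKm]
  · right; left
    have := (Subgroup.map_lt_map_iff_of_injective (Subgroup.subtype_injective H)).mpr h
    rw [hKm] at this
    exact ⟨this, hlt _ hDc this.le⟩
  · right; right
    have hne : cj x (D.map H.subtype) ≠ D.map H.subtype := by
      intro h7
      apply h4
      have h8 := cj_map_subtype D (⟨x, hxH⟩ : H)
      change (cj (⟨x, hxH⟩ : H) D).map H.subtype = cj x (D.map H.subtype) at h8
      rw [h7] at h8
      exact Subgroup.map_injective (Subgroup.subtype_injective H) h8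
    refine ⟨hDc.quasi, sq_of_order hx, hzK, hne,
      hDc.comm (hDc.conj_of_norm hxn) (fun h => hne h.symm), ?_, ?_⟩
    · rintro _ ⟨d, hd, rfl⟩
      exact h5 d hd
    · intro k hk
      obtain ⟨d, hd, hkd⟩ := h6 ⟨k, hKY hk⟩ hk
      exact ⟨d, ⟨d, hd, rfl⟩, congrArg Subtype.val hkd⟩

omit [Finite G] in
/-- The component over a subgroup which is not abelian is unique. -/
theorem CompIn.over_unique {H K D D' : Subgroup G} (hD : CompIn H D) (hD' : CompIn H D')
    (hK : IsQuasisimple K) (h1 : K ≤ D) (h2 : K ≤ D') : D = D' := by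
  by_contra hne
  apply not_comm_self hK
  intro x hx
  rw [mem_centralizer_iff]
  intro y hy
  exact (comm_elt (hD.comm hD' hne) (h1 hx) (h2 hy)).symm

/-- A component of `C_H(x)` normalizes every component of `H`. -/
theorem norm_of_comp (hFT : FT G) {H : Subgroup G} (hH : BLH H) {x : G} (hxH : x ∈ H)
    (hx : orderOf x = 2) {K D : Subgroup G} (hK : CompIn (H ⊓ centralizer ({x} : Set G)) K)
    (hD : CompIn H D) {b : G} (hb : b ∈ K) : cj b D = D := by
  have hxn : cj x H = H := cj_eq_of_mem hxH
  have key : ∀ E : Subgroup G, CompIn H E → ∀ d ∈ E, cj d D = D := by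
    intro E hE d hd
    by_cases h : E = D
    · rw [h] at hd
      exact cj_eq_of_mem hd
    · exact cj_eq_of_mem_centralizer (hE.comm hD h hd)
  obtain ⟨E, hE, h | ⟨h, -⟩ | h⟩ := pumpH hFT hH hxH hx hK
  · exact key E hE b (h ▸ hb)
  · exact key E hE b (h.le hb)
  · obtain ⟨d, hd, rfl⟩ := h.ex b hb
    rw [← D3.cj_cj, key _ (hE.conj_of_norm hxn) _ (conj_mem_cj hd), key E hE d hd]

/-- **(P)**: `x = w b`, where `w` centralizes `H` and `b` lies in a component `B` of `C_H(x)`. Then `x`
normalizes every component of `H`, every component `K` of `C_H(x)` lies in a unique component `D` of `H`,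
and `K = D`, or `x` does not centralize `D` and `B ≤ D`. -/
theorem exists_over (hFT : FT G) {H : Subgroup G} (hH : BLH H) {x w b : G} (hxH : x ∈ H)
    (hx : orderOf x = 2) {B : Subgroup G} (hB : CompIn (H ⊓ centralizer ({x} : Set G)) B)
    (hb : b ∈ B) (hw : w ∈ centralizer (H : Set G)) (hxw : x = w * b) :
    (∀ D, CompIn H D → cj x D = D) ∧
      ∀ K, CompIn (H ⊓ centralizer ({x} : Set G)) K → ∃ D, CompIn H D ∧ K ≤ D ∧
        (K = D ∨ (K < D ∧ x ∉ centralizer (D : Set G) ∧ b ∉ centralizer (D : Set G) ∧ B ≤ D)) := by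
  have hn : ∀ D, CompIn H D → cj x D = D := by
    intro D hD
    have h1 := norm_of_comp hFT hH hxH hx hB hD hb
    have h2 : w ∈ centralizer (D : Set G) := (Subgroup.centralizer_le (fun y hy => hD.le hy)) hw
    rw [hxw, ← D3.cj_cj, h1]
    exact cj_eq_of_mem_centralizer h2
  refine ⟨hn, fun K hK => ?_⟩
  obtain ⟨D, hD, h | ⟨h, -⟩ | h⟩ := pumpH hFT hH hxH hx hK
  · exact ⟨D, hD, h.le, Or.inl h⟩
  · have hwD : w ∈ centralizer (D : Set G) :=
      (Subgroup.centralizer_le (fun y hy => hD.le hy)) hw
    have hxD : x ∉ centralizer (D : Set G) := by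
      intro hc
      have h1 : D ≤ H ⊓ centralizer ({x} : Set G) := by
        refine le_inf hD.le fun y hy => mem_cs.mpr (mem_centralizer_iff.mp hc y hy)
      exact h.ne (hK.eq_of_le hD.quasi h1 h.le)
    have hbD : b ∉ centralizer (D : Set G) := by
      intro hc
      exact hxD (hxw ▸ mul_mem hwD hc)
    refine ⟨D, hD, h.le, Or.inr ⟨h, hxD, hbD, ?_⟩⟩
    obtain ⟨E, hE, h' | ⟨h', -⟩ | h'⟩ := pumpH hFT hH hxH hx hB
    · by_cases hED : E = D
      · rw [h', hED]
      · exact absurd (hE.comm hD hED (h' ▸ hb)) hbD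
    · by_cases hED : E = D
      · rw [← hED]; exact h'.le
      · exact absurd (hE.comm hD hED (h'.le hb)) hbD
    · exact absurd (hn E hE) h'.ne
  · exact absurd (hn D hD) h.ne

end PumpH

end Cfsg.Agent.OddHalf.NI
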