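import Cfsg.Agent.OddHalf.NI.ThmX
import Cfsg.Agent.OddHalf.NI.PumpW

/-!
# THEOREM X: the pump-up property `PumpV` from L-balance and the B-property
-/

set_option autoImplicit false

namespace Cfsg.Agent.OddHalf.NI.ThmXOf

open Subgroup Cfsg Cfsg.Agent.SignalizersComponents Cfsg.Agent.OddHalf.D3 Cfsg.Agent.OddHalf.NI
open Cfsg.Agent.OddHalf.NI.ThmX

variable {G : Type*} [Group G]

/-- The group generated by pairwise commuting involutions is elementary abelian. -/
theorem ea_closure {S : Set G} (h : CInv S) : EA (Subgroup.closure S) := by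
  have hcomm : ∀ x ∈ Subgroup.closure S, ∀ y ∈ Subgroup.closure S, x * y = y * x := by
    intro x hx y hy
    have h1 := Subgroup.isMulCommutative_closure (k := S) (fun a ha b hb => h.comm a ha b hb)
    exact congrArg Subtype.val (h1.is_comm.comm (⟨x, hx⟩ : Subgroup.closure S) ⟨y, hy⟩)
  intro w hw
  induction hw using Subgroup.closure_induction with
  | mem z hz => exact sq_of_order (h.ord z hz)
  | one => exact one_mul 1
  | mul u v hu hv ihu ihv =>
    calc u * v * (u * v) = u * (v * u) * v := by group
      _ = (u * u) * (v * v) := by rw [← hcomm u hu v hv]; group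
      _ = 1 := by rw [ihu, ihv, one_mul]
  | inv u _ ihu =>
    rw [← mul_inv_rev, ihu, inv_one]

theorem pumpV [Finite G] (hFT : FT G) (hB : BL G) (hBP : ∀ H : Subgroup G, HasBProperty ↥H) :
    PumpV G := by
  intro S t K hS hI hK
  have hIS : CInv S := hI.mono (Set.subset_insert t S)
  have hne : Subgroup.closure S ≠ ⊥ := by
    obtain ⟨s, hs⟩ := hS
    intro h
    have h1 : s = 1 := by
      rw [← Subgroup.mem_bot, ← h]
      exact Subgroup.subset_closure hs
    have h2 := hIS.ord s hs
    rw [h1, orderOf_one] at h2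
    exact absurd h2 (by norm_num)
  have h1 := blw hFT hB hBP _ (ea_closure hIS) hne
  rw [Subgroup.centralizer_closure] at h1
  have htC : t ∈ centralizer S := by
    rw [mem_centralizer_iff]
    intro s hs
    exact hI.comm s (Set.mem_insert_of_mem _ hs) t (Set.mem_insert _ _)
  exact pumpH hFT h1 htC (hI.ord t (Set.mem_insert _ _)) hK

end Cfsg.Agent.OddHalf.NI.ThmXOf
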