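import Cfsg.Agent.OddHalf.NI.Props
import Cfsg.Agent.OddHalf.NI.Final
import Cfsg.Agent.OddHalf.NI.ThmXOf
import Cfsg.Agent.OddHalf.NI.OddQ
import Cfsg.Agent.Lib.PSL2Inv
import Cfsg.Agent.TwoFusion.QuatCoverSL
import Cfsg.Agent.S1304

/-!
# THEOREM X from (F2'), (Sol) and (AutM)

The components `D` of `C(S)` in THEOREM X may have a centre of even and odd order; (F2') is applied to
`D / O(D)`. In Solomon's configuration `O(Z(Du))` centralizes `Dv` (AutM), so that (Sol) can be applied to
`⟨Du, Dv⟩` modulo a central subgroup of odd order.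
-/

set_option autoImplicit false

namespace Cfsg.Agent.OddHalf.NI.FrameKill

open Subgroup Cfsg Cfsg.Agent.SignalizersComponents Cfsg.Agent.OddHalf.NI
open Cfsg.Agent.OddHalf.D3 (cj Comp mem_cs sq_of_order order_of_sq not_comm_self comm_elt conj_mem_cj comm_symm)
open Cfsg.Agent.OddHalf.NI.ThmX (CInv F2p UI)
open Cfsg.Agent.OddHalf.NI.OddQ
open scoped commutatorElement

universe u

/-- A quasisimple group with an involution `b ∉ Z(N)` in a component `B ≅ SL₂(q)` of `C(b)` is of Lie type in odd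
characteristic modulo its centre (S1310; `M₁₁` is excluded by the component). -/
def LieCl : Prop :=
  ∀ (N : Type u) [Group N] [Finite N], IsQuasisimple N → ∀ (b : N) (B : Subgroup N), orderOf b = 2 →
    b ∉ center N → CompIn (centralizer ({b} : Set N)) B → b ∈ B → IsSL ↥B → Iface.LieOdd (N ⧸ center N)

/-! ### `SL₂(F)` -/

section SL

variable {F : Type} [Field F] [Fintype F]

/-- the type of the members -/
def QQ (F : Type) [Field F] {G : Type*} [Group G] (K : Subgroup G) : Prop :=
  Nonempty (↥K ≃* Matrix.SpecialLinearGroup (Fin 2) F)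

theorem sl_inv (hF : Odd (Fintype.card F)) {K : Type*} [Group K] (e : K ≃* Matrix.SpecialLinearGroup (Fin 2) F)
    {x y : K} (hx : orderOf x = 2) (hy : orderOf y = 2) : x = y := by
  have h2 := TwoFusion.QuatCoverSL.two_ne_zero_of_odd hF
  have key : ∀ z : K, orderOf z = 2 → e z = -1 := by
    intro z hz
    have h1 : e z * e z = 1 := by rw [← map_mul, sq_of_order hz, map_one]
    rcases Lib.PSL2Inv.sq_eq_one h2 h1 with h | h
    · exfalso
      have h3 : z = 1 := e.injective (by rw [h, map_one])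
      rw [h3, orderOf_one] at hz
      exact absurd hz (by norm_num)
    · exact h
  exact e.injective (by rw [key x hx, key y hy])

theorem ui_of_sl (hF : Odd (Fintype.card F)) {G : Type*} [Group G] {K : Subgroup G} (h : QQ F K) : UI K := by
  obtain ⟨e⟩ := h
  intro x hx y hy hx2 hy2
  have := sl_inv hF e (x := ⟨x, hx⟩) (y := ⟨y, hy⟩) (by rw [Subgroup.orderOf_mk, hx2])
    (by rw [Subgroup.orderOf_mk, hy2])
  exact congrArg Subtype.val this

omit [Fintype F] in
theorem sq_eq_one_of_center {K : Type*} [Group K] (e : K ≃* Matrix.SpecialLinearGroup (Fin 2) F) {x : K}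
    (hx : x ∈ center K) : x * x = 1 := by
  have h1 : e x ∈ center (Matrix.SpecialLinearGroup (Fin 2) F) := by
    rw [mem_center_iff] at hx ⊢
    intro g
    have := congrArg e (hx (e.symm g))
    simpa using this
  obtain ⟨r, hr, hre⟩ := Matrix.SpecialLinearGroup.mem_center_iff.mp h1
  apply e.injective
  rw [map_mul, map_one]
  apply Subtype.ext
  change (e x).1 * (e x).1 = 1
  rw [← hre, ← map_mul, ← pow_two]
  rw [Fintype.card_fin] at hr
  rw [hr, map_one]

/-- The image of `SL₂(F)` modulo a central subgroup of odd order. -/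
theorem sl_map {Y Z : Type*} [Group Y] [Group Z] {f : Y →* Z} (hf : COdd f) {K : Subgroup Y}
    (h : QQ F K) : QQ F (K.map f) := by
  obtain ⟨e⟩ := h
  have hinj : Function.Injective (f.subgroupMap K) := by
    rw [injective_iff_map_eq_one]
    intro x hx
    have h1 : (x : Y) ∈ f.ker := congrArg Subtype.val hx
    have h2 : x ∈ center K := by
      rw [mem_center_iff]
      intro y
      exact Subtype.ext (mem_center_iff.mp (hf.cen h1) y)
    have h3 := sq_eq_one_of_center e h2
    exact Subtype.ext (hf.eq_one_of_sq h1 (congrArg Subtype.val h3))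
  exact ⟨(MulEquiv.ofBijective (f.subgroupMap K) ⟨hinj, f.subgroupMap_surjective K⟩).symm.trans e⟩

theorem isSL_of_qq (hF : Odd (Fintype.card F)) (h3 : 3 < Fintype.card F) {G : Type*} [Group G] {K : Subgroup G}
    (h : QQ F K) : IsSL ↥K := ⟨F, inferInstance, inferInstance, hF, h3, h⟩

end SL

theorem ui_of_isSL {G : Type*} [Group G] {K : Subgroup G} (h : IsSL ↥K) : UI K := by
  obtain ⟨F, i1, i2, h1, -, h2⟩ := h
  exact ui_of_sl h1 h2

/-! ### odd cores -/

section Core

theorem center_two {N : Type*} [Group N] [Finite N] (hO : oddCore N = ⊥) : IsPGroup 2 ↥(center N) := by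
  intro x
  obtain ⟨a, m, hm, hx⟩ := Nat.exists_eq_two_pow_mul_odd (n := orderOf x) (orderOf_pos x).ne'
  refine ⟨a, ?_⟩
  set y : N := ((x ^ 2 ^ a : center N) : N) with hy
  have hyo : orderOf y = m := by
    rw [hy, Subgroup.orderOf_coe, orderOf_pow, hx, Nat.gcd_eq_right (dvd_mul_right _ _),
      Nat.mul_div_cancel_left _ (by positivity)]
  have hyc : y ∈ center N := (x ^ 2 ^ a : center N).2
  have hn : (zpowers y).Normal := by
    refine ⟨fun n hn g => ?_⟩
    have h1 : n ∈ center N := (zpowers_le.mpr hyc) hn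
    rw [mem_center_iff.mp h1 g, mul_inv_cancel_right]
    exact hn
  have h1 : zpowers y ≤ oddCore N := by
    apply Lib.Cores.le_pPrimeCore hn
    rw [Nat.card_zpowers, hyo, Nat.coprime_two_right]
    exact hm
  rw [hO, le_bot_iff, zpowers_eq_bot] at h1
  exact Subtype.ext h1

theorem oddCore_le_center {D : Type*} [Group D] [Finite D] (hq : IsQuasisimple D) {b : D}
    (hb : orderOf b = 2) : oddCore D ≤ center D := by
  rcases Components.quasisimple_normal hq (oddCore D) (Lib.Cores.pPrimeCore_normal 2) with h | h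
  · exfalso
    have h1 : (Nat.card (oddCore D)).Coprime 2 := Lib.Cores.pPrimeCore_coprime 2
    rw [h, Subgroup.card_top] at h1
    have h2 : 2 ∣ Nat.card D := hb ▸ orderOf_dvd_natCard b
    exact Nat.not_coprime_of_dvd_of_dvd (by norm_num) h2 dvd_rfl h1
  · exact h

instance oddCore_normal {D : Type*} [Group D] : (oddCore D).Normal := Lib.Cores.pPrimeCore_normal 2

theorem cOdd_mk {D : Type*} [Group D] [Finite D] (hq : IsQuasisimple D) {b : D} (hb : orderOf b = 2) :
    COdd (QuotientGroup.mk' (oddCore D)) where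
  surj := QuotientGroup.mk'_surjective _
  cen := by rw [QuotientGroup.ker_mk']; exact oddCore_le_center hq hb
  odd := by
    rw [QuotientGroup.ker_mk']
    exact Nat.coprime_two_right.mp (Lib.Cores.pPrimeCore_coprime 2)

theorem oddCore_eq_bot {Y Z : Type*} [Group Y] [Group Z] [Finite Y] [Finite Z] {f : Y →* Z} (hf : COdd f)
    (h : oddCore Y ≤ f.ker) : oddCore Z = ⊥ := by
  have h1 := ClassificationK.PCompTransport.comap_pPrimeCore 2 f (Nat.coprime_two_right.mpr hf.odd)
    (by rw [MonoidHom.range_eq_top.mpr hf.surj]; exact Subgroup.IsSubnormal.top)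
  rw [eq_bot_iff]
  intro z hz
  obtain ⟨y, rfl⟩ := hf.surj z
  have h2 : y ∈ (pPrimeCore 2 Z).comap f := hz
  rw [h1] at h2
  exact h h2

end Core

/-! ### the configuration -/

section Conf

variable (F : Type) [Field F] {G : Type*} [Group G]

/-- The data of (F2'). -/
structure PP (c d : G) (D A B B' : Subgroup G) : Prop where
  quasi : IsQuasisimple D
  cD : c ∈ centralizer (D : Set G)
  oc : orderOf c = 2
  od : orderOf d = 2
  cA : c ∈ A
  dB : d ∈ B
  cdB : c * d ∈ B'
  ne : A ≠ B
  qA : QQ F A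
  qB : QQ F B
  ui : UI B'
  compA : CompIn (D ⊓ centralizer ({d} : Set G)) A
  compB : CompIn (D ⊓ centralizer ({d} : Set G)) B
  compB' : CompIn (D ⊓ centralizer ({d} : Set G)) B'

variable {F}

theorem PP.cmem {c d : G} {D A B B' : Subgroup G} (h : PP F c d D A B B') : c ∈ D := (h.compA.le h.cA).1

theorem PP.dmem {c d : G} {D A B B' : Subgroup G} (h : PP F c d D A B B') : d ∈ D := (h.compB.le h.dB).1

theorem PP.comm {c d : G} {D A B B' : Subgroup G} (h : PP F c d D A B B') : d * c = c * d :=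
  mem_centralizer_iff.mp h.cD d h.dmem

theorem PP.cne {c d : G} {D A B B' : Subgroup G}
    (h : PP F c d D A B B') : c ≠ d := by
  intro hcd
  -- `c` would be in `A ∩ B`, hence... `C_D(d) = D`
  have h1 : D ≤ centralizer ({d} : Set G) := by
    intro x hx
    rw [mem_cs, ← hcd]
    exact mem_centralizer_iff.mp h.cD x hx
  have h2 : D ⊓ centralizer ({d} : Set G) = D := inf_eq_left.mpr h1
  have hA := h.compA
  have hB := h.compB
  rw [h2] at hA hB
  exact h.ne ((hA.eq_of_le h.quasi le_rfl hA.le).trans (hB.eq_of_le h.quasi le_rfl hB.le).symm)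

theorem PP.dnc {c d : G} {D A B B' : Subgroup G} (h : PP F c d D A B B') : d ∉ centralizer (D : Set G) := by
  intro hcd
  have h1 : D ≤ centralizer ({d} : Set G) := by
    intro x hx
    rw [mem_cs]
    exact mem_centralizer_iff.mp hcd x hx
  have h2 : D ⊓ centralizer ({d} : Set G) = D := inf_eq_left.mpr h1
  have hA := h.compA
  have hB := h.compB
  rw [h2] at hA hB
  exact h.ne ((hA.eq_of_le h.quasi le_rfl hA.le).trans (hB.eq_of_le h.quasi le_rfl hB.le).symm)

theorem PP.neA [Fintype F] (hF : Odd (Fintype.card F)) {c d : G} {D A B B' : Subgroup G}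
    (h : PP F c d D A B B') : B' ≠ A := by
  intro hA
  have h1 : c * d ∈ A := hA ▸ h.cdB
  have h2 : d ∈ A := by
    have := mul_mem (inv_mem h.cA) h1
    rwa [inv_mul_cancel_left] at this
  exact h.cne (ui_of_sl hF h.qA c h.cA d h2 h.oc h.od)

theorem PP.neB [Fintype F] (hF : Odd (Fintype.card F)) {c d : G} {D A B B' : Subgroup G}
    (h : PP F c d D A B B') : B' ≠ B := by
  intro hB
  have h1 : c * d ∈ B := hB ▸ h.cdB
  have h2 : c ∈ B := by
    have := mul_mem h1 (inv_mem h.dB)
    rwa [mul_inv_cancel_right] at this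
  exact h.cne (ui_of_sl hF h.qB c h2 d h.dB h.oc h.od)

end Conf

section S7

variable {S7 : ∀ (N : Type u) [Group N], N → N → Subgroup N → Subgroup N → Subgroup N → Prop}
variable {F : Type} [Field F] [Fintype F]

/-- (F2') for a configuration in `N` with `O(N) = 1`. -/
theorem PP.s7 (hF2 : F2' S7) (hL : LieCl.{u}) (hF : Odd (Fintype.card F)) (h3 : 3 < Fintype.card F)
    {N : Type u} [Group N] [Finite N] (hO : oddCore N = ⊥) {c d : N} {A B B' : Subgroup N}
    (h : PP F c d ⊤ A B B') : S7 N c d A B B' := by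
  have hq : IsQuasisimple N := Components.isQuasisimple_of_mulEquiv Subgroup.topEquiv h.quasi
  have hA := h.compA
  have hB := h.compB
  have hB' := h.compB'
  rw [top_inf_eq] at hA hB hB'
  have hc : c ∈ center N := by
    rw [mem_center_iff]
    intro g
    exact mem_centralizer_iff.mp h.cD g (mem_top g)
  have hd : d ∉ center N := by
    intro hd
    apply h.dnc
    rw [mem_centralizer_iff]
    intro g _
    exact mem_center_iff.mp hd g
  obtain ⟨A', hA', hcd, hSL, hall, hS⟩ := hF2 N hq (center_two hO)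
    (hL N hq d B h.od hd hB h.dB (isSL_of_qq hF h3 h.qB)) c d A B hc h.oc h.od h.cA h.dB h.ne hA hB
    ⟨F, inferInstance, inferInstance, hF, h3, h.qA, h.qB⟩
  rcases hall B' hB' with h1 | h1 | h1
  · exact absurd h1 (h.neA hF)
  · exact absurd h1 (h.neB hF)
  · rw [h1]; exact hS

end S7

section Transport

variable {F : Type} [Field F] [Fintype F]

omit [Fintype F] in
/-- A configuration in `G`, inside `Y`, as a configuration of the group `↥Y`. -/
theorem PP.sub {G : Type*} [Group G] {c d : G} {D A B B' Y : Subgroup G} (h : PP F c d D A B B') (hY : D ≤ Y)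
    (hc : c ∈ Y) (hd : d ∈ Y) :
    PP F (⟨c, hc⟩ : Y) ⟨d, hd⟩ (D.subgroupOf Y) (A.subgroupOf Y) (B.subgroupOf Y) (B'.subgroupOf Y) := by
  have hA : A ≤ Y := (h.compA.le.trans inf_le_left).trans hY
  have hB : B ≤ Y := (h.compB.le.trans inf_le_left).trans hY
  have hB' : B' ≤ Y := (h.compB'.le.trans inf_le_left).trans hY
  have hle : D ⊓ centralizer ({d} : Set G) ≤ Y := inf_le_left.trans hY
  have e : (D ⊓ centralizer ({d} : Set G)).subgroupOf Y =
      D.subgroupOf Y ⊓ centralizer ({(⟨d, hd⟩ : Y)} : Set Y) := by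
    ext x
    rw [mem_inf, mem_subgroupOf, mem_subgroupOf, mem_inf, mem_cs, mem_cs]
    exact and_congr_right fun _ => ⟨fun h => Subtype.ext h, fun h => congrArg Subtype.val h⟩
  refine ⟨?_, ?_, ?_, ?_, h.cA, h.dB, h.cdB, ?_, ?_, ?_, ?_, ?_, ?_, ?_⟩
  · exact Components.isQuasisimple_of_mulEquiv (Subgroup.subgroupOfEquivOfLe hY).symm h.quasi
  · rw [mem_centralizer_iff]
    intro x hx
    exact Subtype.ext (mem_centralizer_iff.mp h.cD x hx)
  · rw [Subgroup.orderOf_mk]; exact h.oc
  · rw [Subgroup.orderOf_mk]; exact h.od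
  · intro h1
    apply h.ne
    have := congrArg (Subgroup.map Y.subtype) h1
    rwa [Subgroup.map_subgroupOf_eq_of_le hA, Subgroup.map_subgroupOf_eq_of_le hB] at this
  · obtain ⟨e1⟩ := h.qA
    exact ⟨(Subgroup.subgroupOfEquivOfLe hA).trans e1⟩
  · obtain ⟨e1⟩ := h.qB
    exact ⟨(Subgroup.subgroupOfEquivOfLe hB).trans e1⟩
  · intro x hx y hy hx2 hy2
    apply Subtype.ext
    exact h.ui x hx y hy (by rw [Subgroup.orderOf_coe]; exact hx2) (by rw [Subgroup.orderOf_coe]; exact hy2)
  · rw [← e]; exact h.compA.subgroupOf hle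
  · rw [← e]; exact h.compB.subgroupOf hle
  · rw [← e]; exact h.compB'.subgroupOf hle

/-- The image of a configuration modulo a central subgroup of odd order. -/
theorem PP.map {Y Z : Type*} [Group Y] [Group Z] {f : Y →* Z} (hf : COdd f) {c d : Y} {D A B B' : Subgroup Y}
    (h : PP F c d D A B B') : PP F (f c) (f d) (D.map f) (A.map f) (B.map f) (B'.map f) := by
  have hcd2 : d * d = 1 := sq_of_order h.od
  refine ⟨?_, ?_, hf.orderOf_map h.oc, hf.orderOf_map h.od, mem_map_of_mem f h.cA, mem_map_of_mem f h.dB, ?_,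
    ?_, sl_map hf h.qA, sl_map hf h.qB, ?_, ?_, ?_, ?_⟩
  · have h1 : CompIn D D := by
      refine ⟨le_rfl, ?_, ?_⟩
      · rw [Subgroup.subgroupOf_self]; exact Subgroup.IsSubnormal.top
      · exact Components.isQuasisimple_of_mulEquiv (Subgroup.subgroupOfEquivOfLe le_rfl).symm h.quasi
    exact (hf.comp_map h1).quasi
  · rw [mem_centralizer_iff]
    rintro _ ⟨x, hx, rfl⟩
    rw [← map_mul, ← map_mul, mem_centralizer_iff.mp h.cD x hx]
  · rw [← map_mul]; exact mem_map_of_mem f h.cdB
  · intro h1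
    exact h.ne (hf.comp_inj h.compA h.compB h1)
  · rintro _ ⟨x, hx, rfl⟩ _ ⟨y, hy, rfl⟩ hx2 hy2
    -- lift the involutions
    have lift : ∀ x ∈ B', orderOf (f x) = 2 → ∃ x' ∈ B', f x' = f x ∧ orderOf x' = 2 := by
      intro x hx hx2
      have h1 : x * x ∈ f.ker := by
        rw [MonoidHom.mem_ker, map_mul, sq_of_order hx2]
      obtain ⟨m, hm⟩ := hf.odd
      have h2 : (x * x) ^ (2 * m + 1) = 1 := by
        have := pow_card_eq_one' (G := f.ker) (x := ⟨x * x, h1⟩)
        rw [← hm]
        exact congrArg Subtype.val this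
      refine ⟨x ^ (2 * m + 1), pow_mem hx _, ?_, ?_⟩
      · rw [map_pow, pow_succ, pow_mul, pow_two, sq_of_order hx2, one_pow, one_mul]
      · apply order_of_sq
        · rw [← (Commute.refl x).mul_pow, h2]
        · intro h3
          have h4 : f (x ^ (2 * m + 1)) = f x := by
            rw [map_pow, pow_succ, pow_mul, pow_two, sq_of_order hx2, one_pow, one_mul]
          rw [h3, map_one] at h4
          rw [← h4, orderOf_one] at hx2
          exact absurd hx2 (by norm_num)
    obtain ⟨x', hx', e1, o1⟩ := lift x hx hx2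
    obtain ⟨y', hy', e2, o2⟩ := lift y hy hy2
    rw [← e1, ← e2, h.ui x' hx' y' hy' o1 o2]
  · rw [← hf.map_inf_cs hcd2]; exact hf.comp_map h.compA
  · rw [← hf.map_inf_cs hcd2]; exact hf.comp_map h.compB
  · rw [← hf.map_inf_cs hcd2]; exact hf.comp_map h.compB'

end Transport

/-! ### (F2') for the components of `C(S)` -/

section Inst

variable {S7 : ∀ (N : Type u) [Group N], N → N → Subgroup N → Subgroup N → Subgroup N → Prop}
variable {F : Type} [Field F] [Fintype F]

theorem f2p (hF2 : F2' S7) (hL : LieCl.{u}) (hF : Odd (Fintype.card F)) (h3 : 3 < Fintype.card F)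
    {G : Type u} [Group G] [Finite G] : F2p (G := G) (QQ F) (PP F) := by
  intro S c d D A B _ _ hD hc hcD hd hcA hdB hA hB hne hcA' hcB'
  have hq := hD.quasi
  have hcm : c ∈ D := (hcA'.le hcA).1
  have hdm : d ∈ D := (hcB'.le hdB).1
  have hAD : A ≤ D := hcA'.le.trans inf_le_left
  have hBD : B ≤ D := hcB'.le.trans inf_le_left
  set c' : D := ⟨c, hcm⟩ with hc'
  set d' : D := ⟨d, hdm⟩ with hd'
  have hc2' : orderOf c' = 2 := by rw [hc', Subgroup.orderOf_mk, hc]
  have hd2' : orderOf d' = 2 := by rw [hd', Subgroup.orderOf_mk, hd]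
  have hdd : d' * d' = 1 := sq_of_order hd2'
  let f : ↥D →* (↥D ⧸ oddCore ↥D) := QuotientGroup.mk' (oddCore ↥D)
  have hf : COdd f := cOdd_mk hq hd2'
  have hcomp : ∀ K : Subgroup G, CompIn (D ⊓ centralizer ({d} : Set G)) K →
      CompIn (centralizer ({d'} : Set D)) (K.subgroupOf D) := fun K hK => compIn_of_comp (hK.comp_of hdm)
  have hcompf : ∀ K : Subgroup G, CompIn (D ⊓ centralizer ({d} : Set G)) K →
      CompIn (centralizer ({f d'} : Set (↥D ⧸ oddCore ↥D))) ((K.subgroupOf D).map f) := by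
    intro K hK
    rw [← hf.map_cs hdd]
    exact hf.comp_map (hcomp K hK)
  have hsl : ∀ K : Subgroup G, K ≤ D → QQ F K → QQ F ((K.subgroupOf D).map f) := by
    rintro K hK ⟨e⟩
    exact sl_map hf ⟨(Subgroup.subgroupOfEquivOfLe hK).trans e⟩
  have hAB : (A.subgroupOf D).map f ≠ (B.subgroupOf D).map f := by
    intro h
    have h1 := hf.comp_inj (hcomp A hcA') (hcomp B hcB') h
    apply hne
    have := congrArg (Subgroup.map D.subtype) h1
    rwa [Subgroup.map_subgroupOf_eq_of_le hAD, Subgroup.map_subgroupOf_eq_of_le hBD] at this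
  -- `N = D / O(D)`
  have hNq : IsQuasisimple (↥D ⧸ oddCore ↥D) := by
    have h1 : CompIn (⊤ : Subgroup D) ⊤ :=
      ⟨le_rfl, by rw [Subgroup.subgroupOf_self]; exact Subgroup.IsSubnormal.top,
        Components.isQuasisimple_of_mulEquiv ((Subgroup.topEquiv.trans Subgroup.topEquiv).symm.trans
          (MulEquiv.subgroupCongr (Subgroup.subgroupOf_self _).symm)) hq⟩
    have h2 := (hf.comp_map h1).quasi
    rw [Subgroup.map_top_of_surjective f hf.surj] at h2
    exact Components.isQuasisimple_of_mulEquiv Subgroup.topEquiv h2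
  have hNO : oddCore (↥D ⧸ oddCore ↥D) = ⊥ := oddCore_eq_bot hf (by rw [QuotientGroup.ker_mk'])
  have hcc : f c' ∈ center (↥D ⧸ oddCore ↥D) := by
    rw [mem_center_iff]
    intro g
    obtain ⟨x, rfl⟩ := hf.surj g
    rw [← map_mul, ← map_mul]
    exact congrArg f (Subtype.ext (mem_centralizer_iff.mp hcD x x.2))
  have hdc : f d' ∉ center (↥D ⧸ oddCore ↥D) := by
    intro hcon
    apply hAB
    have h1 : centralizer ({f d'} : Set (↥D ⧸ oddCore ↥D)) = ⊤ := by
      rw [eq_top_iff]
      intro x _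
      rw [mem_cs]
      exact mem_center_iff.mp hcon x
    have h2 := hcompf A hcA'
    have h4 := hcompf B hcB'
    rw [h1] at h2 h4
    have h5 : IsQuasisimple (⊤ : Subgroup (↥D ⧸ oddCore ↥D)) :=
      Components.isQuasisimple_of_mulEquiv Subgroup.topEquiv.symm hNq
    rw [h2.eq_of_le h5 le_rfl le_top, h4.eq_of_le h5 le_rfl le_top]
  obtain ⟨A', hA', hcd, hSL, hall, -⟩ := hF2 (↥D ⧸ oddCore ↥D) hNq (center_two hNO)
    (hL _ hNq (f d') _ (hf.orderOf_map hd2') hdc (hcompf B hcB') (mem_map_of_mem f (show d' ∈ B.subgroupOf D from hdB))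
      (isSL_of_qq hF h3 (hsl B hBD hB)))
    (f c') (f d') ((A.subgroupOf D).map f) ((B.subgroupOf D).map f) hcc (hf.orderOf_map hc2') (hf.orderOf_map hd2')
    (mem_map_of_mem f (show c' ∈ A.subgroupOf D from hcA)) (mem_map_of_mem f (show d' ∈ B.subgroupOf D from hdB)) hAB
    (hcompf A hcA') (hcompf B hcB') ⟨F, inferInstance, inferInstance, hF, h3, hsl A hAD hA, hsl B hBD hB⟩
  -- lift the third component
  obtain ⟨K₀, hK₀, hK₀m⟩ := hf.comp_lift (H := centralizer ({d'} : Set D)) (L := A')
    (by rw [hf.map_cs hdd]; exact hA')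
  have hB'c : CompIn (D ⊓ centralizer ({d} : Set G)) (K₀.map D.subtype) :=
    compIn_of_comp_sub hK₀.toComp
  have hui : UI (K₀.map D.subtype) := by
    rintro _ ⟨x, hx, rfl⟩ _ ⟨y, hy, rfl⟩ hx2 hy2
    have hx2' : orderOf x = 2 := by rw [← Subgroup.orderOf_coe]; exact hx2
    have hy2' : orderOf y = 2 := by rw [← Subgroup.orderOf_coe]; exact hy2
    have h1 : f x = f y := ui_of_isSL hSL (f x) (hK₀m ▸ mem_map_of_mem f hx) (f y)
      (hK₀m ▸ mem_map_of_mem f hy) (hf.orderOf_map hx2') (hf.orderOf_map hy2')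
    have h2 : x * y ∈ f.ker := by
      rw [MonoidHom.mem_ker, map_mul, h1, sq_of_order (hf.orderOf_map hy2')]
    have hcen := mem_center_iff.mp (hf.cen h2)
    have h4 : x * y * (x * y) = 1 := by
      calc x * y * (x * y) = x * (y * (x * y)) := by group
        _ = x * (x * y * y) := by rw [hcen y]
        _ = (x * x) * (y * y) := by group
        _ = 1 := by rw [sq_of_order hx2', sq_of_order hy2', one_mul]
    have h5 := hf.eq_one_of_sq h2 h4
    have h6 : x = y := by
      rw [mul_eq_one_iff_eq_inv] at h5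
      rw [h5]
      exact inv_eq_of_mul_eq_one_left (sq_of_order hy2')
    rw [h6]
  have hcd' : c * d ∈ K₀.map D.subtype := by
    refine ⟨c' * d', ?_, rfl⟩
    apply hf.mem_of_map
    · have h1 : d' * c' = c' * d' := Subtype.ext (mem_centralizer_iff.mp hcD d hdm)
      calc c' * d' * (c' * d') = c' * (d' * c') * d' := by group
        _ = (c' * c') * (d' * d') := by rw [h1]; group
        _ = 1 := by rw [sq_of_order hc2', hdd, one_mul]
    · rw [hK₀m, map_mul]; exact hcd
  refine ⟨K₀.map D.subtype, hB'c, hui, hcd', ?_, hq, hcD, hc, hd, hcA, hdB, hcd', hne, hA, hB, hui, hcA',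
    hcB', hB'c⟩
  intro K hK
  have hKD : K ≤ D := hK.le.trans inf_le_left
  have back : ∀ L : Subgroup D, CompIn (centralizer ({d'} : Set D)) L → (K.subgroupOf D).map f = L.map f →
      K = L.map D.subtype := by
    intro L hL1 h
    have h1 := hf.comp_inj (hcomp K hK) hL1 h
    rw [← h1, Subgroup.map_subgroupOf_eq_of_le hKD]
  rcases hall _ (hcompf K hK) with h | h | h
  · left
    rw [back _ (hcomp A hcA') h, Subgroup.map_subgroupOf_eq_of_le hAD]
  · right; left
    rw [back _ (hcomp B hcB') h, Subgroup.map_subgroupOf_eq_of_le hBD]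
  · right; right
    exact back _ hK₀ (by rw [h, hK₀m])

end Inst

end Cfsg.Agent.OddHalf.NI.FrameKill
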