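import Mathlib
import Cfsg.Agent.OddHalf.NI.FrameMin
import Cfsg.Agent.OddHalf.LongSL.OfCls
import Cfsg.Agent.Nodes.ClsLift
import Cfsg.Agent.GH.Cov.QuatLift

/-!
# Frames in central 2-extensions (node NI, (T'))

* `sub_of_cls` : `K_r = ⟨Z r, Z (-r)⟩` is subnormal in `C(z r)` (any `Cls` with `GG = ⊤`);
* `frame_of_cls` : nontrivial elements of `⟨z r : r ∈ R⟩` lie in a frame (`K_r ≃ SL₂(F)`, `|F| > 3` odd);
* `frame_lift` : `f : E ->> Y` with central kernel a 2-group, `Cls` in `Y`: `Cls` lifts to `E` together with the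
  isomorphism types of the `K_r`, hence `frame_of_cls` holds in `E`.
-/

set_option autoImplicit false
set_option linter.unusedSectionVars false
set_option linter.dupNamespace false
set_option linter.style.haveILetI false

namespace Cfsg.Agent.OddHalf.NI.FrameLift

open CoxeterSystem Cfsg.Agent.ChevalleyStructure.CoxeterGeom Cfsg.Agent.Tits.Roots Cfsg.Agent.Tits.Core
  Cfsg.Agent.Tits.RootComb Cfsg.Agent.Nodes.Comb Cfsg.Agent.Nodes.Reps Cfsg.Agent.Nodes.BNOf
  Cfsg.Agent.Nodes.RGDLib Cfsg.Agent.Nodes.RGDLift Cfsg.Agent.Nodes.Chart Cfsg.Agent.Nodes.Bruhat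

section One

variable {I W Y : Type*} [Fintype I] [DecidableEq I] [Group W] [Fintype W] [Group Y] {M : CoxeterMatrix I}
  {cs : CoxeterSystem M W} {A : I → I → ℤ} {h : IsCartan M A} {p : ℕ} {T : Subgroup Y} {n : I → Y}
  {X : (I → ℤ) → Subgroup Y} {R : Set (I → ℤ)} {Z : (I → ℤ) → Subgroup Y} {z : (I → ℤ) → Y}

/-- **`K_r` is subnormal in `C(z r)`.** -/
theorem sub_of_cls (C : Cls cs h p T n X R Z z) (hp2 : Odd p) (hG : GG cs h T X = ⊤) {r : I → ℤ} (hr : r ∈ R) :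
    ((Z r ⊔ Z (-r)).subgroupOf (Subgroup.centralizer {z r})).IsSubnormal := by
  have hfin : Finite W := inferInstance
  rw [← LongSL.JX_eq C hp2 hr]
  refine LongSL.main C.rgd (C.z_torus r hr) (C.root r hr) (fun x hx h1 h2 u hu v hv => ?_) hG
  rw [LongSL.JX_eq C hp2 hr] at hv
  have hux := (LongSL.mem_ZX.1 hu).1
  by_cases h3 : form cs h x r = 0
  · exact Nodes.Perp.X_cm_KK C hr hx h3 u hux v hv
  · have h4 := C.z_inv r hr x hx h1 h2 h3 u hux
    have h5 : u * u = 1 := by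
      have h6 := (LongSL.mem_ZX.1 hu).2
      rw [h6, mul_assoc, C.z_sq r hr, mul_one] at h4
      nth_rewrite 1 [h4]
      rw [inv_mul_cancel]
    have h6 : u = 1 := by
      obtain ⟨k, hk⟩ := C.rgd.pgrp' hx ⟨u, hux⟩
      have h6 : u ^ p ^ k = 1 := congrArg Subtype.val hk
      have h7 : orderOf u ∣ 2 := orderOf_dvd_of_pow_eq_one (by rw [pow_two, h5])
      have h8 : orderOf u ∣ p ^ k := orderOf_dvd_of_pow_eq_one h6
      have h9 : orderOf u ∣ 1 := by
        have hc : Nat.Coprime 2 (p ^ k) := Nat.Coprime.pow_right _ (Nat.coprime_two_left.2 hp2)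
        rw [← hc]
        exact Nat.dvd_gcd h7 h8
      rwa [Nat.dvd_one, orderOf_eq_one_iff] at h9
    rw [h6, one_mul, mul_one]

/-- **The frame of `Cls`** (`GG = ⊤`). -/
theorem frame_of_cls (C : Cls cs h p T n X R Z z) (hp : p.Prime) (hodd : p ≠ 2) (hG : GG cs h T X = ⊤)
    (trans : ∀ r ∈ R, ∀ s ∈ R, ∃ w, s = rep cs h w r)
    {F : Type} [Field F] [Fintype F] (ho : Odd (Fintype.card F)) (hc : 3 < Fintype.card F)
    (sl : ∀ r ∈ R, Nonempty (Matrix.SpecialLinearGroup (Fin 2) F ≃* ↥(Z r ⊔ Z (-r))))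
    {z₀ : Y} (h0 : z₀ ∈ Subgroup.closure (z '' R)) (h1 : z₀ ≠ 1) : Nonempty (Frame Y z₀) :=
  FrameMin.exists_frame_cls C hp hodd trans ho hc sl
    (fun _ hr _ => sub_of_cls C (hp.odd_of_ne_two hodd) hG hr) h0 h1

end One

section Lift

variable {I W E Y : Type*} [Fintype I] [DecidableEq I] [Group W] [Fintype W] [Group E] [Finite E] [Group Y]
  {M : CoxeterMatrix I} {cs : CoxeterSystem M W} {A : I → I → ℤ} {h : IsCartan M A} {p : ℕ} [Fact p.Prime]
  {T : Subgroup Y} {n : I → Y} {X : (I → ℤ) → Subgroup Y} {R : Set (I → ℤ)}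
  {Z : (I → ℤ) → Subgroup Y} {z : (I → ℤ) → Y} {f : E →* Y}

/-- the kernel has order prime to `p` -/
theorem coprime_ker (hodd : p ≠ 2) (h2 : IsPGroup 2 f.ker) : (Nat.card f.ker).Coprime p := by
  have : Fact (Nat.Prime 2) := ⟨Nat.prime_two⟩
  obtain ⟨k, hk⟩ := IsPGroup.iff_card.1 h2
  rw [hk]
  apply Nat.Coprime.pow_left
  rw [Nat.coprime_primes Nat.prime_two Fact.out]
  exact fun e => hodd e.symm

/-- `GG = ⊤` lifts -/
theorem GG_lift (hf : f.ker ≤ Subgroup.center E) (hcop : (Nat.card f.ker).Coprime p)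
    (hs : Function.Surjective f) (D : RGD cs h p T n X) (hG : GG cs h T X = ⊤) :
    GG cs h (T.comap f) (fun x => lft p f (X x)) = ⊤ := by
  have h1 : f.ker ≤ GG cs h (T.comap f) (fun x => lft p f (X x)) := by
    refine le_trans ?_ (le_sup_left (a := T.comap f))
    intro x hx
    rw [Subgroup.mem_comap, MonoidHom.mem_ker.1 hx]
    exact one_mem _
  have h3 : (GG cs h (T.comap f) (fun x => lft p f (X x))).map f = ⊤ := by
    rw [eq_top_iff, ← hG]
    refine sup_le ?_ (RGD.Sup_le fun x hx => ?_)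
    · refine le_trans (Subgroup.map_comap_eq_self_of_surjective hs T).ge ?_
      exact Subgroup.map_mono le_sup_left
    · refine le_trans (map_lft hf hcop hs (D.pgrp' hx)).ge ?_
      exact Subgroup.map_mono ((RGD.le_Sup (X := fun x => lft p f (X x)) hx).trans le_sup_right)
  rw [eq_top_iff]
  intro x _
  have h4 : f x ∈ (GG cs h (T.comap f) (fun x => lft p f (X x))).map f := by rw [h3]; trivial
  obtain ⟨y, hy, hxy⟩ := h4
  have h5 : y⁻¹ * x ∈ f.ker := by
    rw [MonoidHom.mem_ker, map_mul, map_inv, hxy, inv_mul_cancel]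
  have h6 : x = y * (y⁻¹ * x) := by group
  rw [h6]
  exact mul_mem hy (h1 h5)

/-- `K_r ≃ SL₂(F)` lifts isomorphically (`SL₂(F)` has no perfect 2-covers). -/
theorem injOn_lift (hf : f.ker ≤ Subgroup.center E) (h2 : IsPGroup 2 f.ker) (hodd : p ≠ 2)
    {P Q : Subgroup Y} (hP : IsPGroup p P) (hQ : IsPGroup p Q)
    {F : Type} [Field F] [Fintype F] (ho : Odd (Fintype.card F))
    (sl : Nonempty (Matrix.SpecialLinearGroup (Fin 2) F ≃* ↥(P ⊔ Q))) :
    ∀ y ∈ lft p f P ⊔ lft p f Q, f y = 1 → y = 1 := by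
  obtain ⟨φ⟩ := sl
  have hp : p.Prime := Fact.out
  have h20 : (2 : F) ≠ 0 := LongSL.two_ne_of_odd ho
  have hcop := coprime_ker (p := p) hodd h2
  have hle : lft p f P ⊔ lft p f Q ≤ (P ⊔ Q).comap f :=
    sup_le ((Subgroup.map_le_iff_le_comap.1 (map_lft_le p f P)).trans (Subgroup.comap_mono le_sup_left))
      ((Subgroup.map_le_iff_le_comap.1 (map_lft_le p f Q)).trans (Subgroup.comap_mono le_sup_right))
  have hoddp : ∀ {y : E} {k : ℕ}, y ^ p ^ k = 1 → Odd (orderOf y) := by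
    intro y k hk
    exact Odd.of_dvd_nat ((hp.odd_of_ne_two hodd).pow) (orderOf_dvd_of_pow_eq_one hk)
  intro y hy hfy
  refine Cfsg.Agent.GH.Cov.QuatLift.injOn (K := lft p f P ⊔ lft p f Q) (f := f)
    (t := ((φ (-1) : ↥(P ⊔ Q)) : Y)) ?_ ?_ ?_ ?_ hy hfy
  · refine sup_le ?_ ?_
    · intro x hx
      obtain ⟨-, k, hk⟩ := (mem_lft hf hP).1 hx
      exact Subgroup.subset_closure ⟨Subgroup.mem_sup_left hx, hoddp hk⟩
    · intro x hx
      obtain ⟨-, k, hk⟩ := (mem_lft hf hQ).1 hx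
      exact Subgroup.subset_closure ⟨Subgroup.mem_sup_right hx, hoddp hk⟩
  · intro c _ hc y _
    exact (Subgroup.mem_center_iff.1 (hf (MonoidHom.mem_ker.2 hc)) y).symm
  · intro c _ hc
    obtain ⟨k, hk⟩ := h2 ⟨c, MonoidHom.mem_ker.2 hc⟩
    exact ⟨k, congrArg Subtype.val hk⟩
  · intro x hx hxx
    by_cases h1 : f x = 1
    · exact Or.inl h1
    · right
      have hx' : f x ∈ P ⊔ Q := hle hx
      have h3 : φ.symm ⟨f x, hx'⟩ = -1 := by
        apply Cfsg.Agent.LieClassical.SLTwoSylowTwo.eq_neg_one_of_sq h20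
        · intro h4
          apply h1
          have h5 : (⟨f x, hx'⟩ : ↥(P ⊔ Q)) = 1 := by
            rw [← φ.apply_symm_apply ⟨f x, hx'⟩, h4, map_one]
          exact congrArg Subtype.val h5
        · rw [pow_two, ← map_mul]
          have h4 : (⟨f x, hx'⟩ * ⟨f x, hx'⟩ : ↥(P ⊔ Q)) = 1 := Subtype.ext hxx
          rw [h4, map_one]
      rw [← h3, φ.apply_symm_apply]

/-- `K_r ≃ SL₂(F)` in the extension -/
theorem sl_lift (hf : f.ker ≤ Subgroup.center E) (h2 : IsPGroup 2 f.ker) (hs : Function.Surjective f)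
    (hodd : p ≠ 2) {P Q : Subgroup Y} (hP : IsPGroup p P) (hQ : IsPGroup p Q)
    {F : Type} [Field F] [Fintype F] (ho : Odd (Fintype.card F))
    (sl : Nonempty (Matrix.SpecialLinearGroup (Fin 2) F ≃* ↥(P ⊔ Q))) :
    Nonempty (Matrix.SpecialLinearGroup (Fin 2) F ≃* ↥(lft p f P ⊔ lft p f Q)) := by
  have hcop := coprime_ker (p := p) hodd h2
  have hmap : (lft p f P ⊔ lft p f Q).map f = P ⊔ Q := by
    rw [Subgroup.map_sup, map_lft hf hcop hs hP, map_lft hf hcop hs hQ]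
  have hinj := injOn_lift hf h2 hodd hP hQ ho sl
  obtain ⟨φ⟩ := sl
  let g : ↥(lft p f P ⊔ lft p f Q) →* ↥(P ⊔ Q) :=
    (f.comp (lft p f P ⊔ lft p f Q).subtype).codRestrict (P ⊔ Q) (fun x => by
      rw [← hmap]; exact Subgroup.mem_map_of_mem _ x.2)
  have hg : Function.Bijective g := by
    constructor
    · rw [injective_iff_map_eq_one]
      intro x hx
      exact Subtype.ext (hinj x x.2 (congrArg Subtype.val hx))
    · rintro ⟨y, hy⟩
      rw [← hmap] at hy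
      obtain ⟨x, hx, rfl⟩ := hy
      exact ⟨⟨x, hx⟩, rfl⟩
  exact ⟨φ.trans (MulEquiv.ofBijective g hg).symm⟩

/-- **Frames in central 2-extensions.** `Cls` lifts to `E` (for every choice `n'` of the representatives), the `K_r` lift
isomorphically, and every nontrivial element of `⟨z' r : r ∈ R⟩` lies in a frame of `E`. -/
theorem frame_lift (hf : f.ker ≤ Subgroup.center E) (h2 : IsPGroup 2 f.ker) (hs : Function.Surjective f)
    (C : Cls cs h p T n X R Z z) (hodd : p ≠ 2) (hG : GG cs h T X = ⊤)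
    (trans : ∀ r ∈ R, ∀ s ∈ R, ∃ w, s = rep cs h w r)
    {F : Type} [Field F] [Fintype F] (ho : Odd (Fintype.card F)) (hc : 3 < Fintype.card F)
    (sl : ∀ r ∈ R, Nonempty (Matrix.SpecialLinearGroup (Fin 2) F ≃* ↥(Z r ⊔ Z (-r))))
    {n' : I → E} (hn : ∀ i, f (n' i) = n i) :
    ∃ z' : (I → ℤ) → E,
      Cls cs h p (T.comap f) n' (fun x => lft p f (X x)) R (fun x => lft p f (Z x)) z' ∧
      (∀ r ∈ R, f (z' r) = z r) ∧ GG cs h (T.comap f) (fun x => lft p f (X x)) = ⊤ ∧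
      (∀ r ∈ R, Nonempty (Matrix.SpecialLinearGroup (Fin 2) F ≃* ↥(lft p f (Z r) ⊔ lft p f (Z (-r))))) ∧
      ∀ z₀ ∈ Subgroup.closure (z' '' R), z₀ ≠ 1 → Nonempty (Frame E z₀) := by
  have hcop := coprime_ker (p := p) hodd h2
  have hpZ : ∀ r ∈ R, IsPGroup p (Z r) := fun r hr => Nodes.ClsMap.isPGroup_Z C hr
  have hpZ' : ∀ r ∈ R, IsPGroup p (Z (-r)) := fun r hr => hpZ _ (Nodes.ClsMap.neg_mem C hr)
  obtain ⟨z', C', hz'⟩ := Nodes.ClsLift.cls_lift hf hcop hs C hn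
    (fun r hr => injOn_lift hf h2 hodd (hpZ r hr) (hpZ' r hr) ho (sl r hr))
  have hG' := GG_lift hf hcop hs C.rgd hG
  have hsl : ∀ r ∈ R, Nonempty (Matrix.SpecialLinearGroup (Fin 2) F ≃* ↥(lft p f (Z r) ⊔ lft p f (Z (-r)))) :=
    fun r hr => sl_lift hf h2 hs hodd (hpZ r hr) (hpZ' r hr) ho (sl r hr)
  exact ⟨z', C', hz', hG', hsl, fun z₀ h0 h1 => frame_of_cls C' Fact.out hodd hG' trans ho hc hsl h0 h1⟩

end Lift

end Cfsg.Agent.OddHalf.NI.FrameLift
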