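import Cfsg.Agent.OddHalf.NI.LinEnd
import Cfsg.Agent.ClassicalGeometry.PSUAutBasic

/-!
# NODE NI, the linear end of the type fact (T') for `SU_n`
-/

set_option autoImplicit false

namespace Cfsg.Agent.OddHalf.NI.LinEndSU

open Subgroup Cfsg Cfsg.Agent.LieClassical.SUBasic

variable {F : Type*} [Field F] [Fintype F] {q n : ℕ}

/-- central elements of order at most `2` of `SU_n` are `±1` -/
theorem su_eq (hF : Fintype.card F = q ^ 2) (hn : 3 ≤ n) {c : SU n F q} (hc : c ∈ center (SU n F q))
    (h2 : c * c = 1) : c = 1 ∨ ((c : Matrix.SpecialLinearGroup (Fin n) F) : Matrix (Fin n) (Fin n) F) = -1 := by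
  obtain ⟨a, han, haq, rfl⟩ := (mem_center_SU_iff hF hn c).1 hc
  have i : Fin n := ⟨0, by omega⟩
  have h3 : (((suScalar q a han haq : SU n F q) : Matrix.SpecialLinearGroup (Fin n) F) :
      Matrix (Fin n) (Fin n) F) = Matrix.diagonal fun _ => a := coe_suScalar ..
  have h4 : Matrix.diagonal (fun _ : Fin n => a) * Matrix.diagonal (fun _ : Fin n => a) = 1 := by
    rw [← h3, ← Matrix.SpecialLinearGroup.coe_mul, ← Subgroup.coe_mul, h2, Subgroup.coe_one,
      Matrix.SpecialLinearGroup.coe_one]
  have h5 : a * a = 1 := by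
    rw [Matrix.diagonal_mul_diagonal] at h4
    have := congrFun (congrFun h4 i) i
    simpa using this
  rcases mul_self_eq_one_iff.mp h5 with h | h
  · left
    apply Subtype.ext
    ext x y
    rw [h3, h]
    simp [Matrix.one_apply, Matrix.diagonal_apply]
  · right
    rw [h3, h]
    ext x y
    simp [Matrix.one_apply, Matrix.diagonal_apply]
    split <;> simp

/-- **the linear end for `SU_n`** : if `φ : SU_n → N` is surjective with central kernel, `1 ≠ z = ⁅u, x⁆` and `u²`
are central in `N`, then `z` is the image of `-1`, and `n` is even if `2 ≠ 0`. -/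
theorem su_main (hF : Fintype.card F = q ^ 2) (hn : 3 ≤ n) {N : Type*} [Group N]
    (φ : SU n F q →* N) (hs : Function.Surjective φ) (hker : φ.ker ≤ center (SU n F q))
    (hM : commutator (SU n F q) = ⊤) {u x z : N} (hz : z ∈ center N)
    (hux : u * x * u⁻¹ * x⁻¹ = z) (hu : u * u ∈ center N) (h1 : z ≠ 1) :
    ∃ c : SU n F q, ((c : Matrix.SpecialLinearGroup (Fin n) F) : Matrix (Fin n) (Fin n) F) = -1 ∧ φ c = z ∧
      ((2 : F) ≠ 0 → Even n) := by
  obtain ⟨c, hc, hcz, hcc, -⟩ := LinEnd.exists_lift φ hs hker hM hz hux hu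
  rcases su_eq hF hn hc hcc with rfl | h
  · exact absurd (hcz.symm.trans (map_one φ)) h1
  · refine ⟨c, h, hcz, fun h2 => ?_⟩
    have hd := (c : Matrix.SpecialLinearGroup (Fin n) F).det_coe
    rw [h, Matrix.det_neg, Matrix.det_one, mul_one, Fintype.card_fin] at hd
    by_contra ho
    rw [Nat.not_even_iff_odd] at ho
    rw [ho.neg_one_pow] at hd
    apply h2
    linear_combination (-1 : F) * hd

end Cfsg.Agent.OddHalf.NI.LinEndSU
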