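import Cfsg.Agent.Nodes.RGDTwCoord
import Cfsg.Agent.Nodes.RGDTwNode
import Cfsg.Agent.OddHalf.NI.Mult
import Cfsg.Agent.OddHalf.NI.ExcEnd

/-!
helper613: (T') for the twisted groups `²E₆(q)`, `³D₄(q)`, `q` odd: the model data for `Mult.mult`.

For a folded group (`RGDFold`) with all nodes `NodeOK`:
* `coord` : the homomorphisms `Phi i : SL(2, F i) →* G` are coordinates (`Mult.Coord`);
* `th` : `(t_i) ↦ ∏ Phi i (dg t_i)`; `th_single`, `th_scalar` : `th t = 1` implies `∏ wt (t_i) = 1` for every root;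
* `eq_one_of_odd` : the kernel of a perfect central extension by a 2-group is trivial if `th t = 1 → t_i ^ m = 1`, `m` odd.
-/

set_option autoImplicit false
set_option linter.unusedSectionVars false
set_option maxHeartbeats 400000

namespace Cfsg.Agent.OddHalf.NI.ModelTw

open CoxeterSystem Cfsg.Agent.ChevalleyStructure.CoxeterGeom Cfsg.Agent.Tits.Roots Cfsg.Agent.Tits.Core
  Cfsg.Agent.Nodes.BNOf Cfsg.Agent.Nodes.RGDTwGen Cfsg.Agent.Nodes.RGDChev Cfsg.Agent.Nodes.RGDFold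
  Cfsg.Agent.Nodes.RGDFoldSL Cfsg.Agent.Nodes.RGDTwCoord
open Cfsg.Lie Cfsg.Agent.ChevalleyStructure Cfsg.Agent.ChevalleyStructure.Elts
open Subgroup (center)

universe u v

section Gen

variable {D : ChevalleyDatum} {l : ℕ} {M' : CoxeterMatrix (Fin l)} {hp : IsType D l M'} {K : Type u} [Field K]
  {m : ℕ} {M : CoxeterMatrix (Fin m)} {A : Fin m → Fin m → ℤ}
  {J : Fin m → List (Fin l)} {L : List (List ℕ)} {σ : GL D.Idx K →* GL D.Idx K} {ρ ρ' : ℕ → ℕ}
    {f : ℕ → K → K} {G : Subgroup (GL D.Idx K)} {rep : Fin m → ℕ} {rest : Fin m → List ℕ} {φ : K →+* K}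
  (FG : FoldGrp hp K J L σ ρ ρ' f G)
  (N : ∀ i, NodeOK D J L ρ i (rep i) (rest i)) (hf : ∀ i, ∀ s ∈ rep i :: rest i, ∀ t, f s t = φ t)

/-- The torus. -/
abbrev TG (D : ChevalleyDatum) {K : Type u} [Field K] (G : Subgroup (GL D.Idx K)) : Subgroup ↥G :=
  (D.diagonalSubgroup K ⊓ G).subgroupOf G

theorem up_eq {F : Type*} [Field F] (a : F) : Mult.up a = SL2Hom.up a := rfl
theorem lo_eq' {F : Type*} [Field F] (a : F) : Mult.lo a = SL2Hom.lo a := rfl

theorem dg_eq {F : Type*} [Field F] (t : Fˣ) : Mult.dg t = hS (t : F) := by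
  apply Subtype.ext
  rw [coe_hS t.ne_zero]
  show !![(t : F), 0; 0, ((t⁻¹ : Fˣ) : F)] = _
  rw [Units.val_inv_eq_inv_val]

/-- **Coordinates.** -/
theorem coord {W : Type*} [Group W] (cs : CoxeterSystem M W) (h : IsCartan M A) (FD : FoldData D M A J L)
    [Finite K] (p : ℕ) [Fact p.Prime] [CharP K p] :
    Mult.Coord (fun z => (R D hp K J σ z).subgroupOf G) (fun i => Fx φ ((rest i).length + 1))
      (fun i => Phi FG (N i) (hf i)) where
  up i := by
    ext g
    rw [SetLike.mem_coe, mem_X_iff FG (N i) (hf i)]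
    exact ⟨fun ⟨a, ha⟩ => ⟨a, ha.symm⟩, fun ⟨a, ha⟩ => ⟨a, ha.symm⟩⟩
  lo i := by
    have RG := Nodes.RGDFold.rgd cs h FD FG p
    have h1 := RG.conj i (sr i) (isRoot_sr cs h i)
    rw [rep_simple_sr] at h1
    have hlo : ∀ a : Fx φ ((rest i).length + 1), Phi FG (N i) (hf i) (Mult.lo a) =
        (⟨nI hp K (J i), FG.nG i⟩ : ↥G) * Phi FG (N i) (hf i) (SL2Hom.up (-a)) * (⟨nI hp K (J i), FG.nG i⟩ : ↥G)⁻¹ := by
      intro a
      rw [lo_eq', lo_eq, map_mul, map_mul, map_inv, Phi_wS]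
    have h2 : (R D hp K J σ (-sr i)).subgroupOf G =
        Nodes.Reps.cj (⟨nI hp K (J i), FG.nG i⟩ : ↥G) ((R D hp K J σ (sr i)).subgroupOf G) := h1.symm
    ext g
    rw [SetLike.mem_coe, h2]
    constructor
    · rintro ⟨y, hy, rfl⟩
      obtain ⟨a, rfl⟩ := (mem_X_iff FG (N i) (hf i) y).1 hy
      refine ⟨-a, ?_⟩
      show Phi FG (N i) (hf i) (Mult.lo (-a)) = _
      rw [hlo, neg_neg]
      rfl
    · rintro ⟨a, rfl⟩
      show Phi FG (N i) (hf i) (Mult.lo a) ∈ _
      rw [hlo]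
      exact Nodes.Reps.conj_mem_cj.2 ((mem_X_iff FG (N i) (hf i) _).2 ⟨-a, rfl⟩)

/-! ### The torus -/

theorem coe_Phi_dg (i : Fin m) (t : (Fx φ ((rest i).length + 1))ˣ) :
    ((Phi FG (N i) (hf i) (Mult.dg t) : ↥G) : GL D.Idx K) = hI hp φ (J i) ((t : Fx φ ((rest i).length + 1)) : K) := by
  rw [dg_eq]
  show Ph hp K (N i) φ (Matrix.SpecialLinearGroup.map _ (hS _)) = _
  rw [map_hS]
  exact hv_eq_hI (N i).Jn (N i).lt _

theorem Phi_dg_mem (i : Fin m) (t : (Fx φ ((rest i).length + 1))ˣ) : Phi FG (N i) (hf i) (Mult.dg t) ∈ TG D G := by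
  rw [dg_eq]
  exact Phi_hS FG (N i) (hf i) t.ne_zero

/-- The homomorphism of one node. -/
noncomputable def hN (i : Fin m) : (Fx φ ((rest i).length + 1))ˣ →* ↥(TG D G) :=
  ((Phi FG (N i) (hf i)).comp Mult.dgHom).codRestrict (TG D G) (Phi_dg_mem FG N hf i)

include hp in
theorem comm_TG (a b : ↥(TG D G)) : a * b = b * a := by
  apply Subtype.ext
  apply Subtype.ext
  exact Cfsg.Agent.FixBN.ChevGood.diag_comm K hp (Subgroup.mem_subgroupOf.1 a.2).1 (Subgroup.mem_subgroupOf.1 b.2).1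

/-- `(t_i) ↦ ∏ Phi i (dg t_i)` into the torus. -/
noncomputable def thT : (∀ i, (Fx φ ((rest i).length + 1))ˣ) →* ↥(TG D G) :=
  MonoidHom.noncommPiCoprod (hN FG N hf) fun _ _ _ _ _ => comm_TG (hp := hp) _ _

/-- `(t_i) ↦ ∏ Phi i (dg t_i)`. -/
noncomputable def th : (∀ i, (Fx φ ((rest i).length + 1))ˣ) →* ↥G := (TG D G).subtype.comp (thT FG N hf)

theorem th_single (i : Fin m) (t : (Fx φ ((rest i).length + 1))ˣ) :
    th FG N hf (Pi.mulSingle i t) = Phi FG (N i) (hf i) (Mult.dg t) := by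
  have h : thT FG N hf (Pi.mulSingle i t) = hN FG N hf i t := MonoidHom.noncommPiCoprod_mulSingle _ _ _
  show ((thT FG N hf (Pi.mulSingle i t) : ↥(TG D G)) : ↥G) = _
  rw [h]
  rfl

/-- The scalar of a torus element on the root `r`. -/
theorem exists_char (hp : IsType D l M') {r : ℕ} (hr : r < D.nroots) : ∃ χ : ↥(TG D G) →* K, ∀ (t : ↥(TG D G)) (u : K),
    ((t : ↥G) : GL D.Idx K) * xG hp.inList r u * ((t : ↥G) : GL D.Idx K)⁻¹ = xG hp.inList r (χ t * u) := by
  have h1 : ∀ t : ↥(TG D G), ∃ c : K, ∀ u : K,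
      ((t : ↥G) : GL D.Idx K) * xG hp.inList r u * ((t : ↥G) : GL D.Idx K)⁻¹ = xG hp.inList r (c * u) := by
    intro t
    obtain ⟨c, -, h⟩ := BNChev.diagonal_conj hp.inList (F := K) (Subgroup.mem_subgroupOf.1 t.2).1 hr
    exact ⟨c, h⟩
  choose χ hχ using h1
  have hinj : ∀ {t : ↥(TG D G)} {c : K}, (∀ u : K,
      ((t : ↥G) : GL D.Idx K) * xG hp.inList r u * ((t : ↥G) : GL D.Idx K)⁻¹ = xG hp.inList r (c * u)) → χ t = c := by
    intro t c hc
    have h2 := hc 1
    rw [hχ t 1] at h2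
    have h3 := xG_injective hp.inList hr h2
    rwa [mul_one, mul_one] at h3
  refine ⟨{ toFun := χ, map_one' := hinj fun u => ?_, map_mul' := fun s t => hinj fun u => ?_ }, hχ⟩
  · rw [one_mul]
    show (1 : GL D.Idx K) * _ * (1 : GL D.Idx K)⁻¹ = _
    rw [one_mul, inv_one, mul_one]
  · have e : (((s * t : ↥(TG D G)) : ↥G) : GL D.Idx K) = ((s : ↥G) : GL D.Idx K) * ((t : ↥G) : GL D.Idx K) := rfl
    rw [e]
    have e2 : ((s : ↥G) : GL D.Idx K) * ((t : ↥G) : GL D.Idx K) * xG hp.inList r u *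
        (((s : ↥G) : GL D.Idx K) * ((t : ↥G) : GL D.Idx K))⁻¹ =
        ((s : ↥G) : GL D.Idx K) * (((t : ↥G) : GL D.Idx K) * xG hp.inList r u * ((t : ↥G) : GL D.Idx K)⁻¹) *
          ((s : ↥G) : GL D.Idx K)⁻¹ := by group
    rw [e2, hχ, hχ, mul_assoc]

theorem wt_one' (o : List (Fin l)) (s : ℕ) : wt D φ o s 1 = 1 := by
  induction o with
  | nil => rfl
  | cons j o ih =>
    show (1 : K) ^ D.cartan j s * wt D φ o s (φ 1) = 1
    rw [map_one, ih, one_zpow, mul_one]

theorem wt_mul (o : List (Fin l)) (s : ℕ) (a b : K) : wt D φ o s (a * b) = wt D φ o s a * wt D φ o s b := by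
  induction o generalizing a b with
  | nil => exact (mul_one 1).symm
  | cons j o ih =>
    show (a * b) ^ D.cartan j s * wt D φ o s (φ (a * b)) =
      (a ^ D.cartan j s * wt D φ o s (φ a)) * (b ^ D.cartan j s * wt D φ o s (φ b))
    rw [map_mul, ih, mul_zpow]
    ring

/-- **The scalars of `th`.** -/
theorem th_scalar {t : ∀ i, (Fx φ ((rest i).length + 1))ˣ} (ht : th FG N hf t = 1) {r : ℕ} (hr : r < D.nroots) :
    ∏ i, wt D φ (J i) r ((t i : Fx φ ((rest i).length + 1)) : K) = 1 := by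
  obtain ⟨χ, hχ⟩ := exists_char (G := G) (K := K) hp hr
  let f1 : (∀ i, (Fx φ ((rest i).length + 1))ˣ) →* K := χ.comp (thT FG N hf)
  let f2 : (∀ i, (Fx φ ((rest i).length + 1))ˣ) →* K :=
    { toFun := fun t => ∏ i, wt D φ (J i) r ((t i : Fx φ ((rest i).length + 1)) : K)
      map_one' := Finset.prod_eq_one fun i _ => by
        rw [Pi.one_apply, Units.val_one]
        exact wt_one' _ _
      map_mul' := fun s t => by
        rw [← Finset.prod_mul_distrib]
        exact Finset.prod_congr rfl fun i _ => by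
          rw [Pi.mul_apply, Units.val_mul]
          exact wt_mul _ _ _ _ }
  have h1 : f1 = f2 := by
    refine MonoidHom.functions_ext _ _ _ fun i u => ?_
    show χ (thT FG N hf (Pi.mulSingle i u)) =
      ∏ k, wt D φ (J k) r (((Pi.mulSingle i u : ∀ i, (Fx φ ((rest i).length + 1))ˣ) k : Fx φ ((rest k).length + 1)) : K)
    rw [Finset.prod_eq_single i]
    · rw [Pi.mulSingle_eq_same]
      have h2 := hχ (thT FG N hf (Pi.mulSingle i u)) 1
      have h3 : ((thT FG N hf (Pi.mulSingle i u) : ↥(TG D G)) : ↥G) = Phi FG (N i) (hf i) (Mult.dg u) :=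
        th_single FG N hf i u
      have hu : ((u : Fx φ ((rest i).length + 1)) : K) ≠ 0 := fun h => u.ne_zero (Subtype.ext h)
      rw [h3, coe_Phi_dg, hI_conj (J i) hr hu, mul_one, mul_one] at h2
      exact (xG_injective hp.inList hr h2).symm
    · intro k _ hk
      rw [Pi.mulSingle_eq_of_ne hk, Units.val_one]
      exact wt_one' _ _
    · intro hi; exact absurd (Finset.mem_univ i) hi
  have h2 : thT FG N hf t = 1 := Subtype.ext ht
  have h3 := DFunLike.congr_fun h1 t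
  show f2 t = 1
  rw [← h3]
  show χ (thT FG N hf t) = 1
  rw [h2, map_one]

/-! ### Central extensions -/

section Cover

variable {E : Type v} [Group E] [Finite E] (hE : commutator E = ⊤) (h2 : IsPGroup 2 ↥(center E))
  (e : E ⧸ center E ≃* ↥G)

/-- The covering map. -/
def cov (e : E ⧸ center E ≃* ↥G) : E →* ↥G := e.toMonoidHom.comp (QuotientGroup.mk' (center E))

theorem cov_surjective : Function.Surjective (cov e) :=
  e.surjective.comp (QuotientGroup.mk'_surjective _)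

theorem ker_cov : (cov e).ker = center E := by
  ext x
  rw [MonoidHom.mem_ker]
  show e (QuotientGroup.mk' (center E) x) = 1 ↔ _
  rw [EmbeddingLike.map_eq_one_iff, QuotientGroup.mk'_apply, QuotientGroup.eq_one_iff]

include hE h2 e in
/-- The kernel in terms of the torus. -/
theorem eq_one_of_odd [Fintype K] (h : IsCartan M A) (FD : FoldData D M A J L)
    (ho : Odd (Fintype.card K)) {k : ℕ} (hk : Odd k)
    (hker : ∀ t : ∀ i, (Fx φ ((rest i).length + 1))ˣ, th FG N hf t = 1 → ∀ i, t i ^ k = 1) {z : E}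
    (hz : z ∈ center E) : z = 1 := by
  obtain ⟨p, hpp, hpc, hp2⟩ := ExcEnd.exists_char K ho
  have : Fact p.Prime := ⟨hpp⟩
  have : Finite M.Group := finite_W (hp := hp) M.toCoxeterSystem h FD
  have RG := Nodes.RGDFold.rgd M.toCoxeterSystem h FD FG p
  obtain ⟨s', θ', -, -, -, h5⟩ := Mult.exists_of_ker hp2 RG (Nodes.RGDFold.G1_eq_top M.toCoxeterSystem h FD FG p)
    (coord FG N hf M.toCoxeterSystem h FD p) (th FG N hf)
    (th_single FG N hf) (cov_surjective e) (ker_cov e).le (by rw [ker_cov]; exact h2) hE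
  obtain ⟨t, rfl, ht⟩ := h5 z (by rw [← MonoidHom.mem_ker, ker_cov]; exact hz)
  have h6 : θ' t ^ k = 1 := by
    rw [← map_pow]
    have : t ^ k = 1 := funext fun i => hker t ht i
    rw [this, map_one]
  obtain ⟨j, hj⟩ := h2 ⟨θ' t, hz⟩
  have hj' : θ' t ^ 2 ^ j = 1 := congrArg Subtype.val hj
  have h7 : orderOf (θ' t) ∣ Nat.gcd k (2 ^ j) := Nat.dvd_gcd (orderOf_dvd_of_pow_eq_one h6)
    (orderOf_dvd_of_pow_eq_one hj')
  have h8 : Nat.gcd k (2 ^ j) = 1 := Nat.Coprime.pow_right j (Nat.coprime_two_right.2 hk)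
  rw [h8, Nat.dvd_one, orderOf_eq_one_iff] at h7
  exact h7

end Cover

end Gen

end Cfsg.Agent.OddHalf.NI.ModelTw
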