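import Cfsg.Agent.OddHalf.NI.FrameSol

/-!
# No frames: the final forms of THEOREM X

* `no_family`: no nonempty finite family of components `J i ≅ SL₂(F)` of `C(y '' R)`, `y i ∈ J i`, the `y i`
  distinct, no product of two of them equal to a third one.
* `no_pair`: no two commuting components `A`, `B` of `C({a, b})`, `a ∈ A`, `b ∈ B`, `a ≠ b`.
* `no_frame`: no component `N` of `C(z)` with `z ∈ N` has a frame.
-/

set_option autoImplicit false

namespace Cfsg.Agent.OddHalf.NI.NoFrame

open Subgroup Cfsg Cfsg.Agent.SignalizersComponents Cfsg.Agent.OddHalf.NI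
open Cfsg.Agent.OddHalf.D3 (cj Comp mem_cs sq_of_order order_of_sq not_comm_self comm_elt FT BL)
open Cfsg.Agent.OddHalf.NI.ThmX (CInv F2p UI)
open Cfsg.Agent.OddHalf.NI.OddQ Cfsg.Agent.OddHalf.NI.FrameKill
open scoped commutatorElement

universe u

theorem bl_of_core {G : Type*} [Group G] [Finite G] (hFT : FT G)
    (h : ∀ t : G, orderOf t = 2 → centralizerPPrimeCore 2 t = ⊥) : BL G := by
  intro y hy
  have h0 : pPrimeCore 2 ↥(centralizer ({y} : Set G)) = ⊥ := by
    have h1 := h y hy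
    unfold centralizerPPrimeCore at h1
    rwa [Subgroup.map_eq_bot_iff_of_injective _ (Subgroup.subtype_injective _)] at h1
  exact pLayer_eq_layer (fun K hK => hFT.even' hK.2)
    (fun J _ => by rw [h0, Subgroup.commutator_bot_right])

section

variable {S7 : ∀ (N : Type u) [Group N], N → N → Subgroup N → Subgroup N → Subgroup N → Prop}

/-- **THEOREM X** in the world `Ctx`. -/
theorem no_family (hF2 : F2' S7) (hA : AutM S7) (hS : NI.Sol S7) (hL : LieCl.{u})
    (hft : ∀ (X : Type u) [Group X] [Finite X], Odd (Nat.card X) → Group.IsSolvable X)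
    {G : Type u} [Group G] (C : Iface.Ctx G) (F : Type) [Field F] [Fintype F] (hF : Odd (Fintype.card F))
    (h3 : 3 < Fintype.card F) {ι : Type*} (R : Finset ι) (hne : R.Nonempty) (J : ι → Subgroup G) (y : ι → G)
    (hJ : ∀ i ∈ R, CompIn (centralizer (y '' (R : Set ι))) (J i))
    (hQ : ∀ i ∈ R, Nonempty (↥(J i) ≃* Matrix.SpecialLinearGroup (Fin 2) F))
    (hy : ∀ i ∈ R, y i ∈ J i) (ho : ∀ i ∈ R, orderOf (y i) = 2)
    (hinj : ∀ i ∈ R, ∀ k ∈ R, i ≠ k → y i ≠ y k)
    (h3' : ∀ a ∈ R, ∀ b ∈ R, ∀ c ∈ R, a ≠ b → a ≠ c → b ≠ c → y a * y b ≠ y c) : False := by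
  have := C.fin
  have hFT : FT G := fun H hH => hft H hH
  have hBL := bl_of_core hFT C.bal
  have hP := ThmXOf.pumpV hFT hBL (fun H => C.bprop ↥H)
  exact ThmX.false_of_frame hP (Q := QQ F) (P := PP F) (fun K hK => ui_of_sl hF hK)
    (fun z K hz hzK hK hc => Final.not_isSL C hz hc.toComp hzK (isSL_of_qq hF h3 hK))
    (f2p hF2 hL hF h3) (FrameSol.sol_of hF2 hA hS hL hF h3) R hne J y hJ hQ hy ho hinj h3'

/-- Two components of `C({a, b})`. -/
theorem no_pair (hF2 : F2' S7) (hA : AutM S7) (hS : NI.Sol S7) (hL : LieCl.{u})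
    (hft : ∀ (X : Type u) [Group X] [Finite X], Odd (Nat.card X) → Group.IsSolvable X)
    {G : Type u} [Group G] (C : Iface.Ctx G) {A B : Subgroup G} {a b : G}
    (hAB : SameSL ↥A ↥B) (ha : a ∈ A) (hb : b ∈ B) (hoa : orderOf a = 2) (hob : orderOf b = 2) (hab : a ≠ b)
    (hcA : CompIn (centralizer ({a, b} : Set G)) A) (hcB : CompIn (centralizer ({a, b} : Set G)) B) : False := by
  obtain ⟨F, i1, i2, hF, h3, eA, eB⟩ := hAB
  have himg : (fun i : Fin 2 => ![a, b] i) '' ((Finset.univ : Finset (Fin 2)) : Set (Fin 2)) = {a, b} := by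
    ext x
    constructor
    · rintro ⟨i, -, rfl⟩
      fin_cases i
      · exact Or.inl rfl
      · exact Or.inr rfl
    · rintro (rfl | rfl)
      · exact ⟨0, Finset.mem_coe.mpr (Finset.mem_univ _), rfl⟩
      · exact ⟨1, Finset.mem_coe.mpr (Finset.mem_univ _), rfl⟩
  refine no_family hF2 hA hS hL hft C F hF h3 (Finset.univ : Finset (Fin 2)) ⟨0, Finset.mem_univ _⟩
    ![A, B] (fun i => ![a, b] i) ?_ ?_ ?_ ?_ ?_ ?_
  · intro i _
    rw [himg]
    fin_cases i
    · exact hcA
    · exact hcB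
  · intro i _
    fin_cases i
    · exact eA
    · exact eB
  · intro i _
    fin_cases i
    · exact ha
    · exact hb
  · intro i _
    fin_cases i
    · exact hoa
    · exact hob
  · intro i _ k _ hik
    fin_cases i <;> fin_cases k
    · exact absurd rfl hik
    · exact hab
    · exact fun h => hab h.symm
    · exact absurd rfl hik
  · intro i _ j _ k _ hij hik hjk
    exfalso
    have h1 : i.val ≠ j.val := fun h => hij (Fin.ext h)
    have h2 : i.val ≠ k.val := fun h => hik (Fin.ext h)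
    have h4 : j.val ≠ k.val := fun h => hjk (Fin.ext h)
    have := i.2
    have := j.2
    have := k.2
    omega

/-- **No component `N ∋ z` of `C(z)` has a frame.** -/
theorem no_frame (hF2 : F2' S7) (hA : AutM S7) (hS : NI.Sol S7) (hL : LieCl.{u})
    (hft : ∀ (X : Type u) [Group X] [Finite X], Odd (Nat.card X) → Group.IsSolvable X)
    {G : Type u} [Group G] (C : Iface.Ctx G) {z : G} {N : Subgroup G} (hN : Comp z N) (hzN : z ∈ N)
    (fr : Frame ↥N ⟨z, hzN⟩) : False := by
  letI := fr.field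
  letI := fr.fin
  have hq : ∀ i, IsQuasisimple ↥(fr.J i) := fun i =>
    Final.isSL_quasi ⟨fr.F, fr.field, fr.fin, fr.odd, fr.card, fr.iso i⟩
  -- the involutions in `G`
  have himg : (fun i => ((fr.y i : ↥N) : G)) '' ((Finset.univ : Finset (Fin fr.m)) : Set (Fin fr.m)) =
      N.subtype '' (Set.range fr.y) := by
    rw [Finset.coe_univ, Set.image_univ]
    ext x
    constructor
    · rintro ⟨i, rfl⟩
      exact ⟨fr.y i, ⟨i, rfl⟩, rfl⟩
    · rintro ⟨_, ⟨i, rfl⟩, rfl⟩
      exact ⟨i, rfl⟩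
  set V : Set G := (fun i => ((fr.y i : ↥N) : G)) '' ((Finset.univ : Finset (Fin fr.m)) : Set (Fin fr.m))
    with hV
  -- `C(V) ≤ C(z)`
  have hVz : centralizer V ≤ centralizer ({z} : Set G) := by
    have h1 : z ∈ Subgroup.closure V := by
      rw [himg, ← MonoidHom.map_closure]
      exact ⟨⟨z, hzN⟩, fr.gen, rfl⟩
    rw [← Subgroup.centralizer_closure V]
    exact centralizer_le (Set.singleton_subset_iff.mpr h1)
  have hpos : 0 < fr.m := fr.pos
  refine no_family hF2 hA hS hL hft C fr.F fr.odd fr.card (Finset.univ : Finset (Fin fr.m))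
    ⟨⟨0, hpos⟩, Finset.mem_univ _⟩ (fun i => (fr.J i).map N.subtype) (fun i => ((fr.y i : ↥N) : G)) ?_ ?_ ?_ ?_
    ?_ ?_
  · intro i _
    -- `J i` is a component of `N ⊓ C(y i)`
    have hcJ : Comp (fr.y i) (fr.J i) :=
      ⟨fr.le i, fr.sub i, Components.isQuasisimple_of_mulEquiv (subgroupOfEquivOfLe (fr.le i)).symm (hq i)⟩
    have h1 : CompIn (N ⊓ centralizer ({((fr.y i : ↥N) : G)} : Set G)) ((fr.J i).map N.subtype) :=
      compIn_of_comp_sub hcJ
    have hle : (fr.J i).map N.subtype ≤ centralizer V := by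
      rintro _ ⟨x, hx, rfl⟩
      rw [mem_centralizer_iff]
      rintro _ ⟨k, -, rfl⟩
      by_cases hik : i = k
      · subst hik
        exact (congrArg Subtype.val (mem_cs.mp (fr.le i hx))).symm
      · exact (congrArg Subtype.val (fr.comm i k hik x hx (fr.y k) (fr.mem k))).symm
    have h2 : CompIn (N ⊓ centralizer V) ((fr.J i).map N.subtype) := by
      refine h1.mono (le_inf (h1.le.trans inf_le_left) hle) (inf_le_inf_left _ ?_)
      exact centralizer_le (Set.singleton_subset_iff.mpr ⟨i, Finset.mem_coe.mpr (Finset.mem_univ _), rfl⟩)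
    exact Final.CompIn.of_inf (compIn_of_comp hN) hVz h2
  · intro i _
    obtain ⟨e⟩ := fr.iso i
    exact ⟨((fr.J i).equivMapOfInjective N.subtype N.subtype_injective).symm.trans e⟩
  · intro i _
    exact mem_map_of_mem N.subtype (fr.mem i)
  · intro i _
    rw [Subgroup.orderOf_coe]
    exact fr.ord i
  · intro i _ k _ hik h
    exact hik (fr.inj (Subtype.ext h))
  · intro a _ b _ c _ hab hac hbc h
    exact fr.three a b c hab hac hbc (Subtype.ext h)

end

end Cfsg.Agent.OddHalf.NI.NoFrame
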