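import Cfsg.Agent.OddHalf.LongSL.Orth
import Cfsg.Agent.OddHalf.NI.Mult
import Cfsg.Agent.Nodes.KindD
import Cfsg.Agent.Nodes.Chart

/-!
# `Ω⁺_{2m}(q)` (type `D_m`): classical root groups, coordinates and torus (ODD node NI, (T'); helper601)

`W : WFrame (PO Q) (n + 2)` a hyperbolic Witt frame (`h0 : ∀ p : (toFrame W).Adm, p = 1`), `L = E Q`.
-/

set_option autoImplicit false
set_option linter.unusedSectionVars false
set_option linter.dupNamespace false

namespace Cfsg.Agent.OddHalf.NI.OmegaPlus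

open CoxeterSystem Cfsg.Agent.ChevalleyStructure.CoxeterGeom Cfsg.Agent.Tits.Roots Cfsg.Agent.Tits.Core
  Cfsg.Agent.Tits.RootComb Cfsg.Agent.Nodes.Comb Cfsg.Agent.Nodes.Reps Cfsg.Agent.Nodes.BNOf
  Cfsg.Agent.Nodes.RGDLib Cfsg.Agent.Nodes.Chart
open QuadraticMap
open Matrix (SpecialLinearGroup)
open Cfsg.Agent.LieClassical Cfsg.Agent.LieClassical.OrthCore Cfsg.Agent.LieClassical.OrthTrans
open Cfsg.Agent.LieClassical.OrthSimple Cfsg.Agent.LieClassical.OrthFinite Cfsg.Agent.LieClassical.OrthForms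
open Cfsg.Agent.TitsThree Cfsg.Agent.TitsThree.Siegel Cfsg.Agent.TitsThree.SiegelGen
  Cfsg.Agent.TitsThree.WittFrame Cfsg.Agent.TitsThree.WittWeyl Cfsg.Agent.TitsThree.WBridge
  Cfsg.Agent.TitsThree.KSideO
open Cfsg.Agent.Nodes
open Cfsg.Agent.Nodes.WittRoot (Amb XG ZG PG PG_ne PG_self Mono XG_swap)
open Cfsg.Agent.Nodes.WittRGD (Tor mem_Tor b_ne_zero eq_or_ng)
open Cfsg.Agent.Nodes.RGDOrth
open Cfsg.Agent.OddHalf.LongSL.OrthPhi Cfsg.Agent.OddHalf.LongSL.Orth
open Cfsg.Agent.OddHalf.NI.Mult (up lo dg dgHom Coord)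

/-! ### Linear algebra -/

section Lin

variable {F V : Type*} [Field F] [AddCommGroup V] [Module F V] {Q : QuadraticForm F V} {m : ℕ}
  (W : WFrame (PO Q) m)

/-- Two linear maps which agree on the frame and on `V₀` are equal. -/
theorem ext_b {g k : V ≃ₗ[F] V} (h1 : ∀ z, g ((toFrame W).b z) = k ((toFrame W).b z)) (h2 : ∀ w ∈ W.V0, g w = k w) :
    g = k := by
  apply LinearEquiv.ext
  intro v
  obtain ⟨a, b, w, hw, e⟩ := W.span v
  have he : ∀ i, g (W.e i) = k (W.e i) := fun i => by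
    have := h1 (i, true)
    rwa [toFrame_b_true] at this
  have hf : ∀ i, g (W.f i) = k (W.f i) := fun i => by
    have := h1 (i, false)
    rwa [toFrame_b_false] at this
  rw [e]
  simp only [map_add, map_sum, map_smul, he, hf, h2 w hw]

/-- `Phi` with values in `E Q`. -/
def phi {x y : Fin m × Bool} (hxy : x.1 ≠ y.1) : SpecialLinearGroup (Fin 2) F →* E Q :=
  (Phi (toFrame W) hxy).codRestrict (E Q) (Phi_mem' W hxy)

theorem coe_phi {x y : Fin m × Bool} (hxy : x.1 ≠ y.1) (g : SpecialLinearGroup (Fin 2) F) :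
    ((phi W hxy g : E Q) : V ≃ₗ[F] V) = Phi (toFrame W) hxy g := rfl

theorem phi_injective {x y : Fin m × Bool} (hxy : x.1 ≠ y.1) : Function.Injective (phi W hxy) := by
  intro g k hgk
  apply Phi_injective (toFrame W) hxy
  rw [← coe_phi, ← coe_phi, hgk]

/-- The value of an integral weight on a signed index. -/
def cf {m : ℕ} (u : Fin m → ℤ) (z : Fin m × Bool) : ℤ := if z.2 then u z.1 else -u z.1

theorem cf_add {m : ℕ} (u v : Fin m → ℤ) (z : Fin m × Bool) : cf (u + v) z = cf u z + cf v z := by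
  unfold cf
  split_ifs
  · rfl
  · simp only [Pi.add_apply]; ring

theorem cf_wt {m : ℕ} (x z : Fin m × Bool) :
    cf (TypeC.wt x) z = if z.1 = x.1 then (if z.2 = x.2 then 1 else -1) else 0 := by
  obtain ⟨i, s⟩ := x
  obtain ⟨j, t⟩ := z
  unfold cf
  rw [TypeC.wt_apply]
  simp only
  by_cases h : j = i
  · cases s <;> cases t <;> simp [h]
  · cases s <;> cases t <;> simp [h]

/-- The torus elements `Phi (dg t)` are diagonal. -/
theorem Phi_dg {x y : Fin m × Bool} (hxy : x.1 ≠ y.1) (t : Fˣ) (z : Fin m × Bool) :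
    Phi (toFrame W) hxy (dg t) ((toFrame W).b z) =
      ((t ^ cf (TypeC.wt x + TypeC.wt y) z : Fˣ) : F) • (toFrame W).b z := by
  have h00 : (dg t : SpecialLinearGroup (Fin 2) F).1 0 0 = t := rfl
  have h01 : (dg t : SpecialLinearGroup (Fin 2) F).1 0 1 = 0 := rfl
  have h10 : (dg t : SpecialLinearGroup (Fin 2) F).1 1 0 = 0 := rfl
  have h11 : (dg t : SpecialLinearGroup (Fin 2) F).1 1 1 = ((t⁻¹ : Fˣ) : F) := rfl
  rw [cf_add, cf_wt, cf_wt]
  by_cases hx : z.1 = x.1
  · have hy : z.1 ≠ y.1 := fun h => hxy (hx.symm.trans h)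
    rw [if_pos hx, if_neg hy, add_zero]
    rw [Phi_apply]
    unfold phiFun
    rw [h00, h01, h10, h11]
    rcases eq_or_neg hx with rfl | rfl
    · rw [if_pos rfl, zpow_one, p_self_neg, p_self, p_ne _ (z := z) (w := y) hxy,
        p_ne _ (z := z) (w := neg y) hxy]
      module
    · rw [if_neg (by simp), zpow_neg_one, p_neg_self, p_self, p_ne _ (z := neg x) (w := y) hxy,
        p_ne _ (z := neg x) (w := neg y) hxy]
      module
  · rw [if_neg hx]
    by_cases hy : z.1 = y.1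
    · rw [if_pos hy, zero_add, Phi_apply]
      unfold phiFun
      rw [h00, h01, h10, h11]
      rcases eq_or_neg hy with rfl | rfl
      · rw [if_pos rfl, zpow_one, p_self_neg, p_self, p_ne _ (z := z) (w := x) hxy.symm,
          p_ne _ (z := z) (w := neg x) hxy.symm]
        module
      · rw [if_neg (by simp), zpow_neg_one, p_neg_self, p_self, p_ne _ (z := neg y) (w := x) hxy.symm,
          p_ne _ (z := neg y) (w := neg x) hxy.symm]
        module
    · rw [if_neg hy, add_zero, zpow_zero, Phi_of_ne _ hxy _ hx hy, Units.val_one, one_smul]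

theorem Phi_dg_V0 {x y : Fin m × Bool} (hxy : x.1 ≠ y.1) (g : SpecialLinearGroup (Fin 2) F) {w : V} (hw : w ∈ W.V0) :
    Phi (toFrame W) hxy g w = w := Phi_V0 (toFrame W) hxy g hw

theorem commute_dg {x y x' y' : Fin m × Bool} (hxy : x.1 ≠ y.1) (hxy' : x'.1 ≠ y'.1) (t u : Fˣ) :
    Commute (phi W hxy (dg t)) (phi W hxy' (dg u)) := by
  apply Subtype.ext
  rw [Subgroup.coe_mul, Subgroup.coe_mul, coe_phi, coe_phi]
  apply ext_b W
  · intro z
    rw [LinearEquiv.mul_apply, LinearEquiv.mul_apply, Phi_dg, Phi_dg, map_smul, map_smul, Phi_dg, Phi_dg,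
      smul_smul, smul_smul, mul_comm]
  · intro w hw
    rw [LinearEquiv.mul_apply, LinearEquiv.mul_apply, Phi_dg_V0 W _ _ hw, Phi_dg_V0 W _ _ hw, Phi_dg_V0 W _ _ hw]

end Lin

/-! ### The torus of type `D` -/

section Torus

variable {F V : Type*} [Field F] [AddCommGroup V] [Module F V] {Q : QuadraticForm F V} {n : ℕ}
  (W : WFrame (PO Q) (n + 2))

/-- The rank one groups of the nodes. -/
def s (i : Fin (n + 2)) : SpecialLinearGroup (Fin 2) F →* E Q := phi W (TypeD.ok_nx i)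

theorem s_dg_apply (i : Fin (n + 2)) (t : Fˣ) (z : Fin (n + 2) × Bool) :
    ((s W i (dg t) : E Q) : V ≃ₗ[F] V) ((toFrame W).b z) =
      ((t ^ cf (TypeD.bt i) z : Fˣ) : F) • (toFrame W).b z := Phi_dg W _ t z

/-- The parametrisation of the torus. -/
def th : (∀ _ : Fin (n + 2), Fˣ) →* E Q :=
  MonoidHom.noncommPiCoprod (fun i => (s W i).comp dgHom) fun _ _ _ t u => commute_dg W _ _ t u

theorem th_single (i : Fin (n + 2)) (t : Fˣ) : th W (Pi.mulSingle i t) = s W i (dg t) := by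
  unfold th
  exact MonoidHom.noncommPiCoprod_mulSingle (N := fun _ : Fin (n + 2) => Fˣ) (fun i => (s W i).comp dgHom) i t

/-- The characters of the torus. -/
def chi (z : Fin (n + 2) × Bool) : (∀ _ : Fin (n + 2), Fˣ) →* Fˣ where
  toFun t := ∏ i, t i ^ cf (TypeD.bt i) z
  map_one' := by simp
  map_mul' t u := by
    rw [← Finset.prod_mul_distrib]
    exact Finset.prod_congr rfl fun i _ => mul_zpow _ _ _

theorem chi_apply (z : Fin (n + 2) × Bool) (t : Fin (n + 2) → Fˣ) :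
    chi z t = ∏ i, t i ^ cf (TypeD.bt i) z := rfl

theorem chi_single (z : Fin (n + 2) × Bool) (i : Fin (n + 2)) (a : Fˣ) :
    chi z (Pi.mulSingle i a) = a ^ cf (TypeD.bt i) z := by
  rw [chi_apply, Finset.prod_eq_single i]
  · rw [Pi.mulSingle_eq_same]
  · intro j _ hj
    rw [Pi.mulSingle_eq_of_ne hj, one_zpow]
  · exact fun h => absurd (Finset.mem_univ i) h

theorem th_apply (z : Fin (n + 2) × Bool) (t : Fin (n + 2) → Fˣ) :
    ((th W t : E Q) : V ≃ₗ[F] V) ((toFrame W).b z) = ((chi z t : Fˣ) : F) • (toFrame W).b z := by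
  let H : Submonoid (∀ _ : Fin (n + 2), Fˣ) :=
    { carrier := {t | ((th W t : E Q) : V ≃ₗ[F] V) ((toFrame W).b z) = ((chi z t : Fˣ) : F) • (toFrame W).b z}
      one_mem' := by
        show ((th W 1 : E Q) : V ≃ₗ[F] V) _ = _
        rw [map_one, map_one, Units.val_one, one_smul]
        rfl
      mul_mem' := by
        intro t u ht hu
        show ((th W (t * u) : E Q) : V ≃ₗ[F] V) _ = _
        rw [map_mul, Subgroup.coe_mul, LinearEquiv.mul_apply, hu, map_smul, ht, smul_smul, map_mul, Units.val_mul,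
          mul_comm] }
  have h1 : t ∈ H := by
    rw [← Finset.univ_prod_mulSingle t]
    refine prod_mem fun i _ => ?_
    show ((th W (Pi.mulSingle i (t i)) : E Q) : V ≃ₗ[F] V) _ = _
    rw [th_single, s_dg_apply, chi_single]
  exact h1

theorem th_V0 (t : Fin (n + 2) → Fˣ) {w : V} (hw : w ∈ W.V0) : ((th W t : E Q) : V ≃ₗ[F] V) w = w := by
  let H : Submonoid (∀ _ : Fin (n + 2), Fˣ) :=
    { carrier := {t | ((th W t : E Q) : V ≃ₗ[F] V) w = w}
      one_mem' := by
        show ((th W 1 : E Q) : V ≃ₗ[F] V) _ = _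
        rw [map_one]
        rfl
      mul_mem' := by
        intro t u ht hu
        show ((th W (t * u) : E Q) : V ≃ₗ[F] V) _ = _
        rw [map_mul, Subgroup.coe_mul, LinearEquiv.mul_apply, hu, ht] }
  have h1 : t ∈ H := by
    rw [← Finset.univ_prod_mulSingle t]
    refine prod_mem fun i _ => ?_
    show ((th W (Pi.mulSingle i (t i)) : E Q) : V ≃ₗ[F] V) _ = _
    rw [th_single]
    exact Phi_dg_V0 W _ _ hw
  exact h1

theorem prod_zpow_sum {G ι : Type*} [CommGroup G] (a : G) (S : Finset ι) (f : ι → ℤ) :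
    ∏ i ∈ S, a ^ f i = a ^ ∑ i ∈ S, f i := by
  classical
  induction S using Finset.induction_on with
  | empty => simp
  | insert i S hi ih => rw [Finset.prod_insert hi, Finset.sum_insert hi, ih, zpow_add]

/-- Partial products of the characters. -/
theorem prod_chi (t : Fin (n + 2) → Fˣ) (m : Fin (n + 2)) : ∏ k ∈ Finset.Iic m, chi (k, true) t =
    if (m : ℕ) < n then t m else if (m : ℕ) = n then t m * t (Fin.last (n + 1)) else t m ^ 2 := by
  have h1 : ∏ k ∈ Finset.Iic m, chi (k, true) t = ∏ i, t i ^ ∑ k ∈ Finset.Iic m, TypeD.bt i k := by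
    rw [Finset.prod_congr rfl fun k _ => chi_apply (k, true) t, Finset.prod_comm]
    exact Finset.prod_congr rfl fun i _ => prod_zpow_sum _ _ _
  rw [h1, Fin.prod_univ_castSucc]
  have h2 : ∏ i : Fin (n + 1), t i.castSucc ^ ∑ k ∈ Finset.Iic m, TypeD.bt i.castSucc k =
      ∏ i : Fin (n + 1), if m = i.castSucc then t i.castSucc else 1 := by
    refine Finset.prod_congr rfl fun i _ => ?_
    rw [TypeD.sum_bt, if_pos (by simp only [Fin.val_castSucc]; omega)]
    split_ifs <;> simp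
  rw [h2, TypeD.sum_bt, if_neg (by simp only [Fin.val_last]; omega)]
  have hm := m.2
  rcases Nat.lt_trichotomy (m : ℕ) n with h | h | h
  · rw [if_neg (by omega), if_neg (by omega), if_pos h, zpow_zero, mul_one]
    obtain ⟨j, rfl⟩ : ∃ j : Fin (n + 1), m = j.castSucc := ⟨⟨m, by omega⟩, rfl⟩
    simp only [Fin.castSucc_inj]
    rw [Finset.prod_ite_eq, if_pos (Finset.mem_univ _)]
  · rw [if_pos h, if_neg (by omega), if_pos h, zpow_one]
    obtain ⟨j, rfl⟩ : ∃ j : Fin (n + 1), m = j.castSucc := ⟨⟨m, by omega⟩, rfl⟩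
    simp only [Fin.castSucc_inj]
    rw [Finset.prod_ite_eq, if_pos (Finset.mem_univ _)]
  · have h3 : (m : ℕ) = n + 1 := by omega
    rw [if_neg (by omega), if_pos h3, if_neg (by omega), if_neg (by omega)]
    have h4 : m = Fin.last (n + 1) := Fin.ext h3
    rw [h4, Finset.prod_eq_one, one_mul]
    · norm_cast
    · intro i _
      rw [if_neg]
      exact (Fin.castSucc_lt_last i).ne'

theorem chi_false (k : Fin (n + 2)) (t : Fin (n + 2) → Fˣ) : chi (k, false) t = (chi (k, true) t)⁻¹ := by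
  rw [chi_apply, chi_apply, ← Finset.prod_inv_distrib]
  refine Finset.prod_congr rfl fun i _ => ?_
  rw [← zpow_neg]
  rfl

/-- If all characters have the value `c`, then the coordinates are `± 1` if `c ^ (n + 2) = 1`. -/
theorem sq_eq_one {t : Fin (n + 2) → Fˣ} {c : Fˣ} (h : ∀ z, chi z t = c) (hc : c ^ (n + 2) = 1) : t ^ 2 = 1 := by
  have hc2 : c ^ 2 = 1 := by
    have h1 := chi_false (0 : Fin (n + 2)) t
    rw [h, h, eq_inv_iff_mul_eq_one] at h1
    rw [pow_two, h1]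
  have h1 : ∀ m : Fin (n + 2), ∏ k ∈ Finset.Iic m, chi (k, true) t = c ^ ((m : ℕ) + 1) := by
    intro m
    rw [Finset.prod_congr rfl fun k _ => h (k, true), Finset.prod_const, Fin.card_Iic]
  have hl : t (Fin.last (n + 1)) ^ 2 = 1 := by
    have h2 := prod_chi t (Fin.last (n + 1))
    rw [h1, if_neg (by simp only [Fin.val_last]; omega), if_neg (by simp only [Fin.val_last]; omega)] at h2
    rw [← h2, ← hc]
    rfl
  funext m
  show t m ^ 2 = 1
  have hm := m.2
  rcases Nat.lt_trichotomy (m : ℕ) n with h3 | h3 | h3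
  · have h2 := prod_chi t m
    rw [h1, if_pos h3] at h2
    rw [← h2, ← pow_mul, mul_comm, pow_mul, hc2, one_pow]
  · have h2 := prod_chi t m
    rw [h1, if_neg (by omega), if_pos h3] at h2
    have h4 : t m ^ 2 * t (Fin.last (n + 1)) ^ 2 = 1 := by
      rw [← mul_pow, ← h2, ← pow_mul, mul_comm, pow_mul, hc2, one_pow]
    rwa [hl, mul_one] at h4
  · have h4 : m = Fin.last (n + 1) := Fin.ext (by simp only [Fin.val_last]; omega)
    rw [h4, hl]

/-- (k1) -/
theorem k1 {t : Fin (n + 2) → Fˣ} (ht : th W t = 1) : t ^ 2 = 1 := by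
  refine sq_eq_one (c := 1) (fun z => ?_) (one_pow _)
  have h1 := th_apply W z t
  rw [ht] at h1
  have h2 : (1 - ((chi z t : Fˣ) : F)) • (toFrame W).b z = 0 := by
    rw [sub_smul, one_smul, ← h1]
    exact sub_self _
  have h3 := (smul_eq_zero.1 h2).resolve_right (b_ne_zero _)
  exact Units.ext (sub_eq_zero.1 h3).symm

/-- (k2) -/
theorem k2 (hG : Good Q) (hn : Even n) {t : Fin (n + 2) → Fˣ} (ht : th W t ∈ Subgroup.center (E Q)) : t ^ 2 = 1 := by
  obtain ⟨c, hc⟩ := scalar_of_center hG ht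
  have h1 : ∀ z, ((chi z t : Fˣ) : F) = c := by
    intro z
    have h1 := th_apply W z t
    rw [hc] at h1
    have h2 : (c - ((chi z t : Fˣ) : F)) • (toFrame W).b z = 0 := by rw [sub_smul, h1, sub_self]
    exact (sub_eq_zero.1 ((smul_eq_zero.1 h2).resolve_right (b_ne_zero _))).symm
  obtain ⟨c', rfl⟩ : ∃ c' : Fˣ, (c' : F) = c := ⟨chi (0, true) t, h1 _⟩
  have h2 : ∀ z, chi z t = c' := fun z => Units.ext (h1 z)
  refine sq_eq_one h2 ?_
  have hc2 : c' ^ 2 = 1 := by
    have h1 := chi_false (0 : Fin (n + 2)) t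
    rw [h2, h2, eq_inv_iff_mul_eq_one] at h1
    rw [pow_two, h1]
  obtain ⟨k, rfl⟩ := hn
  rw [show k + k + 2 = 2 * (k + 1) by ring, pow_mul, hc2, one_pow]

end Torus

/-! ### The root groups -/

section Roots

variable {F V : Type*} [Field F] [AddCommGroup V] [Module F V] {Q : QuadraticForm F V} {n : ℕ}
  (W : WFrame (PO Q) (n + 2))

theorem rg_le (x : Fin (n + 2) → ℤ) : WittRGDD.rg (toFrame W) x ≤ E Q := by
  refine iSup_le fun q => ?_
  rintro _ ⟨t, rfl⟩
  rw [← Phi_u (toFrame W) q.2.1 t]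
  exact Phi_mem' W _ _

/-- The root groups in `E Q`. -/
def X (x : Fin (n + 2) → ℤ) : Subgroup (E Q) := (WittRGDD.rg (toFrame W) x).subgroupOf (E Q)

/-- The torus in `E Q`. -/
def T : Subgroup (E Q) := (Tor (toFrame W) (E Q)).subgroupOf (E Q)

theorem Phi_up {x y : Fin (n + 2) × Bool} (hxy : x.1 ≠ y.1) (t : F) :
    Phi (toFrame W) hxy (up t) = (toFrame W).X x y t := Phi_u (toFrame W) hxy t

theorem Phi_lo {x y : Fin (n + 2) × Bool} (hxy : x.1 ≠ y.1) (t : F) :
    Phi (toFrame W) hxy (lo t) = (toFrame W).X (neg y) (neg x) t := Phi_l (toFrame W) hxy t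

theorem X_eq {x : Fin (n + 2) → ℤ} {a b : Fin (n + 2) × Bool} (hab : a.1 ≠ b.1)
    (e : TypeD.ee x = TypeC.wt a + TypeC.wt b) : (X W x : Set (E Q)) = Set.range fun t : F => phi W hab (up t) := by
  ext g
  rw [SetLike.mem_coe, X, Subgroup.mem_subgroupOf, WittRGDD.rg_eq (toFrame W) hab e]
  constructor
  · rintro ⟨t, ht⟩
    exact ⟨t, Subtype.ext ((Phi_up W hab t).trans ht.symm)⟩
  · rintro ⟨t, rfl⟩
    exact ⟨t, Phi_up W hab t⟩

theorem X_neg_eq {x : Fin (n + 2) → ℤ} {a b : Fin (n + 2) × Bool} (hab : a.1 ≠ b.1)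
    (e : TypeD.ee x = TypeC.wt a + TypeC.wt b) :
    (X W (-x) : Set (E Q)) = Set.range fun t : F => phi W hab (lo t) := by
  have e' : TypeD.ee (-x) = TypeC.wt (TypeC.ng b) + TypeC.wt (TypeC.ng a) := by
    rw [TypeD.ee_neg, e, TypeC.wt_ng, TypeC.wt_ng]; abel
  ext g
  rw [SetLike.mem_coe, X, Subgroup.mem_subgroupOf, WittRGDD.rg_eq (toFrame W) (a := TypeC.ng b) (b := TypeC.ng a)
    (Ne.symm hab) e']
  constructor
  · rintro ⟨t, ht⟩
    exact ⟨t, Subtype.ext ((Phi_lo W hab t).trans ht.symm)⟩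
  · rintro ⟨t, rfl⟩
    exact ⟨t, Phi_lo W hab t⟩

/-- **(Coord)** -/
theorem coord : Coord (X W) (fun _ : Fin (n + 2) => F) (s W) where
  up i := X_eq W (TypeD.ok_nx i) (TypeD.ee_sr i)
  lo i := X_neg_eq W (TypeD.ok_nx i) (TypeD.ee_sr i)

/-! ### The involutions -/

/-- `Phi (-1)` on the frame. -/
theorem neg_one_apply {x y : Fin (n + 2) × Bool} (hxy : x.1 ≠ y.1) (z : Fin (n + 2) × Bool) :
    Phi (toFrame W) hxy (-1) ((toFrame W).b z) =
      (if z.1 = x.1 ∨ z.1 = y.1 then (-1 : F) else 1) • (toFrame W).b z := by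
  by_cases h : z.1 = x.1 ∨ z.1 = y.1
  · rw [if_pos h, j_of_eq _ hxy h]
  · rw [if_neg h]
    push Not at h
    rw [Phi_of_ne _ hxy _ h.1 h.2, one_smul]

theorem phi_neg_one_congr {x y x' y' : Fin (n + 2) × Bool} (hxy : x.1 ≠ y.1) (hxy' : x'.1 ≠ y'.1)
    (h : (x.1 = x'.1 ∧ y.1 = y'.1) ∨ (x.1 = y'.1 ∧ y.1 = x'.1)) : phi W hxy (-1) = phi W hxy' (-1) := by
  apply Subtype.ext
  rw [coe_phi, coe_phi]
  apply ext_b W
  · intro z
    rw [neg_one_apply, neg_one_apply]
    rcases h with ⟨h, h'⟩ | ⟨h, h'⟩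
    · rw [h, h']
    · simp only [h, h', or_comm]
  · intro w hw
    rw [Phi_dg_V0 W _ _ hw, Phi_dg_V0 W _ _ hw]

open Classical in
/-- The involution of a root. -/
noncomputable def zz (x : Fin (n + 2) → ℤ) : E Q :=
  if H : ∃ q : (Fin (n + 2) × Bool) × (Fin (n + 2) × Bool), q.1.1 ≠ q.2.1 ∧
    TypeD.ee x = TypeC.wt q.1 + TypeC.wt q.2 then phi W H.choose_spec.1 (-1) else 1

theorem zz_eq {x : Fin (n + 2) → ℤ} {a b : Fin (n + 2) × Bool} (hab : a.1 ≠ b.1)
    (e : TypeD.ee x = TypeC.wt a + TypeC.wt b) : zz W x = phi W hab (-1) := by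
  have H : ∃ q : (Fin (n + 2) × Bool) × (Fin (n + 2) × Bool), q.1.1 ≠ q.2.1 ∧
    TypeD.ee x = TypeC.wt q.1 + TypeC.wt q.2 := ⟨(a, b), hab, e⟩
  unfold zz
  rw [dif_pos H]
  apply phi_neg_one_congr
  rcases TypeD.wt_add_eq H.choose_spec.1 hab (H.choose_spec.2.symm.trans e) with ⟨h1, h2⟩ | ⟨h1, h2⟩
  · exact Or.inl ⟨congrArg Prod.fst h1, congrArg Prod.fst h2⟩
  · exact Or.inr ⟨congrArg Prod.fst h1, congrArg Prod.fst h2⟩

theorem phi_neg_one_mul {x y : Fin (n + 2) × Bool} (hxy : x.1 ≠ y.1) (g : SpecialLinearGroup (Fin 2) F) :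
    phi W hxy (-1) * phi W hxy g = phi W hxy g * phi W hxy (-1) := by
  rw [← map_mul, ← map_mul, neg_one_mul, mul_neg_one]

theorem phi_neg_one_sq {x y : Fin (n + 2) × Bool} (hxy : x.1 ≠ y.1) : phi W hxy (-1) * phi W hxy (-1) = 1 := by
  rw [← map_mul, neg_one_mul, _root_.neg_neg, map_one]

/-- `phi` maps `SL(2,F)` onto `⟨X r, X (-r)⟩`. -/
theorem phi_range {x : Fin (n + 2) → ℤ} {a b : Fin (n + 2) × Bool} (hab : a.1 ≠ b.1)
    (e : TypeD.ee x = TypeC.wt a + TypeC.wt b) : (phi W hab).range = X W x ⊔ X W (-x) := by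
  apply le_antisymm
  · rintro _ ⟨g, rfl⟩
    have h1 : (X W x ⊔ X W (-x)).comap (phi W hab) = ⊤ := by
      apply Mult.mem_of_up_lo
      · intro t
        refine Subgroup.mem_sup_left ?_
        rw [← SetLike.mem_coe, X_eq W hab e]
        exact ⟨t, rfl⟩
      · intro t
        refine Subgroup.mem_sup_right ?_
        rw [← SetLike.mem_coe, X_neg_eq W hab e]
        exact ⟨t, rfl⟩
    exact Subgroup.mem_comap.1 (h1 ▸ Subgroup.mem_top g)
  · refine sup_le ?_ ?_
    · intro g hg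
      rw [← SetLike.mem_coe, X_eq W hab e] at hg
      obtain ⟨t, rfl⟩ := hg
      exact ⟨_, rfl⟩
    · intro g hg
      rw [← SetLike.mem_coe, X_neg_eq W hab e] at hg
      obtain ⟨t, rfl⟩ := hg
      exact ⟨_, rfl⟩

/-- The groups `K_r` are isomorphic to `SL(2,F)`. -/
theorem sl {x : Fin (n + 2) → ℤ} {a b : Fin (n + 2) × Bool} (hab : a.1 ≠ b.1)
    (e : TypeD.ee x = TypeC.wt a + TypeC.wt b) :
    Nonempty (SpecialLinearGroup (Fin 2) F ≃* ↥(X W x ⊔ X W (-x))) :=
  ⟨(MonoidHom.ofInjective (phi_injective W hab)).trans (MulEquiv.subgroupCongr (phi_range W hab e))⟩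

end Roots

/-! ### Classical root groups -/

section Cl

variable {F V : Type*} [Field F] [AddCommGroup V] [Module F V] {Q : QuadraticForm F V} {n : ℕ}
  (W : WFrame (PO Q) (n + 2)) (h2 : (2 : F) ≠ 0) (h0 : ∀ p : (toFrame W).Adm, p = 1)

/-- The Weyl elements in `E Q`. -/
noncomputable def nE (i : Fin (n + 2)) : E Q := ⟨WittRGDD.nn (toFrame W) i, WittRGDD.nn_mem (amb W h2) i⟩

include h0 in
theorem rgd [Finite V] {p : ℕ} [Fact p.Prime] [CharP F p] (hp2 : Odd p) {Wc : Type*} [Group Wc]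
    (cs : CoxeterSystem (TypeD.M n) Wc) : RGD cs (TypeD.isCartan n) p (T W) (nE W h2) (X W) :=
  rgd_restrict (WittRGDD.rgd (amb W h2) hp2 h0 cs) (E Q) (fun x _ => rg_le W x) fun i => WittRGDD.nn_mem (amb W h2) i

include h0 in
theorem V0_eq {w : V} (hw : w ∈ W.V0) : w = 0 := by
  have h1 := h0 ⟨w, -Q w, ⟨hw, rfl⟩⟩
  exact congrArg Frame.Adm.w h1

theorem mem_T {t : E Q} : t ∈ T W ↔ Mono (toFrame W) (t : V ≃ₗ[F] V) id :=
  ⟨fun h => h.2, fun h => ⟨t.2, h⟩⟩

theorem phi_neg_one_mem_T {x y : Fin (n + 2) × Bool} (hxy : x.1 ≠ y.1) : phi W hxy (-1) ∈ T W := by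
  rw [mem_T]
  intro z
  refine ⟨_, ?_, neg_one_apply W hxy z⟩
  split_ifs
  · exact neg_ne_zero.2 one_ne_zero
  · exact one_ne_zero

include h0 in
theorem phi_neg_one_comm_T {x y : Fin (n + 2) × Bool} (hxy : x.1 ≠ y.1) {t : E Q} (ht : t ∈ T W) :
    phi W hxy (-1) * t = t * phi W hxy (-1) := by
  apply Subtype.ext
  rw [Subgroup.coe_mul, Subgroup.coe_mul, coe_phi]
  apply ext_b W
  · intro z
    obtain ⟨l, -, hl⟩ := (mem_T W).1 ht z
    simp only [id] at hl
    rw [LinearEquiv.mul_apply, LinearEquiv.mul_apply, hl, map_smul, neg_one_apply, map_smul, hl, smul_smul,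
      smul_smul, mul_comm]
  · intro w hw
    rw [V0_eq W h0 hw, map_zero, map_zero]

/-- Conjugation of the involutions by monomial elements. -/
theorem conj_neg_one {g : E Q} {π : Fin (n + 2) × Bool → Fin (n + 2) × Bool} (hg : Mono (toFrame W) (g : V ≃ₗ[F] V) π)
    (h0 : ∀ p : (toFrame W).Adm, p = 1)
    (hπ : ∀ a b, (π a).1 = (π b).1 ↔ a.1 = b.1) {x y : Fin (n + 2) × Bool} (hxy : x.1 ≠ y.1)
    (hxy' : (π x).1 ≠ (π y).1) : g * phi W hxy (-1) * g⁻¹ = phi W hxy' (-1) := by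
  rw [mul_inv_eq_iff_eq_mul]
  apply Subtype.ext
  rw [Subgroup.coe_mul, Subgroup.coe_mul, coe_phi, coe_phi]
  apply ext_b W
  · intro z
    obtain ⟨l, -, hl⟩ := hg z
    rw [LinearEquiv.mul_apply, LinearEquiv.mul_apply, hl, map_smul, neg_one_apply, neg_one_apply, map_smul, hl,
      smul_smul, smul_smul, mul_comm]
    simp only [hπ]
  · intro w hw
    rw [V0_eq W h0 hw, map_zero, map_zero]

theorem sg_fst_iff (i : Fin (n + 2)) (a b : Fin (n + 2) × Bool) :
    (TypeD.sg i a).1 = (TypeD.sg i b).1 ↔ a.1 = b.1 := TypeD.sg_fst_eq i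

include h2 in
/-- The involution `z` inverts the root groups with exactly one common index. -/
theorem conj_X_inv {a b c d : Fin (n + 2) × Bool} (hab : a.1 ≠ b.1) (hcd : c.1 ≠ d.1)
    (h : ¬ ((c.1 = a.1 ∨ c.1 = b.1) ↔ (d.1 = a.1 ∨ d.1 = b.1))) (t : F) :
    phi W hab (-1) * phi W hcd (up t) * phi W hab (-1) = (phi W hcd (up t))⁻¹ := by
  have hi : (phi W hab (-1))⁻¹ = phi W hab (-1) := inv_eq_of_mul_eq_one_right (phi_neg_one_sq W hab)
  have e0 : phi W hab (-1) * phi W hcd (up t) * phi W hab (-1) =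
      phi W hab (-1) * phi W hcd (up t) * (phi W hab (-1))⁻¹ := by rw [hi]
  rw [e0]
  apply Subtype.ext
  have h1 := cj_X W hab (hA := amb W h2) hcd (neg_one_apply W hab c) (neg_one_apply W hab d) t
  rw [← Phi_up W hcd] at h1
  rw [Subgroup.coe_mul, Subgroup.coe_mul, Subgroup.coe_inv, Subgroup.coe_inv, coe_phi, coe_phi]
  refine h1.trans ?_
  rw [Phi_up, ← Frame.X_neg]
  congr 1
  by_cases h3 : c.1 = a.1 ∨ c.1 = b.1
  · rw [if_pos h3, if_neg fun h4 => h ⟨fun _ => h4, fun _ => h3⟩]; ring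
  · rw [if_neg h3, if_pos (by by_contra h4; exact h ⟨fun h5 => absurd h5 h3, fun h5 => absurd h5 h4⟩)]; ring

/-- Root elements with nonnegative scalar product commute. -/
theorem comm_X_X {a b c d : Fin (n + 2) × Bool} (hab : a.1 ≠ b.1) (hcd : c.1 ≠ d.1)
    (h : 0 ≤ KindD.dw a c + KindD.dw a d + KindD.dw b c + KindD.dw b d) (s t : F) :
    Commute ((toFrame W).X a b s) ((toFrame W).X c d t) := by
  have hdw : ∀ a b : Fin (n + 2) × Bool, a.1 ≠ b.1 → KindD.dw a b = 0 := fun a b h => if_neg h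
  have hdn : ∀ a : Fin (n + 2) × Bool, KindD.dw a (neg a) = -1 := fun a => by
    unfold KindD.dw
    rw [if_pos (show a.1 = (neg a).1 from rfl), if_neg (by simp)]
  have hd1 : ∀ a b : Fin (n + 2) × Bool, 1 ≤ KindD.dw a b → a = b := by
    intro a b h
    unfold KindD.dw at h
    by_cases h1 : a.1 = b.1
    · rw [if_pos h1] at h
      by_cases h2 : a.2 = b.2
      · exact Prod.ext h1 h2
      · rw [if_neg h2] at h; omega
    · rw [if_neg h1] at h; omega
  -- the case `c = -a`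
  have key : ∀ {a b c d : Fin (n + 2) × Bool}, a.1 ≠ b.1 → c.1 ≠ d.1 →
      0 ≤ KindD.dw a c + KindD.dw a d + KindD.dw b c + KindD.dw b d → c = neg a → ∀ s t : F,
      Commute ((toFrame W).X a b s) ((toFrame W).X c d t) := by
    intro a b c d hab hcd h hc s t
    subst hc
    rw [hdn, hdw a d (fun h1 => hcd h1), hdw b (neg a) hab.symm] at h
    have h3 := hd1 b d (by omega)
    subst h3
    exact ((comm_X_nx W hab t).1 s).symm
  by_cases h1 : c = neg a
  · exact key hab hcd h h1 s t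
  by_cases h2 : d = neg a
  · rw [Frame.X_swap (toFrame W) hcd]
    exact key hab hcd.symm (by linarith) h2 s _
  by_cases h3 : c = neg b
  · rw [Frame.X_swap (toFrame W) hab]
    exact key hab.symm hcd (by linarith) h3 _ t
  by_cases h4 : d = neg b
  · rw [Frame.X_swap (toFrame W) hab, Frame.X_swap (toFrame W) hcd]
    exact key hab.symm hcd.symm (by linarith) h4 _ _
  exact Frame.commute_XX _ h1 h3 h2 h4 _ _

omit [AddCommGroup V] in
theorem exists_rD {Wc : Type*} [Group Wc] (cs : CoxeterSystem (TypeD.M n) Wc) {x : Fin (n + 2) → ℤ}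
    (hx : IsRoot cs (TypeD.isCartan n) x) : ∃ a b : Fin (n + 2) × Bool, a.1 ≠ b.1 ∧ x = KindD.rD a b :=
  KindD.exists_rD cs hx

open Classical in
/-- **(Cls)** -/
theorem cls [Finite V] {p : ℕ} [Fact p.Prime] [CharP F p] (hp2 : Odd p) (h0 : ∀ p : (toFrame W).Adm, p = 1)
    {Wc : Type*} [Group Wc] [Fintype Wc] (cs : CoxeterSystem (TypeD.M n) Wc) :
    Cls cs (TypeD.isCartan n) p (T W) (nE W h2) (X W) {x | IsRoot cs (TypeD.isCartan n) x} (X W) (zz W) := by
  have Rg := rgd W h2 h0 hp2 cs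
  have hform : ∀ {a b c d : Fin (n + 2) × Bool} {r y : Fin (n + 2) → ℤ} (hab : a.1 ≠ b.1) (hcd : c.1 ≠ d.1),
      r = KindD.rD a b → y = KindD.rD c d → form cs (TypeD.isCartan n) y r ≠ 0 → KindD.dw c a + KindD.dw c b + KindD.dw d a + KindD.dw d b ≠ 0 := by
    intro a b c d r y hab hcd er ey h
    rw [Ne, ← Coroot.cpr_zero_iff cs (TypeD.isCartan n) y (er ▸ KindD.isRoot_rD cs hab), er, ey,
      KindD.cpr_rD_rD cs hcd hab] at h
    exact h
  refine
    { rgd := Rg
      root := fun r hr => hr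
      act := fun r hr w => hr.act w
      le := fun r _ => le_rfl
      ne_bot := fun r hr => Bruhat.X_ne_bot Rg hr
      conj := fun i r hr => Rg.conj i r hr
      tor := fun r hr => Rg.tor r hr
      cent := ?_
      notp := ?_
      z_mem := ?_
      z_torus := ?_
      z_T := ?_
      z_sq := ?_
      z_conj := ?_
      z_neg := ?_
      z_cent := ?_
      z_inv := ?_
      z_inv_self := ?_ }
  · intro r hr y hy h1 u hu v hv
    obtain ⟨a, b, hab, rfl⟩ := exists_rD cs hr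
    obtain ⟨c, d, hcd, rfl⟩ := exists_rD cs hy
    rw [← SetLike.mem_coe, X_eq W hcd (KindD.ee_rD hcd)] at hu
    rw [← SetLike.mem_coe, X_eq W hab (KindD.ee_rD hab)] at hv
    obtain ⟨s, rfl⟩ := hu
    obtain ⟨t, rfl⟩ := hv
    have h3 : 0 ≤ KindD.dw c a + KindD.dw c b + KindD.dw d a + KindD.dw d b := by
      rw [← KindD.cpr_rD_rD cs hcd hab]
      have h4 := Coroot.two_form_cpr cs (TypeD.isCartan n) (KindD.rD c d) hr
      have h5 := form_pos cs (TypeD.isCartan n) hr.ne_zero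
      by_contra h6
      push Not at h6
      nlinarith
    apply Subtype.ext
    rw [Subgroup.coe_mul, Subgroup.coe_mul, coe_phi, coe_phi]
    rw [Phi_up, Phi_up]
    exact comm_X_X W hcd hab h3 s t
  · intro r hr
    obtain ⟨w, i, rfl⟩ := hr
    obtain ⟨g, hg⟩ := exists_rp cs Rg.nsys w
    rw [← map_neg, ← Rg.conj_rp hg (isRoot_sr cs _ i), ← Rg.conj_rp hg (isRoot_sr cs _ i).neg, ← cj_sup]
    intro h0
    apply Rg.notp i
    have h1 := h0.map (MulAut.conj g⁻¹).toMonoidHom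
    change IsPGroup p ↥(cj g⁻¹ (cj g (X W (sr i) ⊔ X W (-sr i)))) at h1
    rwa [cj_inv_cj] at h1
  · intro r hr
    obtain ⟨a, b, hab, rfl⟩ := exists_rD cs hr
    rw [zz_eq W hab (KindD.ee_rD hab), ← phi_range W hab (KindD.ee_rD hab)]
    exact ⟨_, rfl⟩
  · intro r hr
    obtain ⟨a, b, hab, rfl⟩ := exists_rD cs hr
    rw [zz_eq W hab (KindD.ee_rD hab)]
    exact phi_neg_one_mem_T W hab
  · intro r hr t ht
    obtain ⟨a, b, hab, rfl⟩ := exists_rD cs hr
    rw [zz_eq W hab (KindD.ee_rD hab)]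
    exact phi_neg_one_comm_T W h0 hab ht
  · intro r hr
    obtain ⟨a, b, hab, rfl⟩ := exists_rD cs hr
    rw [zz_eq W hab (KindD.ee_rD hab)]
    exact phi_neg_one_sq W hab
  · intro i r hr
    obtain ⟨a, b, hab, rfl⟩ := exists_rD cs hr
    have h3 : TypeD.ee (rep cs (TypeD.isCartan n) (cs.simple i) (KindD.rD a b)) =
        TypeC.wt (TypeD.sg i a) + TypeC.wt (TypeD.sg i b) := by
      rw [rep_simple]
      exact TypeD.ee_refl_of (KindD.ee_rD hab)
    rw [zz_eq W hab (KindD.ee_rD hab), zz_eq W (TypeD.Ok.sg hab i) h3]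
    exact conj_neg_one W (WittRGDD.mono_nn i) h0 (sg_fst_iff i) hab (TypeD.Ok.sg hab i)
  · intro r hr
    obtain ⟨a, b, hab, rfl⟩ := exists_rD cs hr
    rw [KindD.rD_neg hab, zz_eq W hab (KindD.ee_rD hab), zz_eq W (TypeD.Ok.ng hab) (KindD.ee_rD (TypeD.Ok.ng hab))]
    exact phi_neg_one_congr W _ _ (Or.inl ⟨rfl, rfl⟩)
  · intro r hr u hu
    obtain ⟨a, b, hab, rfl⟩ := exists_rD cs hr
    rw [← SetLike.mem_coe, X_eq W hab (KindD.ee_rD hab)] at hu
    obtain ⟨t, rfl⟩ := hu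
    rw [zz_eq W hab (KindD.ee_rD hab)]
    exact phi_neg_one_mul W hab _
  · intro r hr y hy hyr hyr' hf u hu
    obtain ⟨a, b, hab, rfl⟩ := exists_rD cs hr
    obtain ⟨c, d, hcd, rfl⟩ := exists_rD cs hy
    have h3 := hform hab hcd rfl rfl hf
    rw [← SetLike.mem_coe, X_eq W hcd (KindD.ee_rD hcd)] at hu
    obtain ⟨t, rfl⟩ := hu
    rw [zz_eq W hab (KindD.ee_rD hab)]
    refine conj_X_inv W h2 hab hcd ?_ t
    have hab' : a.1 ≠ b.1 := hab
    have hcd' : c.1 ≠ d.1 := hcd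
    intro h4
    have h5 := KindD.abs_cpr_le_one cs hy hr hyr hyr'
    rw [KindD.cpr_rD_rD cs hcd hab, abs_le] at h5
    have hpm : ∀ a b : Fin (n + 2) × Bool, a.1 = b.1 → KindD.dw a b = 1 ∨ KindD.dw a b = -1 := by
      intro a b h
      unfold KindD.dw
      rw [if_pos h]
      split_ifs
      · exact Or.inl rfl
      · exact Or.inr rfl
    have hz : ∀ a b : Fin (n + 2) × Bool, a.1 ≠ b.1 → KindD.dw a b = 0 := fun a b h => if_neg h
    by_cases h6 : c.1 = a.1 ∨ c.1 = b.1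
    · have h7 := h4.1 h6
      apply h3
      rcases h6 with h6 | h6
      · have h8 : d.1 = b.1 := h7.resolve_left fun h => hcd' (h6.trans h.symm)
        rw [hz c b fun h => hab' (h6.symm.trans h), hz d a fun h => hab' (h.symm.trans h8)] at h5 ⊢
        rcases hpm c a h6 with h9 | h9 <;> rcases hpm d b h8 with h10 | h10 <;> omega
      · have h8 : d.1 = a.1 := h7.resolve_right fun h => hcd' (h6.trans h.symm)
        rw [hz c a fun h => hab' (h.symm.trans h6), hz d b fun h => hab' (h8.symm.trans h)] at h5 ⊢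
        rcases hpm c b h6 with h9 | h9 <;> rcases hpm d a h8 with h10 | h10 <;> omega
    · have h7 : ¬ (d.1 = a.1 ∨ d.1 = b.1) := fun h => h6 (h4.2 h)
      push Not at h6 h7
      apply h3
      unfold KindD.dw
      rw [if_neg h6.1, if_neg h6.2, if_neg h7.1, if_neg h7.2]
      rfl
  · intro r hr u hu
    obtain ⟨a, b, hab, rfl⟩ := exists_rD cs hr
    have h3 : zz W (KindD.rD a b) * u * zz W (KindD.rD a b) * u = u * u := by
      have h4 : zz W (KindD.rD a b) * u = u * zz W (KindD.rD a b) := by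
        rw [← SetLike.mem_coe, X_eq W hab (KindD.ee_rD hab)] at hu
        obtain ⟨t, rfl⟩ := hu
        rw [zz_eq W hab (KindD.ee_rD hab)]
        exact phi_neg_one_mul W hab _
      rw [h4, mul_assoc u, zz_eq W hab (KindD.ee_rD hab), phi_neg_one_sq, mul_one]
    rw [h3]
    exact mul_mem hu hu

/-- Generation. -/
theorem G1_eq_top {Wc : Type*} [Group Wc] (cs : CoxeterSystem (TypeD.M n) Wc) (h0 : ∀ p : (toFrame W).Adm, p = 1) :
    G1 cs (TypeD.isCartan n) (X W) = ⊤ := by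
  have hgen : E Q ≤ G1 cs (TypeD.isCartan n) (WittRGDD.rg (toFrame W)) := by
    set K := G1 cs (TypeD.isCartan n) (WittRGDD.rg (toFrame W)) with hK
    have key : ∀ a b : Fin (n + 2) × Bool, a.1 ≠ b.1 → ∀ t, (toFrame W).X a b t ∈ K := by
      intro a b hab t
      have h1 : XG (toFrame W) a b ≤ K := by
        rw [← WittRGDD.rg_eq (toFrame W) hab (KindD.ee_rD hab)]
        exact X_le_G1 (KindD.isRoot_rD cs hab)
      exact h1 ⟨t, rfl⟩
    have hkl : (0 : Fin (n + 2)) ≠ 1 := by simp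
    refine E_le_of_contains W (contains_D W 0 1 hkl ?_ ?_ h0)
    · intro i j hij t
      have hne : i ≠ j := fun h => by rw [h] at hij; omega
      exact ⟨key (i, true) (j, false) hne t, key (j, true) (i, false) hne.symm t⟩
    · intro t
      exact ⟨key (0, true) (1, true) hkl t, key (0, false) (1, false) hkl t⟩
  have e2 : (G1 cs (TypeD.isCartan n) (WittRGDD.rg (toFrame W))).subgroupOf (E Q) =
      G1 cs (TypeD.isCartan n) (X W) := by
    unfold G1 RGD.Sup
    exact iSup_subgroupOf (fun z : {x | IsRoot cs (TypeD.isCartan n) x} => WittRGDD.rg (toFrame W) z.1)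
      fun z => rg_le W z.1
  rw [← e2]
  exact Subgroup.subgroupOf_eq_top.2 hgen

/-- (tr) -/
theorem tr {Wc : Type*} [Group Wc] [Finite Wc] (cs : CoxeterSystem (TypeD.M n) Wc) (hn : 1 ≤ n) :
    ∀ r ∈ {x | IsRoot cs (TypeD.isCartan n) x}, ∀ s ∈ {x | IsRoot cs (TypeD.isCartan n) x},
      ∃ w, s = rep cs (TypeD.isCartan n) w r := by
  intro r hr s hs
  obtain ⟨w, hw⟩ := KindD.trans cs hn hr hs
  exact ⟨w, hw.symm⟩

/-- (sl) -/
theorem sl_root {Wc : Type*} [Group Wc] (cs : CoxeterSystem (TypeD.M n) Wc) :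
    ∀ r ∈ {x | IsRoot cs (TypeD.isCartan n) x},
      Nonempty (SpecialLinearGroup (Fin 2) F ≃* ↥(X W r ⊔ X W (-r))) := by
  intro r hr
  obtain ⟨a, b, hab, rfl⟩ := exists_rD cs hr
  exact sl W hab (KindD.ee_rD hab)

/-- (lnk) -/
theorem lnk {Wc : Type*} [Group Wc] [Fintype Wc] (cs : CoxeterSystem (TypeD.M n) Wc) (hn : 1 ≤ n) (i : Fin (n + 2)) :
    ∃ r ∈ {x | IsRoot cs (TypeD.isCartan n) x}, r ≠ sr i ∧ r ≠ -sr i ∧ form cs (TypeD.isCartan n) (sr i) r ≠ 0 := by
  have hk : ∃ k : Fin (n + 2), k ≠ i ∧ k ≠ (TypeD.nx i).1 := by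
    by_contra hcon
    push Not at hcon
    have h1 : Fintype.card (Fin (n + 2)) ≤ ({i, (TypeD.nx i).1} : Finset (Fin (n + 2))).card := by
      rw [← Finset.card_univ]
      refine Finset.card_le_card fun k _ => ?_
      rw [Finset.mem_insert, Finset.mem_singleton]
      by_cases hki : k = i
      · exact Or.inl hki
      · exact Or.inr (hcon k hki)
    have h3 := Finset.card_le_two (a := i) (b := (TypeD.nx i).1)
    rw [Fintype.card_fin] at h1
    omega
  obtain ⟨k, hk1, hk2⟩ := hk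
  have hok : ((i, true) : Fin (n + 2) × Bool).1 ≠ ((k, true) : Fin (n + 2) × Bool).1 := Ne.symm hk1
  have hr : IsRoot cs (TypeD.isCartan n) (KindD.rD (i, true) (k, true)) := KindD.isRoot_rD cs hok
  have hf : Coroot.cpr cs (TypeD.isCartan n) (sr i) (KindD.rD (i, true) (k, true)) = 1 := by
    rw [← KindD.rD_sr, KindD.cpr_rD_rD cs (TypeD.ok_nx i) hok]
    have h1 : KindD.dw ((i, true) : Fin (n + 2) × Bool) (i, true) = 1 := by
      unfold KindD.dw
      simp
    have h2 : KindD.dw ((i, true) : Fin (n + 2) × Bool) (k, true) = 0 := if_neg hok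
    have h3 : KindD.dw (TypeD.nx i) (i, true) = 0 := if_neg (Ne.symm (TypeD.ok_nx i))
    have h4 : KindD.dw (TypeD.nx i) (k, true) = 0 := if_neg (Ne.symm hk2)
    rw [h1, h2, h3, h4]
    rfl
  refine ⟨_, hr, ?_, ?_, ?_⟩
  · intro e
    rw [e, Coroot.cpr_self cs (TypeD.isCartan n) (isRoot_sr cs _ i)] at hf
    omega
  · intro e
    rw [e, Coroot.cpr_neg_right cs (TypeD.isCartan n) _ (isRoot_sr cs _ i),
      Coroot.cpr_self cs (TypeD.isCartan n) (isRoot_sr cs _ i)] at hf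
    omega
  · rw [Ne, ← Coroot.cpr_zero_iff cs (TypeD.isCartan n) _ hr, hf]
    norm_num

end Cl

end Cfsg.Agent.OddHalf.NI.OmegaPlus
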