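import Mathlib
import Cfsg.Agent.Nodes.ClsMap
import Cfsg.Agent.OddHalf.NI.Props
import Cfsg.Agent.OddHalf.NI.FTwo.ChartB
import Cfsg.Agent.OddHalf.NI.FTwo.CombStd
import Cfsg.Agent.OddHalf.NI.AutB3

/-!
# From `PosB3` (node NI, (F2')) to standard coordinates; (K5) and `AutM` for `ChartB3`

* `exists_std` : `PosB3 C F c d A B A' r r' b` ⟹ data `Std` with `B = ⟨X (±(e₁+e₂))⟩`, `A' = ⟨X (±(e₁-e₂))⟩`,
  `A = ⟨X (±e₃)⟩`, `z (e₁+e₂) = d`, `z (e₁-e₂) = c d`;
* `aut_eq` : (K5): `α` trivial on `A`, `B`, `A'` ⟹ `α = 1` or `α = conj d`;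
* `autM` : `AutM (fun N c d A B A' => ∃ F .., ChartB3 F N c d A B A')`.
-/

set_option autoImplicit false
set_option linter.unusedSectionVars false
set_option linter.dupNamespace false

namespace Cfsg.Agent.OddHalf.NI.PosStd

open CoxeterSystem Cfsg.Agent.ChevalleyStructure.CoxeterGeom Cfsg.Agent.Tits.Roots Cfsg.Agent.Tits.Core
  Cfsg.Agent.Tits.RootComb Cfsg.Agent.Nodes.Comb Cfsg.Agent.Nodes.Reps Cfsg.Agent.Nodes.BNOf
  Cfsg.Agent.Nodes.RGDLib Cfsg.Agent.Nodes.Chart Cfsg.Agent.Nodes.Coroot Cfsg.Agent.Nodes.Perp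
  Cfsg.Agent.Nodes.ZRel Cfsg.Agent.Nodes.TypeC Cfsg.Agent.Nodes.TypeCForm Cfsg.Agent.Nodes.KindBC
  Cfsg.Agent.Nodes.TyStd Cfsg.Agent.Nodes.ClsMap Cfsg.Agent.Nodes.RKindsBC Cfsg.Agent.Nodes.FreeTorus
  Cfsg.Agent.OddHalf.NI.AutB3Comb Cfsg.Agent.OddHalf.NI.AutB3Std
open Cfsg.Agent.OddHalf.NI.FTwo (PosB3 ChartB3)

variable {N : Type*} [Group N] {Om : Set (Subgroup N)} {p : ℕ}

theorem rt_eq_rr : rt ((⟨0, by omega⟩, true) : Fin 3 × Bool) (⟨1, by omega⟩, true) = rr := by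
  apply ee_injective
  rw [ee_rt, ee_eq]
  decide

/-- **Standard coordinates.** -/
theorem exists_std {C : Chart Om p (⊤ : Subgroup N)} {F : Type} [Field F] [Fintype F] {c d : N}
    {A B A' : Subgroup N} {r r' b : C.I → ℤ} (P : PosB3 C F c d A B A' r r' b) :
    ∃ (W : Type) (_ : Group W) (_ : Fintype W) (cs : CoxeterSystem (CoxeterMatrix.B 3) W) (T : Subgroup N)
      (nn : Fin 3 → N) (X Z : (Fin 3 → ℤ) → Subgroup N) (z : (Fin 3 → ℤ) → N),
      Std cs p T nn X Z z ∧ X rr ⊔ X (-rr) = B ∧ X rs ⊔ X (-rs) = A' ∧ X rb ⊔ X (-rb) = A ∧ z rr = d ∧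
      z rs = c * d ∧ (∀ x, IsRoot cs (isCartan 3) x → Nat.card (X x) = Fintype.card F) ∧
      (∀ x, IsRoot cs (isCartan 3) x → Nonempty (Matrix.SpecialLinearGroup (Fin 2) F ≃* ↥(X x ⊔ X (-x)))) := by
  obtain ⟨e, hA, hl⟩ := P.ty
  change C.I ≃ Fin 3 at e
  change ∀ i j, C.A i j = Cfsg.Agent.Nodes.TypeC.A 3 (e i) (e j) at hA
  change ∀ i, sr i ∈ C.R ↔ ((e i : Fin 3) : ℕ) + 1 < 3 at hl
  have hM : ∀ i j, C.M i j = CoxeterMatrix.B 3 (e i) (e j) := fun i j => C.M_apply (τ := .B 3) hA i j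
  let cs' := (CoxeterMatrix.B 3).toCoxeterSystem
  have hfin : Finite (CoxeterMatrix.B 3).Group := finite_of_isTy C P.ty cs'
  letI : Fintype (CoxeterMatrix.B 3).Group := Fintype.ofFinite _
  have hsr : ∀ i, sr i ∈ C.R ↔ sr (e i) ∈ RB 3 := fun i => by rw [hl, sr_mem_RB]
  have hroot : ∀ r ∈ RB 3, IsRoot cs' (isCartan 3) r := fun r hr => root_RB cs' hr
  have hact' : ∀ r ∈ RB 3, ∀ w, rep cs' (isCartan 3) w r ∈ RB 3 := fun r hr w => act_RB cs' hr w
  have C₁ := cls_reindex C.cls e hM hA cs' (isCartan 3) hroot hact' hsr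
  have pull : ∀ x : C.I → ℤ, (fun i => (fun j => x (e.symm j)) (e i)) = x := fun x => by funext i; simp
  have hR : ∀ x : Fin 3 → ℤ, IsRoot cs' (isCartan 3) x → ((fun i => x (e i)) ∈ C.R ↔ x ∈ RB 3) := fun x hx =>
    mem_R_iff (cs := C.cs) (h := C.h) e hM hA cs' (isCartan 3) C.cls.act hact' hsr hx
  have hI : ∀ x : Fin 3 → ℤ, IsRoot C.cs C.h (fun i => x (e i)) ↔ IsRoot cs' (isCartan 3) x := fun x =>
    isRoot_comp_iff e hM hA cs' (isCartan 3)
  -- `r` dominant
  have hr0' : IsRoot cs' (isCartan 3) (fun j => r (e.symm j)) := by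
    rw [← hI, pull]; exact C.cls.root r P.r_mem
  have hr0 : (fun j => r (e.symm j)) ∈ RB 3 := by
    rw [← hR _ hr0', pull]; exact P.r_mem
  obtain ⟨w, hw⟩ := exists_dom_rep cs' (isCartan 3) (fun j => r (e.symm j))
  have hwr : rep cs' (isCartan 3) w (fun j => r (e.symm j)) = rr := by
    obtain ⟨_, h1⟩ := (dom_RB (hact' _ hr0 w)).1 hw
    rw [h1]
    exact rt_eq_rr
  obtain ⟨g, hg⟩ := exists_rp cs' C₁.rgd.nsys w⁻¹
  have C₂ := cls_map_of_injective C₁ (MulAut.conj g).toMonoidHom (MulAut.conj g).injective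
  let rho : (Fin 3 → ℤ) → (C.I → ℤ) := fun x i => rep cs' (isCartan 3) w⁻¹ x (e i)
  have hrho : ∀ x, IsRoot cs' (isCartan 3) x → IsRoot C.cs C.h (rho x) := fun x hx => (hI _).2 (hx.act w⁻¹)
  have hneg : ∀ x, rho (-x) = -rho x := by
    intro x
    funext i
    change rep cs' (isCartan 3) w⁻¹ (-x) (e i) = -rep cs' (isCartan 3) w⁻¹ x (e i)
    rw [map_neg]; rfl
  have hX : ∀ x, IsRoot cs' (isCartan 3) x →
      ((C.X (fun i => x (e i))).map (MulAut.conj g).toMonoidHom) = C.X (rho x) := fun x hx =>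
    C₁.rgd.conj_rp hg hx
  have hZ : ∀ x ∈ RB 3, ((C.Z (fun i => x (e i))).map (MulAut.conj g).toMonoidHom) = C.Z (rho x) := fun x hx =>
    Cfsg.Agent.Nodes.ClsNorm.conj_Z C₁ hg hx
  have hz : ∀ x ∈ RB 3, MulAut.conj g (C.z (fun i => x (e i))) = C.z (rho x) := fun x hx =>
    Cfsg.Agent.Nodes.ClsNorm.conj_z C₁ hg hx
  have hrr : rho rr = r := by
    funext i
    change rep cs' (isCartan 3) w⁻¹ rr (e i) = r i
    rw [← hwr, rep_inv_apply]
    simp
  have hrx : ∀ x : C.I → ℤ, rho (rep cs' (isCartan 3) w (fun j => x (e.symm j))) = x := by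
    intro x
    funext i
    change rep cs' (isCartan 3) w⁻¹ (rep cs' (isCartan 3) w (fun j => x (e.symm j))) (e i) = x i
    rw [rep_inv_apply]
    simp
  have hRho : ∀ x ∈ RB 3, rho x ∈ C.R := fun x hx => (hR _ ((hroot x hx).act w⁻¹)).2 (hact' x hx w⁻¹)
  -- orthogonality
  have horth : ∀ x : C.I → ℤ, IsRoot C.cs C.h x → form C.cs C.h x r = 0 →
      q (rep cs' (isCartan 3) w (fun j => x (e.symm j))) rr = 0 := by
    intro x hx h0
    rw [← zero_iff (cs := cs') (hroot rr rr_mem), ← hwr, form_rep]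
    exact (Cfsg.Agent.OddHalf.NI.FTwo.CombStd.form_dn (cs' := cs') (h' := isCartan 3) e hM hA x
      (C.cls.root r P.r_mem)).1 h0
  have hcases : ∀ y : Fin 3 → ℤ, IsRoot cs' (isCartan 3) y → q y rr = 0 →
      y = rs ∨ y = -rs ∨ y = rb ∨ y = -rb := by
    have key : ∀ y : Fin 3 → ℤ, IsRoot cs' (isCartan 3) y → 0 ≤ y → q y rr = 0 → y = rs ∨ y = rb := by
      intro y hy h0 hq
      rcases pos_cases cs' hy h0 with h | h | h | h | h | h | h | h | h
      · subst h; exact absurd hq (by decide)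
      · exact Or.inl h
      · exact Or.inr h
      · subst h; exact absurd hq (by decide)
      · subst h; exact absurd hq (by decide)
      · subst h; exact absurd hq (by decide)
      · subst h; exact absurd hq (by decide)
      · subst h; exact absurd hq (by decide)
      · subst h; exact absurd hq (by decide)
    intro y hy hq
    rcases hy.pos_or_neg with h0 | h0
    · rcases key y hy h0 hq with h | h
      · exact Or.inl h
      · exact Or.inr (Or.inr (Or.inl h))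
    · have h1 : q (-y) rr = 0 := by
        have : q (-y) rr = -q y rr := by unfold q; simp only [Pi.neg_apply]; ring
        rw [this, hq, neg_zero]
      rcases key (-y) hy.neg (neg_nonneg.2 h0) h1 with h | h
      · exact Or.inr (Or.inl (by rw [← h, neg_neg]))
      · exact Or.inr (Or.inr (Or.inr (by rw [← h, neg_neg])))
  -- `r'`
  have hr'0 : IsRoot cs' (isCartan 3) (fun j => r' (e.symm j)) := by
    rw [← hI, pull]; exact C.cls.root r' P.r'_mem
  have hr'1 : (fun j => r' (e.symm j)) ∈ RB 3 := by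
    rw [← hR _ hr'0, pull]; exact P.r'_mem
  have hr' : rho rs = r' ∨ rho rs = -r' := by
    have h1 := hact' _ hr'1 w
    have h2 : rep cs' (isCartan 3) w (fun j => r' (e.symm j)) ∉ RC 3 := by
      intro h3
      rw [mem_RC_iff_ip cs' (hroot _ h1), (mem_RB_iff_ip cs' (hroot _ h1)).1 h1] at h3
      omega
    rcases hcases _ (hroot _ h1) (horth r' (C.cls.root r' P.r'_mem) (by rw [form_comm]; exact P.rr')) with
      h | h | h | h
    · left; rw [← h, hrx]
    · right; rw [← hrx r', h, hneg, neg_neg]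
    · exact absurd (h ▸ rb_mem) h2
    · refine absurd ?_ h2
      rw [h]
      obtain ⟨a, ha⟩ := rb_mem
      exact ⟨ng a, by rw [ee_neg, ha, wt_ng]; abel⟩
  have hb0 : IsRoot cs' (isCartan 3) (fun j => b (e.symm j)) := by
    rw [← hI, pull]; exact P.b_root
  have hb : rho rb = b ∨ rho rb = -b := by
    have h1 : rep cs' (isCartan 3) w (fun j => b (e.symm j)) ∉ RB 3 := by
      intro h1
      have h2 := hRho _ h1
      rw [hrx] at h2
      exact P.b_not h2
    rcases hcases _ (hb0.act w) (horth b P.b_root P.br) with h | h | h | h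
    · exact absurd (h ▸ rs_mem) h1
    · refine absurd ?_ h1
      rw [h]
      obtain ⟨a, a', ha, ha'⟩ := rs_mem
      exact ⟨ng a, ng a', ha, by rw [ee_neg, ha', wt_ng, wt_ng]; abel⟩
    · left; rw [← h, hrx]
    · right; rw [← hrx b, h, hneg, neg_neg]
  have hsup : ∀ x, IsRoot cs' (isCartan 3) x →
      ((C.X (fun i => x (e i))).map (MulAut.conj g).toMonoidHom) ⊔
        ((C.X (fun i => (-x) (e i))).map (MulAut.conj g).toMonoidHom) = LL C.X (rho x) := by
    intro x hx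
    rw [hX x hx, hX (-x) hx.neg, hneg]; rfl
  have hLneg : ∀ y : C.I → ℤ, LL C.X (-y) = LL C.X y := fun y => by
    unfold LL; rw [neg_neg, sup_comm]
  have Rr := hroot rr rr_mem
  have Rs := hroot rs rs_mem
  have Rb := root_RC cs' rb_mem
  have hzrr : MulAut.conj g (C.z (fun i => rr (e i))) = d := by rw [hz rr rr_mem, hrr, P.zr]
  have hzrs : MulAut.conj g (C.z (fun i => rs (e i))) = c * d := by
    rw [hz rs rs_mem]
    rcases hr' with h | h
    · rw [h, P.zr']
    · rw [h, C.cls.z_neg r' P.r'_mem, P.zr']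
  refine ⟨(CoxeterMatrix.B 3).Group, inferInstance, inferInstance, cs', _, _, _, _, _, ⟨C₂, C.prime, C.odd, ?_, ?_, ?_⟩,
    ?_, ?_, ?_, hzrr, hzrs, ?_, ?_⟩
  · intro x hx
    change (C.X (fun i => x (e i))).map _ = (C.Z (fun i => x (e i))).map _
    rw [P.zx _ ((hR x (hroot x hx)).2 hx)]
  · have h1 : G1 cs' (isCartan 3) (fun x : Fin 3 → ℤ => C.X (fun i => x (e i))) = ⊤ :=
      (G1_reindex (cs := C.cs) (h := C.h) e hM hA cs' (isCartan 3) C.X).trans C.gen
    unfold G1 RGD.Sup at h1 ⊢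
    rw [← Subgroup.map_iSup, h1]
    exact Subgroup.map_top_of_surjective _ (MulAut.conj g).surjective
  · intro x
    change MulAut.conj g (C.z (fun i => rr (e i))) * MulAut.conj g (C.z (fun i => rs (e i))) * x =
      x * (MulAut.conj g (C.z (fun i => rr (e i))) * MulAut.conj g (C.z (fun i => rs (e i))))
    rw [hzrr, hzrs]
    have h1 := Subgroup.mem_center_iff.1 P.c_center
    have h2 : d * (c * d) = c := by
      rw [← mul_assoc, h1 d, mul_assoc, ← pow_two, ← P.d_order, pow_orderOf_eq_one, mul_one]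
    rw [h2]
    exact (h1 x).symm
  · rw [P.B_eq, ← hrr]; exact hsup rr Rr
  · rw [P.A'_eq]
    refine (hsup rs Rs).trans ?_
    rcases hr' with h | h <;> rw [h]
    rw [hLneg]
  · rw [P.A_eq]
    refine (hsup rb Rb).trans ?_
    rcases hb with h | h <;> rw [h]
    rw [hLneg]
  · intro x hx
    change Nat.card ((C.X (fun i => x (e i))).map (MulAut.conj g).toMonoidHom) = _
    rw [hX x hx, P.card _ (hrho x hx)]
  · intro x hx
    obtain ⟨f⟩ := P.sl _ (hrho x hx)
    exact ⟨f.symm.trans (MulEquiv.subgroupCongr (hsup x hx).symm)⟩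

/-- **(K5).** -/
theorem aut_eq [Finite N] {F : Type} [Field F] [Fintype F] {c d : N} {A B A' : Subgroup N}
    (H : ChartB3 F N c d A B A') (α : MulAut N) (hA : ∀ x ∈ A, α x = x) (hB : ∀ x ∈ B, α x = x)
    (hA' : ∀ x ∈ A', α x = x) : α = 1 ∨ α = MulAut.conj d := by
  obtain ⟨Om, p, C, r, r', b, -, P⟩ := H
  obtain ⟨W, _, _, cs, T, nn, X, Z, z, S, rfl, rfl, rfl, rfl, -, hc, hs⟩ := exists_std P
  obtain ⟨e⟩ := hs rr (S.rB rr_mem)
  exact AutB3.aut_eq S P.odd e (hc rr (S.rB rr_mem)) (hc ry (S.rB ry_mem)) α hB hA' hA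

/-- `α² = 1`. -/
theorem aut_sq [Finite N] {F : Type} [Field F] [Fintype F] {c d : N} {A B A' : Subgroup N}
    (H : ChartB3 F N c d A B A') (α : MulAut N) (hA : ∀ x ∈ A, α x = x) (hB : ∀ x ∈ B, α x = x)
    (hA' : ∀ x ∈ A', α x = x) : α ^ 2 = 1 := by
  rcases aut_eq H α hA hB hA' with h | h
  · rw [h, one_pow]
  · obtain ⟨Om, p, C, r, r', b, -, P⟩ := H
    have h1 : d * d = 1 := by rw [← pow_two, ← P.d_order, pow_orderOf_eq_one]
    rw [h, pow_two, ← map_mul, h1, map_one]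

/-- `S7` of `NI/Props.lean` for the charts of type `B₃`. -/
def S7B3 : ∀ (N : Type*) [Group N], N → N → Subgroup N → Subgroup N → Subgroup N → Prop :=
  fun N _ c d A B A' => ∃ (F : Type) (_ : Field F) (_ : Fintype F), ChartB3 F N c d A B A'

theorem autM : AutM S7B3 := by
  rintro N _ _ c d A B A' ⟨F, _, _, H⟩ α hA hB hA'
  exact aut_sq H α hA hB hA'

end Cfsg.Agent.OddHalf.NI.PosStd
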