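import Cfsg.Agent.OddHalf.NI.Blocks
import Cfsg.Agent.OddHalf.NI.LinEndSU
import Cfsg.Agent.LFourR.AssemMinus
import Cfsg.Agent.LieClassical.HermPerfect
import Cfsg.Agent.S0280

/-!
# NODE NI, (T') for type `²A_n`: the frame of the image of `-1` in a quotient of `SU_n(q)`, `n` even

* `ext_conj` : an element commuting with the sign `-1` of a block normalises the block;
* `blocks` : the blocks `SU_2 × ⋯ × SU_2` of `SU_{2m}`;
* `frame` : `φ : SU_n → N` surjective with central kernel, `z` an even central involution of `N`: a frame for `z`.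
-/

set_option autoImplicit false

namespace Cfsg.Agent.OddHalf.NI.SUBlocks

open Matrix Subgroup Cfsg Cfsg.Agent.Phan
open Cfsg.Agent.LieClassical.SUBasic

variable {F : Type*} [Field F] [Fintype F] {q l n m : ℕ}

/-- The coordinate projection commutes with a matrix commuting with the sign. -/
theorem comm_proj {e : Fin l → Fin n} (h2 : (2 : F) ≠ 0) {G : Matrix (Fin n) (Fin n) F}
    (h : G * extM e (-1) = extM e (-1) * G) :
    G * (inc F e * (inc F e)ᵀ) = (inc F e * (inc F e)ᵀ) * G := by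
  have h1 : extM e (-1 : Matrix (Fin l) (Fin l) F) = 1 - (2 : F) • (inc F e * (inc F e)ᵀ) := by
    rw [extM]
    have : (-1 - 1 : Matrix (Fin l) (Fin l) F) = (-2 : F) • 1 := by
      rw [neg_smul, two_smul]; abel
    rw [this, Matrix.mul_smul, Matrix.smul_mul, Matrix.mul_one, neg_smul, sub_eq_add_neg]
  rw [h1, Matrix.mul_sub, Matrix.sub_mul, Matrix.mul_one, Matrix.one_mul, Matrix.mul_smul, Matrix.smul_mul] at h
  have h3 := sub_right_injective h
  exact smul_right_injective _ h2 h3

/-- An element commuting with the sign of a block normalises the block. -/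
theorem ext_conj (hF : Fintype.card F = q ^ 2) {e : Fin l → Fin n} (he : Function.Injective e)
    (h2 : (2 : F) ≠ 0) {s : SU l F q} (hs : mat s = -1) {g : SU n F q}
    (hg : g * ext hF e he s = ext hF e he s * g) (a : SU l F q) :
    ∃ b, ext hF e he b = g * ext hF e he a * g⁻¹ := by
  set P : Matrix (Fin n) (Fin n) F := inc F e * (inc F e)ᵀ with hP
  have hPP : P * P = P := by
    rw [hP]
    calc inc F e * (inc F e)ᵀ * (inc F e * (inc F e)ᵀ) = inc F e * ((inc F e)ᵀ * inc F e) * (inc F e)ᵀ := by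
          simp only [Matrix.mul_assoc]
      _ = _ := by rw [incT_mul_inc he, Matrix.mul_one]
  have hgP : mat g * P = P * mat g := by
    refine comm_proj h2 ?_
    have h3 := congrArg mat hg
    rw [mat_mul, mat_mul, mat_ext, hs] at h3
    exact h3
  have hgi := mat_mul_inv g
  have hig := mat_inv_mul g
  have hPG' : mat g⁻¹ * P = P * mat g⁻¹ := by
    calc mat g⁻¹ * P = mat g⁻¹ * P * (mat g * mat g⁻¹) := by rw [hgi, Matrix.mul_one]
      _ = mat g⁻¹ * (P * mat g) * mat g⁻¹ := by simp only [Matrix.mul_assoc]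
      _ = mat g⁻¹ * (mat g * P) * mat g⁻¹ := by rw [hgP]
      _ = (mat g⁻¹ * mat g) * P * mat g⁻¹ := by simp only [Matrix.mul_assoc]
      _ = P * mat g⁻¹ := by rw [hig, Matrix.one_mul]
  set E : Matrix (Fin n) (Fin n) F := extM e (mat a) with hE
  have hE1 : P * (E - 1) * P = E - 1 := by
    have h3 : E - 1 = inc F e * (mat a - 1) * (inc F e)ᵀ := by rw [hE, extM, add_sub_cancel_left]
    rw [h3, hP]
    calc inc F e * (inc F e)ᵀ * (inc F e * (mat a - 1) * (inc F e)ᵀ) * (inc F e * (inc F e)ᵀ)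
        = inc F e * ((inc F e)ᵀ * inc F e) * (mat a - 1) * ((inc F e)ᵀ * inc F e) * (inc F e)ᵀ := by
          simp only [Matrix.mul_assoc]
      _ = _ := by rw [incT_mul_inc he, Matrix.mul_one, Matrix.mul_one]
  set B := g * ext hF e he a * g⁻¹ with hB
  have hBm : mat B = mat g * E * mat g⁻¹ := by rw [hB, mat_mul, mat_mul, mat_ext]
  have hB1 : P * (mat B - 1) * P = mat B - 1 := by
    have h3 : mat B - 1 = mat g * (E - 1) * mat g⁻¹ := by
      rw [hBm, Matrix.mul_sub, Matrix.sub_mul, Matrix.mul_one, hgi]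
    rw [h3]
    calc P * (mat g * (E - 1) * mat g⁻¹) * P = (P * mat g) * (E - 1) * (mat g⁻¹ * P) := by
          simp only [Matrix.mul_assoc]
      _ = (mat g * P) * (E - 1) * (P * mat g⁻¹) := by rw [hgP, hPG']
      _ = mat g * (P * (E - 1) * P) * mat g⁻¹ := by simp only [Matrix.mul_assoc]
      _ = _ := by rw [hE1]
  -- the block
  set b : Matrix (Fin l) (Fin l) F := (inc F e)ᵀ * mat B * inc F e with hb
  have hbB : extM e b = mat B := by
    have h3 : b - 1 = (inc F e)ᵀ * (mat B - 1) * inc F e := by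
      rw [Matrix.mul_sub, Matrix.sub_mul, Matrix.mul_one, incT_mul_inc he]
    have h4 : inc F e * ((inc F e)ᵀ * (mat B - 1) * inc F e) * (inc F e)ᵀ = P * (mat B - 1) * P := by
      rw [hP]; simp only [Matrix.mul_assoc]
    rw [extM, h3, h4, hB1]
    abel
  have hbd : b.det = 1 := by rw [← extM_det he, hbB, mat_det]
  have hbi : ∀ u v : Fin l → F, hermForm l F q (b *ᵥ u) (b *ᵥ v) = hermForm l F q u v := by
    intro u v
    rw [← herm_inc he, ← extM_inc he, ← extM_inc he, hbB, mat_isom, herm_inc he]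
  refine ⟨mk b hbd hbi, mat_inj ?_⟩
  rw [mat_ext, mat_mk, hbB]

/-- `-1` in `SU_{2m}` -/
def neg (m : ℕ) (F : Type*) [Field F] [Fintype F] {q : ℕ} (hF : Fintype.card F = q ^ 2) : SU (2 * m) F q :=
  mk (-1) (by rw [Matrix.det_neg, Matrix.det_one, mul_one, Fintype.card_fin]; exact (even_two_mul m).neg_one_pow)
    (by
      rw [Cfsg.Agent.LieClassical.GUOrder.mul_map_eq_one_iff hF]
      ext i j
      simp only [Matrix.transpose_neg, Matrix.transpose_one, Matrix.neg_mul, Matrix.one_mul, Matrix.neg_apply,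
        Matrix.map_apply, Matrix.one_apply]
      split <;> simp)

theorem mat_neg (hF : Fintype.card F = q ^ 2) : mat (neg m F hF) = -1 := rfl

/-- a central element with an eigenvalue `-1` is `-1` -/
theorem eq_neg (hF : Fintype.card F = q ^ 2) (hm : 2 ≤ m) {A : SU (2 * m) F q} (hA : A ∈ center (SU (2 * m) F q))
    {x : Fin (2 * m)} (hx : (mat A *ᵥ fun _ => 1) x = -1) : A = neg m F hF := by
  obtain ⟨r, hr, hr', rfl⟩ := (mem_center_SU_iff hF (by omega) A).1 hA
  apply mat_inj
  have h1 : mat (suScalar q r hr hr' : SU (2 * m) F q) = diagonal fun _ => r := coe_suScalar ..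
  rw [h1, mulVec_diagonal, mul_one] at hx
  rw [h1, mat_neg, hx]
  ext i j
  simp [Matrix.diagonal_apply, Matrix.one_apply]
  split <;> simp

section

variable {K : Type} [Field K] [Fintype K]

/-- the blocks -/
def e (hF : Fintype.card F = q ^ 2) (σ : Matrix.SpecialLinearGroup (Fin 2) K ≃* SU 2 F q) (i : Fin m) :
    Matrix.SpecialLinearGroup (Fin 2) K →* SU (2 * m) F q :=
  (emb hF (2 * i) (by omega)).comp σ.toMonoidHom

theorem e_apply (hF : Fintype.card F = q ^ 2) (σ : Matrix.SpecialLinearGroup (Fin 2) K ≃* SU 2 F q) (i : Fin m)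
    (a : Matrix.SpecialLinearGroup (Fin 2) K) : e hF σ i a = emb hF (2 * i) (by omega) (σ a) := rfl

theorem e_inj (hF : Fintype.card F = q ^ 2) (σ : Matrix.SpecialLinearGroup (Fin 2) K ≃* SU 2 F q) (i : Fin m) :
    Function.Injective (e hF σ i : _ →* SU (2 * m) F q) :=
  (emb_injective hF _ _).comp σ.injective

/-- the sign of a block acts as `-1` on the block -/
theorem act (hF : Fintype.card F = q ^ 2) (hodd : Odd q) (h2 : (2 : K) ≠ 0)
    (σ : Matrix.SpecialLinearGroup (Fin 2) K ≃* SU 2 F q) (i : Fin m) (v : Fin (2 * m) → F) (x : Fin (2 * m)) :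
    (mat (e hF σ i (Blocks.negOne K)) *ᵥ v) x = if (x : ℕ) / 2 = i then - v x else v x := by
  have h1 : σ (Blocks.negOne K) = Phan.negOne hF := by
    refine LFourR.AssemMinus.negOne_of_sq hF hodd ?_ ?_
    · rw [← map_mul, Blocks.negOne_mul, map_one]
    · rw [Ne, EmbeddingLike.map_eq_one_iff]
      exact Blocks.negOne_ne_one h2
  rw [e_apply, h1]
  by_cases hx : (x : ℕ) / 2 = i
  · rw [if_pos hx]
    have h3 : x = sh (2 * i) (by omega : 2 * (i : ℕ) + 2 ≤ 2 * m) ⟨(x : ℕ) - 2 * i, by omega⟩ := by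
      apply Fin.ext
      rw [sh_val]
      change (x : ℕ) = 2 * i + (x - 2 * i)
      omega
    conv_lhs => rw [h3]
    rw [emb_mulVec_sh, mat_negOne, Matrix.neg_mulVec, Matrix.one_mulVec, Pi.neg_apply, Function.comp_apply, ← h3]
  · rw [if_neg hx]
    exact emb_mulVec_lt hF _ _ _ (by omega)

/-- **the blocks of `SU_{2m}(q)`** -/
def blocks (hF : Fintype.card F = q ^ 2) (hodd : Odd q) (h2 : (2 : K) ≠ 0)
    (σ : Matrix.SpecialLinearGroup (Fin 2) K ≃* SU 2 F q) (hm : 2 ≤ m) :
    Blocks (SU (2 * m) F q) K m (neg m F hF) where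
  e := e hF σ
  comm i j hij a b := by
    have : (i : ℕ) ≠ j := fun h => hij (Fin.ext h)
    exact emb_comm hF _ _ (by omega) _ _
  norm i g hg a := by
    have h3 : mat (σ (Blocks.negOne K)) = -1 := by
      rw [LFourR.AssemMinus.negOne_of_sq hF hodd (x := σ (Blocks.negOne K))
        (by rw [← map_mul, Blocks.negOne_mul, map_one])
        (by rw [Ne, EmbeddingLike.map_eq_one_iff]; exact Blocks.negOne_ne_one h2), mat_negOne]
    obtain ⟨b, hb⟩ := ext_conj hF (sh_injective _ _) (Phan.two_ne_zero_of_odd hF hodd) h3 hg (σ a)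
    refine ⟨σ.symm b, ?_⟩
    rw [e_apply, MulEquiv.apply_symm_apply]
    exact hb
  one i a ha := by
    obtain ⟨r, hr, hr', h⟩ := (mem_center_SU_iff hF (by omega) _).1 ha
    obtain ⟨k, hk⟩ : ∃ k : Fin m, k ≠ i := by
      by_contra hcon
      push Not at hcon
      have : Subsingleton (Fin m) := ⟨fun x y => (hcon x).trans (hcon y).symm⟩
      have := Fintype.card_le_one_iff_subsingleton.mpr this
      rw [Fintype.card_fin] at this
      omega
    have hki : (k : ℕ) ≠ i := fun h => hk (Fin.ext h)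
    have h1 : mat (e hF σ i a : SU (2 * m) F q) = diagonal fun _ => r := by
      rw [h]; exact coe_suScalar ..
    have h3 := emb_mulVec_lt hF (by omega : 2 * (i : ℕ) + 2 ≤ 2 * m) (σ a) (fun _ => 1)
      (x := ⟨2 * k, by omega⟩) (by change 2 * (k : ℕ) < _ ∨ _ ≤ 2 * (k : ℕ); omega)
    rw [e_apply] at h1
    rw [h1, mulVec_diagonal, mul_one] at h3
    apply e_inj hF σ i
    apply mat_inj
    rw [map_one, mat_one, e_apply, h1, h3, diagonal_one]
  two i j hij h := by
    refine eq_neg hF hm h (x := ⟨2 * i, by omega⟩) ?_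
    have hij' : (i : ℕ) ≠ j := fun h => hij (Fin.ext h)
    rw [mat_mul, ← Matrix.mulVec_mulVec, act hF hodd h2, act hF hodd h2]
    rw [if_pos (by change 2 * (i : ℕ) / 2 = _; omega), if_neg (by change ¬ 2 * (i : ℕ) / 2 = _; omega)]
  three i j k hij hik hjk h := by
    refine eq_neg hF hm h (x := ⟨2 * i, by omega⟩) ?_
    have hij' : (i : ℕ) ≠ j := fun h => hij (Fin.ext h)
    have hik' : (i : ℕ) ≠ k := fun h => hik (Fin.ext h)
    rw [mat_mul, mat_mul, ← Matrix.mulVec_mulVec, ← Matrix.mulVec_mulVec, act hF hodd h2, act hF hodd h2,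
      act hF hodd h2]
    rw [if_pos (by change 2 * (i : ℕ) / 2 = _; omega), if_neg (by change ¬ 2 * (i : ℕ) / 2 = _; omega),
      if_neg (by change ¬ 2 * (i : ℕ) / 2 = _; omega)]
  gen := by
    have key : ∀ k : ℕ, k ≤ m → ∃ A ∈ closure (Set.range fun i : Fin m => e hF σ i (Blocks.negOne K)),
        ∀ (v : Fin (2 * m) → F) (x : Fin (2 * m)), (mat A *ᵥ v) x = if (x : ℕ) / 2 < k then - v x else v x := by
      intro k
      induction k with
      | zero =>
        intro _
        exact ⟨1, one_mem _, fun v x => by rw [mat_one, Matrix.one_mulVec]; simp⟩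
      | succ k ih =>
        intro hk
        obtain ⟨A, hA, h⟩ := ih (by omega)
        refine ⟨e hF σ ⟨k, by omega⟩ (Blocks.negOne K) * A, mul_mem (subset_closure ⟨_, rfl⟩) hA, fun v x => ?_⟩
        rw [mat_mul, ← Matrix.mulVec_mulVec, act hF hodd h2, h]
        by_cases h1 : (x : ℕ) / 2 = k
        · rw [if_pos h1, if_neg (by omega), if_pos (by omega)]
        · rw [if_neg h1]
          by_cases h3 : (x : ℕ) / 2 < k
          · rw [if_pos h3, if_pos (by omega)]
          · rw [if_neg h3, if_neg (by omega)]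
    obtain ⟨A, hA, h⟩ := key m le_rfl
    have h1 : A = neg m F hF := by
      apply mat_inj
      apply Matrix.ext_of_mulVec_single
      intro j
      funext x
      rw [h, if_pos (by omega), mat_neg, Matrix.neg_mulVec, Matrix.one_mulVec, Pi.neg_apply]
    rw [← h1]
    exact hA

end

/-- **(T') for type `²A_n`** : `φ : SU_n(q) → N` surjective with central kernel, `z` an even central involution of
`N`: there is a frame for `z`. -/
theorem frame (hF : Fintype.card F = q ^ 2) (hodd : Odd q) (hq : 3 < q) (hn : 3 ≤ n) {N : Type*} [Group N]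
    (φ : SU n F q →* N) (hs : Function.Surjective φ) (hk : φ.ker ≤ center (SU n F q)) {z : N}
    (hz : z ∈ center N) (h8 : Even8 z) : Nonempty (Frame N z) := by
  obtain ⟨ho, u, x, hu, -, hux⟩ := h8
  have hz1 : z ≠ 1 := by
    rintro rfl
    rw [orderOf_one] at ho
    omega
  have h2 : (2 : F) ≠ 0 := Phan.two_ne_zero_of_odd hF hodd
  obtain ⟨c, hc, rfl, hev⟩ := LinEndSU.su_main hF hn φ hs hk
    (Cfsg.Agent.LieClassical.HermPerfect.commutator_SU_eq_top hF hn (by omega)) hz hux (hu ▸ hz) hz1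
  obtain ⟨m, rfl⟩ := (hev h2).two_dvd
  obtain ⟨K, _, _, hK⟩ := Cfsg.Agent.S0280.exists_field hF
  obtain ⟨σ⟩ := Cfsg.Agent.S0281.result hF hK
  have hcc : c = neg m F hF := mat_inj (by rw [mat_neg]; exact hc)
  have hoddK : Odd (Fintype.card K) := by rw [hK]; exact hodd
  rw [hcc] at hz1 ⊢
  exact (blocks hF hodd (Blocks.two_ne_zero_of_odd hoddK) σ.symm (by omega)).frame (by omega) hoddK
    (by rw [hK]; exact hq) φ hs hk hz1

end Cfsg.Agent.OddHalf.NI.SUBlocks
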