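import Cfsg.Agent.OddHalf.NI.SUClosed
import Cfsg.Agent.OddHalf.NI.CoverOf
import Cfsg.Agent.OddHalf.NI.SUOdd

/-!
# `SU_{2m}(q)` is closed, in the forms of `CoverOf.Closed2` and `SUOdd.Clo` (node NI, (T'))
-/

set_option autoImplicit false

namespace Cfsg.Agent.OddHalf.NI.SUClo

open Cfsg

universe u v

theorem closed2 {F : Type v} [Field F] [Fintype F] {m q : ℕ} (hF : Fintype.card F = q ^ 2) (hq : Odd q)
    (hm : 2 ≤ m) : CoverOf.Closed2.{u} (SU (2 * m) F q) :=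
  fun _ _ _ _ hs hc h2 hE => SUClosed.closed_SU hF hq hm hE hs hc h2

theorem clo {F : Type v} [Field F] [Fintype F] {m q : ℕ} (hF : Fintype.card F = q ^ 2) (hq : Odd q)
    (hm : 2 ≤ m) : SUOdd.Clo.{u} (SU (2 * m) F q) :=
  fun _ _ _ _ hE hs hc h2 => SUClosed.closed_SU hF hq hm hE hs hc h2

/-- the field `su` of `FrameFactOf.Open` -/
theorem su (F : Type) [Field F] [Fintype F] (m q : ℕ) (ho : Odd (Fintype.card F)) (_ : 3 < q)
    (hF : Fintype.card F = q ^ 2) (hm : 2 ≤ m) : SUOdd.Clo.{u} (SU (2 * m) F q) := by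
  refine clo hF ?_ hm
  rw [hF] at ho
  exact (Nat.odd_pow_iff two_ne_zero).1 ho

end Cfsg.Agent.OddHalf.NI.SUClo
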