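import Cfsg.Agent.OddHalf.NI.SolTorus

/-!
# Sol(q): the element `s = g⁻¹ b(n) g` of a frame, as a reflection of the torus
-/

set_option autoImplicit false

namespace Cfsg.Agent.OddHalf.NI.Sol

open Subgroup

variable {S : Type*} [Group S] {G : Type*} [Group G] {m : ℕ} [NeZero m]
variable {δ : MulAut S} {t n z : S} {L : Subgroup G} {a b c : S →* G} {g : G}

theorem conjP (ht : t ^ m = 1) (ab : ∀ A B, a A * b B = b B * a A) (ac : ∀ A B, a A * c B = c B * a A)
    (bc : ∀ A B, b A * c B = c B * b A) {s : G} {x y x' y' : Fin 3 → ZMod m}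
    (hx : s * P t a b c x * s⁻¹ = P t a b c x') (hy : s * P t a b c y * s⁻¹ = P t a b c y') (k l : ZMod m) :
    s * P t a b c (k • x + l • y) * s⁻¹ = P t a b c (k • x' + l • y') := by
  rw [P_add ht ab ac bc, P_add ht ab ac bc, P_pow ht ab ac bc, P_pow ht ab ac bc, P_pow ht ab ac bc,
    P_pow ht ab ac bc, ← hx, ← hy, conj_pow, conj_pow]
  group

omit [NeZero m] in
theorem P_e0 (hm : 1 < m) : P t a b c (Pi.single 0 1 : Fin 3 → ZMod m) = a t := by
  have : Fact (1 < m) := ⟨hm⟩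
  simp [P, ZMod.val_one]

omit [NeZero m] in
theorem P_e1 (hm : 1 < m) : P t a b c (Pi.single 1 1 : Fin 3 → ZMod m) = b t := by
  have : Fact (1 < m) := ⟨hm⟩
  simp [P, ZMod.val_one]

omit [NeZero m] in
theorem P_e2 (hm : 1 < m) : P t a b c (Pi.single 2 1 : Fin 3 → ZMod m) = c t := by
  have : Fact (1 < m) := ⟨hm⟩
  simp [P, ZMod.val_one]

theorem P_neg (ht : t ^ m = 1) (ab : ∀ A B, a A * b B = b B * a A) (ac : ∀ A B, a A * c B = c B * a A)
    (bc : ∀ A B, b A * c B = c B * b A) (x : Fin 3 → ZMod m) :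
    P t a b c (-x) = (P t a b c x)⁻¹ := by
  have h1 : (Phom t a b c ht ab ac bc) (Multiplicative.ofAdd x)⁻¹ =
      ((Phom t a b c ht ab ac bc) (Multiplicative.ofAdd x))⁻¹ := map_inv _ _
  exact h1

/-- the matrix of `g` -/
def GM (h : ZMod m) : Matrix (Fin 3) (Fin 3) (ZMod m) := !![0, h, -h; 1, h, h; 1, -h, -h]

/-- the matrix of `g⁻¹` -/
def GI (h : ZMod m) : Matrix (Fin 3) (Fin 3) (ZMod m) := !![0, h, h; 1, h, -h; -1, h, -h]

/-- the matrix of `b(n)` -/
def NB : Matrix (Fin 3) (Fin 3) (ZMod m) := !![1, 0, 0; 0, -1, 0; 0, 0, 1]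

omit [NeZero m] in
theorem GI_mul {h : ZMod m} (hh : 2 * h = 1) : GI h * NB * GM h = SA h := by
  unfold GI NB GM SA
  ext i j
  fin_cases i <;> fin_cases j <;>
    simp [Matrix.mul_apply, Fin.sum_univ_three, Matrix.vecMulVec_apply, Matrix.sub_apply, Matrix.one_apply] <;>
    grind

theorem Fr.P_sum (hF : Fr δ t z L a b c g) (ht : t ^ m = 1) (hm : 1 < m) :
    P t a b c (Pi.single 1 1 + Pi.single 2 1 : Fin 3 → ZMod m) = b t * c t := by
  rw [P_add ht hF.ab hF.ac hF.bc, P_e1 hm, P_e2 hm]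

theorem Fr.P_dif (hF : Fr δ t z L a b c g) (ht : t ^ m = 1) (hm : 1 < m) :
    P t a b c (Pi.single 1 1 + -Pi.single 2 1 : Fin 3 → ZMod m) = b t * (c t)⁻¹ := by
  rw [P_add ht hF.ab hF.ac hF.bc, P_neg ht hF.ab hF.ac hF.bc, P_e1 hm, P_e2 hm]

theorem Fr.act_g (hF : Fr δ t z L a b c g) (ht : t ^ m = 1) (hm : 1 < m) {h : ZMod m} (hh : 2 * h = 1)
    (x : Fin 3 → ZMod m) : g * P t a b c x * g⁻¹ = P t a b c ((GM h).mulVec x) := by
  have g0 : g * P t a b c (Pi.single 0 1 : Fin 3 → ZMod m) * g⁻¹ =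
      P t a b c (Pi.single 1 1 + Pi.single 2 1 : Fin 3 → ZMod m) := by
    rw [hF.P_sum ht hm, P_e0 hm, hF.ga]
  have g1 : g * P t a b c (Pi.single 1 1 + Pi.single 2 1 : Fin 3 → ZMod m) * g⁻¹ =
      P t a b c (Pi.single 1 1 + -Pi.single 2 1 : Fin 3 → ZMod m) := by
    rw [hF.P_sum ht hm, hF.P_dif ht hm, hF.gb]
  have g2 : g * P t a b c (Pi.single 1 1 + -Pi.single 2 1 : Fin 3 → ZMod m) * g⁻¹ =
      P t a b c (Pi.single 0 1 : Fin 3 → ZMod m) := by
    rw [hF.P_dif ht hm, P_e0 hm, hF.gc]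
  refine act_of ht hF.ab hF.ac hF.bc (GM h) g ?_ x
  intro i
  fin_cases i
  · change g * P t a b c (Pi.single 0 1 : Fin 3 → ZMod m) * g⁻¹ = _
    rw [g0]
    congr 1
    ext j
    fin_cases j <;> simp [GM]
  · have h1 := conjP ht hF.ab hF.ac hF.bc g1 g2 h h
    have h2 : (h • (Pi.single 1 1 + Pi.single 2 1) + h • (Pi.single 1 1 + -Pi.single 2 1) : Fin 3 → ZMod m) =
        Pi.single 1 1 := by
      ext j
      fin_cases j <;> simp <;> grind
    change g * P t a b c (Pi.single 1 1 : Fin 3 → ZMod m) * g⁻¹ = _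
    rw [h2] at h1
    rw [h1]
    congr 1
    ext j
    fin_cases j <;> simp [GM]
  · have h1 := conjP ht hF.ab hF.ac hF.bc g1 g2 h (-h)
    have h2 : (h • (Pi.single 1 1 + Pi.single 2 1) + (-h) • (Pi.single 1 1 + -Pi.single 2 1) : Fin 3 → ZMod m) =
        Pi.single 2 1 := by
      ext j
      fin_cases j <;> simp <;> grind
    change g * P t a b c (Pi.single 2 1 : Fin 3 → ZMod m) * g⁻¹ = _
    rw [h2] at h1
    rw [h1]
    congr 1
    ext j
    fin_cases j <;> simp [GM]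

omit [NeZero m] in
theorem GM_GI {h : ZMod m} (hh : 2 * h = 1) : GM h * GI h = 1 := by
  unfold GI GM
  ext i j
  fin_cases i <;> fin_cases j <;>
    simp [Matrix.mul_apply, Fin.sum_univ_three, Matrix.one_apply] <;>
    grind

theorem Fr.act_gi (hF : Fr δ t z L a b c g) (ht : t ^ m = 1) (hm : 1 < m) {h : ZMod m} (hh : 2 * h = 1)
    (x : Fin 3 → ZMod m) : g⁻¹ * P t a b c x * g = P t a b c ((GI h).mulVec x) := by
  have h1 := hF.act_g ht hm hh ((GI h).mulVec x)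
  rw [Matrix.mulVec_mulVec, GM_GI hh, Matrix.one_mulVec] at h1
  rw [← h1]
  group

theorem Fr.act_n (hF : Fr δ t z L a b c g) (ht : t ^ m = 1) (hm : 1 < m) (hnt : n * t * n⁻¹ = t⁻¹)
    (x : Fin 3 → ZMod m) : b n * P t a b c x * (b n)⁻¹ = P t a b c (NB.mulVec x) := by
  refine act_of ht hF.ab hF.ac hF.bc NB (b n) ?_ x
  intro i
  fin_cases i
  · change b n * P t a b c (Pi.single 0 1 : Fin 3 → ZMod m) * (b n)⁻¹ = _
    have h1 : (fun j => (NB : Matrix (Fin 3) (Fin 3) (ZMod m)) j 0) = Pi.single 0 1 := by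
      ext j
      fin_cases j <;> simp [NB]
    change _ = P t a b c (fun j => (NB : Matrix (Fin 3) (Fin 3) (ZMod m)) j 0)
    rw [h1, P_e0 hm, ← hF.ab, mul_inv_cancel_right]
  · change b n * P t a b c (Pi.single 1 1 : Fin 3 → ZMod m) * (b n)⁻¹ = _
    have h1 : (fun j => (NB : Matrix (Fin 3) (Fin 3) (ZMod m)) j 1) = -Pi.single 1 1 := by
      ext j
      fin_cases j <;> simp [NB]
    change _ = P t a b c (fun j => (NB : Matrix (Fin 3) (Fin 3) (ZMod m)) j 1)
    rw [h1, P_neg ht hF.ab hF.ac hF.bc, P_e1 hm, ← map_inv, ← map_mul, ← map_mul, hnt, map_inv]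
  · change b n * P t a b c (Pi.single 2 1 : Fin 3 → ZMod m) * (b n)⁻¹ = _
    have h1 : (fun j => (NB : Matrix (Fin 3) (Fin 3) (ZMod m)) j 2) = Pi.single 2 1 := by
      ext j
      fin_cases j <;> simp [NB]
    change _ = P t a b c (fun j => (NB : Matrix (Fin 3) (Fin 3) (ZMod m)) j 2)
    rw [h1, P_e2 hm, hF.bc, mul_inv_cancel_right]

/-- `s = g⁻¹ b(n) g` acts as the reflection `SA h` -/
theorem Fr.act_s (hF : Fr δ t z L a b c g) (ht : t ^ m = 1) (hm : 1 < m) (hnt : n * t * n⁻¹ = t⁻¹)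
    {h : ZMod m} (hh : 2 * h = 1) (x : Fin 3 → ZMod m) :
    (g⁻¹ * b n * g) * P t a b c x * (g⁻¹ * b n * g)⁻¹ = P t a b c ((SA h).mulVec x) := by
  rw [← GI_mul hh, ← Matrix.mulVec_mulVec, ← Matrix.mulVec_mulVec, ← hF.act_gi ht hm hh, ← hF.act_n ht hm hnt,
    ← hF.act_g ht hm hh]
  group

/-! ## The action on `⟨u, v, e⟩` -/

/-- `e = g⁻¹ v g` -/
theorem Fr.e_sq (_hF : Fr δ t z L a b c g) (hz : z * z = 1) : (g⁻¹ * b z * g) * (g⁻¹ * b z * g) = 1 := by
  have h1 : b z * b z = 1 := by rw [← map_mul, hz, map_one]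
  calc (g⁻¹ * b z * g) * (g⁻¹ * b z * g) = g⁻¹ * (b z * b z) * g := by group
    _ = 1 := by rw [h1]; group

/-- `s v s⁻¹ = v e` -/
theorem Fr.s_v (hF : Fr δ t z L a b c g) (hz : z * z = 1) (hdn : δ n = z * n) (hcz : ∀ x : S, x * z = z * x)
    (hnn : n * n = z) :
    (g⁻¹ * b n * g) * b z * (g⁻¹ * b n * g)⁻¹ = b z * (g⁻¹ * b z * g) := by
  obtain ⟨e, he⟩ : ∃ e, e = g⁻¹ * b z * g := ⟨_, rfl⟩
  have hee : e * e = 1 := by rw [he]; exact hF.e_sq hz
  have hzz : b z * b z = 1 := by rw [← map_mul, hz, map_one]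
  have haz : a z * a z = 1 := by rw [← map_mul, hz, map_one]
  have hgu : g * a z = a z * g := hF.cen g hF.mg
  have heu : e * a z = a z * e := hF.cen e (by
    rw [he]; exact mul_mem (mul_mem (inv_mem hF.mg) (hF.mb z)) hF.mg)
  -- `n e n⁻¹ = e v`
  have h1 : e * b n = b z * b n * e := by
    rw [← map_mul, ← hdn, he]; exact hF.eb n
  have hvn : b n * b z = b z * b n := by rw [← map_mul, ← map_mul, hcz]
  have hδz : δ z = z := by
    calc δ z = δ (n * n) := by rw [hnn]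
      _ = (z * n) * (z * n) := by rw [map_mul, hdn]
      _ = z * (n * z) * n := by group
      _ = (z * z) * (n * n) := by rw [hcz]; group
      _ = z := by rw [hz, hnn, one_mul]
  have hev : e * b z = b z * e := by
    have h2 := hF.eb z
    rw [hδz, ← he] at h2
    exact h2
  have h2 : b n * e = b z * e * b n := by
    -- e b(n) = v b(n) e
    calc b n * e = b z * b z * (b n * e) := by rw [hzz, one_mul]
      _ = b z * (b z * b n * e) := by group
      _ = b z * (e * b n) := by rw [h1]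
      _ = b z * e * b n := by group
  -- `g v g⁻¹ = v e k`, `k ∈ {1, u}`
  have h3 : ∃ k : G, g * b z * g⁻¹ = b z * e * k ∧ k * k = 1 ∧ (∀ x ∈ L, x * k = k * x) := by
    rcases hF.gv with h | h
    · exact ⟨1, by rw [h, ← he, mul_one], one_mul 1, fun x _ => by rw [mul_one, one_mul]⟩
    · exact ⟨a z, by rw [h, ← he], haz, hF.cen⟩
  obtain ⟨k, hk, hkk, hkc⟩ := h3
  have heL : e ∈ L := by rw [he]; exact mul_mem (mul_mem (inv_mem hF.mg) (hF.mb z)) hF.mg
  have k1 : e * k = k * e := hkc e heL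
  have k2 : b z * k = k * b z := hkc _ (hF.mb z)
  have k3 : g * k = k * g := hkc g hF.mg
  -- `g⁻¹ e g = v e k`
  have h4 : g⁻¹ * e * g = b z * e * k := by
    have h5 : b z = g⁻¹ * (b z * e * k) * g := by rw [← hk]; group
    have h6 : g⁻¹ * (b z * e * k) * g = e * (g⁻¹ * e * g) * k := by
      calc g⁻¹ * (b z * e * k) * g = (g⁻¹ * b z * g) * (g⁻¹ * e * g) * (g⁻¹ * (k * g)) := by group
        _ = e * (g⁻¹ * e * g) * k := by rw [← k3, ← he]; group
    rw [h6] at h5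
    calc g⁻¹ * e * g = e * (e * (g⁻¹ * e * g) * k) * k := by
          rw [show e * (e * (g⁻¹ * e * g) * k) * k = (e * e) * (g⁻¹ * e * g) * (k * k) by group, hee, hkk]
          group
      _ = e * b z * k := by rw [← h5]
      _ = b z * e * k := by rw [hev]
  have hkn : b n * k = k * b n := hkc _ (hF.mb n)
  calc (g⁻¹ * b n * g) * b z * (g⁻¹ * b n * g)⁻¹ = g⁻¹ * (b n * (g * b z * g⁻¹) * (b n)⁻¹) * g := by group
    _ = g⁻¹ * (b n * (b z * e * k) * (b n)⁻¹) * g := by rw [hk]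
    _ = g⁻¹ * (e * k) * g := by
        congr 2
        calc b n * (b z * e * k) * (b n)⁻¹ = (b n * b z) * e * k * (b n)⁻¹ := by group
          _ = b z * (b n * e) * k * (b n)⁻¹ := by rw [hvn]; group
          _ = b z * (b z * e * b n) * k * (b n)⁻¹ := by rw [h2]
          _ = (b z * b z) * e * (b n * k) * (b n)⁻¹ := by group
          _ = e * k := by rw [hzz, hkn]; group
    _ = (g⁻¹ * e * g) * (g⁻¹ * (k * g)) := by group
    _ = b z * e * k * k := by rw [← k3, h4]; group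
    _ = b z * (g⁻¹ * b z * g) := by rw [mul_assoc, hkk, mul_one, he]

/-- `s e s⁻¹ = e` -/
theorem Fr.s_e (_hF : Fr δ t z L a b c g) (hcz : ∀ x : S, x * z = z * x) :
    (g⁻¹ * b n * g) * (g⁻¹ * b z * g) = (g⁻¹ * b z * g) * (g⁻¹ * b n * g) := by
  have hvn : b n * b z = b z * b n := by rw [← map_mul, ← map_mul, hcz]
  calc (g⁻¹ * b n * g) * (g⁻¹ * b z * g) = g⁻¹ * (b n * b z) * g := by group
    _ = (g⁻¹ * b z * g) * (g⁻¹ * b n * g) := by rw [hvn]; group

end Cfsg.Agent.OddHalf.NI.Sol
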