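import Mathlib

/-!
# Sol(q), the matrix lemma

Two reflections `S`, `S'` of a free module of rank 3 over a commutative ring in which 2 is invertible, with all
entries of the roots and coroots units, and `(S S')²` diagonal: then `S S' = S' S` and the third ratio `C` of the
roots satisfies `C² + C + 2 = 0`.
-/

set_option autoImplicit false

namespace Cfsg.Agent.OddHalf.NI.Sol

open Matrix

variable {A : Type*} [CommRing A]

/-- the reflection `1 - h (1,1,1) ⊗ (2,1,1)` -/
def SA (h : A) : Matrix (Fin 3) (Fin 3) A :=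
  1 - Matrix.vecMulVec (h • ![1, 1, 1]) ![2, 1, 1]

/-- the reflection `1 - h r ⊗ (q₀, 2 q₁, q₂)` -/
def SB (h : A) (r q : Fin 3 → A) : Matrix (Fin 3) (Fin 3) A :=
  1 - Matrix.vecMulVec (h • r) ![q 0, 2 * q 1, q 2]

theorem SA_sq {h : A} (hh : 2 * h = 1) : SA h * SA h = 1 := by
  unfold SA
  ext i j
  fin_cases i <;> fin_cases j <;>
    simp [Matrix.mul_apply, Fin.sum_univ_three, Matrix.vecMulVec_apply, Matrix.sub_apply, Matrix.one_apply] <;>
    grind

theorem SB_sq {h : A} {r q : Fin 3 → A} (hh : 2 * h = 1) (hr : ∀ i, r i * q i = 1) :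
    SB h r q * SB h r q = 1 := by
  have h0 := hr 0
  have h1 := hr 1
  have h2 := hr 2
  unfold SB
  ext i j
  fin_cases i <;> fin_cases j <;>
    simp [Matrix.mul_apply, Fin.sum_univ_three, Matrix.vecMulVec_apply, Matrix.sub_apply, Matrix.one_apply] <;>
    grind

theorem matrix_lemma {h : A} {r q : Fin 3 → A} (hh : 2 * h = 1) (hr : ∀ i, r i * q i = 1) (d : Fin 3 → A)
    (hd : SA h * SB h r q * SA h * SB h r q = Matrix.diagonal d) :
    r 2 ^ 2 + r 0 * r 2 + 2 * r 0 ^ 2 = 0 := by
  have hS := SA_sq hh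
  have hS' := SB_sq hh hr
  set S := SA h with hSdef
  set T := SB h r q with hTdef
  -- `D S D = S`
  have h1 : Matrix.diagonal d * S * Matrix.diagonal d = S := by
    rw [← hd]
    calc S * T * S * T * S * (S * T * S * T) = S * T * S * T * (S * S) * T * S * T := by
          simp only [Matrix.mul_assoc]
      _ = S * T * S * (T * T) * S * T := by rw [hS]; simp only [Matrix.mul_assoc, Matrix.mul_one, Matrix.one_mul]
      _ = S * T * (S * S) * T := by rw [hS']; simp only [Matrix.mul_assoc, Matrix.mul_one, Matrix.one_mul]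
      _ = S * (T * T) := by rw [hS]; simp only [Matrix.mul_assoc, Matrix.mul_one, Matrix.one_mul]
      _ = S := by rw [hS', Matrix.mul_one]
  have hent : ∀ i j, d i * S i j * d j = S i j := by
    intro i j
    have h2 := congrFun (congrFun h1 i) j
    rwa [Matrix.mul_diagonal, Matrix.diagonal_mul] at h2
  -- the products `d i * d j`
  have e01 : d 0 * d 1 = 1 := by
    have h2 := hent 0 1
    simp [hSdef, SA, Matrix.vecMulVec_apply, Matrix.sub_apply, Matrix.one_apply] at h2
    grind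
  have e02 : d 0 * d 2 = 1 := by
    have h2 := hent 0 2
    simp [hSdef, SA, Matrix.vecMulVec_apply, Matrix.sub_apply, Matrix.one_apply] at h2
    grind
  have e12 : d 1 * d 2 = 1 := by
    have h2 := hent 1 2
    simp [hSdef, SA, Matrix.vecMulVec_apply, Matrix.sub_apply, Matrix.one_apply] at h2
    grind
  have d1 : d 1 = d 0 := by
    calc d 1 = d 1 * (d 0 * d 2) := by rw [e02, mul_one]
      _ = d 0 * (d 1 * d 2) := by ring
      _ = d 0 := by rw [e12, mul_one]
  have d2 : d 2 = d 0 := by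
    calc d 2 = d 2 * (d 0 * d 1) := by rw [e01, mul_one]
      _ = d 0 * (d 1 * d 2) := by ring
      _ = d 0 := by rw [e12, mul_one]
  have hdd : d = fun _ => d 0 := by
    funext i
    fin_cases i
    · rfl
    · exact d1
    · exact d2
  have hdiag : Matrix.diagonal d = d 0 • (1 : Matrix (Fin 3) (Fin 3) A) := by
    conv_lhs => rw [hdd]
    ext i j
    simp [Matrix.diagonal_apply, Matrix.smul_apply, Matrix.one_apply]
  rw [hdiag] at hd
  -- the trace
  have h3 : T * S * T = d 0 • S := by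
    calc T * S * T = (S * S) * T * S * T := by rw [hS, Matrix.one_mul]
      _ = S * (S * T * S * T) := by simp only [Matrix.mul_assoc]
      _ = d 0 • S := by rw [hd, Matrix.mul_smul, Matrix.mul_one]
  have htr : S.trace = 1 := by
    simp [hSdef, SA, Matrix.trace, Fin.sum_univ_three, Matrix.vecMulVec_apply, Matrix.sub_apply]
    grind
  have h4 : (T * S * T).trace = S.trace := by
    rw [Matrix.mul_assoc, Matrix.trace_mul_comm, Matrix.mul_assoc, hS', Matrix.mul_one]
  have hd0 : d 0 = 1 := by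
    rw [h3, Matrix.trace_smul, htr, smul_eq_mul, mul_one] at h4
    exact h4
  rw [hd0, one_smul] at h3
  -- `S T = T S`
  have h5 : T * S = S * T := by
    calc T * S = T * S * (T * T) := by rw [hS', Matrix.mul_one]
      _ = (T * S * T) * T := by simp only [Matrix.mul_assoc]
      _ = S * T := by rw [h3]
  have hr0 := hr 0
  have hr1 := hr 1
  have hr2 := hr 2
  have k02 := congrFun (congrFun h5 0) 2
  have k20 := congrFun (congrFun h5 2) 0
  simp [hSdef, hTdef, SA, SB, Matrix.mul_apply, Fin.sum_univ_three, Matrix.vecMulVec_apply, Matrix.sub_apply,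
    Matrix.one_apply] at k02 k20
  -- `X = φ(β)`, `Y = ψ(α)`
  obtain ⟨X, hX⟩ : ∃ X, X = h * (2 * r 0 + r 1 + r 2) := ⟨_, rfl⟩
  obtain ⟨Y, hY⟩ : ∃ Y, Y = h * (q 0 + 2 * q 1 + q 2) := ⟨_, rfl⟩
  have f1 : X * q 2 = Y * r 0 := by
    have : h * (X * q 2) = h * (Y * r 0) := by grind
    calc X * q 2 = 2 * (h * (X * q 2)) := by rw [← mul_assoc, hh, one_mul]
      _ = 2 * (h * (Y * r 0)) := by rw [this]
      _ = Y * r 0 := by rw [← mul_assoc, hh, one_mul]
  have f2 : X * q 0 = 2 * (Y * r 2) := by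
    have : h * (X * q 0) = h * (2 * (Y * r 2)) := by grind
    calc X * q 0 = 2 * (h * (X * q 0)) := by rw [← mul_assoc, hh, one_mul]
      _ = 2 * (h * (2 * (Y * r 2))) := by rw [this]
      _ = 2 * (Y * r 2) := by rw [← mul_assoc, hh, one_mul]
  have f3 : X = Y * r 0 * r 2 := by
    calc X = X * q 2 * r 2 := by rw [mul_assoc, mul_comm (q 2), hr2, mul_one]
      _ = Y * r 0 * r 2 := by rw [f1]
  have f4 : X = 2 * (Y * r 0 * r 2) := by
    calc X = X * q 0 * r 0 := by rw [mul_assoc, mul_comm (q 0), hr0, mul_one]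
      _ = 2 * (Y * r 0 * r 2) := by rw [f2]; ring
  have f5 : X = 0 := by linear_combination 2 * f3 - f4
  have f6 : Y = 0 := by
    have f7 : Y * r 0 * r 2 = 0 := by rw [← f3, f5]
    calc Y = (Y * r 0 * r 2) * (q 2 * q 0) := by
          rw [show Y * r 0 * r 2 * (q 2 * q 0) = Y * (r 0 * q 0) * (r 2 * q 2) by ring, hr0, hr2, mul_one, mul_one]
      _ = 0 := by rw [f7, zero_mul]
  have g1 : 2 * r 0 + r 1 + r 2 = 0 := by
    calc 2 * r 0 + r 1 + r 2 = 2 * (h * (2 * r 0 + r 1 + r 2)) := by rw [← mul_assoc, hh, one_mul]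
      _ = 0 := by rw [← hX, f5, mul_zero]
  have g2 : q 0 + 2 * q 1 + q 2 = 0 := by
    calc q 0 + 2 * q 1 + q 2 = 2 * (h * (q 0 + 2 * q 1 + q 2)) := by rw [← mul_assoc, hh, one_mul]
      _ = 0 := by rw [← hY, f6, mul_zero]
  have g3 : r 1 * r 2 + 2 * (r 0 * r 2) + r 0 * r 1 = 0 := by
    have : r 1 * r 2 + 2 * (r 0 * r 2) + r 0 * r 1 = r 0 * r 1 * r 2 * (q 0 + 2 * q 1 + q 2) := by
      linear_combination -(r 1 * r 2) * hr0 - 2 * (r 0 * r 2) * hr1 - (r 0 * r 1) * hr2
    rw [this, g2, mul_zero]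
  linear_combination -g3 + (r 0 + r 2) * g1

end Cfsg.Agent.OddHalf.NI.Sol
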