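import Cfsg.Agent.OddHalf.NI.SolAct

/-!
# Sol(q): the two commuting reflections

The core of the argument: two aligned frames with `e' = y₀ e`, `y₀` centralizing everything.
-/

set_option autoImplicit false

namespace Cfsg.Agent.OddHalf.NI.Sol

open Subgroup

variable {S : Type*} [Group S] {G : Type*} [Group G] {m : ℕ}
variable {δ : MulAut S} {t n z : S}

theorem Tor.pow (hT : Tor δ t n z m) : t ^ m = 1 := by rw [← hT.ord, pow_orderOf_eq_one]

theorem Tor.aut_z (hT : Tor δ t n z m) (α : MulAut S) : α z = z :=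
  hT.zuniq _ (by rw [← map_mul, hT.zz, map_one]) (by
    intro h
    apply hT.z1
    rw [← map_one α] at h
    exact α.injective h)

theorem Tor.unit (hT : Tor δ t n z m) {α : MulAut S} {k : ℤ} (h : α t = t ^ k) :
    ∃ q : ZMod m, ((k : ℤ) : ZMod m) * q = 1 := by
  have hm : 0 < m := by have := hT.one_lt; omega
  have ht : 0 < orderOf t := by rw [hT.ord]; exact hm
  have hfin : Finite (zpowers t) := by
    have h0 : IsOfFinOrder t := orderOf_pos_iff.mp ht
    exact finite_zpowers.mpr h0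
  have h1 : zpowers (t ^ k) = zpowers t := by
    have hle : zpowers (t ^ k) ≤ zpowers t := by
      rw [zpowers_le]
      exact zpow_mem (mem_zpowers t) k
    refine Subgroup.eq_of_le_of_card_ge hle ?_
    rw [Nat.card_zpowers, Nat.card_zpowers, ← h]
    exact le_of_eq (MulEquiv.orderOf_eq α t).symm
  have h2 : t ∈ zpowers (t ^ k) := by rw [h1]; exact mem_zpowers t
  obtain ⟨j, hj⟩ := mem_zpowers_iff.mp h2
  refine ⟨(j : ZMod m), ?_⟩
  have h3 : t ^ (k * j - 1) = 1 := by rw [zpow_sub, zpow_mul, hj, zpow_one, mul_inv_cancel]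
  have h4 : (m : ℤ) ∣ k * j - 1 := by
    rw [← hT.ord]
    exact orderOf_dvd_iff_zpow_eq_one.mpr h3
  have h5 : ((k * j - 1 : ℤ) : ZMod m) = 0 := (ZMod.intCast_zmod_eq_zero_iff_dvd _ _).mpr h4
  rw [Int.cast_sub, Int.cast_mul, Int.cast_one, sub_eq_zero] at h5
  exact h5

/-- the image of the torus under an automorphism -/
theorem Tor.aut_pow [NeZero m] (hT : Tor δ t n z m) {α : MulAut S} {k : ℤ} (h : α t = t ^ k) (x : ZMod m) :
    α (t ^ x.val) = t ^ (((k : ℤ) : ZMod m) * x).val := by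
  have h1 : (((k : ℤ) : ZMod m) * x) = ((k * (x.val : ℤ) : ℤ) : ZMod m) := by
    rw [Int.cast_mul, Int.cast_natCast, ZMod.natCast_zmod_val]
  rw [h1, pw_intCast hT.pow, map_pow, h, zpow_mul, zpow_natCast]

/-- the matrix of a change of frames -/
def RM (ku kv kw : ZMod m) : Matrix (Fin 3) (Fin 3) (ZMod m) := !![0, ku, 0; kv, 0, 0; 0, 0, kw]

theorem RM_mul {ku kv kw qu qv qw : ZMod m} (h1 : ku * qu = 1) (h2 : kv * qv = 1) (h3 : kw * qw = 1) :
    RM ku kv kw * RM qv qu qw = 1 := by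
  unfold RM
  ext i j
  fin_cases i <;> fin_cases j <;> simp [Matrix.mul_apply, Fin.sum_univ_three, h1, h2, h3]

theorem RM_SA {ku kv kw qu qv qw h : ZMod m} (h1 : ku * qu = 1) (h2 : kv * qv = 1) (h3 : kw * qw = 1) :
    RM ku kv kw * SA h * RM qv qu qw = SB h ![ku, kv, kw] ![qu, qv, qw] := by
  have hSA : SA h = !![1 - h * 2, -h, -h; -(h * 2), 1 - h, -h; -(h * 2), -h, 1 - h] := by
    unfold SA
    ext i j
    fin_cases i <;> fin_cases j <;> simp [Matrix.vecMulVec_apply]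
  have hSB : SB h ![ku, kv, kw] ![qu, qv, qw] =
      !![1 - h * ku * qu, -(h * ku * (2 * qv)), -(h * ku * qw);
        -(h * kv * qu), 1 - h * kv * (2 * qv), -(h * kv * qw);
        -(h * kw * qu), -(h * kw * (2 * qv)), 1 - h * kw * qw] := by
    unfold SB
    ext i j
    fin_cases i <;> fin_cases j <;> simp [Matrix.vecMulVec_apply]
  rw [hSA, hSB]
  unfold RM
  ext i j
  fin_cases i <;> fin_cases j <;> simp [Matrix.mul_apply, Fin.sum_univ_three] <;> grind

theorem core (hT : Tor δ t n z m) {H Lu Lv : Subgroup G} (hLu : Lu ≤ H) (hLv : Lv ≤ H)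
    {U V W U' V' W' : S →* G} {g g' : G}
    (Fu : Fr δ t z Lu U V W g) (Fv : Fr δ t z Lv V' U' W' g')
    {αu αv αw : MulAut S} (hU : ∀ A, U' A = U (αu A)) (hV : ∀ A, V' A = V (αv A)) (hW : ∀ A, W' A = W (αw A))
    {ku kv kw : ℤ} (tu : αu t = t ^ ku) (tv : αv t = t ^ kv) (tw : αw t = t ^ kw)
    {y0 : G} (y0g : y0 * g = g * y0) (y0g' : y0 * g' = g' * y0) (y0c : Cen U V W y0)
    (he : g'⁻¹ * U' z * g' = y0 * (g⁻¹ * V z * g))
    (norm : ∀ c ∈ H, c * U z = U z * c → c * V z = V z * c →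
      (∀ A, ∃ B, c * U A * c⁻¹ = U B) ∧ (∀ A, ∃ B, c * V A * c⁻¹ = V B) ∧
        (∀ A, ∃ B, c * W A * c⁻¹ = W B)) : False := by
  have hm := hT.one_lt
  have : NeZero m := ⟨by omega⟩
  have ht := hT.pow
  -- one half
  obtain ⟨h, hh⟩ : ∃ h : ZMod m, 2 * h = 1 := by
    obtain ⟨k, hk⟩ := hT.odd
    refine ⟨((k + 1 : ℕ) : ZMod m), ?_⟩
    have h1 : ((2 * (k + 1) : ℕ) : ZMod m) = ((m + 1 : ℕ) : ZMod m) := by congr 1; omega
    rw [Nat.cast_mul, Nat.cast_ofNat] at h1
    rw [h1, Nat.cast_add, ZMod.natCast_self, zero_add, Nat.cast_one]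
  have hUz : U' z = U z := by rw [hU, hT.aut_z]
  have hVz : V' z = V z := by rw [hV, hT.aut_z]
  obtain ⟨u, hu⟩ : ∃ u, u = U z := ⟨_, rfl⟩
  obtain ⟨v, hv⟩ : ∃ v, v = V z := ⟨_, rfl⟩
  obtain ⟨e, hedef⟩ : ∃ e, e = g⁻¹ * V z * g := ⟨_, rfl⟩
  obtain ⟨s, hs⟩ : ∃ s, s = g⁻¹ * V n * g := ⟨_, rfl⟩
  obtain ⟨s', hs'⟩ : ∃ s', s' = g'⁻¹ * U' n * g' := ⟨_, rfl⟩
  have hsL : s ∈ Lu := by rw [hs]; exact mul_mem (mul_mem (inv_mem Fu.mg) (Fu.mb n)) Fu.mg
  have hsL' : s' ∈ Lv := by rw [hs']; exact mul_mem (mul_mem (inv_mem Fv.mg) (Fv.mb n)) Fv.mg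
  have su : s * u = u * s := by rw [hu]; exact Fu.cen s hsL
  have sv : s * v * s⁻¹ = v * e := by
    rw [hs, hv, hedef]; exact Fu.s_v hT.zz hT.dn hT.cen hT.nn
  have se : s * e = e * s := by rw [hs, hedef]; exact Fu.s_e hT.cen
  have s'v : s' * v = v * s' := by rw [hv, ← hVz]; exact Fv.cen s' hsL'
  have s'u : s' * u * s'⁻¹ = u * (y0 * e) := by
    have h1 := Fv.s_v (n := n) hT.zz hT.dn hT.cen hT.nn
    rw [← hs', he, hUz, ← hu, ← hedef] at h1
    exact h1
  have s'e' : s' * (y0 * e) = (y0 * e) * s' := by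
    have h1 := Fv.s_e (n := n) hT.cen
    rw [← hs', he, ← hedef] at h1
    exact h1
  have y0s : y0 * s = s * y0 := by
    rw [hs]
    have h1 : Commute y0 g := y0g
    have h2 : Commute y0 (V n) := y0c.2.1 n
    exact (h1.inv_right.mul_right h2).mul_right h1
  have y0s' : y0 * s' = s' * y0 := by
    rw [hs', hU]
    have h1 : Commute y0 g' := y0g'
    have h2 : Commute y0 (U (αu n)) := y0c.1 _
    exact (h1.inv_right.mul_right h2).mul_right h1
  have y0e : y0 * e = e * y0 := by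
    rw [hedef]
    have h1 : Commute y0 g := y0g
    have h2 : Commute y0 (V z) := y0c.2.1 z
    exact (h1.inv_right.mul_right h2).mul_right h1
  have s'e : s' * e = e * s' := by
    have h1 : y0 * (s' * e) = y0 * (e * s') := by
      calc y0 * (s' * e) = (y0 * s') * e := by group
        _ = s' * (y0 * e) := by rw [y0s']; group
        _ = y0 * e * s' := s'e'
        _ = y0 * (e * s') := by group
    exact mul_left_cancel h1
  -- `c = [s, s']` centralizes `u`, `v`, `e`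
  obtain ⟨c, hc⟩ : ∃ c, c = s * s' * s⁻¹ * s'⁻¹ := ⟨_, rfl⟩
  have hcH : c ∈ H := by
    rw [hc]
    exact mul_mem (mul_mem (mul_mem (hLu hsL) (hLv hsL')) (inv_mem (hLu hsL))) (inv_mem (hLv hsL'))
  have key : ∀ x y : G, s * (s' * x * s'⁻¹) * s⁻¹ = y → s' * (s * x * s⁻¹) * s'⁻¹ = y → c * y = y * c := by
    intro x y h1 h2
    have h3 : c * y * c⁻¹ = y := by
      calc c * y * c⁻¹ = c * (s' * (s * x * s⁻¹) * s'⁻¹) * c⁻¹ := by rw [h2]
        _ = s * (s' * x * s'⁻¹) * s⁻¹ := by rw [hc]; group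
        _ = y := h1
    calc c * y = c * y * c⁻¹ * c := by group
      _ = y * c := by rw [h3]
  have cj : ∀ {p q : G}, p * q = q * p → p * q * p⁻¹ = q := by
    intro p q h1
    rw [h1, mul_inv_cancel_right]
  have ce : c * e = e * c := key e e (by rw [cj s'e, cj se]) (by rw [cj se, cj s'e])
  have cve : c * (v * e) = (v * e) * c := by
    refine key v (v * e) ?_ ?_
    · rw [cj s'v, sv]
    · rw [sv]
      calc s' * (v * e) * s'⁻¹ = (s' * v * s'⁻¹) * (s' * e * s'⁻¹) := by group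
        _ = v * e := by rw [cj s'v, cj s'e]
  have cue : c * (u * (y0 * e)) = (u * (y0 * e)) * c := by
    refine key u (u * (y0 * e)) ?_ ?_
    · rw [s'u]
      calc s * (u * (y0 * e)) * s⁻¹ = (s * u * s⁻¹) * (s * y0 * s⁻¹) * (s * e * s⁻¹) := by group
        _ = u * (y0 * e) := by rw [cj su, cj y0s.symm, cj se]; group
    · rw [cj su, s'u]
  have cy0 : c * y0 = y0 * c := by
    rw [hc]
    have h1 : Commute y0 s := y0s
    have h2 : Commute y0 s' := y0s'
    exact (((h1.mul_right h2).mul_right h1.inv_right).mul_right h2.inv_right).symm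
  have cv : c * v = v * c := by
    have h1 : Commute c (v * e) := cve
    have h2 : Commute c e := ce
    have h3 := h1.mul_right h2.inv_right
    rw [mul_inv_cancel_right] at h3
    exact h3
  have cu : c * u = u * c := by
    have h1 : Commute c (u * (y0 * e)) := cue
    have h2 : Commute c e := ce
    have h4 : Commute c y0 := cy0
    have h3 := h1.mul_right (h4.mul_right h2).inv_right
    rw [mul_inv_cancel_right] at h3
    exact h3
  obtain ⟨nU, nV, nW⟩ := norm c hcH (by rw [← hu]; exact cu) (by rw [← hv]; exact cv)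
  -- the action of `c` on the torus is diagonal
  have dia : ∀ X : S →* G, Function.Injective X → (∀ A, e * X A = X (δ A) * e) →
      (∀ A, ∃ B, c * X A * c⁻¹ = X B) → ∃ d : ZMod m, c * X t * c⁻¹ = X (t ^ d.val) := by
    intro X iX eX nX
    obtain ⟨B, hB⟩ := nX t
    have h1 : δ B = B := by
      apply iX
      have h2 : e * X t = X t * e := by rw [eX, hT.dt]
      have h3 : e * X B = X B * e := by
        rw [← hB]
        calc e * (c * X t * c⁻¹) = (e * c) * X t * c⁻¹ := by group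
          _ = c * (e * X t) * c⁻¹ := by rw [← ce]; group
          _ = c * X t * (e * c⁻¹) := by rw [h2]; group
          _ = c * X t * (c⁻¹ * e) := by
              have h5 : Commute c e := ce
              rw [h5.inv_left.symm.eq]
          _ = c * X t * c⁻¹ * e := by group
      rw [eX] at h3
      exact mul_right_cancel h3
    have h2 : B ^ m = 1 := by
      apply iX
      rw [map_pow, ← hB, conj_pow, ← map_pow, ht, map_one, mul_one, mul_inv_cancel]
    obtain ⟨k, hk⟩ := hT.tor B h1 h2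
    refine ⟨((k : ℤ) : ZMod m), ?_⟩
    rw [hB, hk, pw_intCast ht]
  obtain ⟨du, hdu⟩ := dia U Fu.ia (fun A => by rw [hedef]; exact Fu.ea A) nU
  obtain ⟨dv, hdv⟩ := dia V Fu.ib (fun A => by rw [hedef]; exact Fu.eb A) nV
  obtain ⟨dw, hdw⟩ := dia W Fu.ic (fun A => by rw [hedef]; exact Fu.ec A) nW
  have actc : ∀ x : Fin 3 → ZMod m, c * P t U V W x * c⁻¹ =
      P t U V W ((Matrix.diagonal ![du, dv, dw]).mulVec x) := by
    refine act_of ht Fu.ab Fu.ac Fu.bc _ c ?_
    intro i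
    fin_cases i
    · change c * P t U V W (Pi.single 0 1 : Fin 3 → ZMod m) * c⁻¹ = _
      rw [P_e0 hm, hdu]
      simp [P, Matrix.diagonal_apply]
    · change c * P t U V W (Pi.single 1 1 : Fin 3 → ZMod m) * c⁻¹ = _
      rw [P_e1 hm, hdv]
      simp [P, Matrix.diagonal_apply]
    · change c * P t U V W (Pi.single 2 1 : Fin 3 → ZMod m) * c⁻¹ = _
      rw [P_e2 hm, hdw]
      simp [P, Matrix.diagonal_apply]
  -- the action of `s`
  have acts : ∀ x : Fin 3 → ZMod m, s * P t U V W x * s⁻¹ = P t U V W ((SA h).mulVec x) := by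
    intro x
    rw [hs]
    exact Fu.act_s ht hm hT.nt hh x
  -- the action of `s'`
  obtain ⟨qu, hqu⟩ := hT.unit tu
  obtain ⟨qv, hqv⟩ := hT.unit tv
  obtain ⟨qw, hqw⟩ := hT.unit tw
  have hPP : ∀ x : Fin 3 → ZMod m, P t V' U' W' x =
      P t U V W ((RM ((ku : ℤ) : ZMod m) ((kv : ℤ) : ZMod m) ((kw : ℤ) : ZMod m)).mulVec x) := by
    intro x
    unfold P
    rw [hV, hU, hW, hT.aut_pow tv, hT.aut_pow tu, hT.aut_pow tw, ← Fu.ab]
    congr 4 <;> simp [RM, Matrix.mulVec, dotProduct, Fin.sum_univ_three]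
  have acts' : ∀ x : Fin 3 → ZMod m, s' * P t U V W x * s'⁻¹ = P t U V W
      ((SB h ![((ku : ℤ) : ZMod m), ((kv : ℤ) : ZMod m), ((kw : ℤ) : ZMod m)] ![qu, qv, qw]).mulVec x) := by
    intro x
    have h1 : P t U V W x = P t V' U' W' ((RM qv qu qw).mulVec x) := by
      rw [hPP, Matrix.mulVec_mulVec, RM_mul hqu hqv hqw, Matrix.one_mulVec]
    rw [h1, hs', Fv.act_s ht hm hT.nt hh, hPP, Matrix.mulVec_mulVec, Matrix.mulVec_mulVec,
      RM_SA hqu hqv hqw]
  have hr : ∀ i, (![((ku : ℤ) : ZMod m), ((kv : ℤ) : ZMod m), ((kw : ℤ) : ZMod m)] : Fin 3 → ZMod m) i *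
      (![qu, qv, qw] : Fin 3 → ZMod m) i = 1 := by
    intro i
    fin_cases i
    · exact hqu
    · exact hqv
    · exact hqw
  obtain ⟨T, hTdef⟩ : ∃ T, T = SB h ![((ku : ℤ) : ZMod m), ((kv : ℤ) : ZMod m), ((kw : ℤ) : ZMod m)]
    ![qu, qv, qw] := ⟨_, rfl⟩
  have hS2 := SA_sq hh
  have hT2 := SB_sq (r := ![((ku : ℤ) : ZMod m), ((kv : ℤ) : ZMod m), ((kw : ℤ) : ZMod m)])
    (q := ![qu, qv, qw]) hh hr
  rw [← hTdef] at hT2
  have actsi : ∀ x : Fin 3 → ZMod m, s⁻¹ * P t U V W x * s = P t U V W ((SA h).mulVec x) := by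
    intro x
    have h1 := acts ((SA h).mulVec x)
    rw [Matrix.mulVec_mulVec, hS2, Matrix.one_mulVec] at h1
    rw [← h1]
    group
  have actsi' : ∀ x : Fin 3 → ZMod m, s'⁻¹ * P t U V W x * s' = P t U V W (T.mulVec x) := by
    intro x
    have h1 := acts' (T.mulVec x)
    rw [← hTdef, Matrix.mulVec_mulVec, hT2, Matrix.one_mulVec] at h1
    rw [← h1]
    group
  have hfin : SA h * T * SA h * T = Matrix.diagonal ![du, dv, dw] := by
    have h1 : ∀ x : Fin 3 → ZMod m, (SA h * T * SA h * T).mulVec x =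
        (Matrix.diagonal ![du, dv, dw]).mulVec x := by
      intro x
      apply P_inj' hT.ord hT.odd Fu.ia Fu.ib Fu.ic Fu.ab Fu.ac Fu.bc hT.zz hT.cen2
      rw [← actc, hc]
      rw [← Matrix.mulVec_mulVec, ← Matrix.mulVec_mulVec, ← Matrix.mulVec_mulVec, ← acts, hTdef, ← acts', ← actsi,
        ← hTdef, ← actsi']
      group
    ext i j
    have h2 := congrFun (h1 (Pi.single j 1)) i
    rwa [Matrix.mulVec_single_one, Matrix.mulVec_single_one] at h2
  rw [hTdef] at hfin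
  have hlast := matrix_lemma hh hr _ hfin
  apply hT.arith αu αw ku kw tu tw
  exact hlast

end Cfsg.Agent.OddHalf.NI.Sol
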