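import Cfsg.Agent.OddHalf.NI.SolTorus
import Cfsg.Agent.LFourR.Mat2
import Cfsg.Agent.LFourA.AutTwo

/-!
# Sol(q): the torus data of `SL₂(F)`
-/

set_option autoImplicit false

namespace Cfsg.Agent.OddHalf.NI.Sol

open Matrix Cfsg.Agent.Lib.SL2Mat Cfsg.Agent.Lib.AutSL2 Cfsg.Agent.Lib.AutSL2Out
open Cfsg.Agent.LFourR.Mat2
open Cfsg.Agent.LFourR.FieldPart (val_mul val_one val_pow)

variable {F : Type*} [Field F]

abbrev SL (F : Type*) [Field F] := Matrix.SpecialLinearGroup (Fin 2) F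

/-- the companion matrix -/
def tt (τ : F) : SL F := mk 0 (-1) 1 τ (by ring)

theorem tt_val (τ : F) : (tt τ).1 = !![0, -1; 1, τ] := rfl

theorem tt_inv_val (τ : F) : ((tt τ)⁻¹).1 = !![τ, 1; -1, 0] := by
  change (adjugate !![0, -1; 1, τ]) = _
  rw [adjugate_fin_two_of]
  simp

/-- `D = t - t⁻¹` -/
def Dgl (τ : F) (h : τ ^ 2 ≠ 4) : GL (Fin 2) F :=
  Matrix.GeneralLinearGroup.mkOfDetNeZero !![-τ, -2; 2, τ] (by
    rw [det_fin_two_of]
    intro h1
    apply h
    linear_combination -h1)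

theorem Dgl_val (τ : F) (h : τ ^ 2 ≠ 4) : (Dgl τ h).1 = !![-τ, -2; 2, τ] := rfl

/-- the element `n` -/
def nn (τ x y : F) (h : x ^ 2 - τ * x * y + y ^ 2 = -1) : SL F :=
  mk x y (y - τ * x) (-x) (by linear_combination -h)

theorem exists_xy [Fintype F] (hq : Odd (Fintype.card F)) (h2 : (2 : F) ≠ 0) {τ : F} (h : τ ^ 2 ≠ 4) :
    ∃ x y : F, x ^ 2 - τ * x * y + y ^ 2 = -1 := by
  obtain ⟨x, y, hxy⟩ := exists_norm hq (1 - τ ^ 2 / 4) (-1) (by
    intro h1
    apply h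
    have h4 : (4 : F) ≠ 0 := by
      have : (4 : F) = 2 * 2 := by norm_num
      rw [this]; exact mul_ne_zero h2 h2
    field_simp at h1
    linear_combination -h1)
  refine ⟨x + τ * y / 2, y, ?_⟩
  have h4 : (4 : F) = 2 * 2 := by norm_num
  rw [h4] at hxy
  field_simp at hxy ⊢
  linear_combination hxy

theorem nn_sq {τ x y : F} (h : x ^ 2 - τ * x * y + y ^ 2 = -1) : nn τ x y h * nn τ x y h = -1 := by
  have h1 : ∀ i j, ent (-1 : SL F) i j = -ent (1 : SL F) i j := fun i j => rfl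
  refine ext_ent ?_ ?_ ?_ ?_ <;> simp only [ent_mul, h1, nn, mk_00, mk_01, mk_10, mk_11, ent_one_00, ent_one_01,
    ent_one_10, ent_one_11]
  · linear_combination h
  · ring
  · ring
  · linear_combination h

theorem nn_tt {τ x y : F} (h : x ^ 2 - τ * x * y + y ^ 2 = -1) :
    nn τ x y h * tt τ * (nn τ x y h)⁻¹ = (tt τ)⁻¹ := by
  rw [mul_inv_eq_iff_eq_mul]
  apply Subtype.ext
  rw [val_mul, val_mul, tt_inv_val, tt_val]
  change !![x, y; y - τ * x, -x] * !![0, -1; 1, τ] = !![τ, 1; -1, 0] * !![x, y; y - τ * x, -x]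
  rw [Matrix.mul_fin_two, Matrix.mul_fin_two]
  ext i j
  fin_cases i <;> fin_cases j <;> simp <;> ring

theorem Dgl_tt {τ : F} (h : τ ^ 2 ≠ 4) : conjGL (Dgl τ h) (tt τ) = tt τ := by
  rw [conjGL_eq_iff, Dgl_val, tt_val, Matrix.mul_fin_two, Matrix.mul_fin_two]
  ext i j
  fin_cases i <;> fin_cases j <;> simp <;> ring

theorem Dgl_nn {τ x y : F} (hτ : τ ^ 2 ≠ 4) (h : x ^ 2 - τ * x * y + y ^ 2 = -1) :
    conjGL (Dgl τ hτ) (nn τ x y h) = -1 * nn τ x y h := by
  rw [conjGL_eq_iff, Dgl_val, val_mul]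
  change !![-τ, -2; 2, τ] * !![x, y; y - τ * x, -x] = (-1 : Matrix (Fin 2) (Fin 2) F) *
    !![x, y; y - τ * x, -x] * !![-τ, -2; 2, τ]
  rw [neg_one_mul, neg_mul, Matrix.mul_fin_two, Matrix.mul_fin_two]
  ext i j
  fin_cases i <;> fin_cases j <;> simp <;> ring

/-- `t - t⁻¹ = D` -/
theorem Dgl_eq {τ : F} (h : τ ^ 2 ≠ 4) : (Dgl τ h).1 = (tt τ).1 - ((tt τ)⁻¹).1 := by
  rw [Dgl_val, tt_val, tt_inv_val]
  ext i j
  fin_cases i <;> fin_cases j <;> simp <;> norm_num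

theorem tt_add (τ : F) : (tt τ).1 + ((tt τ)⁻¹).1 = τ • (1 : Matrix (Fin 2) (Fin 2) F) := by
  rw [tt_val, tt_inv_val]
  ext i j
  fin_cases i <;> fin_cases j <;> simp

theorem not_isSc_of_trace {A : SL F} (h : A.1.trace ^ 2 ≠ 4) : ¬ IsSc A.1 := by
  rintro ⟨c, hc⟩
  apply h
  have h1 := A.2
  rw [hc, det_fin_two] at h1
  simp at h1
  rw [hc, trace_fin_two]
  simp
  linear_combination 4 * h1

/-- elements of `SL₂(F)` with the same trace `≠ ±2` are conjugate in `SL₂(F)` -/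
theorem exists_slconj [Fintype F] (hq : Odd (Fintype.card F)) (h2 : (2 : F) ≠ 0) {A B : SL F}
    (h : A.1.trace = B.1.trace) (h4 : A.1.trace ^ 2 ≠ 4) : ∃ s : SL F, A * s = s * B := by
  obtain ⟨g, hg⟩ := exists_conj_of_same (not_isSc_of_trace h4) (not_isSc_of_trace (h ▸ h4))
    (by rw [A.2, B.2]) h
  have hgd : g.1.det ≠ 0 := (Matrix.GeneralLinearGroup.det g).ne_zero
  obtain ⟨T, hT⟩ : ∃ T, T = A.1.trace := ⟨_, rfl⟩
  have h44 : (4 : F) ≠ 0 := by
    have : (4 : F) = 2 * 2 := by norm_num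
    rw [this]; exact mul_ne_zero h2 h2
  obtain ⟨x, y, hxy⟩ := exists_norm hq (1 - T ^ 2 / 4) (g.1.det)⁻¹ (by
    intro h1
    apply h4
    rw [← hT]
    field_simp at h1
    linear_combination -h1)
  refine ⟨⟨((x - y * T / 2) • (1 : Matrix (Fin 2) (Fin 2) F) + y • A.1) * g.1, ?_⟩, ?_⟩
  · rw [det_mul, det_lin, A.2, ← hT]
    have h5 : (x - y * T / 2) ^ 2 + (x - y * T / 2) * y * T + y ^ 2 * 1 = x ^ 2 + (1 - T ^ 2 / 4) * y ^ 2 := by
      have h6 : (4 : F) = 2 * 2 := by norm_num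
      rw [h6]
      field_simp
      ring
    rw [h5, hxy, inv_mul_cancel₀ hgd]
  · apply Subtype.ext
    change A.1 * (((x - y * T / 2) • (1 : Matrix (Fin 2) (Fin 2) F) + y • A.1) * g.1) =
      ((x - y * T / 2) • (1 : Matrix (Fin 2) (Fin 2) F) + y • A.1) * g.1 * B.1
    rw [← Matrix.mul_assoc, Matrix.mul_assoc _ g.1 B.1, ← hg, ← Matrix.mul_assoc]
    congr 1
    rw [Matrix.mul_add, Matrix.add_mul, Matrix.mul_smul, Matrix.mul_smul, Matrix.smul_mul, Matrix.smul_mul,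
      Matrix.mul_one, Matrix.one_mul]

/-- a matrix commuting with `t`: `A - A⁻¹` is a multiple of `D` -/
theorem sub_inv_eq {τ : F} (h : τ ^ 2 ≠ 4) {A : SL F} (hA : A * tt τ = tt τ * A) :
    ∃ c : F, A.1 - (A⁻¹).1 = c • (Dgl τ h).1 := by
  have hA' : (tt τ).1 * A.1 = A.1 * (tt τ).1 := by rw [← val_mul, ← val_mul, hA]
  have hns : ¬ IsSc (tt τ).1 := by
    rintro ⟨c, hc⟩
    have h1 := congrFun (congrFun hc 1) 0
    rw [tt_val] at h1
    simp at h1
  obtain ⟨a, b, hab⟩ := Cfsg.Agent.ClassicalGeometry.NonsplitTorus.commutant (tt τ).1 A.1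
    (fun c hc => hns ⟨c, hc⟩) hA'
  refine ⟨b, ?_⟩
  have h3 : (A⁻¹).1 = A.1.trace • (1 : Matrix (Fin 2) (Fin 2) F) - A.1 := by
    change adjugate A.1 = _
    rw [adjugate_fin_two, trace_fin_two]
    ext i j
    fin_cases i <;> fin_cases j <;> simp
  rw [h3, hab, Dgl_val, tt_val]
  ext i j
  fin_cases i <;> fin_cases j <;> simp [trace_fin_two] <;> ring

/-- automorphisms mapping `t` to a power of `t` commute with `δ` -/
theorem aut_comm [Finite F] {τ : F} (h : τ ^ 2 ≠ 4) (α : MulAut (SL F)) {k : ℤ}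
    (hα : α (tt τ) = tt τ ^ k) (A : SL F) : α (conjGL (Dgl τ h) A) = conjGL (Dgl τ h) (α A) := by
  obtain ⟨g, σ, hgσ⟩ := exists_eq α
  obtain ⟨X, hX⟩ : ∃ X, X = g * Matrix.GeneralLinearGroup.map σ.toRingHom (Dgl τ h) * g⁻¹ := ⟨_, rfl⟩
  have e1 : α * conjGL (Dgl τ h) = conjGL X * α := by
    rw [hX, hgσ, mul_assoc, fieldAut_mul_conjGL, map_mul, map_mul, map_inv]
    group
  have hXval : X.1 = (tt τ ^ k).1 - ((tt τ ^ k)⁻¹).1 := by
    have h3 : ∀ B : SL F, (α B).1 = g.1 * (σ.toRingHom.mapMatrix B.1) * g⁻¹.1 := by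
      intro B
      rw [hgσ]
      rfl
    rw [← hα, ← map_inv, h3, h3, hX, ← Matrix.sub_mul, ← Matrix.mul_sub, ← map_sub, ← Dgl_eq h]
    rfl
  obtain ⟨c, hc⟩ := sub_inv_eq h (A := tt τ ^ k) (by
    exact ((Commute.refl (tt τ)).zpow_left k).eq)
  have e2 : conjGL X = conjGL (Dgl τ h) := by
    have h4 : conjGL ((Dgl τ h)⁻¹ * X) = 1 := by
      apply conjGL_eq_one_of_isSc
      refine ⟨c, ?_⟩
      rw [Units.val_mul, hXval, hc, Matrix.mul_smul]
      congr 1
      exact (Dgl τ h).inv_mul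
    rw [map_mul, map_inv, inv_mul_eq_one] at h4
    exact h4.symm
  rw [e2] at e1
  exact DFunLike.congr_fun e1 A

/-! ### The eigenvalue character -/

section chi

variable {K : Type*} [Field K] (φ : F →+* K) (l : K)

/-- `A ↦` its eigenvalue on the eigenvector `(1, -λ)` of `t` -/
def chi (A : SL F) : K := φ (A.1 0 0) - l * φ (A.1 0 1)

theorem comm_tt {τ : F} {A : SL F} (hA : A * tt τ = tt τ * A) :
    A.1 1 0 = -A.1 0 1 ∧ A.1 1 1 = A.1 0 0 - τ * A.1 0 1 := by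
  have h1 := congrArg Subtype.val hA
  rw [val_mul, val_mul, tt_val] at h1
  have h00 := congrFun (congrFun h1 0) 0
  have h01 := congrFun (congrFun h1 0) 1
  simp [Matrix.mul_apply, Fin.sum_univ_two] at h00 h01
  constructor
  · linear_combination h00
  · linear_combination h01

theorem chi_mul {τ : F} (hl : l ^ 2 - φ τ * l + 1 = 0) {A B : SL F} (hA : A * tt τ = tt τ * A)
    (hB : B * tt τ = tt τ * B) : chi φ l (A * B) = chi φ l A * chi φ l B := by
  obtain ⟨a1, a2⟩ := comm_tt hA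
  obtain ⟨b1, b2⟩ := comm_tt hB
  unfold chi
  rw [val_mul, Matrix.mul_apply, Matrix.mul_apply, Fin.sum_univ_two, Fin.sum_univ_two, b1, b2]
  simp only [map_add, map_mul, map_sub, map_neg]
  linear_combination (-(φ (A.1 0 1)) * φ (B.1 0 1)) * hl

theorem chi_one : chi φ l (1 : SL F) = 1 := by
  simp [chi]

theorem chi_tt (τ : F) : chi φ l (tt τ) = l := by
  unfold chi
  rw [tt_val]
  simp

theorem comm_pow {τ : F} {A : SL F} (hA : A * tt τ = tt τ * A) (n : ℕ) : A ^ n * tt τ = tt τ * A ^ n :=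
  (Commute.pow_left (show Commute A (tt τ) from hA) n).eq

theorem chi_pow {τ : F} (hl : l ^ 2 - φ τ * l + 1 = 0) {A : SL F} (hA : A * tt τ = tt τ * A) (n : ℕ) :
    chi φ l (A ^ n) = chi φ l A ^ n := by
  induction n with
  | zero => rw [pow_zero, pow_zero, chi_one]
  | succ n ih => rw [pow_succ, chi_mul φ l hl (comm_pow hA n) hA, ih, pow_succ]

theorem chi_trace {τ : F} (hl : l ^ 2 - φ τ * l + 1 = 0) {A : SL F} (hA : A * tt τ = tt τ * A) :
    φ A.1.trace * chi φ l A = chi φ l A ^ 2 + 1 := by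
  obtain ⟨a1, a2⟩ := comm_tt hA
  have h1 := A.2
  rw [det_fin_two, a1, a2] at h1
  have h2 := congrArg φ h1
  rw [trace_fin_two, a2]
  unfold chi
  simp only [map_add, map_mul, map_sub, map_neg, map_one] at h2 ⊢
  linear_combination h2 - φ (A.1 0 1) ^ 2 * hl

theorem chi_inj {τ : F} (hτ : τ ^ 2 ≠ 4) (hl : l ^ 2 - φ τ * l + 1 = 0) {A : SL F}
    (hA : A * tt τ = tt τ * A) (h : chi φ l A = 1) : A = 1 := by
  have h3 := chi_trace φ l hl hA
  rw [h] at h3
  obtain ⟨a1, a2⟩ := comm_tt hA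
  have h5 : φ (A.1 0 0) = 1 + l * φ (A.1 0 1) := by
    unfold chi at h
    linear_combination h
  have h6 : φ (A.1 0 1) * (2 * l - φ τ) = 0 := by
    rw [trace_fin_two, a2] at h3
    simp only [map_add, map_mul, map_sub, h5] at h3
    linear_combination h3
  have h7 : 2 * l - φ τ ≠ 0 := by
    intro h8
    apply hτ
    apply φ.injective
    rw [map_pow]
    have h9 : (2 * l - φ τ) ^ 2 = φ τ ^ 2 - 4 := by linear_combination 4 * hl
    rw [h8] at h9
    have h10 : φ 4 = 4 := map_ofNat φ 4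
    rw [h10]
    linear_combination -h9
  have h8 : φ (A.1 0 1) = 0 := (mul_eq_zero.mp h6).resolve_right h7
  have h9 : A.1 0 1 = 0 := by
    apply φ.injective
    rw [h8, map_zero]
  have h10 : A.1 0 0 = 1 := by
    apply φ.injective
    rw [h5, h8, mul_zero, add_zero, map_one]
  rw [h9, neg_zero] at a1
  rw [h9, h10, mul_zero, sub_zero] at a2
  apply Subtype.ext
  rw [val_one]
  ext i j
  fin_cases i <;> fin_cases j <;> simp [h9, h10, a1, a2]

end chi

theorem tor_pow [Finite F] {τ : F} (h2 : (2 : F) ≠ 0) (hτ : τ ^ 2 ≠ 4) {m : ℕ} (hm : 0 < m)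
    (ord : orderOf (tt τ) = m) {A : SL F} (hA : conjGL (Dgl τ hτ) A = A) (hAm : A ^ m = 1) :
    ∃ k : ℤ, A = tt τ ^ k := by
  have hc : A * tt τ = tt τ * A := by
    rw [conjGL_eq_iff] at hA
    have h3 : (Dgl τ hτ).1 = (2 : F) • (tt τ).1 - τ • 1 := by
      have h4 := tt_add τ
      have h5 := Dgl_eq hτ
      rw [h5, ← h4, two_smul]
      abel
    rw [h3, Matrix.sub_mul, Matrix.mul_sub, Matrix.smul_mul, Matrix.smul_mul, Matrix.mul_smul, Matrix.mul_smul,
      Matrix.one_mul, Matrix.mul_one, sub_left_inj] at hA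
    apply Subtype.ext
    rw [val_mul, val_mul]
    exact (smul_right_injective _ h2 hA).symm
  obtain ⟨K, _, φ, l, hl⟩ : ∃ (K : Type _) (_ : Field K) (φ : F →+* K) (l : K), l ^ 2 - φ τ * l + 1 = 0 := by
    refine ⟨AlgebraicClosure F, inferInstance, algebraMap _ _, ?_⟩
    obtain ⟨l, hl⟩ := IsAlgClosed.exists_root
      (Polynomial.X ^ 2 + Polynomial.C (-(algebraMap F (AlgebraicClosure F) τ)) * Polynomial.X + Polynomial.C 1 :
        Polynomial (AlgebraicClosure F)) (by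
          have := Polynomial.degree_quadratic (R := AlgebraicClosure F) (a := 1)
            (b := -(algebraMap F (AlgebraicClosure F) τ)) (c := 1) one_ne_zero
          rw [show (Polynomial.X ^ 2 : Polynomial (AlgebraicClosure F)) = Polynomial.C 1 * Polynomial.X ^ 2 by
            rw [Polynomial.C_1, one_mul], this]
          norm_num)
    refine ⟨l, ?_⟩
    rw [Polynomial.IsRoot.def] at hl
    simp only [Polynomial.eval_add, Polynomial.eval_pow, Polynomial.eval_X, Polynomial.eval_mul,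
      Polynomial.eval_C] at hl
    linear_combination hl
  have hprim : IsPrimitiveRoot l m := by
    rw [IsPrimitiveRoot.iff_def]
    constructor
    · rw [← chi_tt φ l τ, ← chi_pow φ l hl rfl, ← ord, pow_orderOf_eq_one, chi_one]
    · intro k hk
      rw [← ord]
      apply orderOf_dvd_of_pow_eq_one
      apply chi_inj φ l hτ hl (comm_pow rfl k)
      rw [chi_pow φ l hl rfl, chi_tt, hk]
  have h3 : chi φ l A ^ m = 1 := by rw [← chi_pow φ l hl hc, hAm, chi_one]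
  have : NeZero m := ⟨hm.ne'⟩
  obtain ⟨i, -, hi⟩ := hprim.eq_pow_of_pow_eq_one h3
  refine ⟨i, ?_⟩
  rw [zpow_natCast]
  have h4 : A * (tt τ ^ i)⁻¹ = 1 := by
    have h5 : (A * (tt τ ^ i)⁻¹) * tt τ = tt τ * (A * (tt τ ^ i)⁻¹) := by
      have h6 : Commute A (tt τ) := hc
      have h7 : Commute ((tt τ ^ i)⁻¹) (tt τ) := ((Commute.refl (tt τ)).pow_left i).inv_left
      exact (h6.mul_left h7).eq
    apply chi_inj φ l hτ hl h5
    have h8 : chi φ l (A * (tt τ ^ i)⁻¹) * chi φ l (tt τ ^ i) = chi φ l A := by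
      rw [← chi_mul φ l hl h5 (comm_pow rfl i), inv_mul_cancel_right]
    rw [chi_pow φ l hl rfl, chi_tt, hi] at h8
    have h9 : chi φ l A ≠ 0 := by
      intro h10
      rw [h10, zero_pow hm.ne'] at h3
      exact zero_ne_one h3
    exact mul_right_cancel₀ h9 (by rw [h8, one_mul])
  exact mul_inv_eq_one.mp h4

end Cfsg.Agent.OddHalf.NI.Sol
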