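import Cfsg.Agent.OddHalf.NI.SolRigid
import Cfsg.Agent.OddHalf.NI.SolTorThree

/-!
# Sol(q): the frame of a group with a linear model

`Pos u a b c π` : `π : L →* GL(M₂ × M₂)` with kernel `{1, u}`, preserving `det X + det Y`, fixing `(0,1)`,
`b(A) = (X ↦ A X)`, `c(A) = (X ↦ X A⁻¹)`, `a(A) = (Y ↦ A Y A⁻¹)`.
-/

set_option autoImplicit false

namespace Cfsg.Agent.OddHalf.NI.Sol

open Matrix Cfsg.Agent.Lib.SL2Mat Cfsg.Agent.Lib.AutSL2 Cfsg.Agent.Lib.AutSL2Out
open Cfsg.Agent.LFourR.Mat2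
open Cfsg.Agent.LFourR.FieldPart (val_mul val_one val_pow)
open scoped commutatorElement

variable {F : Type*} [Field F]

/-- the linear model -/
structure Pos {L : Type*} [Group L] (u : L) (a b c : SL F →* L)
    (π : L →* ((M2 F × M2 F) ≃ₗ[F] (M2 F × M2 F))) : Prop where
  ker : ∀ x, π x = 1 → x = 1 ∨ x = u
  πu : π u = 1
  uu : u * u = 1
  u1 : u ≠ 1
  cen : ∀ x, x * u = u * x
  det : ∀ x p, (π x p).1.det + (π x p).2.det = p.1.det + p.2.det
  fix : ∀ x, π x (0, 1) = (0, 1)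
  πa : ∀ A X Y, π (a A) (X, Y) = (X, A.1 * Y * (A⁻¹).1)
  πb : ∀ A X Y, π (b A) (X, Y) = (A.1 * X, Y)
  πc : ∀ A X Y, π (c A) (X, Y) = (X * (A⁻¹).1, Y)
  au : a (-1) = u
  bcu : b (-1) * c (-1) = u
  img : ∀ D Di N T Ti : M2 F, QD D Di N T Ti → ∃ g : L, ∀ x, π g x = gb D Di N x

section lift

variable {L : Type*} [Group L] {V : Type*} [Group V] {u : L} {π : L →* V}

/-- homomorphisms of a perfect group with the same projection are equal -/
theorem lift_unique {S : Type*} [Group S] (perf : commutator S = ⊤) (ker : ∀ x, π x = 1 → x = 1 ∨ x = u)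
    (uu : u * u = 1) (cen : ∀ x, x * u = u * x) (φ ψ : S →* L) (h : ∀ A, π (φ A) = π (ψ A)) : φ = ψ := by
  have h1 : ∀ A, ∃ k : L, k * k = 1 ∧ (∀ x, x * k = k * x) ∧ φ A = ψ A * k := by
    intro A
    have h2 : π ((ψ A)⁻¹ * φ A) = 1 := by rw [map_mul, map_inv, h, inv_mul_cancel]
    rcases ker _ h2 with h3 | h3
    · exact ⟨1, one_mul 1, fun x => by rw [mul_one, one_mul],
        by rw [mul_one]; exact (inv_mul_eq_one.mp h3).symm⟩
    · exact ⟨u, uu, cen, by rw [← h3]; group⟩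
  have h2 : ∀ A B : S, φ ⁅A, B⁆ = ψ ⁅A, B⁆ := by
    intro A B
    obtain ⟨k, hk, hkc, hkA⟩ := h1 A
    obtain ⟨l, hl, hlc, hlB⟩ := h1 B
    rw [map_commutatorElement, map_commutatorElement, hkA, hlB, commutatorElement_def, commutatorElement_def,
      _root_.mul_inv_rev, _root_.mul_inv_rev]
    have e1 : Commute k (ψ B * l) := (hkc _).symm
    have e2 : Commute l (k⁻¹ * (ψ A)⁻¹) := (hlc _).symm
    calc ψ A * k * (ψ B * l) * (k⁻¹ * (ψ A)⁻¹) * (l⁻¹ * (ψ B)⁻¹) =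
        ψ A * (k * (ψ B * l)) * (k⁻¹ * (ψ A)⁻¹) * (l⁻¹ * (ψ B)⁻¹) := by group
      _ = ψ A * ψ B * (l * (k * k⁻¹ * (ψ A)⁻¹)) * (l⁻¹ * (ψ B)⁻¹) := by rw [e1.eq]; group
      _ = ψ A * ψ B * (l * (ψ A)⁻¹) * (l⁻¹ * (ψ B)⁻¹) := by group
      _ = ψ A * ψ B * ((ψ A)⁻¹ * l) * (l⁻¹ * (ψ B)⁻¹) := by rw [hlc]
      _ = ψ A * ψ B * (ψ A)⁻¹ * (ψ B)⁻¹ := by group
  have h3 : commutator S ≤ φ.eqLocus ψ := by
    rw [commutator_def, Subgroup.commutator_le]
    intro A _ B _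
    exact h2 A B
  rw [perf] at h3
  ext A
  exact h3 (Subgroup.mem_top A)

/-- elements of odd order with the same projection are equal -/
theorem odd_lift (ker : ∀ x, π x = 1 → x = 1 ∨ x = u) (uu : u * u = 1) (cen : ∀ x, x * u = u * x) {x y : L}
    (h : π x = π y) {m : ℕ} (hm : Odd m) (hx : x ^ m = 1) (hy : y ^ m = 1) : x = y := by
  have h2 : π (y⁻¹ * x) = 1 := by rw [map_mul, map_inv, h, inv_mul_cancel]
  rcases ker _ h2 with h3 | h3
  · exact (inv_mul_eq_one.mp h3).symm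
  · have h4 : x = y * u := by rw [← h3]; group
    have h5 : x ^ m = y ^ m * u ^ m := by
      rw [h4]
      exact (show Commute y u from cen y).mul_pow m
    rw [hx, hy, one_mul] at h5
    obtain ⟨k, hk⟩ := hm
    rw [hk, pow_succ, pow_mul, pow_two, uu, one_pow, one_mul] at h5
    rw [h4, ← h5, mul_one]

end lift

section QDinst

theorem QD_of [Finite F] (h2 : (2 : F) ≠ 0) {τ x y : F} (hτ : τ ^ 2 ≠ 4) (hxy : x ^ 2 - τ * x * y + y ^ 2 = -1)
    {R : SL F} (hR : R * tt τ = tt τ * R) (hns : ¬ IsSc R.1) :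
    QD (Dgl τ hτ).1 (Dgl τ hτ)⁻¹.1 (nn τ x y hxy).1 R.1 (R⁻¹).1 where
  two := h2
  dd := (Dgl τ hτ).mul_inv
  dd' := (Dgl τ hτ).inv_mul
  sc := by
    refine ⟨τ ^ 2 - 4, ?_⟩
    rw [Dgl_val, Matrix.mul_fin_two]
    ext i j
    fin_cases i <;> fin_cases j <;> simp <;> ring
  trd := by rw [Dgl_val, trace_fin_two]; simp
  trn := by
    change (!![x, y; y - τ * x, -x] : M2 F).trace = 0
    rw [trace_fin_two]; simp
  detn := (nn τ x y hxy).2
  nn := by
    have h1 := congrArg Subtype.val (nn_sq hxy)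
    rw [val_mul] at h1
    rw [h1]
    rfl
  nd := by
    change !![x, y; y - τ * x, -x] * !![-τ, -2; 2, τ] = -(!![-τ, -2; 2, τ] * !![x, y; y - τ * x, -x])
    rw [Matrix.mul_fin_two, Matrix.mul_fin_two]
    ext i j
    fin_cases i <;> fin_cases j <;> simp <;> ring
  tt := by rw [← val_mul, mul_inv_cancel, val_one]
  tt' := by rw [← val_mul, inv_mul_cancel, val_one]
  t := by
    have hA' : (Dgl τ hτ).1 * R.1 = R.1 * (Dgl τ hτ).1 := by
      have h3 : (Dgl τ hτ).1 = (2 : F) • (tt τ).1 - τ • 1 := by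
        have h4 := tt_add τ
        have h5 := Dgl_eq hτ
        rw [h5, ← h4, two_smul]
        abel
      have h4 : (tt τ).1 * R.1 = R.1 * (tt τ).1 := by rw [← val_mul, ← val_mul, hR]
      rw [h3, Matrix.sub_mul, Matrix.mul_sub, Matrix.smul_mul, Matrix.smul_mul, Matrix.mul_smul, Matrix.mul_smul,
        Matrix.one_mul, Matrix.mul_one, h4]
    have hDns : ∀ c : F, (Dgl τ hτ).1 ≠ c • (1 : M2 F) := by
      intro c hc
      have h1 := congrFun (congrFun hc 1) 0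
      rw [Dgl_val] at h1
      simp at h1
      exact h2 h1
    obtain ⟨a, b, hab⟩ := Cfsg.Agent.ClassicalGeometry.NonsplitTorus.commutant (Dgl τ hτ).1 R.1 hDns hA'
    refine ⟨a, b, ?_, hab, ?_⟩
    · rintro rfl
      apply hns
      exact ⟨a, by rw [hab, zero_smul, add_zero]⟩
    · have h3 : (R⁻¹).1 = R.1.trace • (1 : M2 F) - R.1 := by
        change adjugate R.1 = _
        rw [adjugate_fin_two, trace_fin_two]
        ext i j
        fin_cases i <;> fin_cases j <;> simp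
      have h4 : R.1.trace = 2 * a := by
        rw [hab, trace_add, trace_smul, trace_smul, trace_one, Dgl_val, trace_fin_two]
        simp
        ring
      rw [h3, h4, hab, two_mul, add_smul]
      abel

end QDinst

section frame

variable {L : Type*} [Group L] {u : L} {a b c : SL F →* L} {π : L →* ((M2 F × M2 F) ≃ₗ[F] (M2 F × M2 F))}

theorem val_inv_mul (A : SL F) : (A⁻¹).1 * A.1 = 1 := by rw [← val_mul, inv_mul_cancel, val_one]
theorem val_mul_inv (A : SL F) : A.1 * (A⁻¹).1 = 1 := by rw [← val_mul, mul_inv_cancel, val_one]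

namespace Pos

variable (H : Pos u a b c π)

include H

theorem πmul (x y : L) (p : M2 F × M2 F) : π (x * y) p = π x (π y p) := by rw [map_mul]; rfl

theorem πinv (x : L) (p : M2 F × M2 F) : π x (π x⁻¹ p) = p := by
  rw [← H.πmul, mul_inv_cancel, map_one]; rfl

theorem πinv' (x : L) (p : M2 F × M2 F) : π x⁻¹ (π x p) = p := by
  rw [← H.πmul, inv_mul_cancel, map_one]; rfl

theorem eq_of (φ ψ : SL F →* L) (perf : commutator (SL F) = ⊤) (h : ∀ A p, π (φ A) p = π (ψ A) p) : φ = ψ :=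
  lift_unique perf H.ker H.uu H.cen φ ψ fun A => LinearEquiv.ext (h A)

theorem conj_eq (perf : commutator (SL F) = ⊤) (φ ψ : SL F →* L) (x : L)
    (h : ∀ A p, π x (π (φ A) p) = π (ψ A) (π x p)) (A : SL F) : x * φ A = ψ A * x := by
  have h1 : ((MulAut.conj x).toMonoidHom.comp φ) = ψ := by
    apply H.eq_of _ _ perf
    intro A p
    change π (x * φ A * x⁻¹) p = _
    rw [H.πmul, H.πmul, h, H.πinv]
  have h2 := DFunLike.congr_fun h1 A
  change x * φ A * x⁻¹ = ψ A at h2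
  rw [← h2, inv_mul_cancel_right]

theorem ab (perf : commutator (SL F) = ⊤) (A B : SL F) : a A * b B = b B * a A := by
  apply H.conj_eq perf b b (a A)
  rintro B ⟨X, Y⟩
  rw [H.πa, H.πb, H.πb, H.πa]

theorem ac (perf : commutator (SL F) = ⊤) (A B : SL F) : a A * c B = c B * a A := by
  apply H.conj_eq perf c c (a A)
  rintro B ⟨X, Y⟩
  rw [H.πa, H.πc, H.πc, H.πa]

theorem bc (perf : commutator (SL F) = ⊤) (A B : SL F) : b A * c B = c B * b A := by
  apply H.conj_eq perf c c (b A)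
  rintro B ⟨X, Y⟩
  rw [H.πb, H.πc, H.πc, H.πb, Matrix.mul_assoc]

theorem ib : Function.Injective b := by
  intro A B h
  have h1 := congrArg (fun x => (π x (1, 0)).1) h
  simp only [H.πb, Matrix.mul_one] at h1
  exact Subtype.ext h1

theorem ic : Function.Injective c := by
  intro A B h
  have h1 := congrArg (fun x => (π x (1, 0)).1) h
  simp only [H.πc, Matrix.one_mul] at h1
  exact inv_injective (Subtype.ext h1)

theorem ia (h2 : (2 : F) ≠ 0) : Function.Injective a := by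
  rw [injective_iff_map_eq_one]
  intro A h
  have h1 : A ∈ Subgroup.center (SL F) := by
    rw [Subgroup.mem_center_iff]
    intro B
    apply Subtype.ext
    rw [val_mul, val_mul]
    have h3 : (π (a A) (0, B.1)).2 = B.1 := by rw [h, map_one]; rfl
    rw [H.πa] at h3
    replace h3 : A.1 * B.1 * (A⁻¹).1 = B.1 := h3
    calc B.1 * A.1 = (A.1 * B.1 * (A⁻¹).1) * A.1 := by rw [h3]
      _ = A.1 * B.1 := by rw [Matrix.mul_assoc, val_inv_mul, Matrix.mul_one]
  rcases (Cfsg.Agent.LFourA.AutTwo.mem_center_iff' h2).mp h1 with h3 | h3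
  · exact h3
  · exfalso
    apply H.u1
    rw [← H.au, ← h3, h]

/-- the choice of `g` -/
theorem exists_g {D Di N T Ti : M2 F} (h : QD D Di N T Ti) :
    ∃ g : L, g ^ 3 = 1 ∧ ∀ x, π g x = gb D Di N x := by
  obtain ⟨g, hg⟩ := H.img D Di N T Ti h
  have h1 : π (g ^ 3) = 1 := by
    apply LinearEquiv.ext
    intro x
    rw [pow_succ, pow_two, H.πmul, H.πmul, hg, hg, hg, h.gb_cube]
    rfl
  rcases H.ker _ h1 with h3 | h3
  · exact ⟨g, h3, hg⟩
  · refine ⟨g * u, ?_, fun x => ?_⟩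
    · rw [(show Commute g u from H.cen g).mul_pow, h3, pow_succ, pow_two, H.uu, one_mul, H.uu]
    · rw [H.πmul, H.πu]
      exact hg x

end Pos

/-- the frame, at the level of `L` -/
structure AFr (δ : MulAut (SL F)) (t : SL F) (u : L) (a b c : SL F →* L) (g : L) : Prop where
  gv : g * b (-1) * g⁻¹ = b (-1) * (g⁻¹ * b (-1) * g) ∨
    g * b (-1) * g⁻¹ = b (-1) * (g⁻¹ * b (-1) * g) * u
  ea : ∀ A, (g⁻¹ * b (-1) * g) * a A = a (δ A) * (g⁻¹ * b (-1) * g)
  eb : ∀ A, (g⁻¹ * b (-1) * g) * b A = b (δ A) * (g⁻¹ * b (-1) * g)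
  ec : ∀ A, (g⁻¹ * b (-1) * g) * c A = c (δ A) * (g⁻¹ * b (-1) * g)
  ga : g * a t * g⁻¹ = b t * c t
  gb : g * (b t * c t) * g⁻¹ = b t * (c t)⁻¹
  gc : g * (b t * (c t)⁻¹) * g⁻¹ = a t
  rig : ∀ β : L ≃* L, (∀ A, β (a A) = a A) → (∀ A, β (b A) = b A) → (∀ A, β (c A) = c A) →
    β g = g ∨ β (b (-1) * g * (b (-1))⁻¹) = g

end frame

end Cfsg.Agent.OddHalf.NI.Sol
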