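import Cfsg.Agent.OddHalf.NI.SolCore

/-!
# Sol(q): two frames kill each other

`kill`: `Lu`, `Lv` with frames on the same three groups `SL₂(F)`, the roles of the first two interchanged.
-/

set_option autoImplicit false

namespace Cfsg.Agent.OddHalf.NI.Sol

open Subgroup
open scoped commutatorElement

variable {S : Type*} [Group S] {G : Type*} [Group G] {m : ℕ}
variable {δ : MulAut S} {t n z : S}

/-- `v` does not commute with `g` -/
theorem Fr.not_comm (hT : Tor δ t n z m) {L : Subgroup G} {a b c : S →* G} {g : G} (hF : Fr δ t z L a b c g) :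
    b z * g ≠ g * b z := by
  intro h
  have h1 : g⁻¹ * b z * g = b z := by rw [mul_assoc, h, inv_mul_cancel_left]
  have h2 := hF.eb n
  rw [h1, hT.dn, map_mul, ← map_mul, ← hT.cen, map_mul, mul_assoc] at h2
  have h3 : b n * b z = b z * b n := by rw [← map_mul, ← map_mul, hT.cen]
  have h4 : b z = 1 := by
    have h5 : b n * (b z * b z) = b n * b z := by rw [← h2]
    have h6 := mul_left_cancel h5
    exact mul_eq_left.mp h6
  apply hT.z1
  apply hF.ib
  rw [h4, map_one]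

/-- a perfect group centralizing the frame groups and normalizing `L` centralizes `g` -/
theorem Fr.perfect (hT : Tor δ t n z m) (perf : commutator S = ⊤) {L : Subgroup G} {a b c : S →* G} {g : G}
    (hF : Fr δ t z L a b c g) (X : S →* G) (hX : ∀ A, Cen a b c (X A))
    (hL : ∀ A, ∀ x, x ∈ L ↔ X A * x * (X A)⁻¹ ∈ L) (A : S) : X A * g = g * X A := by
  have h1 : ∀ A, ∃ k : G, (k = 1 ∨ k = b z) ∧ Commute (X A * k) g := by
    intro A
    rcases hF.rig (X A) (hL A) (hX A) with h | h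
    · exact ⟨1, Or.inl rfl, by rw [mul_one]; exact h⟩
    · exact ⟨b z, Or.inr rfl, h⟩
  have h2 : ∀ A B : S, Commute (X ⁅A, B⁆) g := by
    intro A B
    obtain ⟨k, hk, hkc⟩ := h1 A
    obtain ⟨l, hl, hlc⟩ := h1 B
    have kc : ∀ C, Commute k (X C) := by
      intro C
      rcases hk with rfl | rfl
      · exact Commute.one_left _
      · exact ((hX C).2.1 z).symm
    have lc : ∀ C, Commute l (X C) := by
      intro C
      rcases hl with rfl | rfl
      · exact Commute.one_left _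
      · exact ((hX C).2.1 z).symm
    have kl : Commute k l := by
      rcases hk with rfl | rfl
      · exact Commute.one_left _
      · rcases hl with rfl | rfl
        · exact Commute.one_right _
        · exact Commute.refl _
    have h3 : X ⁅A, B⁆ = (X A * k) * (X B * l) * (X A * k)⁻¹ * (X B * l)⁻¹ := by
      rw [map_commutatorElement, commutatorElement_def]
      have e1 := (kc B).eq
      have e2 := (lc A).eq
      have e3 := kl.eq
      calc X A * X B * (X A)⁻¹ * (X B)⁻¹ = X A * X B * (l * l⁻¹) * (X A)⁻¹ * (X B)⁻¹ := by group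
        _ = X A * (X B * k) * l * k⁻¹ * (l⁻¹ * (X A)⁻¹) * (X B)⁻¹ := by
            rw [show X A * (X B * k) * l * k⁻¹ * (l⁻¹ * (X A)⁻¹) * (X B)⁻¹ =
              X A * X B * (k * l) * k⁻¹ * l⁻¹ * (X A)⁻¹ * (X B)⁻¹ by group, e3]
            group
        _ = X A * (k * X B) * l * k⁻¹ * ((X A)⁻¹ * l⁻¹) * (X B)⁻¹ := by
            rw [e1]
            have e4 := (lc A).inv_left.inv_right.eq
            rw [e4]
        _ = (X A * k) * (X B * l) * (k⁻¹ * (X A)⁻¹) * (l⁻¹ * (X B)⁻¹) := by group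
        _ = (X A * k) * (X B * l) * (X A * k)⁻¹ * (X B * l)⁻¹ := by
            rw [mul_inv_rev, mul_inv_rev]
    rw [h3]
    exact ((hkc.mul_left hlc).mul_left hkc.inv_left).mul_left hlc.inv_left
  have h3 : commutator S ≤ (centralizer ({g} : Set G)).comap X := by
    rw [commutator_def, Subgroup.commutator_le]
    intro A _ B _
    rw [mem_comap, mem_centralizer_singleton_iff]
    exact (h2 A B).eq
  rw [perf] at h3
  have h4 := h3 (mem_top A)
  rw [mem_comap, mem_centralizer_singleton_iff] at h4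
  exact h4

/-- Uniqueness: elements of `H` centralizing `u` and `v` normalize the three groups. -/
theorem norm_of (hT : Tor δ t n z m) (perf : commutator S = ⊤) {H Lu Lv : Subgroup G} (hLu : Lu ≤ H)
    {U V W U' V' W' : S →* G} {g g' : G}
    (Fu : Fr δ t z Lu U V W g) (Fv : Fr δ t z Lv V' U' W' g')
    {αu αv αw : MulAut S} (hU : ∀ A, U' A = U (αu A)) (hV : ∀ A, V' A = V (αv A)) (hW : ∀ A, W' A = W (αw A))
    (nu : ∀ y ∈ H, Cen U V W y → ∀ x, x ∈ Lu ↔ y * x * y⁻¹ ∈ Lu)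
    (nv : ∀ y ∈ H, Cen U V W y → ∀ x, x ∈ Lv ↔ y * x * y⁻¹ ∈ Lv)
    (nJ : ∀ c ∈ H, c * U z = U z * c → c * V z = V z * c →
      ((∀ A, ∃ B, c * U A * c⁻¹ = U B) ∨ ∀ A, Cen U V W (c * U A * c⁻¹)) ∧
      ((∀ A, ∃ B, c * V A * c⁻¹ = V B) ∨ ∀ A, Cen U V W (c * V A * c⁻¹)) ∧
      ((∀ A, ∃ B, c * W A * c⁻¹ = W B) ∨ ∀ A, Cen U V W (c * W A * c⁻¹))) :
    ∀ c ∈ H, c * U z = U z * c → c * V z = V z * c →
      (∀ A, ∃ B, c * U A * c⁻¹ = U B) ∧ (∀ A, ∃ B, c * V A * c⁻¹ = V B) ∧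
        (∀ A, ∃ B, c * W A * c⁻¹ = W B) := by
  intro c hc cu cv
  have cw : c * W z = W z * c := by
    have h1 : Commute c (U z) := cu
    have h2 : Commute c (V z) := cv
    have h3 : W z = (V z)⁻¹ * U z := by rw [← Fu.prod]; group
    rw [h3]
    exact (h2.inv_right.mul_right h1)
  have fixz : ∀ X : S →* G, c * X z = X z * c → c * X z * c⁻¹ = X z := by
    intro X h
    rw [h, mul_inv_cancel_right]
  obtain ⟨h1, h2, h3⟩ := nJ c hc cu cv
  refine ⟨h1.resolve_right ?_, h2.resolve_right ?_, h3.resolve_right ?_⟩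
  · intro h
    have hcen : ∀ y, Cen U V W y → Cen V' U' W' y := by
      intro y hy
      exact ⟨fun A => by rw [hV]; exact hy.2.1 _, fun A => by rw [hU]; exact hy.1 _,
        fun A => by rw [hW]; exact hy.2.2 _⟩
    have h4 := Fv.perfect hT perf ((MulAut.conj c).toMonoidHom.comp U)
      (fun A => hcen _ (h A)) (fun A => nv _ (mul_mem (mul_mem hc (hLu (Fu.ma A))) (inv_mem hc)) (h A)) z
    change (c * U z * c⁻¹) * g' = g' * (c * U z * c⁻¹) at h4
    rw [fixz U cu] at h4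
    have h5 : U' z = U z := by rw [hU, hT.aut_z]
    rw [← h5] at h4
    exact Fv.not_comm hT h4
  · intro h
    have h4 := Fu.perfect hT perf ((MulAut.conj c).toMonoidHom.comp V)
      (fun A => h A) (fun A => nu _ (mul_mem (mul_mem hc (hLu (Fu.mb A))) (inv_mem hc)) (h A)) z
    change (c * V z * c⁻¹) * g = g * (c * V z * c⁻¹) at h4
    rw [fixz V cv] at h4
    exact Fu.not_comm hT h4
  · intro h
    have h4 := Fu.perfect hT perf ((MulAut.conj c).toMonoidHom.comp W)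
      (fun A => h A) (fun A => nu _ (mul_mem (mul_mem hc (hLu (Fu.mc A))) (inv_mem hc)) (h A)) z
    change (c * W z * c⁻¹) * g = g * (c * W z * c⁻¹) at h4
    rw [fixz W cw] at h4
    have h5 : Commute (W z) g := h4
    have h6 : Commute (U z) g := (Fu.cen g Fu.mg).symm
    apply Fu.not_comm hT
    have h7 : V z = U z * (W z)⁻¹ := by rw [← Fu.prod]; group
    rw [h7]
    exact h6.mul_left h5.inv_left

/-- `p ∈ {1, n}` -/
theorem Tor.zp (hT : Tor δ t n z m) {p : S} (hp : p = 1 ∨ p = n) :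
    ∃ q : S, (q = 1 ∨ q = z) ∧ δ p = q * p ∧ ∃ ε : ℤ, p * t * p⁻¹ = t ^ ε := by
  rcases hp with rfl | rfl
  · exact ⟨1, Or.inl rfl, by rw [map_one, one_mul], 1, by group⟩
  · exact ⟨z, Or.inr rfl, hT.dn, -1, by rw [hT.nt, zpow_neg_one]⟩

/-- `X(p) e X(p)⁻¹ = X(q) e` for `e` acting as `δ` -/
theorem conj_e {X : S →* G} {e : G} (he : ∀ A, e * X A = X (δ A) * e) {p q : S} (hq : δ p = q * p)
    (hqq : q * q = 1) : X p * e * (X p)⁻¹ = X q * e := by
  have h1 := he p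
  rw [hq, map_mul] at h1
  have h2 : X q * X q = 1 := by rw [← map_mul, hqq, map_one]
  have h3 : X p * e = X q * e * X p := by
    calc X p * e = (X q * X q) * (X p * e) := by rw [h2, one_mul]
      _ = X q * (X q * X p * e) := by group
      _ = X q * e * X p := by rw [← h1]; group
  rw [h3, mul_inv_cancel_right]

theorem kill_aligned (hT : Tor δ t n z m) {H Lu Lv : Subgroup G} (hLu : Lu ≤ H) (hLv : Lv ≤ H)
    {U V W U' V' W' : S →* G} {g g' : G}
    (Fu : Fr δ t z Lu U V W g) (Fv : Fr δ t z Lv V' U' W' g')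
    {αu αv αw : MulAut S} (hU : ∀ A, U' A = U (αu A)) (hV : ∀ A, V' A = V (αv A)) (hW : ∀ A, W' A = W (αw A))
    {ku kv kw : ℤ} (tu : αu t = t ^ ku) (tv : αv t = t ^ kv) (tw : αw t = t ^ kw)
    (du : ∀ A, αu (δ A) = δ (αu A)) (dv : ∀ A, αv (δ A) = δ (αv A)) (dw : ∀ A, αw (δ A) = δ (αw A))
    (nu : ∀ y ∈ H, Cen U V W y → ∀ x, x ∈ Lu ↔ y * x * y⁻¹ ∈ Lu)
    (nv : ∀ y ∈ H, Cen U V W y → ∀ x, x ∈ Lv ↔ y * x * y⁻¹ ∈ Lv)
    (norm : ∀ c ∈ H, c * U z = U z * c → c * V z = V z * c →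
      (∀ A, ∃ B, c * U A * c⁻¹ = U B) ∧ (∀ A, ∃ B, c * V A * c⁻¹ = V B) ∧
        (∀ A, ∃ B, c * W A * c⁻¹ = W B)) : False := by
  obtain ⟨e, he⟩ : ∃ e, e = g⁻¹ * V z * g := ⟨_, rfl⟩
  obtain ⟨e', he'⟩ : ∃ e', e' = g'⁻¹ * U' z * g' := ⟨_, rfl⟩
  have eU : ∀ A, e * U A = U (δ A) * e := by rw [he]; exact Fu.ea
  have eV : ∀ A, e * V A = V (δ A) * e := by rw [he]; exact Fu.eb
  have eW : ∀ A, e * W A = W (δ A) * e := by rw [he]; exact Fu.ec
  have e'V' : ∀ A, e' * V' A = V' (δ A) * e' := by rw [he']; exact Fv.ea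
  have e'U' : ∀ A, e' * U' A = U' (δ A) * e' := by rw [he']; exact Fv.eb
  have e'W' : ∀ A, e' * W' A = W' (δ A) * e' := by rw [he']; exact Fv.ec
  have tr : ∀ (X X' : S →* G) (α : MulAut S), (∀ A, X' A = X (α A)) → (∀ A, α (δ A) = δ (α A)) →
      (∀ A, e' * X' A = X' (δ A) * e') → ∀ A, e' * X A = X (δ A) * e' := by
    intro X X' α h1 h2 h3 A
    have h4 := h3 (α.symm A)
    rw [h1, h1, h2, MulEquiv.apply_symm_apply] at h4
    exact h4
  have e'U := tr U U' αu hU du e'U'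
  have e'V := tr V V' αv hV dv e'V'
  have e'W := tr W W' αw hW dw e'W'
  obtain ⟨y, hy⟩ : ∃ y, y = e' * e⁻¹ := ⟨_, rfl⟩
  have cenX : ∀ X : S →* G, (∀ A, e * X A = X (δ A) * e) → (∀ A, e' * X A = X (δ A) * e') →
      ∀ A, y * X A = X A * y := by
    intro X h1 h2 A
    have h3 := h1 (δ.symm A)
    have h4 := h2 (δ.symm A)
    rw [MulEquiv.apply_symm_apply] at h3 h4
    calc y * X A = e' * (e⁻¹ * (X A * e) * e⁻¹) := by rw [hy]; group
      _ = e' * X (δ.symm A) * e⁻¹ := by rw [← h3]; group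
      _ = X A * y := by rw [h4, hy]; group
  have hyc : Cen U V W y := ⟨cenX U eU e'U, cenX V eV e'V, cenX W eW e'W⟩
  have heL : e ∈ Lu := by rw [he]; exact mul_mem (mul_mem (inv_mem Fu.mg) (Fu.mb z)) Fu.mg
  have heL' : e' ∈ Lv := by rw [he']; exact mul_mem (mul_mem (inv_mem Fv.mg) (Fv.mb z)) Fv.mg
  have hyH : y ∈ H := by rw [hy]; exact mul_mem (hLv heL') (inv_mem (hLu heL))
  have hyc' : Cen V' U' W' y :=
    ⟨fun A => by rw [hV]; exact hyc.2.1 _, fun A => by rw [hU]; exact hyc.1 _, fun A => by rw [hW]; exact hyc.2.2 _⟩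
  obtain ⟨pv, qv, hpv, hqv, hpqv, hgv⟩ : ∃ p q : S, (p = 1 ∨ p = n) ∧ (q = 1 ∨ q = z) ∧ δ p = q * p ∧
      Commute (y * V q) g := by
    rcases Fu.rig y (nu y hyH hyc) hyc with h | h
    · exact ⟨1, 1, Or.inl rfl, Or.inl rfl, by rw [map_one, one_mul], by rw [map_one, mul_one]; exact h⟩
    · exact ⟨n, z, Or.inr rfl, Or.inr rfl, hT.dn, h⟩
  obtain ⟨pu, qu, hpu, hqu, hpqu, hgu⟩ : ∃ p q : S, (p = 1 ∨ p = n) ∧ (q = 1 ∨ q = z) ∧ δ p = q * p ∧
      Commute (y * U' q) g' := by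
    rcases Fv.rig y (nv y hyH hyc) hyc' with h | h
    · exact ⟨1, 1, Or.inl rfl, Or.inl rfl, by rw [map_one, one_mul], by rw [map_one, mul_one]; exact h⟩
    · exact ⟨n, z, Or.inr rfl, Or.inr rfl, hT.dn, h⟩
  have sq : ∀ q : S, (q = 1 ∨ q = z) → q * q = 1 := by
    rintro q (rfl | rfl)
    · exact one_mul 1
    · exact hT.zz
  have cq : ∀ q : S, (q = 1 ∨ q = z) → ∀ A, q * A = A * q := by
    rintro q (rfl | rfl) A
    · rw [one_mul, mul_one]
    · exact (hT.cen A).symm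
  have aq : ∀ q : S, (q = 1 ∨ q = z) → ∀ α : MulAut S, α q = q := by
    rintro q (rfl | rfl) α
    · exact map_one α
    · exact hT.aut_z α
  have hUq : U' qu = U qu := by rw [hU, aq qu hqu]
  have hVq : V' qv = V qv := by rw [hV, aq qv hqv]
  -- `U qu` commutes with `g`, `V qv` with `g'`
  have c1 : Commute (U qu) g := by
    rcases hqu with h | h
    · rw [h, map_one]; exact Commute.one_left _
    · rw [h]; exact (Fu.cen g Fu.mg).symm
  have c2 : Commute (V qv) g' := by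
    rw [← hVq]
    rcases hqv with h | h
    · rw [h, map_one]; exact Commute.one_left _
    · rw [h]; exact (Fv.cen g' Fv.mg).symm
  obtain ⟨y0, hy0⟩ : ∃ y0, y0 = y * V qv * U qu := ⟨_, rfl⟩
  have y0g : Commute y0 g := by rw [hy0]; exact hgv.mul_left c1
  have y0g' : Commute y0 g' := by
    have h1 : y0 = (y * U qu) * V qv := by rw [hy0, mul_assoc, mul_assoc, Fu.ab]
    rw [h1]
    rw [hUq] at hgu
    exact hgu.mul_left c2
  have y0c : Cen U V W y0 := by
    rw [hy0]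
    refine ⟨fun A => ?_, fun A => ?_, fun A => ?_⟩
    · have h1 : Commute y (U A) := hyc.1 A
      have h2 : Commute (V qv) (U A) := (Fu.ab A qv).symm
      have h3 : Commute (U qu) (U A) := by
        rw [Commute, SemiconjBy, ← map_mul, cq qu hqu, map_mul]
      exact (h1.mul_left h2).mul_left h3
    · have h1 : Commute y (V A) := hyc.2.1 A
      have h2 : Commute (V qv) (V A) := by
        rw [Commute, SemiconjBy, ← map_mul, cq qv hqv, map_mul]
      have h3 : Commute (U qu) (V A) := Fu.ab qu A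
      exact (h1.mul_left h2).mul_left h3
    · have h1 : Commute y (W A) := hyc.2.2 A
      have h2 : Commute (V qv) (W A) := Fu.bc qv A
      have h3 : Commute (U qu) (W A) := Fu.ac qu A
      exact (h1.mul_left h2).mul_left h3
  -- the new frame
  obtain ⟨x, hx⟩ : ∃ x, x = V' pv * U' pu := ⟨_, rfl⟩
  have hxL : x ∈ Lv := by rw [hx]; exact mul_mem (Fv.ma _) (Fv.mb _)
  have Fv2 := Fv.conj hxL
  have y0x : Commute y0 x := by
    rw [hx, hV, hU]
    have h1 : Commute y0 (V (αv pv)) := y0c.2.1 _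
    have h2 : Commute y0 (U (αu pu)) := y0c.1 _
    exact h1.mul_right h2
  have hU2 : ∀ A, ((MulAut.conj x).toMonoidHom.comp U') A = U ((αu * MulAut.conj pu) A) := by
    intro A
    change x * U' A * x⁻¹ = U (αu (pu * A * pu⁻¹))
    rw [← hU, map_mul, map_mul, map_inv, hx]
    have h1 : Commute (V' pv) (U' pu * U' A * (U' pu)⁻¹) := by
      have h2 : ∀ B, Commute (V' pv) (U' B) := fun B => Fv.ab pv B
      exact ((h2 _).mul_right (h2 _)).mul_right (h2 _).inv_right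
    calc V' pv * U' pu * U' A * (V' pv * U' pu)⁻¹ = V' pv * (U' pu * U' A * (U' pu)⁻¹) * (V' pv)⁻¹ := by group
      _ = U' pu * U' A * (U' pu)⁻¹ := by rw [h1.eq, mul_inv_cancel_right]
  have hV2 : ∀ A, ((MulAut.conj x).toMonoidHom.comp V') A = V ((αv * MulAut.conj pv) A) := by
    intro A
    change x * V' A * x⁻¹ = V (αv (pv * A * pv⁻¹))
    rw [← hV, map_mul, map_mul, map_inv, hx]
    have h1 : Commute (U' pu) (V' A) := (Fv.ab A pu).symm
    calc V' pv * U' pu * V' A * (V' pv * U' pu)⁻¹ = V' pv * (U' pu * V' A * (U' pu)⁻¹) * (V' pv)⁻¹ := by group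
      _ = V' pv * V' A * (V' pv)⁻¹ := by rw [h1.eq, mul_inv_cancel_right]
  have hW2 : ∀ A, ((MulAut.conj x).toMonoidHom.comp W') A = W (αw A) := by
    intro A
    change x * W' A * x⁻¹ = W (αw A)
    rw [← hW, hx]
    have h1 : Commute (V' pv * U' pu) (W' A) := by
      have h2 : Commute (V' pv) (W' A) := Fv.ac pv A
      have h3 : Commute (U' pu) (W' A) := Fv.bc pu A
      exact h2.mul_left h3
    rw [h1.eq, mul_inv_cancel_right]
  obtain ⟨-, -, -, εu, hεu⟩ := hT.zp hpu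
  obtain ⟨-, -, -, εv, hεv⟩ := hT.zp hpv
  refine core hT hLu hLv Fu Fv2 hU2 hV2 hW2 (ku := ku * εu) (kv := kv * εv) (kw := kw) ?_ ?_ tw (y0 := y0)
    y0g.eq ?_ y0c ?_ norm
  · change αu (pu * t * pu⁻¹) = _
    rw [hεu, map_zpow, tu, zpow_mul]
  · change αv (pv * t * pv⁻¹) = _
    rw [hεv, map_zpow, tv, zpow_mul]
  · change y0 * (x * g' * x⁻¹) = (x * g' * x⁻¹) * y0
    exact ((y0x.mul_right y0g').mul_right y0x.inv_right).eq
  · have h1 : (MulAut.conj x g')⁻¹ * ((MulAut.conj x).toMonoidHom.comp U') z * (MulAut.conj x g') =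
        x * e' * x⁻¹ := by
      change (x * g' * x⁻¹)⁻¹ * (x * U' z * x⁻¹) * (x * g' * x⁻¹) = _
      rw [he']
      group
    rw [h1, hx, ← he]
    have h2 := conj_e e'U' hpqu (sq qu hqu)
    have h3 := conj_e e'V' hpqv (sq qv hqv)
    have h4 : Commute (V' pv) (U' qu) := Fv.ab pv qu
    have h5 : e' = y * e := by rw [hy]; group
    calc V' pv * U' pu * e' * (V' pv * U' pu)⁻¹ = V' pv * (U' pu * e' * (U' pu)⁻¹) * (V' pv)⁻¹ := by group
      _ = V' pv * (U' qu * e') * (V' pv)⁻¹ := by rw [h2]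
      _ = (V' pv * U' qu) * e' * (V' pv)⁻¹ := by group
      _ = U' qu * (V' pv * e' * (V' pv)⁻¹) := by rw [h4.eq]; group
      _ = U' qu * (V' qv * e') := by rw [h3]
      _ = U qu * (V qv * y) * e := by rw [hUq, hVq, h5]; group
      _ = (U qu * y) * V qv * e := by rw [← hyc.2.1 qv]; group
      _ = y * (U qu * V qv) * e := by rw [← hyc.1 qu]; group
      _ = y0 * e := by rw [Fu.ab, hy0]; group

/-- **THE KILL** -/
theorem kill (hT : Tor δ t n z m) (perf : commutator S = ⊤) {H Lu Lv : Subgroup G} (hLu : Lu ≤ H) (hLv : Lv ≤ H)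
    {U V W U' V' W' : S →* G} {g g' : G}
    (Fu : Fr δ t z Lu U V W g) (Fv : Fr δ t z Lv V' U' W' g')
    {αu αv αw : MulAut S} (hU : ∀ A, U' A = U (αu A)) (hV : ∀ A, V' A = V (αv A)) (hW : ∀ A, W' A = W (αw A))
    (nu : ∀ y ∈ H, Cen U V W y → ∀ x, x ∈ Lu ↔ y * x * y⁻¹ ∈ Lu)
    (nv : ∀ y ∈ H, Cen U V W y → ∀ x, x ∈ Lv ↔ y * x * y⁻¹ ∈ Lv)
    (nJ : ∀ c ∈ H, c * U z = U z * c → c * V z = V z * c →
      ((∀ A, ∃ B, c * U A * c⁻¹ = U B) ∨ ∀ A, Cen U V W (c * U A * c⁻¹)) ∧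
      ((∀ A, ∃ B, c * V A * c⁻¹ = V B) ∨ ∀ A, Cen U V W (c * V A * c⁻¹)) ∧
      ((∀ A, ∃ B, c * W A * c⁻¹ = W B) ∨ ∀ A, Cen U V W (c * W A * c⁻¹))) : False := by
  have norm := norm_of hT perf hLu Fu Fv hU hV hW nu nv nJ
  obtain ⟨hu, ku, tu, du⟩ := hT.conj αu
  obtain ⟨hv, kv, tv, dv⟩ := hT.conj αv
  obtain ⟨hw, kw, tw, dw⟩ := hT.conj αw
  obtain ⟨x, hx⟩ : ∃ x, x = V' hv * U' hu * W' hw := ⟨_, rfl⟩
  have hxL : x ∈ Lv := by rw [hx]; exact mul_mem (mul_mem (Fv.ma _) (Fv.mb _)) (Fv.mc _)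
  have Fv2 := Fv.conj hxL
  have hU2 : ∀ A, ((MulAut.conj x).toMonoidHom.comp U') A = U ((αu * MulAut.conj hu) A) := by
    intro A
    change x * U' A * x⁻¹ = U (αu (hu * A * hu⁻¹))
    rw [← hU, map_mul, map_mul, map_inv, hx]
    have h0 : Commute (W' hw) (U' A) := (Fv.bc A hw).symm
    have h1 : Commute (V' hv) (U' hu * U' A * (U' hu)⁻¹) := by
      have h2 : ∀ B, Commute (V' hv) (U' B) := fun B => Fv.ab hv B
      exact ((h2 _).mul_right (h2 _)).mul_right (h2 _).inv_right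
    calc V' hv * U' hu * W' hw * U' A * (V' hv * U' hu * W' hw)⁻¹ =
        V' hv * (U' hu * (W' hw * U' A * (W' hw)⁻¹) * (U' hu)⁻¹) * (V' hv)⁻¹ := by group
      _ = V' hv * (U' hu * U' A * (U' hu)⁻¹) * (V' hv)⁻¹ := by rw [h0.eq, mul_inv_cancel_right]
      _ = U' hu * U' A * (U' hu)⁻¹ := by rw [h1.eq, mul_inv_cancel_right]
  have hV2 : ∀ A, ((MulAut.conj x).toMonoidHom.comp V') A = V ((αv * MulAut.conj hv) A) := by
    intro A
    change x * V' A * x⁻¹ = V (αv (hv * A * hv⁻¹))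
    rw [← hV, map_mul, map_mul, map_inv, hx]
    have h0 : Commute (U' hu * W' hw) (V' A) := by
      have h2 : Commute (U' hu) (V' A) := (Fv.ab A hu).symm
      have h3 : Commute (W' hw) (V' A) := (Fv.ac A hw).symm
      exact h2.mul_left h3
    calc V' hv * U' hu * W' hw * V' A * (V' hv * U' hu * W' hw)⁻¹ =
        V' hv * ((U' hu * W' hw) * V' A * (U' hu * W' hw)⁻¹) * (V' hv)⁻¹ := by group
      _ = V' hv * V' A * (V' hv)⁻¹ := by rw [h0.eq, mul_inv_cancel_right]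
  have hW2 : ∀ A, ((MulAut.conj x).toMonoidHom.comp W') A = W ((αw * MulAut.conj hw) A) := by
    intro A
    change x * W' A * x⁻¹ = W (αw (hw * A * hw⁻¹))
    rw [← hW, map_mul, map_mul, map_inv, hx]
    have h0 : Commute (V' hv * U' hu) (W' hw * W' A * (W' hw)⁻¹) := by
      have h2 : ∀ B, Commute (V' hv * U' hu) (W' B) := fun B =>
        (show Commute (V' hv) (W' B) from Fv.ac hv B).mul_left (show Commute (U' hu) (W' B) from Fv.bc hu B)
      exact ((h2 _).mul_right (h2 _)).mul_right (h2 _).inv_right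
    calc V' hv * U' hu * W' hw * W' A * (V' hv * U' hu * W' hw)⁻¹ =
        (V' hv * U' hu) * (W' hw * W' A * (W' hw)⁻¹) * (V' hv * U' hu)⁻¹ := by group
      _ = W' hw * W' A * (W' hw)⁻¹ := by rw [h0.eq, mul_inv_cancel_right]
  exact kill_aligned hT hLu hLv Fu Fv2 hU2 hV2 hW2 tu tv tw du dv dw nu nv norm

end Cfsg.Agent.OddHalf.NI.Sol
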