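import Cfsg.Agent.OddHalf.NI.SolTor

/-!
# Sol(q): the 8-dimensional space `M₂(F) × M₂(F)` and the 3-cycle `ḡ`

`D² ∈ F`, `N² = -1`, `N D = - D N`; `κ X = D X D⁻¹`; `K = F[D]`, `M₂ = K ⊕ K N`; `p`, `q` the two projections;
`ḡ(X,Y) = (q Y - (q X) N, p Y + (p X) N)`.
-/

set_option autoImplicit false

namespace Cfsg.Agent.OddHalf.NI.Sol

open Matrix

abbrev M2 (F : Type*) [Field F] := Matrix (Fin 2) (Fin 2) F

variable {F : Type*} [Field F]

/-- the data -/
structure QD (D Di N T Ti : M2 F) : Prop where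
  two : (2 : F) ≠ 0
  dd : D * Di = 1
  dd' : Di * D = 1
  sc : ∃ c : F, D * D = c • (1 : M2 F)
  trd : D.trace = 0
  trn : N.trace = 0
  detn : N.det = 1
  nn : N * N = -1
  nd : N * D = -(D * N)
  tt : T * Ti = 1
  tt' : Ti * T = 1
  t : ∃ a b : F, b ≠ 0 ∧ T = a • (1 : M2 F) + b • D ∧ Ti = a • (1 : M2 F) - b • D

/-- `κ X = D X D⁻¹` -/
def kap (D Di : M2 F) : M2 F →ₗ[F] M2 F where
  toFun X := D * X * Di
  map_add' X Y := by rw [Matrix.mul_add, Matrix.add_mul]
  map_smul' c X := by rw [Matrix.mul_smul, Matrix.smul_mul]; rfl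

/-- the projection to `K` -/
def pl (D Di : M2 F) : M2 F →ₗ[F] M2 F := (2 : F)⁻¹ • (LinearMap.id + kap D Di)

/-- the projection to `K N` -/
def ql (D Di : M2 F) : M2 F →ₗ[F] M2 F := (2 : F)⁻¹ • (LinearMap.id - kap D Di)

theorem kap_apply (D Di X : M2 F) : kap D Di X = D * X * Di := rfl

theorem pl_apply (D Di X : M2 F) : pl D Di X = (2 : F)⁻¹ • (X + kap D Di X) := rfl

theorem ql_apply (D Di X : M2 F) : ql D Di X = (2 : F)⁻¹ • (X - kap D Di X) := rfl

namespace QD

variable {D Di N T Ti : M2 F} (h : QD D Di N T Ti)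

include h

theorem kap_kap (X : M2 F) : kap D Di (kap D Di X) = X := by
  obtain ⟨c, hc⟩ := h.sc
  rw [kap_apply, kap_apply]
  calc D * (D * X * Di) * Di = (D * D) * X * Di * Di := by simp only [Matrix.mul_assoc]
    _ = X * (D * D) * Di * Di := by rw [hc]; simp
    _ = X * D * (D * Di) * Di := by simp only [Matrix.mul_assoc]
    _ = X := by rw [h.dd, Matrix.mul_one, Matrix.mul_assoc, h.dd, Matrix.mul_one]

theorem kap_mul (X Y : M2 F) : kap D Di (X * Y) = kap D Di X * kap D Di Y := by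
  rw [kap_apply, kap_apply, kap_apply]
  calc D * (X * Y) * Di = D * X * 1 * Y * Di := by simp only [Matrix.mul_assoc, Matrix.mul_one, Matrix.one_mul]
    _ = D * X * (Di * D) * Y * Di := by rw [h.dd']
    _ = D * X * Di * (D * Y * Di) := by simp only [Matrix.mul_assoc]

theorem kap_one : kap D Di 1 = 1 := by rw [kap_apply, Matrix.mul_one, h.dd]

theorem kap_N : kap D Di N = -N := by
  rw [kap_apply]
  have : D * N = -(N * D) := by rw [h.nd, neg_neg]
  rw [this, Matrix.neg_mul, Matrix.mul_assoc, h.dd, Matrix.mul_one]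

theorem half_add (X : M2 F) : (2 : F)⁻¹ • (X + X) = X := by
  rw [← two_smul F X, smul_smul, inv_mul_cancel₀ h.two, one_smul]

theorem add_pq (X : M2 F) : pl D Di X + ql D Di X = X := by
  rw [pl_apply, ql_apply, ← smul_add]
  have : X + kap D Di X + (X - kap D Di X) = X + X := by abel
  rw [this, h.half_add]

theorem p_of {X : M2 F} (hX : kap D Di X = X) : pl D Di X = X := by
  rw [pl_apply, hX, h.half_add]

omit h in
theorem q_of_p {X : M2 F} (hX : kap D Di X = X) : ql D Di X = 0 := by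
  rw [ql_apply, hX, sub_self, smul_zero]

theorem q_of {X : M2 F} (hX : kap D Di X = -X) : ql D Di X = X := by
  rw [ql_apply, hX, sub_neg_eq_add, h.half_add]

omit h in
theorem p_of_q {X : M2 F} (hX : kap D Di X = -X) : pl D Di X = 0 := by
  rw [pl_apply, hX, add_neg_cancel, smul_zero]

theorem kp (X : M2 F) : kap D Di (pl D Di X) = pl D Di X := by
  rw [pl_apply, map_smul, map_add, h.kap_kap, add_comm X]

theorem kq (X : M2 F) : kap D Di (ql D Di X) = -ql D Di X := by
  rw [ql_apply, map_smul, map_sub, h.kap_kap, ← smul_neg, neg_sub]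

theorem kpN (X : M2 F) : kap D Di (pl D Di X * N) = -(pl D Di X * N) := by
  rw [h.kap_mul, h.kp, h.kap_N, Matrix.mul_neg]

theorem kqN (X : M2 F) : kap D Di (ql D Di X * N) = ql D Di X * N := by
  rw [h.kap_mul, h.kq, h.kap_N, neg_mul_neg]

theorem pp (X : M2 F) : pl D Di (pl D Di X) = pl D Di X := h.p_of (h.kp X)
theorem qp (X : M2 F) : ql D Di (pl D Di X) = 0 := q_of_p (h.kp X)
theorem qq (X : M2 F) : ql D Di (ql D Di X) = ql D Di X := h.q_of (h.kq X)
theorem pq (X : M2 F) : pl D Di (ql D Di X) = 0 := p_of_q (h.kq X)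
theorem p_pN (X : M2 F) : pl D Di (pl D Di X * N) = 0 := p_of_q (h.kpN X)
theorem q_pN (X : M2 F) : ql D Di (pl D Di X * N) = pl D Di X * N := h.q_of (h.kpN X)
theorem p_qN (X : M2 F) : pl D Di (ql D Di X * N) = ql D Di X * N := h.p_of (h.kqN X)
theorem q_qN (X : M2 F) : ql D Di (ql D Di X * N) = 0 := q_of_p (h.kqN X)

theorem NN (X : M2 F) : X * N * N = -X := by rw [Matrix.mul_assoc, h.nn, Matrix.mul_neg, Matrix.mul_one]

theorem NN' (X : M2 F) : N * (N * X) = -X := by rw [← Matrix.mul_assoc, h.nn, Matrix.neg_mul, Matrix.one_mul]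

end QD

/-- `ḡ` -/
def gb (D Di N : M2 F) : (M2 F × M2 F) →ₗ[F] (M2 F × M2 F) where
  toFun x := (ql D Di x.2 - ql D Di x.1 * N, pl D Di x.2 + pl D Di x.1 * N)
  map_add' x y := by
    ext1
    · simp only [Prod.snd_add, Prod.fst_add, map_add, Matrix.add_mul]; abel
    · simp only [Prod.snd_add, Prod.fst_add, map_add, Matrix.add_mul]; abel
  map_smul' c x := by
    ext1
    · simp only [Prod.smul_snd, Prod.smul_fst, map_smul, Matrix.smul_mul, RingHom.id_apply, smul_sub]
    · simp only [Prod.smul_snd, Prod.smul_fst, map_smul, Matrix.smul_mul, RingHom.id_apply, smul_add]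

theorem gb_apply (D Di N X Y : M2 F) : gb D Di N (X, Y) =
    (ql D Di Y - ql D Di X * N, pl D Di Y + pl D Di X * N) := rfl

namespace QD

variable {D Di N T Ti : M2 F} (h : QD D Di N T Ti)

include h

theorem gb_gb (X Y : M2 F) : gb D Di N (gb D Di N (X, Y)) =
    (pl D Di X * N - ql D Di Y * N, pl D Di Y + ql D Di X) := by
  rw [gb_apply, gb_apply]
  simp only [map_add, map_sub, h.pp, h.qp, h.qq, h.pq, h.p_pN, h.q_pN, h.p_qN, h.q_qN, h.NN, zero_add, add_zero,
    sub_zero, zero_sub, Matrix.neg_mul, neg_neg]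

theorem gb_cube (x : M2 F × M2 F) : gb D Di N (gb D Di N (gb D Di N x)) = x := by
  obtain ⟨X, Y⟩ := x
  rw [h.gb_gb, gb_apply]
  simp only [map_add, map_sub, h.pp, h.qp, h.qq, h.pq, h.p_pN, h.q_pN, h.p_qN, h.q_qN, h.NN, zero_add, add_zero,
    sub_zero, zero_sub, Matrix.neg_mul, neg_neg, sub_neg_eq_add]
  rw [add_comm (ql D Di X), h.add_pq, h.add_pq]

/-- `D` commutes or anticommutes -/
theorem comm_D {A : M2 F} (hA : kap D Di A = A) : D * A = A * D := by
  rw [kap_apply] at hA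
  calc D * A = D * A * (Di * D) := by rw [h.dd', Matrix.mul_one]
    _ = (D * A * Di) * D := by simp only [Matrix.mul_assoc]
    _ = A * D := by rw [hA]

theorem anti_D {B : M2 F} (hB : kap D Di B = -B) : D * B = -(B * D) := by
  rw [kap_apply] at hB
  calc D * B = D * B * (Di * D) := by rw [h.dd', Matrix.mul_one]
    _ = (D * B * Di) * D := by simp only [Matrix.mul_assoc]
    _ = -(B * D) := by rw [hB, Matrix.neg_mul]

theorem kap_of_comm {A : M2 F} (hA : D * A = A * D) : kap D Di A = A := by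
  rw [kap_apply, hA, Matrix.mul_assoc, h.dd, Matrix.mul_one]

theorem kap_of_anti {A : M2 F} (hA : D * A = -(A * D)) : kap D Di A = -A := by
  rw [kap_apply, hA, Matrix.neg_mul, Matrix.mul_assoc, h.dd, Matrix.mul_one]

theorem comm_T {A : M2 F} (hA : kap D Di A = A) : T * A = A * T := by
  obtain ⟨a, b, -, hT, -⟩ := h.t
  rw [hT, Matrix.add_mul, Matrix.mul_add, Matrix.smul_mul, Matrix.smul_mul, Matrix.mul_smul, Matrix.mul_smul,
    Matrix.one_mul, Matrix.mul_one, h.comm_D hA]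

theorem comm_Ti {A : M2 F} (hA : kap D Di A = A) : Ti * A = A * Ti := by
  obtain ⟨a, b, -, -, hT⟩ := h.t
  rw [hT, Matrix.sub_mul, Matrix.mul_sub, Matrix.smul_mul, Matrix.smul_mul, Matrix.mul_smul, Matrix.mul_smul,
    Matrix.one_mul, Matrix.mul_one, h.comm_D hA]

theorem anti_T {A : M2 F} (hA : kap D Di A = -A) : T * A = A * Ti := by
  obtain ⟨a, b, -, hT, hTi⟩ := h.t
  rw [hT, hTi, Matrix.add_mul, Matrix.mul_sub, Matrix.smul_mul, Matrix.smul_mul, Matrix.mul_smul, Matrix.mul_smul,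
    Matrix.one_mul, Matrix.mul_one, h.anti_D hA, smul_neg, sub_eq_add_neg]

theorem anti_Ti {A : M2 F} (hA : kap D Di A = -A) : Ti * A = A * T := by
  obtain ⟨a, b, -, hT, hTi⟩ := h.t
  rw [hT, hTi, Matrix.sub_mul, Matrix.mul_add, Matrix.smul_mul, Matrix.smul_mul, Matrix.mul_smul, Matrix.mul_smul,
    Matrix.one_mul, Matrix.mul_one, h.anti_D hA, smul_neg, sub_neg_eq_add]

theorem kap_T : kap D Di T = T := by
  apply h.kap_of_comm
  obtain ⟨a, b, -, hT, -⟩ := h.t
  rw [hT, Matrix.add_mul, Matrix.mul_add, Matrix.smul_mul, Matrix.smul_mul, Matrix.mul_smul, Matrix.mul_smul,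
    Matrix.one_mul, Matrix.mul_one]

theorem kap_Ti : kap D Di Ti = Ti := by
  apply h.kap_of_comm
  obtain ⟨a, b, -, -, hT⟩ := h.t
  rw [hT, Matrix.sub_mul, Matrix.mul_sub, Matrix.smul_mul, Matrix.smul_mul, Matrix.mul_smul, Matrix.mul_smul,
    Matrix.one_mul, Matrix.mul_one]

/-- `κ` commutes with `X ↦ A X B`, `A`, `B` in `K` -/
theorem p_mul {A B : M2 F} (hA : kap D Di A = A) (hB : kap D Di B = B) (X : M2 F) :
    pl D Di (A * X * B) = A * pl D Di X * B := by
  rw [pl_apply, pl_apply, h.kap_mul, h.kap_mul, hA, hB, Matrix.mul_smul, Matrix.smul_mul, Matrix.mul_add,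
    Matrix.add_mul]

theorem q_mul {A B : M2 F} (hA : kap D Di A = A) (hB : kap D Di B = B) (X : M2 F) :
    ql D Di (A * X * B) = A * ql D Di X * B := by
  rw [ql_apply, ql_apply, h.kap_mul, h.kap_mul, hA, hB, Matrix.mul_smul, Matrix.smul_mul, Matrix.mul_sub,
    Matrix.sub_mul]

/-- `κ` commutes with `X ↦ N X N` -/
theorem p_NN (X : M2 F) : pl D Di (N * X * N) = N * pl D Di X * N := by
  rw [pl_apply, pl_apply, h.kap_mul, h.kap_mul, h.kap_N, Matrix.mul_smul, Matrix.smul_mul, Matrix.mul_add,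
    Matrix.add_mul, Matrix.neg_mul, neg_mul_neg]

theorem q_NN (X : M2 F) : ql D Di (N * X * N) = N * ql D Di X * N := by
  rw [ql_apply, ql_apply, h.kap_mul, h.kap_mul, h.kap_N, Matrix.mul_smul, Matrix.smul_mul, Matrix.mul_sub,
    Matrix.sub_mul, Matrix.neg_mul, neg_mul_neg]

theorem TT (X : M2 F) : T * (Ti * X) = X := by rw [← Matrix.mul_assoc, h.tt, Matrix.one_mul]
theorem TT' (X : M2 F) : Ti * (T * X) = X := by rw [← Matrix.mul_assoc, h.tt', Matrix.one_mul]
theorem TT2 (X : M2 F) : X * T * Ti = X := by rw [Matrix.mul_assoc, h.tt, Matrix.mul_one]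
theorem TT2' (X : M2 F) : X * Ti * T = X := by rw [Matrix.mul_assoc, h.tt', Matrix.mul_one]

/-- `ḡ ē = v̄ ḡ` -/
theorem gb_e (X Y : M2 F) : gb D Di N (kap D Di X, kap D Di Y) =
    (-(gb D Di N (X, Y)).1, (gb D Di N (X, Y)).2) := by
  have hk : ∀ Z, ql D Di (kap D Di Z) = -ql D Di Z := by
    intro Z
    rw [ql_apply, ql_apply, h.kap_kap, ← smul_neg, neg_sub]
  have hk' : ∀ Z, pl D Di (kap D Di Z) = pl D Di Z := by
    intro Z
    rw [pl_apply, pl_apply, h.kap_kap, add_comm]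
  rw [gb_apply, gb_apply, hk, hk, hk', hk', neg_sub, Matrix.neg_mul]
  congr 1
  abel

/-- `ḡ v̄ = v̄ ē ḡ` -/
theorem gb_v (X Y : M2 F) : gb D Di N (-X, Y) =
    (-kap D Di (gb D Di N (X, Y)).1, kap D Di (gb D Di N (X, Y)).2) := by
  rw [gb_apply, gb_apply]
  simp only [map_sub, map_add, map_neg, h.kq, h.kp, h.kpN, h.kqN, Matrix.neg_mul]
  congr 1
  abel

theorem gb_a (X Y : M2 F) : gb D Di N (X, T * Y * Ti) =
    (T * (gb D Di N (X, Y)).1 * Ti, (gb D Di N (X, Y)).2) := by
  rw [gb_apply, gb_apply]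
  simp only [h.q_mul h.kap_T h.kap_Ti, h.p_mul h.kap_T h.kap_Ti]
  have h1 : T * pl D Di Y * Ti = pl D Di Y := by rw [h.comm_T (h.kp Y), h.TT2]
  have h2 : T * (ql D Di X * N) * Ti = ql D Di X * N := by rw [h.comm_T (h.kqN X), h.TT2]
  rw [h1, Matrix.mul_sub, Matrix.sub_mul, h2]

theorem gb_b (X Y : M2 F) : gb D Di N (T * X * Ti, Y) =
    (T * (gb D Di N (X, Y)).1 * T, (gb D Di N (X, Y)).2) := by
  rw [gb_apply, gb_apply]
  simp only [h.q_mul h.kap_T h.kap_Ti, h.p_mul h.kap_T h.kap_Ti]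
  have h1 : T * pl D Di X * Ti = pl D Di X := by rw [h.comm_T (h.kp X), h.TT2]
  have h2 : T * ql D Di Y * T = ql D Di Y := by rw [h.anti_T (h.kq Y), h.TT2']
  have h3 : T * (ql D Di X * N) * T = T * ql D Di X * Ti * N := by
    have h4 : Ti * N = N * T := h.anti_Ti h.kap_N
    calc T * (ql D Di X * N) * T = T * ql D Di X * (N * T) := by simp only [Matrix.mul_assoc]
      _ = T * ql D Di X * Ti * N := by rw [← h4]; simp only [Matrix.mul_assoc]
  rw [h1, Matrix.mul_sub, Matrix.sub_mul, h2, h3]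

theorem gb_c (X Y : M2 F) : gb D Di N (T * X * T, Y) =
    ((gb D Di N (X, Y)).1, T * (gb D Di N (X, Y)).2 * Ti) := by
  rw [gb_apply, gb_apply]
  simp only [h.q_mul h.kap_T h.kap_T, h.p_mul h.kap_T h.kap_T]
  have h1 : T * ql D Di X * T = ql D Di X := by rw [h.anti_T (h.kq X), h.TT2']
  have h2 : T * pl D Di Y * Ti = pl D Di Y := by rw [h.comm_T (h.kp Y), h.TT2]
  have h3 : T * (pl D Di X * N) * Ti = T * pl D Di X * T * N := by
    have h4 : T * N = N * Ti := h.anti_T h.kap_N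
    calc T * (pl D Di X * N) * Ti = T * pl D Di X * (N * Ti) := by simp only [Matrix.mul_assoc]
      _ = T * pl D Di X * T * N := by rw [← h4]; simp only [Matrix.mul_assoc]
  rw [h1, Matrix.mul_add, Matrix.add_mul, h2, h3]

/-- `ḡ` commutes with `e₀ = n_u n_v n_w` (`N⁻¹ = -N`; stated with `N X N`) -/
theorem gb_n (X Y : M2 F) : gb D Di N (N * X * N, N * Y * N) =
    (N * (gb D Di N (X, Y)).1 * N, N * (gb D Di N (X, Y)).2 * N) := by
  rw [gb_apply, gb_apply, h.q_NN, h.p_NN, h.q_NN, h.p_NN]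
  simp only [Matrix.mul_sub, Matrix.sub_mul, Matrix.mul_add, Matrix.add_mul, Matrix.mul_assoc]

theorem adj_N : adjugate N = -N := by
  rw [adjugate_fin_two]
  have h1 := h.trn
  rw [trace_fin_two] at h1
  ext i j
  fin_cases i <;> fin_cases j <;> simp
  · linear_combination h1
  · linear_combination h1

theorem adj_q (X : M2 F) : adjugate (ql D Di X) = -ql D Di X := by
  have h1 : (ql D Di X).trace = 0 := by
    have h2 : (kap D Di (ql D Di X)).trace = (ql D Di X).trace := by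
      rw [kap_apply, Matrix.trace_mul_comm, ← Matrix.mul_assoc, h.dd', Matrix.one_mul]
    rw [h.kq, trace_neg] at h2
    have h3 : (2 : F) * (ql D Di X).trace = 0 := by linear_combination -h2
    exact (mul_eq_zero.mp h3).resolve_left h.two
  rw [trace_fin_two] at h1
  rw [adjugate_fin_two]
  ext i j
  fin_cases i <;> fin_cases j <;> simp
  · linear_combination h1
  · linear_combination h1

/-- `n adj(X) = (p X) n - n (q X)` -/
theorem N_adj (X : M2 F) : N * adjugate X = pl D Di X * N - N * ql D Di X := by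
  have h1 : adjugate X = adjugate (pl D Di X) + adjugate (ql D Di X) := by
    conv_lhs => rw [← h.add_pq X]
    rw [adjugate_fin_two, adjugate_fin_two, adjugate_fin_two]
    ext i j
    fin_cases i <;> fin_cases j <;> simp <;> ring
  have h2 : N * adjugate (pl D Di X) = pl D Di X * N := by
    have h3 : adjugate (pl D Di X * N) = -(pl D Di X * N) := by
      rw [← h.q_pN]; exact h.adj_q _
    rw [adjugate_mul_distrib, h.adj_N, Matrix.neg_mul, neg_inj] at h3
    exact h3
  rw [h1, Matrix.mul_add, h2, h.adj_q, Matrix.mul_neg, sub_eq_add_neg]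

/-- `h = ḡ n_v ḡ` -/
theorem gb_h (X Y : M2 F) : gb D Di N (N * (gb D Di N (X, Y)).1, (gb D Di N (X, Y)).2) =
    (N * adjugate X, pl D Di Y + N * ql D Di Y * N) := by
  have k1 : kap D Di (N * ql D Di Y) = N * ql D Di Y := by
    rw [h.kap_mul, h.kap_N, h.kq, neg_mul_neg]
  have k2 : kap D Di (N * (ql D Di X * N)) = -(N * (ql D Di X * N)) := by
    rw [h.kap_mul, h.kap_N, h.kqN, Matrix.neg_mul]
  rw [h.N_adj, gb_apply, gb_apply]
  simp only [Matrix.mul_sub, map_sub, map_add, h.pp, h.qp, h.p_pN, h.q_pN, h.p_of k1, h.q_of k2,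
    q_of_p k1, p_of_q k2]
  ext1
  · simp only [zero_add, zero_sub, Matrix.neg_mul, sub_neg_eq_add]
    have : N * (ql D Di X * N) * N = -(N * ql D Di X) := by
      rw [← Matrix.mul_assoc, h.NN]
    rw [this, ← sub_eq_add_neg]
  · simp only [add_zero, sub_zero]

/-- the quadratic form -/
theorem det_pq (A B : M2 F) (hA : kap D Di A = A) (hB : kap D Di B = -B) : (A + B).det = A.det + B.det := by
  have h1 : (kap D Di (A + B)).det = (A + B).det := by
    have h2 : D.det * Di.det = 1 := by rw [← det_mul, h.dd, det_one]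
    rw [kap_apply, det_mul, det_mul]
    linear_combination (A + B).det * h2
  rw [map_add, hA, hB] at h1
  have h2 : (A + B).det + (A + -B).det = 2 * (A.det + B.det) := by
    simp only [det_fin_two, Matrix.add_apply, Matrix.neg_apply]
    ring
  rw [h1] at h2
  have h3 : (2 : F) * ((A + B).det - (A.det + B.det)) = 0 := by linear_combination h2
  exact sub_eq_zero.mp ((mul_eq_zero.mp h3).resolve_left h.two)

theorem gb_det (X Y : M2 F) : (gb D Di N (X, Y)).1.det + (gb D Di N (X, Y)).2.det = X.det + Y.det := by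
  rw [gb_apply]
  have h1 : (ql D Di Y - ql D Di X * N).det = (ql D Di X).det + (ql D Di Y).det := by
    have h2 : kap D Di (-(ql D Di X * N)) = -(ql D Di X * N) := by rw [map_neg, h.kqN]
    have h3 : ql D Di Y - ql D Di X * N = -(ql D Di X * N) + ql D Di Y := by abel
    rw [h3, h.det_pq _ _ h2 (h.kq Y), det_neg, det_mul, h.detn]
    simp
  have h2 : (pl D Di Y + pl D Di X * N).det = (pl D Di Y).det + (pl D Di X).det := by
    rw [h.det_pq _ _ (h.kp Y) (h.kpN X), det_mul, h.detn, mul_one]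
  have h3 : X.det = (pl D Di X).det + (ql D Di X).det := by
    conv_lhs => rw [← h.add_pq X]
    exact h.det_pq _ _ (h.kp X) (h.kq X)
  have h4 : Y.det = (pl D Di Y).det + (ql D Di Y).det := by
    conv_lhs => rw [← h.add_pq Y]
    exact h.det_pq _ _ (h.kp Y) (h.kq Y)
  rw [h1, h2, h3, h4]
  ring

theorem gb_one : gb D Di N ((0 : M2 F), (1 : M2 F)) = (0, 1) := by
  have h1 : kap D Di 1 = 1 := h.kap_one
  rw [gb_apply, map_zero, map_zero, Matrix.zero_mul, q_of_p h1, h.p_of h1, sub_zero, add_zero]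

end QD

end Cfsg.Agent.OddHalf.NI.Sol
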