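import Mathlib

/-!
# Arithmetic end of the kill of Solomon's configuration

For `q = p ^ n > 3` odd there is an odd `m > 1` dividing `q - 1` or `q + 1` such that
`C ^ 2 + C + 2` is not `0` mod `m` for `C = ± p ^ i`.
-/

namespace Cfsg.Agent.OddHalf.NI.SolNum

lemma pow_cast_of_dvd {m : ℕ} {p n : ℕ} (h : m ∣ p ^ n - 1) (hp : 0 < p ^ n) :
    ((p : ZMod m)) ^ n = 1 := by
  have h1 : ((p ^ n - 1 : ℕ) : ZMod m) = 0 := (ZMod.natCast_eq_zero_iff _ _).2 h
  rw [Nat.cast_sub hp] at h1
  simpa [sub_eq_zero] using h1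

/-- `q = 3 ^ n`, `n` odd, `n ≥ 5`. -/
lemma three_odd {n m : ℕ} (hn : Odd n) (h5 : 5 ≤ n) (hm : 2 * m + 1 = 3 ^ n) (i : ℕ) (s : ℤ)
    (hs : s = 1 ∨ s = -1) :
    ((s : ZMod m) * 3 ^ i) ^ 2 + (s : ZMod m) * 3 ^ i + 2 ≠ 0 := by
  classical
  have hpos : 0 < m := by
    have : 3 ^ 5 ≤ 3 ^ n := Nat.pow_le_pow_right (by norm_num) h5
    omega
  have : NeZero m := ⟨hpos.ne'⟩
  -- 3 ^ n = 1 in ZMod m
  have h3n : (3 : ZMod m) ^ n = 1 := by
    have : m ∣ 3 ^ n - 1 := ⟨2, by omega⟩
    have := pow_cast_of_dvd (m := m) (p := 3) (n := n) this (by positivity)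
    simpa using this
  -- reduce i mod n
  set r := i % n with hr
  have hnpos : 0 < n := by omega
  have hrn : r < n := Nat.mod_lt _ hnpos
  have hi : (3 : ZMod m) ^ i = 3 ^ r := by
    conv_lhs => rw [← Nat.div_add_mod i n]
    rw [pow_add, pow_mul, h3n, one_pow, one_mul]
  rw [hi]
  have hs2 : (s : ZMod m) ^ 2 = 1 := by
    rcases hs with rfl | rfl <;> simp
  rw [mul_pow, hs2, one_mul]
  obtain ⟨k, hk⟩ := hn
  -- powers of three we need
  have key : ∀ x : ℤ, (x : ZMod m) = 0 → |x| < m → x = 0 := by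
    intro x hx hlt
    have hd : (m : ℤ) ∣ x := (ZMod.intCast_zmod_eq_zero_iff_dvd x m).1 hx
    exact Int.eq_zero_of_abs_lt_dvd hd hlt
  intro h0
  rcases Nat.lt_or_ge (2 * r) n with hlt | hge
  · -- small case
    have hr2 : r ≤ k := by omega
    have hk2 : 2 ≤ k := by omega
    have h9 : (9 : ℤ) ^ k = 3 ^ (2 * k) := by rw [pow_mul]; norm_num
    have hA : (3 : ℤ) ^ r ≤ 3 ^ k := pow_le_pow_right₀ (by norm_num) hr2
    have hB : (3 : ℤ) ^ (2 * r) ≤ 3 ^ (2 * k) := pow_le_pow_right₀ (by norm_num) (by omega)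
    have hC : (0 : ℤ) < 3 ^ r := by positivity
    have hD : (3 : ℤ) ^ r * 3 ^ r = 3 ^ (2 * r) := by rw [← pow_add]; congr 1; ring
    have hE : (3 : ℤ) ^ k * 3 ^ k = 3 ^ (2 * k) := by rw [← pow_add]; congr 1; ring
    have hF : (9 : ℤ) ≤ 3 ^ k := by
      calc (9 : ℤ) = 3 ^ 2 := by norm_num
        _ ≤ 3 ^ k := pow_le_pow_right₀ (by norm_num) hk2
    have hM : (2 * m + 1 : ℤ) = 3 * 3 ^ (2 * k) := by
      have : ((2 * m + 1 : ℕ) : ℤ) = ((3 ^ n : ℕ) : ℤ) := by rw [hm]
      push_cast at this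
      rw [this, hk, pow_succ]; ring
    have hx := key (3 ^ (2 * r) + s * 3 ^ r + 2) (by
      push_cast
      rw [show (3 : ZMod m) ^ (2 * r) = (3 ^ r) ^ 2 by rw [← pow_mul]; congr 1; ring]
      exact h0) (by
      rw [abs_lt]
      rcases hs with rfl | rfl
      · constructor <;> nlinarith
      · constructor <;> nlinarith)
    rcases hs with rfl | rfl <;> nlinarith
  · -- large case
    have hne : 2 * r ≠ n := by omega
    have hgt : n + 1 ≤ 2 * r := by omega
    set t := 2 * r - n with ht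
    have ht1 : 1 ≤ t := by omega
    have htn : t + 2 ≤ n := by omega
    have h2r : (3 : ZMod m) ^ (2 * r) = 3 ^ t := by
      rw [show 2 * r = n + t by omega, pow_add, h3n, one_mul]
    have hA : (3 : ℤ) ^ r ≤ 3 * 3 ^ (n - 2) := by
      rw [← pow_succ']; exact pow_le_pow_right₀ (by norm_num) (by omega)
    have hB : (3 : ℤ) ^ t ≤ 3 ^ (n - 2) := pow_le_pow_right₀ (by norm_num) (by omega)
    have hC : (0 : ℤ) < 3 ^ r := by positivity
    have hC' : (0 : ℤ) < 3 ^ t := by positivity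
    have hF : (27 : ℤ) ≤ 3 ^ (n - 2) := by
      calc (27 : ℤ) = 3 ^ 3 := by norm_num
        _ ≤ 3 ^ (n - 2) := pow_le_pow_right₀ (by norm_num) (by omega)
    have hM : (2 * m + 1 : ℤ) = 9 * 3 ^ (n - 2) := by
      have : ((2 * m + 1 : ℕ) : ℤ) = ((3 ^ n : ℕ) : ℤ) := by rw [hm]
      push_cast at this
      rw [this]
      conv_lhs => rw [show n = 2 + (n - 2) by omega, pow_add]
      norm_num
    have hx := key (3 ^ t + s * 3 ^ r + 2) (by
      push_cast
      rw [← h2r, show (3 : ZMod m) ^ (2 * r) = (3 ^ r) ^ 2 by rw [← pow_mul]; congr 1; ring]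
      exact h0) (by
      rw [abs_lt]
      rcases hs with rfl | rfl
      · constructor <;> nlinarith
      · constructor <;> nlinarith)
    -- divisible by three up to 2
    have h3 : (3 : ℤ) ∣ 2 := by
      have h1 : (3 : ℤ) ∣ 3 ^ t := dvd_pow_self _ (by omega)
      have h2 : (3 : ℤ) ∣ 3 ^ r := dvd_pow_self _ (by omega)
      have : (2 : ℤ) = -(3 ^ t) - s * 3 ^ r := by linarith
      rw [this]
      exact dvd_sub (h1.neg_right) (h2.mul_left _)
    omega

/-- The arithmetic end: an odd `m > 1` dividing `q - 1` or `q + 1`, `q = p ^ n > 3`, such that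
`C ^ 2 + C + 2 ≠ 0` mod `m` for all `C = ± p ^ i`. -/
theorem exists_good {p n : ℕ} (hp : p.Prime) (hp2 : p ≠ 2) (hq : 3 < p ^ n) :
    ∃ m : ℕ, 1 < m ∧ Odd m ∧ (m ∣ p ^ n - 1 ∨ m ∣ p ^ n + 1) ∧
      ∀ (i : ℕ) (s : ℤ), s = 1 ∨ s = -1 →
        ((s : ZMod m) * (p : ZMod m) ^ i) ^ 2 + (s : ZMod m) * (p : ZMod m) ^ i + 2 ≠ 0 := by
  have hn : n ≠ 0 := by rintro rfl; simp at hq
  by_cases h3 : p = 3
  · subst h3
    rcases Nat.even_or_odd n with he | ho
    · refine ⟨5, by norm_num, by decide, ?_, ?_⟩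
      · obtain ⟨k, hk⟩ := he
        have h9 : ∀ k : ℕ, 9 ^ k % 5 = 1 ∨ 9 ^ k % 5 = 4 := by
          intro k
          induction k with
          | zero => left; norm_num
          | succ k ih => rw [pow_succ, Nat.mul_mod]; rcases ih with ih | ih <;> rw [ih] <;> decide
        have h39 : 3 ^ n = 9 ^ k := by rw [hk, ← two_mul, pow_mul]; norm_num
        rw [h39]
        have hpos : 0 < 9 ^ k := by positivity
        rcases h9 k with h | h
        · left; omega
        · right; omega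
      · intro i s hs
        have : ∀ x : ZMod 5, x ^ 2 + x + 2 ≠ 0 := by decide
        exact this _
    · by_cases h5 : 5 ≤ n
      · obtain ⟨m, hm⟩ : ∃ m, 3 ^ n = 2 * m + 1 := (Odd.pow (by decide) : Odd (3 ^ n))
        obtain ⟨k, hk⟩ := ho
        have hmod : 3 ^ n % 4 = 3 := by
          rw [hk, pow_succ, pow_mul, Nat.mul_mod, Nat.pow_mod]; norm_num
        refine ⟨m, ?_, ?_, Or.inl ⟨2, by omega⟩, ?_⟩
        · have : 3 ^ 5 ≤ 3 ^ n := Nat.pow_le_pow_right (by norm_num) h5
          omega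
        · rw [Nat.odd_iff]; omega
        · intro i s hs
          have := three_odd ⟨k, hk⟩ h5 hm.symm i s hs
          simpa using this
      · have h33 : n = 3 := by
          obtain ⟨k, hk⟩ := ho
          interval_cases n
          · exact absurd rfl hn
          · norm_num at hq
          · omega
          · rfl
          · omega
        subst h33
        refine ⟨13, by norm_num, by decide, Or.inl (by norm_num), ?_⟩
        intro i s hs
        have h27 : ((3 : ℕ) : ZMod 13) ^ 3 = 1 := by decide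
        have hi : ((3 : ℕ) : ZMod 13) ^ i = ((3 : ℕ) : ZMod 13) ^ (i % 3) := by
          conv_lhs => rw [← Nat.div_add_mod i 3]
          rw [pow_add, pow_mul, h27, one_pow, one_mul]
        rw [hi]
        have hr : i % 3 < 3 := Nat.mod_lt _ (by norm_num)
        generalize i % 3 = r at hr
        rcases hs with rfl | rfl <;> interval_cases r <;> decide
  · refine ⟨3, by norm_num, by decide, ?_, ?_⟩
    · have hp3 : ¬ 3 ∣ p ^ n := fun h =>
        h3 ((Nat.prime_dvd_prime_iff_eq Nat.prime_three hp).1 (Nat.prime_three.dvd_of_dvd_pow h)).symm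
      have hpos : 0 < p ^ n := by positivity
      omega
    · intro i s hs
      have hpi : ¬ 3 ∣ p ^ i := fun h =>
        h3 ((Nat.prime_dvd_prime_iff_eq Nat.prime_three hp).1 (Nat.prime_three.dvd_of_dvd_pow h)).symm
      have h0 : ((p : ZMod 3)) ^ i ≠ 0 := by
        intro h
        apply hpi
        rw [← Nat.cast_pow] at h
        exact (ZMod.natCast_eq_zero_iff _ _).1 h
      have h2 : ∀ x : ZMod 3, x ≠ 0 → x ^ 2 + x + 2 ≠ 0 := by decide
      apply h2
      rcases hs with rfl | rfl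
      · simpa using h0
      · simpa using h0

end Cfsg.Agent.OddHalf.NI.SolNum
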