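import Cfsg.Agent.OddHalf.NI.SolPosWW

/-!
# Sol(q): coordinates `M₂ × M₂ ≃ V ⊕ F`
-/

set_option autoImplicit false

namespace Cfsg.Agent.OddHalf.NI.Sol

open Matrix Module QuadraticMap
open Cfsg.Agent.Lib.SL2Mat Cfsg.Agent.Lib.AutSL2 Cfsg.Agent.Lib.AutSL2Out
open Cfsg.Agent.LFourR.FieldPart (val_mul val_one val_pow)
open Cfsg.Agent.LieClassical.OrthCore (Nondeg)

variable {F : Type*} [Field F]

theorem aut_neg_one (h2 : (2 : F) ≠ 0) (α : MulAut (SL F)) : α (-1) = -1 := by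
  have h1 : α (-1) ∈ Subgroup.center (SL F) := by
    rw [Subgroup.mem_center_iff]
    intro g
    obtain ⟨x, rfl⟩ := α.surjective g
    rw [← map_mul, ← map_mul, neg_one_mul, mul_neg_one]
  rw [Cfsg.Agent.ClassicalGeometry.PSL2Basic.mem_center_SL2_iff] at h1
  rcases h1 with h | h
  · exfalso
    apply neg_one_ne h2
    apply α.injective
    rw [h, map_one]
  · exact h

variable [Fintype F] {V : Type*} [AddCommGroup V] [Module F V] [FiniteDimensional F V] {L : Type*} [Group L]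

theorem coords (h2 : (2 : F) ≠ 0) (hc : 3 < Fintype.card F) (hd : finrank F V = 7) (Q : QuadraticForm F V)
    (nd : Nondeg Q) (R : L →* Module.End F V) (RQ : ∀ x v, Q (R x v) = Q v)
    (a b b' : SL F →* L) (T : Module.End F V) (hTb : R (b (-1)) = T) (hTb' : R (b' (-1)) = T)
    (hTa : R (a (-1)) = 1) (hT1 : T ≠ 1) (ab : ∀ A B, a A * b B = b B * a A)
    (ab' : ∀ A B, a A * b' B = b' B * a A) (bb' : ∀ A B, b A * b' B = b' B * b A)
    (ak : ∀ X, R (a X) = 1 → X = 1 ∨ X = -1) :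
    ∃ (κ : F) (u w : M2 F →ₗ[F] V) (α β β' : MulAut (SL F)) (E : (M2 F × M2 F) ≃ₗ[F] (V × F)), κ ≠ 0 ∧
      (∀ X Y, E (X, Y) = (u X + w Y, Y.trace / 2)) ∧ w 1 = 0 ∧
      (∀ X Y, Q (u X + w Y) = κ * (X.det + (Y.det - (Y.trace / 2) ^ 2))) ∧
      (∀ A X, R (a A) (u X) = u X) ∧ (∀ A Y, R (a (α A)) (w Y) = w (A.1 * Y * (A⁻¹).1)) ∧
      (∀ A X, R (b (β A)) (u X) = u (A.1 * X)) ∧ (∀ A Y, R (b A) (w Y) = w Y) ∧
      (∀ A X, R (b' (β' A)) (u X) = u (X * (A⁻¹).1)) ∧ (∀ A Y, R (b' A) (w Y) = w Y) := by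
  obtain ⟨e, β, β', einj, er, hbe, hb'e, hae⟩ := uPart h2 hc hd R a b b' T hTb hTb' hTa hT1 ab ab' bb'
  obtain ⟨κ, w, α, hκ, w1, wQ, wT, aw, bw, b'w, wsur, wker⟩ :=
    wPart h2 hc hd Q nd R RQ a b b' T hTb hTb' hTa ab ab' ak e einj er hae
  have hm1 : (-1 : SL F) * -1 = 1 := by rw [neg_mul_neg, one_mul]
  have TT : ∀ v, T (T v) = v := by
    intro v
    rw [← hTb, ← ap_mul, ← map_mul, hm1, map_one, map_one]
    rfl
  have TQ : ∀ v, Q (T v) = Q v := by intro v; rw [← hTb]; exact RQ _ v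
  have Tp : ∀ v w, polar Q (T v) (T w) = polar Q v w := by
    intro v w
    rw [polar, polar, ← map_add, TQ, TQ, TQ]
  have perp : ∀ x y, T x = -x → T y = y → polar Q x y = 0 := by
    intro x y hx hy
    have h3 := Tp x y
    rw [hx, hy, QuadraticMap.polar_neg_left] at h3
    have h4 : (2 : F) * polar Q x y = 0 := by linear_combination -h3
    exact (mul_eq_zero.mp h4).resolve_left h2
  have eT : ∀ X, T (e X) = -e X := fun X => (er _).mpr ⟨X, rfl⟩
  -- decomposition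
  have split : ∀ v, ∃ X Y, Y.trace = 0 ∧ v = e X + w Y := by
    intro v
    obtain ⟨X, hX⟩ := (er ((2 : F)⁻¹ • (v - T v))).mp (by rw [map_smul, map_sub, TT]; module)
    obtain ⟨Y, hY, hz⟩ := wsur ((2 : F)⁻¹ • (v + T v)) (by rw [map_smul, map_add, TT, add_comm])
    refine ⟨X, Y, hY, ?_⟩
    rw [hX, hz]
    have : (2 : F)⁻¹ • (v - T v) + (2 : F)⁻¹ • (v + T v) = ((2 : F)⁻¹ * 2) • v := by module
    rw [this, inv_mul_cancel₀ h2, one_smul]
  -- the form on `U`
  obtain ⟨ν, hν⟩ := form_M2 h2 (Q.comp e) (by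
    intro A X
    rw [QuadraticMap.comp_apply, QuadraticMap.comp_apply, ← hbe, RQ])
  have hν' : ∀ X, Q (e X) = ν * X.det := hν
  have hν0 : ν ≠ 0 := by
    intro h0
    have h3 : e 1 = 0 := by
      apply nd
      intro v
      obtain ⟨X, Y, -, rfl⟩ := split v
      rw [QuadraticMap.polar_add_right, perp _ _ (eT 1) (wT Y), polar, ← map_add, hν', hν', hν', h0]
      ring
    have h4 : (1 : M2 F) = 0 := einj (by rw [h3, map_zero])
    exact one_ne_zero h4
  -- rescale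
  obtain ⟨D, hD⟩ : ∃ D : M2 F, D = !![1, 0; 0, κ / ν] := ⟨_, rfl⟩
  obtain ⟨Di, hDi⟩ : ∃ Di : M2 F, Di = !![1, 0; 0, ν / κ] := ⟨_, rfl⟩
  have hDD : D * Di = 1 := by
    rw [hD, hDi]
    ext i j
    fin_cases i <;> fin_cases j <;> simp [Matrix.mul_apply, Fin.sum_univ_two]
    field_simp
  have hDD' : Di * D = 1 := by
    rw [hD, hDi]
    ext i j
    fin_cases i <;> fin_cases j <;> simp [Matrix.mul_apply, Fin.sum_univ_two]
    field_simp
  have hDdet : D.det = κ / ν := by rw [hD, Matrix.det_fin_two]; simp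
  obtain ⟨g, hg1, hg2⟩ : ∃ g : GL (Fin 2) F, g.1 = D ∧ (g⁻¹).1 = Di := ⟨⟨D, Di, hDD, hDD'⟩, rfl, rfl⟩
  have hδ : ∀ A : SL F, (conjGL g A).1 = D * A.1 * Di := by
    intro A
    rw [← hg1, ← hg2]
    rfl
  obtain ⟨u, hu⟩ : ∃ u : M2 F →ₗ[F] V, ∀ X, u X = e (X * D) := by
    refine ⟨e.comp (LinearMap.mulRight F D), fun X => rfl⟩
  have uT : ∀ X, T (u X) = -u X := by intro X; rw [hu, eT]
  have hE : ∀ X Y, u X + w Y = 0 → X = 0 ∧ w Y = 0 := by
    intro X Y h
    have h3 : T (u X + w Y) = 0 := by rw [h, map_zero]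
    rw [map_add, uT, wT] at h3
    have h4 : (2 : F) • u X = 0 := by
      rw [two_smul]
      calc u X + u X = (u X + w Y) - (-u X + w Y) := by abel
        _ = 0 := by rw [h, h3, sub_zero]
    have h5 : u X = 0 := (smul_eq_zero.mp h4).resolve_left h2
    refine ⟨?_, by rw [h5, zero_add] at h; exact h⟩
    rw [hu] at h5
    have h6 : X * D = 0 := einj (by rw [h5, map_zero])
    calc X = X * D * Di := by rw [Matrix.mul_assoc, hDD, Matrix.mul_one]
      _ = 0 := by rw [h6, Matrix.zero_mul]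
  obtain ⟨E0, hE0⟩ : ∃ E0 : (M2 F × M2 F) →ₗ[F] (V × F), ∀ X Y, E0 (X, Y) = (u X + w Y, Y.trace / 2) := by
    refine ⟨{ toFun := fun p => (u p.1 + w p.2, p.2.trace / 2), map_add' := ?_, map_smul' := ?_ }, fun X Y => rfl⟩
    · intro x y
      ext1
      · simp only [Prod.fst_add, Prod.snd_add, map_add]; abel
      · simp only [Prod.snd_add, Matrix.trace_add]; ring
    · intro c x
      ext1
      · simp only [Prod.smul_fst, Prod.smul_snd, map_smul, RingHom.id_apply, smul_add]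
      · simp only [Prod.smul_snd, Matrix.trace_smul, smul_eq_mul, RingHom.id_apply]; ring
  have E0bij : Function.Bijective E0 := by
    constructor
    · rw [injective_iff_map_eq_zero]
      rintro ⟨X, Y⟩ h
      rw [hE0] at h
      have h3 := congrArg Prod.fst h
      have h4 := congrArg Prod.snd h
      change u X + w Y = 0 at h3
      change Y.trace / 2 = 0 at h4
      obtain ⟨h5, h6⟩ := hE X Y h3
      have h7 := wker Y h6
      rw [h4, zero_smul] at h7
      rw [h5, h7]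
      rfl
    · rintro ⟨v, t⟩
      obtain ⟨X, Y, hY, rfl⟩ := split v
      refine ⟨(X * Di, Y + t • 1), ?_⟩
      rw [hE0, hu, Matrix.mul_assoc, hDD', Matrix.mul_one, map_add, map_smul, w1, smul_zero, add_zero,
        Matrix.trace_add, hY, Matrix.trace_smul, Matrix.trace_one, Fintype.card_fin, smul_eq_mul, zero_add]
      congr 1
      push_cast
      field_simp
  refine ⟨κ, u, w, α, β, (conjGL g).symm.trans β', LinearEquiv.ofBijective E0 E0bij, hκ, hE0, w1, ?_, ?_, aw, ?_, bw,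
    ?_, b'w⟩
  · intro X Y
    have h3 : Q (u X + w Y) = Q (u X) + Q (w Y) + polar Q (u X) (w Y) := by rw [polar]; ring
    rw [h3, perp _ _ (uT X) (wT Y), hu, hν', wQ, Matrix.det_mul, hDdet]
    field_simp
    ring
  · intro A X
    rw [hu, hae]
  · intro A X
    rw [hu, hbe, hu, Matrix.mul_assoc]
  · intro A X
    obtain ⟨B, rfl⟩ : ∃ B, conjGL g B = A := ⟨(conjGL g).symm A, MulEquiv.apply_symm_apply _ _⟩
    change R (b' (β' ((conjGL g).symm (conjGL g B)))) (u X) = _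
    rw [MulEquiv.symm_apply_apply, hu, hb'e, hu, ← map_inv, hδ]
    congr 1
    calc X * D * (B⁻¹).1 = X * D * (B⁻¹).1 * (Di * D) := by rw [hDD', Matrix.mul_one]
      _ = X * (D * (B⁻¹).1 * Di) * D := by simp only [Matrix.mul_assoc]

end Cfsg.Agent.OddHalf.NI.Sol
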