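import Cfsg.Agent.OddHalf.NI.SolPosE
import Cfsg.Agent.OddHalf.NI.SolFrame

/-!
# Sol(q): the linear model from a 7-dimensional orthogonal representation
-/

set_option autoImplicit false

namespace Cfsg.Agent.OddHalf.NI.Sol

open Matrix Module QuadraticMap
open Cfsg.Agent.LieClassical.OrthCore (Nondeg)

variable {F : Type*} [Field F]

/-- the form on `M₂ × M₂` -/
def q8 (p : M2 F × M2 F) : F := p.1.det + p.2.det

theorem q8_add_one (p : M2 F × M2 F) : q8 (p + (0, 1)) = q8 p + p.2.trace + 1 := by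
  unfold q8
  simp only [Prod.fst_add, Prod.snd_add, add_zero]
  rw [Matrix.det_fin_two p.2, Matrix.det_fin_two (p.2 + 1), Matrix.trace_fin_two]
  simp
  ring

theorem trace_of {T8 : (M2 F × M2 F) →ₗ[F] (M2 F × M2 F)} (hq : ∀ p, q8 (T8 p) = q8 p)
    (h1 : T8 (0, 1) = (0, 1)) (p : M2 F × M2 F) : (T8 p).2.trace = p.2.trace := by
  have h3 := hq (p + (0, 1))
  rw [map_add, h1, q8_add_one, q8_add_one, hq] at h3
  linear_combination h3

/-- `r` inverts `ḡ` -/
def rb (D Di N : M2 F) : (M2 F × M2 F) →ₗ[F] (M2 F × M2 F) where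
  toFun x := (kap D Di x.1 * N, x.2)
  map_add' x y := by
    ext1
    · simp only [Prod.fst_add, map_add, Matrix.add_mul]
    · simp only [Prod.snd_add]
  map_smul' c x := by
    ext1
    · simp only [Prod.smul_fst, map_smul, Matrix.smul_mul, RingHom.id_apply]
    · simp only [Prod.smul_snd, RingHom.id_apply]

theorem rb_apply (D Di N X Y : M2 F) : rb D Di N (X, Y) = (kap D Di X * N, Y) := rfl

namespace QD

variable {D Di N T Ti : M2 F} (h : QD D Di N T Ti)

include h

theorem rb_rb (x : M2 F × M2 F) : rb D Di N (rb D Di N x) = x := by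
  obtain ⟨X, Y⟩ := x
  rw [rb_apply, rb_apply, h.kap_mul, h.kap_kap, h.kap_N, Matrix.mul_neg, Matrix.neg_mul, h.NN, neg_neg]

theorem kap_sub (X : M2 F) : kap D Di X = pl D Di X - ql D Di X := by
  conv_lhs => rw [← h.add_pq X]
  rw [map_add, h.kp, h.kq, sub_eq_add_neg]

theorem rb_gb_rb (x : M2 F × M2 F) : rb D Di N (gb D Di N (rb D Di N x)) = gb D Di N (gb D Di N x) := by
  obtain ⟨X, Y⟩ := x
  rw [h.gb_gb, rb_apply, gb_apply, rb_apply, h.kap_sub X]
  simp only [Matrix.sub_mul, map_sub, h.p_pN, h.q_pN, h.p_qN, h.q_qN, zero_sub, sub_zero, Matrix.neg_mul, h.NN,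
    neg_neg, sub_neg_eq_add, map_add, h.kq, h.kp, Matrix.add_mul]
  ext1
  · abel
  · rfl

theorem rb_q (x : M2 F × M2 F) : q8 (rb D Di N x) = q8 x := by
  obtain ⟨X, Y⟩ := x
  have h2 : D.det * Di.det = 1 := by rw [← det_mul, h.dd, det_one]
  unfold q8
  rw [rb_apply, det_mul, h.detn, mul_one, kap_apply, det_mul, det_mul]
  linear_combination X.det * h2

theorem rb_one : rb D Di N ((0 : M2 F), (1 : M2 F)) = (0, 1) := by
  rw [rb_apply, map_zero, Matrix.zero_mul]

end QD

variable [Fintype F] {V : Type*} [AddCommGroup V] [Module F V] [FiniteDimensional F V] {L : Type*} [Group L]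

/-- the representation -/
structure Rep (Q : QuadraticForm F V) (R : L →* Module.End F V) (c : L) : Prop where
  dim : finrank F V = 7
  nd : Nondeg Q
  iso : ∀ x v, Q (R x v) = Q v
  ker : ∀ x, R x = 1 → x = 1 ∨ x = c
  Rc : R c = 1
  cc : c * c = 1
  c1 : c ≠ 1
  cen : ∀ x, x * c = c * x
  img : ∀ g r : Module.End F V, (∀ v, Q (g v) = Q v) → (∀ v, Q (r v) = Q v) → (∀ v, g (g (g v)) = v) →
    (∀ v, r (r v) = v) → (∀ v, r (g (r v)) = g (g v)) → ∃ x : L, R x = g

theorem pos_of_rep (h2 : (2 : F) ≠ 0) (hc : 3 < Fintype.card F) {Q : QuadraticForm F V} {R : L →* Module.End F V}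
    {c : L} (H : Rep Q R c) (a b b' : SL F →* L) (ia : Function.Injective a) (ha : a (-1) = c)
    (hb1 : b (-1) ≠ 1) (hbc : b (-1) ≠ c) (hbb : b (-1) * b' (-1) = c)
    (ab : ∀ A B, a A * b B = b B * a A) (ab' : ∀ A B, a A * b' B = b' B * a A)
    (bb' : ∀ A B, b A * b' B = b' B * b A) :
    ∃ (a1 b1 b1' : SL F →* L) (π : L →* ((M2 F × M2 F) ≃ₗ[F] (M2 F × M2 F))), Pos c a1 b1 b1' π ∧
      a1.range = a.range ∧ b1.range = b.range ∧ b1'.range = b'.range := by
  have hm1 : (-1 : SL F) * -1 = 1 := by rw [neg_mul_neg, one_mul]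
  obtain ⟨T, hT⟩ : ∃ T, T = R (b (-1)) := ⟨_, rfl⟩
  have hTT : T * T = 1 := by rw [hT, ← map_mul, ← map_mul, hm1, map_one, map_one]
  have hT' : R (b' (-1)) = T := by
    have h3 : R (b (-1)) * R (b' (-1)) = 1 := by rw [← map_mul, hbb, H.Rc]
    rw [← hT] at h3
    calc R (b' (-1)) = T * T * R (b' (-1)) := by rw [hTT, one_mul]
      _ = T := by rw [mul_assoc, h3, mul_one]
  have hT1 : T ≠ 1 := by
    intro h
    rw [hT] at h
    rcases H.ker _ h with h3 | h3
    · exact hb1 h3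
    · exact hbc h3
  have ak : ∀ X, R (a X) = 1 → X = 1 ∨ X = -1 := by
    intro X hX
    rcases H.ker _ hX with h3 | h3
    · left; exact ia (h3.trans (map_one a).symm)
    · right; exact ia (h3.trans ha.symm)
  obtain ⟨κ, u, w, α, β, β', E, hκ, hE, w1, hQ, aU, aW, bU, bW, b'U, b'W⟩ :=
    coords h2 hc H.dim Q H.nd R H.iso a b b' T hT.symm hT' (by rw [ha, H.Rc]) hT1 ab ab' bb' ak
  have E1 : E (0, 1) = (0, 1) := by
    rw [hE, map_zero, w1, zero_add, Matrix.trace_one, Fintype.card_fin]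
    congr 1
    push_cast
    field_simp
  -- the form
  have hq : ∀ p, κ * q8 p = Q (E p).1 + κ * (E p).2 ^ 2 := by
    rintro ⟨X, Y⟩
    rw [hE]
    change κ * (X.det + Y.det) = Q (u X + w Y) + κ * (Y.trace / 2) ^ 2
    rw [hQ]
    ring
  -- the maps
  obtain ⟨f, hf⟩ : ∃ f : L → ((M2 F × M2 F) →ₗ[F] (M2 F × M2 F)), ∀ x p, E (f x p) = (R x (E p).1, (E p).2) := by
    refine ⟨fun x => (E.symm : (V × F) →ₗ[F] (M2 F × M2 F)) ∘ₗ (LinearMap.prodMap (R x) LinearMap.id) ∘ₗ
      (E : (M2 F × M2 F) →ₗ[F] (V × F)), fun x p => ?_⟩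
    change E (E.symm (R x (E p).1, (E p).2)) = _
    rw [LinearEquiv.apply_symm_apply]
  have fmul : ∀ x y p, f (x * y) p = f x (f y p) := by
    intro x y p
    apply E.injective
    rw [hf, hf, hf, map_mul]
    rfl
  have fone : ∀ p, f 1 p = p := by
    intro p
    apply E.injective
    rw [hf, map_one]
    rfl
  obtain ⟨π, hπ⟩ : ∃ π : L →* ((M2 F × M2 F) ≃ₗ[F] (M2 F × M2 F)), ∀ x p, π x p = f x p := by
    refine ⟨{ toFun := fun x => LinearEquiv.ofLinear (f x) (f x⁻¹) ?_ ?_, map_one' := ?_, map_mul' := ?_ },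
      fun x p => rfl⟩
    · apply LinearMap.ext
      intro p
      change f x (f x⁻¹ p) = p
      rw [← fmul, mul_inv_cancel, fone]
    · apply LinearMap.ext
      intro p
      change f x⁻¹ (f x p) = p
      rw [← fmul, inv_mul_cancel, fone]
    · apply LinearEquiv.ext
      intro p
      exact fone p
    · intro x y
      apply LinearEquiv.ext
      intro p
      exact fmul x y p
  have hEπ : ∀ x p, E (π x p) = (R x (E p).1, (E p).2) := by intro x p; rw [hπ, hf]
  -- transfer to `V`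
  have trans : ∀ T8 : (M2 F × M2 F) →ₗ[F] (M2 F × M2 F), (∀ p, q8 (T8 p) = q8 p) → T8 (0, 1) = (0, 1) →
      ∃ T7 : Module.End F V, (∀ p, E (T8 p) = (T7 (E p).1, (E p).2)) ∧ ∀ v, Q (T7 v) = Q v := by
    intro T8 h8 h81
    have hsnd : ∀ p, (E (T8 p)).2 = (E p).2 := by
      rintro ⟨X, Y⟩
      have h3 := trace_of h8 h81 (X, Y)
      rw [hE]
      obtain ⟨⟨X', Y'⟩, hXY⟩ : ∃ p, p = T8 (X, Y) := ⟨_, rfl⟩
      rw [← hXY] at h3 ⊢
      rw [hE]
      change Y'.trace / 2 = Y.trace / 2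
      change Y'.trace = Y.trace at h3
      rw [h3]
    obtain ⟨T7, hT7⟩ : ∃ T7 : Module.End F V, ∀ v, T7 v = (E (T8 (E.symm (v, 0)))).1 := by
      refine ⟨(LinearMap.fst F V F) ∘ₗ (E : (M2 F × M2 F) →ₗ[F] (V × F)) ∘ₗ T8 ∘ₗ
        (E.symm : (V × F) →ₗ[F] (M2 F × M2 F)) ∘ₗ (LinearMap.inl F V F), fun v => rfl⟩
    have key : ∀ p, E (T8 p) = (T7 (E p).1, (E p).2) := by
      intro p
      refine Prod.ext ?_ (hsnd p)
      have hp : p = E.symm ((E p).1, 0) + (E p).2 • ((0 : M2 F), (1 : M2 F)) := by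
        apply E.injective
        rw [map_add, map_smul, E1, LinearEquiv.apply_symm_apply]
        ext1
        · simp
        · simp
      change (E (T8 p)).1 = T7 (E p).1
      rw [hT7]
      conv_lhs => rw [hp]
      rw [map_add, map_smul, h81, map_add, map_smul, E1]
      simp
    refine ⟨T7, key, fun v => ?_⟩
    have h3 := hq (T8 (E.symm (v, 0)))
    have h4 := hq (E.symm (v, 0))
    rw [h8, key, LinearEquiv.apply_symm_apply] at h3
    rw [LinearEquiv.apply_symm_apply] at h4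
    change _ = Q (T7 v) + κ * (0 : F) ^ 2 at h3
    change _ = Q v + κ * (0 : F) ^ 2 at h4
    linear_combination h4 - h3
  have hα := aut_neg_one h2 α
  have hβ := aut_neg_one h2 β
  have hβ' := aut_neg_one h2 β'
  have tr : ∀ (A : SL F) (Y : M2 F), (A.1 * Y * (A⁻¹).1).trace = Y.trace := by
    intro A Y
    have h3 : (A⁻¹).1 * A.1 = 1 := by
      have h4 : (A⁻¹ * A).1 = (A⁻¹).1 * A.1 := Matrix.SpecialLinearGroup.coe_mul _ _
      rw [← h4, inv_mul_cancel]
      rfl
    rw [Matrix.trace_mul_comm, ← Matrix.mul_assoc, h3, Matrix.one_mul]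
  have range_eq : ∀ (φ : SL F →* L) (γ : MulAut (SL F)), (φ.comp γ.toMonoidHom).range = φ.range := by
    intro φ γ
    ext x
    constructor
    · rintro ⟨A, rfl⟩
      exact ⟨γ A, rfl⟩
    · rintro ⟨A, rfl⟩
      refine ⟨γ.symm A, ?_⟩
      change φ (γ (γ.symm A)) = φ A
      rw [MulEquiv.apply_symm_apply]
  refine ⟨a.comp α.toMonoidHom, b.comp β.toMonoidHom, b'.comp β'.toMonoidHom, π, ?_, range_eq _ _, range_eq _ _,
    range_eq _ _⟩
  refine
    { ker := ?_, πu := ?_, uu := H.cc, u1 := H.c1, cen := H.cen, det := ?_, fix := ?_, πa := ?_, πb := ?_,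
      πc := ?_, au := ?_, bcu := ?_, img := ?_ }
  · intro x hx
    apply H.ker
    apply LinearMap.ext
    intro v
    have h3 := hEπ x (E.symm (v, 0))
    rw [hx] at h3
    have h4 := congrArg Prod.fst h3
    change (E (E.symm (v, 0))).1 = R x (E (E.symm (v, 0))).1 at h4
    rw [LinearEquiv.apply_symm_apply] at h4
    exact h4.symm
  · apply LinearEquiv.ext
    intro p
    apply E.injective
    rw [hEπ, H.Rc]
    rfl
  · intro x p
    apply mul_left_cancel₀ hκ
    have h3 := hq (π x p)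
    have h4 := hq p
    rw [hEπ] at h3
    change _ = Q (R x (E p).1) + κ * (E p).2 ^ 2 at h3
    rw [H.iso] at h3
    exact h3.trans h4.symm
  · intro x
    apply E.injective
    rw [hEπ, E1]
    change (R x 0, (1 : F)) = (0, 1)
    rw [map_zero]
  · intro A X Y
    apply E.injective
    rw [hEπ, hE, hE]
    change (R (a (α A)) (u X + w Y), Y.trace / 2) = _
    rw [map_add, aU, aW, tr]
  · intro A X Y
    apply E.injective
    rw [hEπ, hE, hE]
    change (R (b (β A)) (u X + w Y), Y.trace / 2) = _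
    rw [map_add, bU, bW]
  · intro A X Y
    apply E.injective
    rw [hEπ, hE, hE]
    change (R (b' (β' A)) (u X + w Y), Y.trace / 2) = _
    rw [map_add, b'U, b'W]
  · change a (α (-1)) = c
    rw [hα, ha]
  · change b (β (-1)) * b' (β' (-1)) = c
    rw [hβ, hβ', hbb]
  · intro D Di N T Ti h
    obtain ⟨g, hg, gQ⟩ := trans (gb D Di N) (fun p => h.gb_det p.1 p.2) h.gb_one
    obtain ⟨r, hr, rQ⟩ := trans (rb D Di N) h.rb_q h.rb_one
    have ext7 : ∀ v v' : V, E.symm (v, 0) = E.symm (v', 0) → v = v' := by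
      intro v v' h3
      exact congrArg Prod.fst (E.symm.injective h3)
    have cg : ∀ v, gb D Di N (E.symm (v, 0)) = E.symm (g v, 0) := by
      intro v
      apply E.injective
      rw [hg, LinearEquiv.apply_symm_apply, LinearEquiv.apply_symm_apply]
    have cr : ∀ v, rb D Di N (E.symm (v, 0)) = E.symm (r v, 0) := by
      intro v
      apply E.injective
      rw [hr, LinearEquiv.apply_symm_apply, LinearEquiv.apply_symm_apply]
    obtain ⟨x, hx⟩ := H.img g r gQ rQ
      (fun v => ext7 _ _ (by rw [← cg, ← cg, ← cg, h.gb_cube]))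
      (fun v => ext7 _ _ (by rw [← cr, ← cr, h.rb_rb]))
      (fun v => ext7 _ _ (by rw [← cr, ← cg, ← cr, ← cg, ← cg, h.rb_gb_rb]))
    refine ⟨x, fun p => ?_⟩
    apply E.injective
    rw [hEπ, hg, hx]

end Cfsg.Agent.OddHalf.NI.Sol
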