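import Cfsg.Agent.OddHalf.NI.SolModel
import Cfsg.Agent.TwoFusion.SLTwoFacts
import Cfsg.Agent.ClassicalGeometry.PSL2Basic

/-!
# Sol(q): tools for the position of the three groups in the 7-dimensional space
-/

set_option autoImplicit false

namespace Cfsg.Agent.OddHalf.NI.Sol

open Matrix Cfsg.Agent.Lib.SL2Mat Cfsg.Agent.Lib.AutSL2 Cfsg.Agent.Lib.AutSL2Out
open scoped commutatorElement

/-- a homomorphism of a perfect group with commuting images is trivial -/
theorem perf_comm {S : Type*} [Group S] (hS : commutator S = ⊤) {M : Type*} [Monoid M] (C : S →* M)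
    (h : ∀ X Y, C X * C Y = C Y * C X) (X : S) : C X = 1 := by
  have h1 : commutator S ≤ (MonoidHom.toHomUnits C).ker := by
    rw [_root_.commutator_def, Subgroup.commutator_le]
    intro a _ b _
    rw [MonoidHom.mem_ker, map_commutatorElement, commutatorElement_eq_one_iff_mul_comm]
    apply Units.ext
    exact h a b
  have h2 : X ∈ (MonoidHom.toHomUnits C).ker := h1 (by rw [hS]; exact Subgroup.mem_top _)
  exact congrArg Units.val (MonoidHom.mem_ker.mp h2)

section field

variable {F : Type*} [Field F]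

theorem neg_one_ne (h2 : (2 : F) ≠ 0) : (-1 : SL F) ≠ 1 := by
  intro h
  have h1 := congrArg (fun A : SL F => A.1 0 0) h
  simp only [Matrix.SpecialLinearGroup.coe_neg, Matrix.SpecialLinearGroup.coe_one, Matrix.neg_apply,
    Matrix.one_apply_eq] at h1
  apply h2
  linear_combination -h1

theorem normal_SL [Fintype F] (h2 : (2 : F) ≠ 0) (hc : 3 < Fintype.card F) (N : Subgroup (SL F)) [hN : N.Normal]
    (h : (-1 : SL F) ∉ N) : N = ⊥ := by
  have hs : IsSimpleGroup (Matrix.ProjectiveSpecialLinearGroup (Fin 2) F) :=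
    Cfsg.Agent.TwoFusion.SLTwoFacts.isSimpleGroup_psl hc
  have hsurj : Function.Surjective (QuotientGroup.mk' (Subgroup.center (SL F))) := QuotientGroup.mk'_surjective _
  have hn : (N.map (QuotientGroup.mk' (Subgroup.center (SL F)))).Normal := hN.map _ hsurj
  rcases hs.eq_bot_or_eq_top_of_normal _ hn with h1 | h1
  · rw [eq_bot_iff]
    intro x hx
    have h3 : QuotientGroup.mk' (Subgroup.center (SL F)) x ∈ N.map (QuotientGroup.mk' (Subgroup.center (SL F))) :=
      ⟨x, hx, rfl⟩
    rw [h1, Subgroup.mem_bot, QuotientGroup.mk'_apply, QuotientGroup.eq_one_iff,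
      Cfsg.Agent.ClassicalGeometry.PSL2Basic.mem_center_SL2_iff] at h3
    rcases h3 with rfl | rfl
    · exact one_mem _
    · exact absurd hx h
  · exfalso
    apply h
    have h3 : ∀ X : SL F, QuotientGroup.mk' N X = 1 := by
      refine perf_comm (Cfsg.Agent.TwoFusion.SLTwoFacts.commutator_eq_top hc) (QuotientGroup.mk' N) ?_
      intro X Y
      have h4 : QuotientGroup.mk' (Subgroup.center (SL F)) X ∈
          N.map (QuotientGroup.mk' (Subgroup.center (SL F))) := by rw [h1]; exact Subgroup.mem_top _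
      obtain ⟨n, hn, hnX⟩ := h4
      rw [QuotientGroup.mk'_apply, QuotientGroup.mk'_apply, QuotientGroup.eq] at hnX
      have h5 : QuotientGroup.mk' N X = QuotientGroup.mk' N (n⁻¹ * X) := by
        rw [map_mul, map_inv, (QuotientGroup.eq_one_iff n).mpr hn |> fun h => (show QuotientGroup.mk' N n = 1 from h),
          inv_one, one_mul]
      rw [h5, ← map_mul, ← map_mul, Subgroup.mem_center_iff.mp hnX Y]
    exact (QuotientGroup.eq_one_iff (-1 : SL F)).mp (h3 (-1))

/-- a multiplicative map `SL₂ → M₂` with `-1 ↦ -1` is an automorphism of `SL₂` -/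
theorem aut_of [Fintype F] (h2 : (2 : F) ≠ 0) (hc : 3 < Fintype.card F) (B : SL F →* M2 F) (hB : B (-1) = -1) :
    ∃ β : MulAut (SL F), ∀ X, B X = (β X).1 := by
  have perf := Cfsg.Agent.TwoFusion.SLTwoFacts.commutator_eq_top hc
  have hdet : ∀ X, (B X).det = 1 := by
    intro X
    exact perf_comm perf ((Matrix.detMonoidHom (R := F) (n := Fin 2)).comp B) (fun X Y => mul_comm _ _) X
  let β0 : SL F →* SL F :=
    { toFun := fun X => ⟨B X, hdet X⟩
      map_one' := Subtype.ext (map_one B)
      map_mul' := fun X Y => Subtype.ext (map_mul B X Y) }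
  have hβ0 : ∀ X, (β0 X).1 = B X := fun X => rfl
  have hk : β0.ker = ⊥ := by
    refine normal_SL h2 hc _ ?_
    intro h
    rw [MonoidHom.mem_ker] at h
    apply neg_one_ne h2
    apply Subtype.ext
    have h3 := congrArg Subtype.val h
    rw [hβ0, hB] at h3
    rw [Matrix.SpecialLinearGroup.coe_neg]
    exact h3
  have hinj : Function.Injective β0 := (MonoidHom.ker_eq_bot_iff β0).mp hk
  have hbij : Function.Bijective β0 := hinj.bijective_of_finite
  exact ⟨MulEquiv.ofBijective β0 hbij, fun X => rfl⟩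

/-! ### the span of `SL₂` -/

def upS : SL F := ⟨!![1, 1; 0, 1], by rw [Matrix.det_fin_two]; simp⟩
def loS : SL F := ⟨!![1, 0; 1, 1], by rw [Matrix.det_fin_two]; simp⟩
def ulS : SL F := ⟨!![2, 1; 1, 1], by rw [Matrix.det_fin_two]; simp; norm_num⟩

theorem span_SL (X : M2 F) : X = X 0 1 • ((upS : SL F).1 - (1 : SL F).1) + X 1 0 • ((loS : SL F).1 - (1 : SL F).1) +
    X 0 0 • ((ulS : SL F).1 - (upS : SL F).1 - (loS : SL F).1 + (1 : SL F).1) +
    X 1 1 • ((1 : SL F).1 - ((ulS : SL F).1 - (upS : SL F).1 - (loS : SL F).1 + (1 : SL F).1)) := by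
  simp only [upS, loS, ulS, Matrix.SpecialLinearGroup.coe_one]
  ext i j
  fin_cases i <;> fin_cases j <;> simp <;> ring

theorem ext_SL {V : Type*} [AddCommGroup V] [Module F V] {f g : M2 F →ₗ[F] V} (h : ∀ A : SL F, f A.1 = g A.1) :
    ∀ X, f X = g X := by
  intro X
  rw [span_SL X]
  simp only [map_add, map_sub, map_smul, h]

/-- a matrix commuting with `SL₂` is scalar -/
theorem scalar_of_comm {C : M2 F} (h : ∀ A : SL F, C * A.1 = A.1 * C) : C = C 0 0 • (1 : M2 F) := by
  have h1 := h upS
  have h3 := h loS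
  simp only [upS, loS] at h1 h3
  have e1 := congrFun (congrFun h1 0) 1
  have e2 := congrFun (congrFun h1 0) 0
  have e3 := congrFun (congrFun h3 0) 0
  simp [Matrix.mul_apply, Fin.sum_univ_two] at e1 e2 e3
  ext i j
  fin_cases i <;> fin_cases j
  · simp
  · simpa using e3
  · simpa using e2
  · simp
    linear_combination -e1

/-! ### invariant quadratic forms on `M₂` -/

section form

open QuadraticMap

theorem form_M2 (h2 : (2 : F) ≠ 0) (q : QuadraticForm F (M2 F)) (hl : ∀ (A : SL F) (X : M2 F), q (A.1 * X) = q X) :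
    ∃ ν : F, ∀ X, q X = ν * X.det := by
  have add : ∀ x y, q (x + y) = q x + q y + polar q x y := fun x y => by rw [polar]; ring
  -- nilpotent `E`
  have key : ∀ (E : M2 F) (A A' : SL F), A.1 = 1 + E → A'.1 = 1 - E →
      ∀ X, q (E * X) = 0 ∧ polar q X (E * X) = 0 := by
    intro E A A' hA hA' X
    have h1 := hl A X
    have h3 := hl A' X
    rw [hA, Matrix.add_mul, Matrix.one_mul, add] at h1
    rw [hA', Matrix.sub_mul, Matrix.one_mul, sub_eq_add_neg, add, QuadraticMap.map_neg,
      QuadraticMap.polar_neg_right] at h3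
    have h4 : (2 : F) * q (E * X) = 0 := by linear_combination h1 + h3
    have h5 := (mul_eq_zero.mp h4).resolve_left h2
    refine ⟨h5, ?_⟩
    rw [h5] at h1
    linear_combination h1
  have kU := key !![0, 1; 0, 0] ⟨!![1, 1; 0, 1], by simp [Matrix.det_fin_two]⟩
    ⟨!![1, -1; 0, 1], by simp [Matrix.det_fin_two]⟩
    (by ext i j; fin_cases i <;> fin_cases j <;> simp) (by ext i j; fin_cases i <;> fin_cases j <;> simp)
  have kL := key !![0, 0; 1, 0] ⟨!![1, 0; 1, 1], by simp [Matrix.det_fin_two]⟩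
    ⟨!![1, 0; -1, 1], by simp [Matrix.det_fin_two]⟩
    (by ext i j; fin_cases i <;> fin_cases j <;> simp) (by ext i j; fin_cases i <;> fin_cases j <;> simp)
  obtain ⟨a, ha⟩ : ∃ a : M2 F, a = !![1, 0; 0, 0] := ⟨_, rfl⟩
  obtain ⟨b, hb⟩ : ∃ b : M2 F, b = !![0, 1; 0, 0] := ⟨_, rfl⟩
  obtain ⟨c, hc⟩ : ∃ c : M2 F, c = !![0, 0; 1, 0] := ⟨_, rfl⟩
  obtain ⟨d, hd⟩ : ∃ d : M2 F, d = !![0, 0; 0, 1] := ⟨_, rfl⟩
  have bc : !![(0 : F), 1; 0, 0] * c = a := by rw [hc, ha]; ext i j; fin_cases i <;> fin_cases j <;> simp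
  have bd : !![(0 : F), 1; 0, 0] * d = b := by rw [hd, hb]; ext i j; fin_cases i <;> fin_cases j <;> simp
  have ca : !![(0 : F), 0; 1, 0] * a = c := by rw [hc, ha]; ext i j; fin_cases i <;> fin_cases j <;> simp
  have cb : !![(0 : F), 0; 1, 0] * b = d := by rw [hd, hb]; ext i j; fin_cases i <;> fin_cases j <;> simp
  have qa : q a = 0 := by have := (kU c).1; rwa [bc] at this
  have qb : q b = 0 := by have := (kU d).1; rwa [bd] at this
  have qc : q c = 0 := by have := (kL a).1; rwa [ca] at this
  have qd : q d = 0 := by have := (kL b).1; rwa [cb] at this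
  have pca : polar q c a = 0 := by have := (kU c).2; rwa [bc] at this
  have pdb : polar q d b = 0 := by have := (kU d).2; rwa [bd] at this
  have pab : polar q a b = 0 := by
    have h1 := (kU (c + d)).1
    rw [Matrix.mul_add, bc, bd, add, qa, qb] at h1
    linear_combination h1
  have pcd : polar q c d = 0 := by
    have h1 := (kL (a + b)).1
    rw [Matrix.mul_add, ca, cb, add, qc, qd] at h1
    linear_combination h1
  have pp : polar q c b + polar q d a = 0 := by
    have h1 := (kU (c + d)).2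
    rw [Matrix.mul_add, bc, bd, QuadraticMap.polar_add_left, QuadraticMap.polar_add_right,
      QuadraticMap.polar_add_right, pca, pdb] at h1
    linear_combination h1
  refine ⟨polar q d a, fun X => ?_⟩
  have hX : X = X 0 0 • a + X 0 1 • b + X 1 0 • c + X 1 1 • d := by
    rw [ha, hb, hc, hd]
    ext i j
    fin_cases i <;> fin_cases j <;> simp
  conv_lhs => rw [hX]
  simp only [add, QuadraticMap.map_smul, QuadraticMap.polar_add_left, QuadraticMap.polar_smul_left,
    QuadraticMap.polar_smul_right, qa, qb, qc, qd, pab, smul_eq_mul, mul_zero, zero_add, add_zero]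
  rw [polar_comm q a c, polar_comm q b c, polar_comm q a d, polar_comm q b d, pca, pdb, pcd, Matrix.det_fin_two]
  linear_combination (X 0 1) * (X 1 0) * pp

end form

end field

end Cfsg.Agent.OddHalf.NI.Sol
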