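import Cfsg.Agent.OddHalf.NI.SolPosTools
import Cfsg.Agent.OddHalf.NI.QuatDim

/-!
# Sol(q): the `-1`-eigenspace `U` of `d` is `M₂(F)`, `B` acts by left, `B'` by right multiplication
-/

set_option autoImplicit false

namespace Cfsg.Agent.OddHalf.NI.Sol

open Matrix Module
open Cfsg.Agent.LFourR.FieldPart (val_mul val_one val_pow)

variable {F : Type*} [Field F] [Fintype F] {V : Type*} [AddCommGroup V] [Module F V] [FiniteDimensional F V]
  {L : Type*} [Group L]

omit [Fintype F] [FiniteDimensional F V] in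
theorem ap_mul (R : L →* Module.End F V) (x y : L) (v : V) : R (x * y) v = R x (R y v) := by
  rw [map_mul]; rfl

omit [Fintype F] [FiniteDimensional F V] in
theorem ap_comm (R : L →* Module.End F V) {x y : L} (h : x * y = y * x) (v : V) : R x (R y v) = R y (R x v) := by
  rw [← ap_mul, h, ap_mul]

omit [Fintype F] [FiniteDimensional F V] in
/-- homomorphisms commuting with the right multiplications act by left multiplications -/
theorem left_of (R : L →* Module.End F V) {b' : SL F →* L} {T : Module.End F V} {e : M2 F →ₗ[F] V}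
    (he : Function.Injective e) (hr : ∀ v, T v = -v ↔ ∃ X, e X = v) (β' : MulAut (SL F))
    (hb' : ∀ A X, R (b' (β' A)) (e X) = e (X * (A⁻¹).1)) (φ : SL F →* L)
    (hφ : ∀ X A, φ X * b' A = b' A * φ X) (hφT : ∀ X v, R (φ X) (T v) = T (R (φ X) v)) :
    ∃ C : SL F →* M2 F, ∀ X Y, R (φ X) (e Y) = e (C X * Y) := by
  have h1 : ∀ X, ∃ C, e C = R (φ X) (e 1) := by
    intro X
    rw [← hr, ← hφT, (hr (e 1)).mpr ⟨1, rfl⟩, map_neg]
  choose C hC using h1
  have key : ∀ X Y, R (φ X) (e Y) = e (C X * Y) := by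
    intro X
    have h3 := ext_SL (F := F) (V := V) (f := (R (φ X)).comp e) (g := e.comp (LinearMap.mulLeft F (C X))) (by
      intro A
      change R (φ X) (e A.1) = e (C X * A.1)
      have h4 : ∀ Z : M2 F, e (Z * A.1) = R (b' (β' A⁻¹)) (e Z) := by
        intro Z
        rw [hb', inv_inv]
      have h5 : e A.1 = R (b' (β' A⁻¹)) (e 1) := by rw [← h4, Matrix.one_mul]
      rw [h5, ap_comm R (hφ _ _), ← hC, h4])
    exact h3
  refine ⟨{ toFun := C, map_one' := ?_, map_mul' := ?_ }, key⟩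
  · apply he
    rw [hC, map_one, map_one]
    rfl
  · intro X Y
    apply he
    rw [hC, map_mul, ap_mul, ← hC, key]

theorem uPart (h2 : (2 : F) ≠ 0) (hc : 3 < Fintype.card F) (hd : finrank F V = 7) (R : L →* Module.End F V)
    (a b b' : SL F →* L) (T : Module.End F V) (hTb : R (b (-1)) = T) (hTb' : R (b' (-1)) = T)
    (hTa : R (a (-1)) = 1) (hT1 : T ≠ 1) (ab : ∀ A B, a A * b B = b B * a A) (ab' : ∀ A B, a A * b' B = b' B * a A)
    (bb' : ∀ A B, b A * b' B = b' B * b A) :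
    ∃ (e : M2 F →ₗ[F] V) (β β' : MulAut (SL F)), Function.Injective e ∧ (∀ v, T v = -v ↔ ∃ X, e X = v) ∧
      (∀ A X, R (b (β A)) (e X) = e (A.1 * X)) ∧ (∀ A X, R (b' (β' A)) (e X) = e (X * (A⁻¹).1)) ∧
      (∀ A X, R (a A) (e X) = e X) := by
  have perf := Cfsg.Agent.TwoFusion.SLTwoFacts.commutator_eq_top (F := F) hc
  obtain ⟨α, γ, hαγ⟩ := QuatDim.exists_sq_add F
  obtain ⟨I, hI⟩ : ∃ I : SL F, I = ⟨!![0, 1; -1, 0], by simp [Matrix.det_fin_two]⟩ := ⟨_, rfl⟩
  obtain ⟨J, hJ⟩ : ∃ J : SL F, J = ⟨!![α, γ; γ, -α], by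
    rw [Matrix.det_fin_two]; simp; linear_combination -hαγ⟩ := ⟨_, rfl⟩
  have hIv : I.1 = !![0, 1; -1, 0] := by rw [hI]
  have hJv : J.1 = !![α, γ; γ, -α] := by rw [hJ]
  have hneg : ∀ A : SL F, (-A).1 = -A.1 := fun A => Matrix.SpecialLinearGroup.coe_neg A
  have hII : I * I = -1 := by
    apply Subtype.ext
    rw [val_mul, hneg, hIv]
    ext i j
    fin_cases i <;> fin_cases j <;> simp [Matrix.mul_apply, Fin.sum_univ_two]
  have hJJ : J * J = -1 := by
    apply Subtype.ext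
    rw [val_mul, hneg, hJv]
    ext i j
    fin_cases i <;> fin_cases j <;> simp [Matrix.mul_apply, Fin.sum_univ_two]
    · exact hαγ
    · ring
    · ring
    · linear_combination hαγ
  have hJI : J * I = -1 * (I * J) := by
    rw [neg_one_mul]
    apply Subtype.ext
    rw [val_mul, hneg, val_mul, hIv, hJv]
    ext i j
    fin_cases i <;> fin_cases j <;> simp [Matrix.mul_apply, Fin.sum_univ_two]
  have hcen : ∀ X : SL F, -1 * X = X * -1 := by
    intro X
    rw [neg_one_mul, mul_neg_one]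
  have hm1 : (-1 : SL F) * -1 = 1 := by rw [neg_mul_neg, one_mul]
  -- vector relations
  obtain ⟨i, hi⟩ : ∃ i, i = R (b I) := ⟨_, rfl⟩
  obtain ⟨j, hj⟩ : ∃ j, j = R (b J) := ⟨_, rfl⟩
  have TT : ∀ v, T (T v) = v := by
    intro v
    rw [← hTb, ← ap_mul, ← map_mul, hm1, map_one, map_one]
    rfl
  have bT : ∀ X v, R (b X) (T v) = T (R (b X) v) := by
    intro X v
    rw [← hTb]
    exact ap_comm R (by rw [← map_mul, ← map_mul, hcen]) v
  have b'T : ∀ X v, R (b' X) (T v) = T (R (b' X) v) := by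
    intro X v
    rw [← hTb]
    exact ap_comm R (bb' _ _).symm v
  have aT : ∀ X v, R (a X) (T v) = T (R (a X) v) := by
    intro X v
    rw [← hTb]
    exact ap_comm R (ab _ _) v
  have iT : ∀ v, i (T v) = T (i v) := by rw [hi]; exact bT I
  have jT : ∀ v, j (T v) = T (j v) := by rw [hj]; exact bT J
  have ii : ∀ v, i (i v) = T v := by
    intro v
    rw [hi, ← ap_mul, ← map_mul, hII, hTb]
  have jj : ∀ v, j (j v) = T v := by
    intro v
    rw [hj, ← ap_mul, ← map_mul, hJJ, hTb]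
  have ji : ∀ v, j (i v) = T (i (j v)) := by
    intro v
    calc j (i v) = R (b (J * I)) v := by rw [hi, hj, map_mul, ap_mul]
      _ = R (b (-1)) (R (b I) (R (b J) v)) := by rw [hJI, map_mul, map_mul b I J, ap_mul, ap_mul]
      _ = T (i (j v)) := by rw [hTb, hi, hj]
  -- `s` and `k`
  obtain ⟨s, hs⟩ : ∃ s : Module.End F V, s = α • i + γ • j := ⟨_, rfl⟩
  have sv : ∀ v, s v = α • i v + γ • j v := by intro v; rw [hs]; rfl
  have sT : ∀ v, s (T v) = T (s v) := by
    intro v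
    rw [sv, sv, iT, jT, map_add, map_smul, map_smul]
  have ss : ∀ v, T v = -v → s (s v) = v := by
    intro v hv
    have h3 : T (i (j v)) = -i (j v) := by rw [← iT, ← jT, hv, map_neg, map_neg]
    rw [sv, sv v]
    simp only [map_add, map_smul, ii, jj, ji, h3, hv]
    have : α • (α • -v + γ • i (j v)) + γ • (α • -i (j v) + γ • -v) = -(α * α + γ * γ) • v := by module
    rw [this, hαγ]
    simp
  obtain ⟨k, hk⟩ : ∃ k : Module.End F V, k = i * j := ⟨_, rfl⟩
  have kv : ∀ v, k v = i (j v) := by intro v; rw [hk]; rfl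
  have kT : ∀ v, k (T v) = T (k v) := by intro v; rw [kv, kv, jT, iT]
  have kk : ∀ v, k (k v) = T v := by
    intro v
    rw [kv, kv, ji, iT, ii, TT, jj]
  have sk : ∀ v, T v = -v → s (k v) = -k (s v) := by
    intro v hv
    have t1 : i (i (j v)) = -j v := by rw [ii, ← jT, hv, map_neg]
    have t2 : j (i (j v)) = i v := by rw [ji, jj, iT, TT]
    have t3 : i (j (i v)) = j v := by rw [ji, iT, ii, TT]
    have t4 : i (j (j v)) = -i v := by rw [jj, hv, map_neg]
    simp only [sv, kv, map_add, map_smul, t1, t2, t3, t4]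
    module
  -- the space `M`
  obtain ⟨M, hM⟩ : ∃ M : Submodule F V, ∀ v, v ∈ M ↔ T v = -v ∧ s v = v := by
    refine ⟨LinearMap.ker (T + 1) ⊓ LinearMap.ker (s - 1), fun v => ?_⟩
    rw [Submodule.mem_inf, LinearMap.mem_ker, LinearMap.mem_ker, LinearMap.add_apply, LinearMap.sub_apply,
      Module.End.one_apply, sub_eq_zero, eq_neg_iff_add_eq_zero]
  obtain ⟨e2, he2⟩ : ∃ e2 : (↥M × ↥M) →ₗ[F] V, ∀ x, e2 x = (x.1 : V) + k (x.2 : V) :=
    ⟨(M.subtype.comp (LinearMap.fst F ↥M ↥M)) + k.comp (M.subtype.comp (LinearMap.snd F ↥M ↥M)), fun x => rfl⟩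
  have e2inj : ∀ x : ↥M × ↥M, e2 x = 0 → x = 0 := by
    intro x hx
    rw [he2] at hx
    obtain ⟨x1, x2⟩ := x
    obtain ⟨y1, z1⟩ := (hM x1).mp x1.2
    obtain ⟨y2, z2⟩ := (hM x2).mp x2.2
    change (x1 : V) + k (x2 : V) = 0 at hx
    have h3 : s ((x1 : V) + k (x2 : V)) = (x1 : V) - k (x2 : V) := by
      rw [map_add, z1, sk _ y2, z2, sub_eq_add_neg]
    rw [hx, map_zero] at h3
    have h4 : (2 : F) • (x1 : V) = 0 := by
      rw [two_smul]
      calc (x1 : V) + x1 = ((x1 : V) + k x2) + ((x1 : V) - k x2) := by abel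
        _ = 0 := by rw [hx, ← h3, add_zero]
    have h5 : (x1 : V) = 0 := (smul_eq_zero.mp h4).resolve_left h2
    rw [h5, zero_add] at hx
    have h6 := kk (x2 : V)
    rw [hx, map_zero, y2] at h6
    have h7 : (x2 : V) = 0 := neg_eq_zero.mp h6.symm
    exact Prod.ext (Subtype.ext h5) (Subtype.ext h7)
  have e2inj' : Function.Injective e2 := (injective_iff_map_eq_zero e2).mpr e2inj
  have hle : 2 * finrank F ↥M ≤ 7 := by
    have h3 := LinearMap.finrank_le_finrank_of_injective e2inj'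
    rw [finrank_prod, hd] at h3
    omega
  -- surjectivity onto `U`
  have e2sur : ∀ v, T v = -v → ∃ x, e2 x = v := by
    intro v hv
    have hsT : T (s v) = -s v := by rw [← sT, hv, map_neg]
    have hx : (2 : F)⁻¹ • (v + s v) ∈ M := by
      rw [hM]
      constructor
      · rw [map_smul, map_add, hv, hsT]; module
      · rw [map_smul, map_add, ss v hv]; module
    have hkv : T (k v) = -k v := by rw [← kT, hv, map_neg]
    have hksv : T (k (s v)) = -k (s v) := by rw [← kT, hsT, map_neg]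
    have hy : (2 : F)⁻¹ • (-k (v - s v)) ∈ M := by
      rw [hM]
      constructor
      · rw [map_smul, map_neg, map_sub, map_sub, hkv, hksv]; module
      · rw [map_smul, map_neg, map_sub, map_sub, sk v hv, sk (s v) hsT, ss v hv]; module
    refine ⟨(⟨_, hx⟩, ⟨_, hy⟩), ?_⟩
    rw [he2]
    change (2 : F)⁻¹ • (v + s v) + k ((2 : F)⁻¹ • (-k (v - s v))) = v
    rw [map_smul, map_neg, kk, map_sub, hv, hsT]
    have h3 : (2 : F)⁻¹ • (v + s v) + (2 : F)⁻¹ • (-(-v - -s v)) = ((2 : F)⁻¹ * 2) • v := by module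
    rw [h3, inv_mul_cancel₀ h2, one_smul]
  -- `M ≠ 0`
  have hpos : 0 < finrank F ↥M := by
    rw [Module.finrank_pos_iff_exists_ne_zero]
    have h3 : ∃ v, T v ≠ v := by
      by_contra hcon
      push Not at hcon
      exact hT1 (LinearMap.ext hcon)
    obtain ⟨v, hv⟩ := h3
    have hu : T (v - T v) = -(v - T v) := by rw [map_sub, TT]; abel
    obtain ⟨x, hx⟩ := e2sur _ hu
    by_contra hcon
    push Not at hcon
    have h4 : x = 0 := Prod.ext (hcon x.1) (hcon x.2)
    rw [h4, map_zero] at hx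
    exact hv (sub_eq_zero.mp hx.symm).symm
  -- the action of `b'` on `M`
  have b's : ∀ X v, R (b' X) (s v) = s (R (b' X) v) := by
    intro X v
    rw [sv, sv, map_add, map_smul, map_smul, hi, hj, ap_comm R (bb' _ _).symm, ap_comm R (bb' _ _).symm]
  have b'k : ∀ X v, R (b' X) (k v) = k (R (b' X) v) := by
    intro X v
    rw [kv, kv, hi, hj, ap_comm R (bb' _ _).symm, ap_comm R (bb' _ _).symm]
  have b'M : ∀ X, ∀ v ∈ M, R (b' X) v ∈ M := by
    intro X v hv
    rw [hM] at hv ⊢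
    constructor
    · rw [← b'T, hv.1, map_neg]
    · rw [← b's, hv.2]
  obtain ⟨θ, hθ⟩ : ∃ θ : SL F →* Module.End F ↥M, ∀ X (v : ↥M), ((θ X v : ↥M) : V) = R (b' X) v := by
    refine ⟨{ toFun := fun X => (R (b' X)).restrict (b'M X), map_one' := ?_, map_mul' := ?_ }, fun X v => rfl⟩
    · apply LinearMap.ext
      intro v
      apply Subtype.ext
      change R (b' 1) (v : V) = v
      rw [map_one, map_one]
      rfl
    · intro X Y
      apply LinearMap.ext
      intro v
      apply Subtype.ext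
      change R (b' (X * Y)) (v : V) = R (b' X) (R (b' Y) v)
      rw [map_mul, ap_mul]
  have hdet : ∀ X, LinearMap.det (θ X) = 1 := fun X =>
    perf_comm perf ((LinearMap.det (A := F) (M := ↥M)).comp θ) (fun X Y => mul_comm _ _) X
  have hθ1 : θ (-1) = (-1 : F) • LinearMap.id := by
    apply LinearMap.ext
    intro v
    apply Subtype.ext
    rw [hθ, hTb', ((hM v).mp v.2).1]
    simp
  have heven : finrank F ↥M = 2 := by
    have h3 := hdet (-1)
    rw [hθ1, LinearMap.det_smul, LinearMap.det_id, mul_one] at h3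
    have h4 : Even (finrank F ↥M) := by
      by_contra hne
      rw [Nat.not_even_iff_odd] at hne
      rw [hne.neg_one_pow] at h3
      apply h2
      linear_combination -h3
    obtain ⟨n, hn⟩ := h4
    omega
  -- coordinates
  obtain ⟨ε⟩ : Nonempty ((Fin 2 → F) ≃ₗ[F] ↥M) := ⟨(Module.finBasisOfFinrankEq F ↥M heven).equivFun.symm⟩
  obtain ⟨e, he⟩ : ∃ e : M2 F →ₗ[F] V, ∀ X, e X = (ε (X 0) : V) + k (ε (X 1) : V) := by
    refine ⟨{ toFun := fun X => (ε (X 0) : V) + k (ε (X 1) : V), map_add' := ?_, map_smul' := ?_ }, fun X => rfl⟩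
    · intro X Y
      have h3 : ∀ i, (X + Y) i = X i + Y i := fun i => rfl
      rw [h3, h3, map_add, map_add, Submodule.coe_add, Submodule.coe_add, map_add]
      abel
    · intro c X
      have h3 : ∀ i, (c • X) i = c • X i := fun i => rfl
      rw [h3, h3, map_smul, map_smul, Submodule.coe_smul, Submodule.coe_smul, map_smul, RingHom.id_apply, smul_add]
  have he' : ∀ X, e X = e2 (ε (X 0), ε (X 1)) := by intro X; rw [he, he2]
  have einj : Function.Injective e := by
    rw [injective_iff_map_eq_zero]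
    intro X hX
    rw [he'] at hX
    have h3 := e2inj _ hX
    have h4 : ε (X 0) = 0 := congrArg Prod.fst h3
    have h5 : ε (X 1) = 0 := congrArg Prod.snd h3
    have h6 : X 0 = 0 := (map_eq_zero_iff ε ε.injective).mp h4
    have h7 : X 1 = 0 := (map_eq_zero_iff ε ε.injective).mp h5
    ext i j
    fin_cases i
    · exact congrFun h6 j
    · exact congrFun h7 j
  have erange : ∀ v, T v = -v ↔ ∃ X, e X = v := by
    intro v
    constructor
    · intro hv
      obtain ⟨x, hx⟩ := e2sur v hv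
      refine ⟨Matrix.of ![ε.symm x.1, ε.symm x.2], ?_⟩
      rw [he']
      have h3 : (Matrix.of ![ε.symm x.1, ε.symm x.2] : M2 F) 0 = ε.symm x.1 := rfl
      have h4 : (Matrix.of ![ε.symm x.1, ε.symm x.2] : M2 F) 1 = ε.symm x.2 := rfl
      rw [h3, h4, LinearEquiv.apply_symm_apply, LinearEquiv.apply_symm_apply]
      exact hx
    · rintro ⟨X, rfl⟩
      rw [he, map_add, ← kT, ((hM _).mp (ε (X 0)).2).1, ((hM _).mp (ε (X 1)).2).1, map_neg]
      abel
  -- matrices of `b'`
  obtain ⟨N, hN⟩ : ∃ N : SL F →* M2 F, ∀ A, N A =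
      (LinearMap.toMatrix' ((ε.symm : ↥M →ₗ[F] (Fin 2 → F)) ∘ₗ θ A⁻¹ ∘ₗ (ε : (Fin 2 → F) →ₗ[F] ↥M)))ᵀ := by
    refine ⟨{ toFun := fun A => (LinearMap.toMatrix' ((ε.symm : ↥M →ₗ[F] (Fin 2 → F)) ∘ₗ θ A⁻¹ ∘ₗ
      (ε : (Fin 2 → F) →ₗ[F] ↥M)))ᵀ, map_one' := ?_, map_mul' := ?_ }, fun A => rfl⟩
    · rw [inv_one, map_one]
      have h3 : ((ε.symm : ↥M →ₗ[F] (Fin 2 → F)) ∘ₗ (1 : Module.End F ↥M) ∘ₗ (ε : (Fin 2 → F) →ₗ[F] ↥M)) =
          LinearMap.id := by
        apply LinearMap.ext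
        intro x
        exact ε.symm_apply_apply x
      rw [h3, LinearMap.toMatrix'_id, Matrix.transpose_one]
    · intro A B
      rw [← Matrix.transpose_mul, ← LinearMap.toMatrix'_comp]
      congr 2
      apply LinearMap.ext
      intro x
      change ε.symm (θ (A * B)⁻¹ (ε x)) = ε.symm (θ B⁻¹ (ε (ε.symm (θ A⁻¹ (ε x)))))
      rw [LinearEquiv.apply_symm_apply, _root_.mul_inv_rev, map_mul]
      rfl
  have hNv : ∀ A x, θ A⁻¹ (ε x) = ε ((N A)ᵀ *ᵥ x) := by
    intro A x
    rw [hN, Matrix.transpose_transpose, ← Matrix.toLin'_apply, Matrix.toLin'_toMatrix']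
    change _ = ε (ε.symm (θ A⁻¹ (ε x)))
    rw [LinearEquiv.apply_symm_apply]
  have hb'e : ∀ A X, R (b' A⁻¹) (e X) = e (X * N A) := by
    intro A X
    have h3 : ∀ i, (X * N A) i = (N A)ᵀ *ᵥ X i := by
      intro i
      rw [Matrix.mulVec_transpose]
      rfl
    rw [he, he, h3, h3, map_add, b'k, ← hNv, ← hNv, hθ, hθ]
  have hN1 : N (-1) = -1 := by
    apply einj
    have h3 := hb'e (-1) 1
    rw [Matrix.one_mul] at h3
    have h4 : ((-1 : SL F))⁻¹ = -1 := inv_eq_of_mul_eq_one_left hm1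
    rw [← h3, h4, hTb', (erange _).mpr ⟨1, rfl⟩, map_neg]
  obtain ⟨ν, hν⟩ := aut_of h2 hc N hN1
  have hb'f : ∀ A X, R (b' (ν.symm A)) (e X) = e (X * (A⁻¹).1) := by
    intro A X
    have h3 := hb'e (ν.symm A)⁻¹ X
    rw [inv_inv] at h3
    rw [h3, hν, map_inv, MulEquiv.apply_symm_apply]
  -- `b`
  obtain ⟨B, hB⟩ := left_of R einj erange ν.symm hb'f b bb' bT
  have hB1 : B (-1) = -1 := by
    apply einj
    have h3 := hB (-1) 1
    rw [Matrix.mul_one] at h3
    rw [← h3, hTb, (erange _).mpr ⟨1, rfl⟩, map_neg]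
  obtain ⟨β, hβ⟩ := aut_of h2 hc B hB1
  have hbf : ∀ A X, R (b (β.symm A)) (e X) = e (A.1 * X) := by
    intro A X
    rw [hB, hβ, MulEquiv.apply_symm_apply]
  -- `a`
  obtain ⟨C, hC⟩ := left_of R einj erange ν.symm hb'f a ab' aT
  have hCs : ∀ X, C X = (C X) 0 0 • (1 : M2 F) := by
    intro X
    apply scalar_of_comm
    intro A
    apply einj
    have h3 : e A.1 = R (b (β.symm A)) (e 1) := by rw [hbf, Matrix.mul_one]
    have h4 : e (C X) = R (a X) (e 1) := by rw [hC, Matrix.mul_one]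
    rw [← hC, h3, ap_comm R (ab _ _), ← h4, hbf]
  have hC1 : ∀ X, C X = 1 := by
    refine perf_comm perf C ?_
    intro X Y
    rw [hCs X, Matrix.smul_mul, Matrix.mul_smul, Matrix.one_mul, Matrix.mul_one]
  exact ⟨e, β.symm, ν.symm, einj, erange, hbf, hb'f, fun A X => by rw [hC, hC1, Matrix.one_mul]⟩

end Cfsg.Agent.OddHalf.NI.Sol
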