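import Cfsg.Agent.OddHalf.NI.SolPosU
import Cfsg.Agent.UGT.U2.FOne.OrthScal
import Cfsg.Agent.LieClassical.OrthThreeOmega
import Cfsg.Agent.LieClassical.OrthCenter
import Cfsg.Agent.LieClassical.OrthForms
import Cfsg.Agent.LieClassical.OmegaReindex

/-!
# Sol(q): the fixed space `W` of `d` is the space of the matrices of trace zero, `A` acts by conjugation
-/

set_option autoImplicit false

namespace Cfsg.Agent.OddHalf.NI.Sol

open Matrix Module QuadraticMap
open Cfsg.Agent.LFourR.FieldPart (val_mul val_one val_pow)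
open Cfsg.Agent.LieClassical.OrthThree Cfsg.Agent.LieClassical.OrthThreeOmega
open Cfsg.Agent.LieClassical.OrthCore (Nondeg)
open Cfsg.Agent.LieClassical.OrthTrans (Hyp)

variable {F : Type*} [Field F]

/-- `z ↦ z₀ p + z₁ q + z₂ r` -/
def lin3 {V : Type*} [AddCommGroup V] [Module F V] (p q r : V) : (I3 → F) →ₗ[F] V where
  toFun z := z (.inl ()) • p + z (.inr (.inl 0)) • q + z (.inr (.inr 0)) • r
  map_add' x y := by simp only [Pi.add_apply, add_smul]; abel
  map_smul' c x := by simp only [Pi.smul_apply, smul_eq_mul, mul_smul, RingHom.id_apply, smul_add]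

theorem lin3_apply {V : Type*} [AddCommGroup V] [Module F V] (p q r : V) (z : I3 → F) :
    lin3 p q r z = z (.inl ()) • p + z (.inr (.inl 0)) • q + z (.inr (.inr 0)) • r := rfl

theorem lin3_vec {V : Type*} [AddCommGroup V] [Module F V] (p q r : V) (x y z : F) :
    lin3 p q r (vec x y z) = x • p + y • q + z • r := rfl

theorem vec_ext {z w : I3 → F} (h0 : z (.inl ()) = w (.inl ())) (h1 : z (.inr (.inl 0)) = w (.inr (.inl 0)))
    (h2 : z (.inr (.inr 0)) = w (.inr (.inr 0))) : z = w := by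
  rw [eq_vec z, eq_vec w, h0, h1, h2]

theorem quad_eq (z : I3 → F) : Cfsg.quadFormOdd 1 F z =
    z (.inl ()) ^ 2 + z (.inr (.inl 0)) * z (.inr (.inr 0)) := by
  conv_lhs => rw [eq_vec z]
  rw [quadForm_vec]

variable {V : Type*} [AddCommGroup V] [Module F V] [FiniteDimensional F V]

theorem wSpace [Finite F] (h2 : (2 : F) ≠ 0) (hd : finrank F V = 7) (Q : QuadraticForm F V) (nd : Nondeg Q)
    (T : Module.End F V) (TT : ∀ v, T (T v) = v) (TQ : ∀ v, Q (T v) = Q v) (e : M2 F →ₗ[F] V)
    (einj : Function.Injective e) (er : ∀ v, T v = -v ↔ ∃ X, e X = v) :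
    ∃ (ε : (I3 → F) →ₗ[F] V) (κ : F), κ ≠ 0 ∧ Function.Injective ε ∧ (∀ v, T v = v ↔ ∃ x, ε x = v) ∧
      ∀ x, Q (ε x) = κ * Cfsg.quadFormOdd 1 F x := by
  have Tp : ∀ v w, polar Q (T v) (T w) = polar Q v w := by
    intro v w
    rw [polar, polar, ← map_add, TQ, TQ, TQ]
  obtain ⟨W, hW⟩ : ∃ W : Submodule F V, W = LinearMap.ker (T - 1) := ⟨_, rfl⟩
  have memW : ∀ v, v ∈ W ↔ T v = v := by
    intro v
    rw [hW, LinearMap.mem_ker, LinearMap.sub_apply, Module.End.one_apply, sub_eq_zero]
  have hrange : LinearMap.range (T - 1) = LinearMap.range e := by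
    ext v
    rw [LinearMap.mem_range, LinearMap.mem_range, ← er]
    constructor
    · rintro ⟨w, rfl⟩
      rw [LinearMap.sub_apply, Module.End.one_apply, map_sub, TT]
      abel
    · intro hv
      refine ⟨(2 : F)⁻¹ • (-v), ?_⟩
      rw [LinearMap.sub_apply, Module.End.one_apply, map_smul, map_neg, hv]
      have : (2 : F)⁻¹ • - -v - (2 : F)⁻¹ • -v = ((2 : F)⁻¹ * 2) • v := by module
      rw [this, inv_mul_cancel₀ h2, one_smul]
  have hdW : finrank F ↥W = 3 := by
    have h3 := LinearMap.finrank_range_add_finrank_ker (T - 1)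
    rw [hrange, LinearMap.finrank_range_of_inj einj, ← hW, hd] at h3
    have h4 : finrank F (M2 F) = 4 := by
      rw [Module.finrank_matrix]; simp
    omega
  obtain ⟨QW, hQW⟩ : ∃ QW : QuadraticForm F ↥W, QW = Q.comp W.subtype := ⟨_, rfl⟩
  have QWa : ∀ x : ↥W, QW x = Q (x : V) := by intro x; rw [hQW]; rfl
  have pW : ∀ x y : ↥W, polar QW x y = polar Q (x : V) (y : V) := by
    intro x y
    rw [polar, polar, QWa, QWa, QWa]
    rfl
  have ndW : Nondeg QW := by
    intro x hx
    apply Subtype.ext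
    apply nd
    intro v
    have h3 := (memW x).mp x.2
    have hv : v + T v ∈ W := by rw [memW, map_add, TT, add_comm]
    have h4 := hx ⟨_, hv⟩
    rw [pW] at h4
    change polar Q (x : V) (v + T v) = 0 at h4
    rw [QuadraticMap.polar_add_right] at h4
    have h5 := Tp x v
    rw [h3] at h5
    rw [h5, ← two_mul] at h4
    exact (mul_eq_zero.mp h4).resolve_left h2
  obtain ⟨x, y, hxy⟩ := Cfsg.Agent.UGT.U2.FOne.Orth.exists_hyp_of_dim h2 ndW (by rw [hdW])
  obtain ⟨w, hw0, hxw, hyw⟩ : ∃ w : ↥W, w ≠ 0 ∧ polar QW x w = 0 ∧ polar QW y w = 0 := by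
    have h3 : LinearMap.ker (LinearMap.prod (polarBilin QW x) (polarBilin QW y)) ≠ ⊥ := by
      apply LinearMap.ker_ne_bot_of_finrank_lt
      rw [finrank_prod, finrank_self, hdW]
      norm_num
    obtain ⟨w, hw, hw0⟩ := Submodule.exists_mem_ne_zero_of_ne_bot h3
    have hw' : ((polarBilin QW x w, polarBilin QW y w) : F × F) = 0 := LinearMap.mem_ker.mp hw
    exact ⟨w, hw0, congrArg Prod.fst hw', congrArg Prod.snd hw'⟩
  -- coordinates of `W`
  have gsur : ∀ v : ↥W, ∃ z : I3 → F, lin3 w x y z = v := by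
    have ginj : Function.Injective (lin3 (F := F) w x y) := by
      rw [injective_iff_map_eq_zero]
      intro z hz
      rw [lin3_apply] at hz
      have h3 : polar QW x (z (.inl ()) • w + z (.inr (.inl 0)) • x + z (.inr (.inr 0)) • y) = 0 := by
        rw [hz, QuadraticMap.polar_zero_right]
      have h4 : polar QW y (z (.inl ()) • w + z (.inr (.inl 0)) • x + z (.inr (.inr 0)) • y) = 0 := by
        rw [hz, QuadraticMap.polar_zero_right]
      simp only [QuadraticMap.polar_add_right, QuadraticMap.polar_smul_right, hxw, hyw, hxy.pair, hxy.pair',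
        hxy.polar_left, hxy.polar_right, smul_eq_mul, mul_zero, mul_one, zero_add, add_zero] at h3 h4
      rw [h3, h4, zero_smul, zero_smul, add_zero, add_zero] at hz
      have h5 := (smul_eq_zero.mp hz).resolve_right hw0
      exact vec_ext h5 h4 h3
    have hfin : finrank F (I3 → F) = finrank F ↥W := by
      rw [hdW, Module.finrank_fintype_fun_eq_card]
      rfl
    exact (LinearMap.injective_iff_surjective_of_finrank_eq_finrank hfin).mp ginj
  obtain ⟨κ, hκ⟩ : ∃ κ, κ = QW w := ⟨_, rfl⟩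
  have hκ0 : κ ≠ 0 := by
    intro h0
    apply hw0
    apply ndW
    intro v
    obtain ⟨z, rfl⟩ := gsur v
    rw [lin3_apply]
    simp only [QuadraticMap.polar_add_right, QuadraticMap.polar_smul_right]
    rw [QuadraticMap.polar_comm QW w x, QuadraticMap.polar_comm QW w y, hxw, hyw, QuadraticMap.polar_self, ← hκ, h0]
    simp
  have hx' := (memW x).mp x.2
  have hy' := (memW y).mp y.2
  have hw' := (memW w).mp w.2
  have hzv : ∀ z : I3 → F, lin3 (w : V) (κ • (x : V)) (y : V) z =
      ((z (.inr (.inl 0)) * κ) • x + z (.inr (.inr 0)) • y + z (.inl ()) • w : ↥W) := by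
    intro z
    rw [lin3_apply]
    push_cast
    module
  refine ⟨lin3 (w : V) (κ • (x : V)) (y : V), κ, hκ0, ?_, ?_, ?_⟩
  · rw [injective_iff_map_eq_zero]
    intro z hz
    rw [hzv] at hz
    have hz' : (z (.inr (.inl 0)) * κ) • x + z (.inr (.inr 0)) • y + z (.inl ()) • w = 0 := Subtype.ext hz
    have h3 : polar QW x ((z (.inr (.inl 0)) * κ) • x + z (.inr (.inr 0)) • y + z (.inl ()) • w) = 0 := by
      rw [hz', QuadraticMap.polar_zero_right]
    have h4 : polar QW y ((z (.inr (.inl 0)) * κ) • x + z (.inr (.inr 0)) • y + z (.inl ()) • w) = 0 := by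
      rw [hz', QuadraticMap.polar_zero_right]
    simp only [QuadraticMap.polar_add_right, QuadraticMap.polar_smul_right, hxw, hyw, hxy.pair, hxy.pair',
      hxy.polar_left, hxy.polar_right, smul_eq_mul, mul_zero, mul_one, zero_add, add_zero] at h3 h4
    rw [h3, h4, zero_smul, zero_smul, zero_add, zero_add] at hz'
    have h5 := (smul_eq_zero.mp hz').resolve_right hw0
    exact vec_ext h5 ((mul_eq_zero.mp h4).resolve_right hκ0) h3
  · intro v
    constructor
    · intro hv
      obtain ⟨z, hz⟩ := gsur ⟨v, (memW v).mpr hv⟩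
      refine ⟨vec (z (.inl ())) (z (.inr (.inl 0)) * κ⁻¹) (z (.inr (.inr 0))), ?_⟩
      rw [lin3_vec]
      have h3 := congrArg Subtype.val hz
      rw [lin3_apply] at h3
      push_cast at h3
      rw [smul_smul, mul_assoc, inv_mul_cancel₀ hκ0, mul_one]
      exact h3
    · rintro ⟨z, rfl⟩
      rw [lin3_apply]
      simp only [map_add, map_smul, hx', hy', hw']
  · intro z
    rw [hzv, ← QWa, Cfsg.Agent.UGT.U2.FOne.Orth.Q_comb hxy (by rw [QuadraticMap.polar_smul_right, hxw, smul_zero])
      (by rw [QuadraticMap.polar_smul_right, hyw, smul_zero]), QuadraticMap.map_smul, ← hκ, quad_eq, smul_eq_mul]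
    ring

/-- the action on the coordinates -/
theorem omega_of {S L : Type*} [Group S] [Group L] (Q : QuadraticForm F V) (R : L →* Module.End F V)
    (RQ : ∀ x v, Q (R x v) = Q v) (T : Module.End F V) {ε : (I3 → F) →ₗ[F] V} {κ : F} (hκ : κ ≠ 0)
    (εinj : Function.Injective ε) (εr : ∀ v, T v = v ↔ ∃ x, ε x = v)
    (εQ : ∀ x, Q (ε x) = κ * Cfsg.quadFormOdd 1 F x) (φ : S →* L) (hφT : ∀ X v, R (φ X) (T v) = T (R (φ X) v)) :
    ∃ ω : S →* Cfsg.isometryGroup F (Cfsg.quadFormOdd 1 F), ∀ X z,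
      R (φ X) (ε z) = ε (((ω X : Matrix.GeneralLinearGroup I3 F) : Matrix I3 I3 F) *ᵥ z) := by
  have h1 : ∀ X z, ∃ z', ε z' = R (φ X) (ε z) := by
    intro X z
    rw [← εr, ← hφT, (εr (ε z)).mpr ⟨z, rfl⟩]
  choose f hf using h1
  obtain ⟨M, hM⟩ : ∃ M : S → Matrix I3 I3 F, ∀ X z, ε (M X *ᵥ z) = R (φ X) (ε z) := by
    refine ⟨fun X => LinearMap.toMatrix' { toFun := f X, map_add' := ?_, map_smul' := ?_ }, ?_⟩
    · intro x y
      apply εinj
      rw [hf, map_add, map_add, map_add, hf, hf]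
    · intro c x
      apply εinj
      rw [hf, map_smul, map_smul, RingHom.id_apply, map_smul, hf]
    · intro X z
      rw [← Matrix.toLin'_apply, Matrix.toLin'_toMatrix']
      exact hf X z
  have mext : ∀ A B : Matrix I3 I3 F, (∀ z, ε (A *ᵥ z) = ε (B *ᵥ z)) → A = B := by
    intro A B h
    apply Matrix.toLin'.injective
    apply LinearMap.ext
    intro z
    exact εinj (h z)
  obtain ⟨ω0, hω0⟩ : ∃ ω0 : S →* Matrix I3 I3 F, ∀ X, ω0 X = M X := by
    refine ⟨{ toFun := M, map_one' := ?_, map_mul' := ?_ }, fun X => rfl⟩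
    · apply mext
      intro z
      rw [hM, map_one, map_one, Matrix.one_mulVec]
      rfl
    · intro X Y
      apply mext
      intro z
      rw [hM, ← Matrix.mulVec_mulVec, hM, hM, map_mul, ap_mul]
  refine ⟨(MonoidHom.toHomUnits ω0).codRestrict _ ?_, ?_⟩
  · intro X
    rw [mem_isometryGroup_iff]
    intro z
    change Cfsg.quadFormOdd 1 F (ω0 X *ᵥ z) = _
    rw [hω0]
    have h3 := εQ (M X *ᵥ z)
    rw [hM, RQ, εQ] at h3
    exact (mul_left_cancel₀ hκ h3).symm
  · intro X z
    change _ = ε (ω0 X *ᵥ z)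
    rw [hω0, hM]

theorem mem_omega_of_perfect {S : Type*} [Group S] (hS : commutator S = ⊤) {H : Type*} [Group H] (ω : S →* H)
    (X : S) : ω X ∈ commutator H := by
  have h1 : X ∈ commutator S := by rw [hS]; exact Subgroup.mem_top _
  have h3 : ω X ∈ (commutator S).map ω := ⟨X, h1, rfl⟩
  rw [_root_.commutator_def, Subgroup.map_commutator] at h3
  exact Subgroup.commutator_mono le_top le_top h3

theorem center_omega_three [Finite F] (h2 : (2 : F) ≠ 0) :
    Subgroup.center (Cfsg.Omega F (Cfsg.quadFormOdd 1 F)) = ⊥ := by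
  have h3 := Cfsg.Agent.LieClassical.OrthCenter.center_omega_eq_bot
    (Cfsg.Agent.LieClassical.OmegaReindex.quadOdd_nondegenerate (m := 1) h2) (by decide)
    ⟨vec 0 1 0, by
      intro h
      have := congrFun h (.inr (.inl 0))
      exact one_ne_zero this, by
      rw [Cfsg.Agent.LieClassical.OmegaReindex.coe_quadOdd, quadForm_vec]; ring⟩
    (by
      intro g hg h
      have h4 := Cfsg.Agent.LieClassical.OrthCenter.det_of_mem_omega g hg
      rw [h, Matrix.det_neg, Matrix.det_one] at h4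
      have h5 : Fintype.card I3 = 3 := by decide
      rw [h5] at h4
      apply h2
      linear_combination -h4)
  rwa [Cfsg.Agent.LieClassical.OmegaReindex.coe_quadOdd] at h3

end Cfsg.Agent.OddHalf.NI.Sol
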