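import Cfsg.Agent.OddHalf.NI.SolPosW

/-!
# Sol(q): `A` acts on `W` by conjugation, `B`, `B'` trivially
-/

set_option autoImplicit false

namespace Cfsg.Agent.OddHalf.NI.Sol

open Matrix Module QuadraticMap
open Cfsg.Agent.Lib.SL2Mat Cfsg.Agent.Lib.AutSL2 Cfsg.Agent.Lib.AutSL2Out
open Cfsg.Agent.LFourR.FieldPart (val_mul val_one val_pow)
open Cfsg.Agent.LieClassical.OrthThree Cfsg.Agent.LieClassical.OrthThreeOmega
open Cfsg.Agent.LieClassical.OrthCore (Nondeg)

theorem exists_aut_of_ker {S G : Type*} [Group S] [Group G] [Finite G] (π ω : S →* G)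
    (hπ : Function.Surjective π) (h : ω.ker = π.ker) : ∃ α : MulAut G, ∀ x, α (π x) = ω x := by
  have hk : ∀ x y, π x = π y ↔ ω x = ω y := by
    intro x y
    rw [← inv_mul_eq_one, ← map_inv, ← map_mul, ← MonoidHom.mem_ker, ← h, MonoidHom.mem_ker, map_mul, map_inv,
      inv_mul_eq_one]
  choose s hs using hπ
  let α0 : G →* G :=
    { toFun := fun y => ω (s y)
      map_one' := by
        have h1 : ω (s 1) = ω 1 := (hk _ _).mp (by rw [hs, map_one])
        exact h1.trans (map_one ω)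
      map_mul' := fun x y => by
        rw [← map_mul, ← hk, hs, map_mul, hs, hs] }
  have hα0 : ∀ x, α0 (π x) = ω x := by
    intro x
    change ω (s (π x)) = ω x
    rw [← hk, hs]
  have hinj : Function.Injective α0 := by
    intro x y hxy
    change ω (s x) = ω (s y) at hxy
    rw [← hk, hs, hs] at hxy
    exact hxy
  exact ⟨MulEquiv.ofBijective α0 hinj.bijective_of_finite, hα0⟩

variable {F : Type*} [Field F]

/-- the traceless part in the coordinates of `OrthThree` -/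
def tv (Y : M2 F) : I3 → F := vec ((Y 0 0 - Y 1 1) / 2) (Y 0 1) (Y 1 0)

theorem phi_tv (h2 : (2 : F) ≠ 0) (A : SL F) (Y : M2 F) :
    (((psi A : Cfsg.isometryGroup F (Cfsg.quadFormOdd 1 F)) : Matrix.GeneralLinearGroup I3 F) : Matrix I3 I3 F) *ᵥ
      tv Y = tv (A.1 * Y * (A⁻¹).1) := by
  have hdet : ((Matrix.GeneralLinearGroup.det (Matrix.SpecialLinearGroup.toGL A))⁻¹ : Fˣ) = (1 : Fˣ) := by
    rw [inv_eq_one]
    apply Units.ext
    rw [Matrix.GeneralLinearGroup.val_det_apply, Units.val_one]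
    exact A.2
  have hA := A.2
  rw [Matrix.det_fin_two] at hA
  rw [psi_coe, phi_coe, phiMat_eq (Matrix.SpecialLinearGroup.toGL A) (A.1 0 0) (A.1 0 1) (A.1 1 0) (A.1 1 1) 1
    rfl rfl rfl rfl (by rw [hdet, Units.val_one])]
  have hinv : (A⁻¹).1 = !![A.1 1 1, -A.1 0 1; -A.1 1 0, A.1 0 0] := by
    rw [Matrix.SpecialLinearGroup.coe_inv, Matrix.adjugate_fin_two]
  rw [hinv]
  unfold tv
  rw [mk_mulVec]
  congr 1
  · simp [Matrix.mul_apply, Fin.sum_univ_two]
    field_simp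
    ring
  · simp [Matrix.mul_apply, Fin.sum_univ_two]
    field_simp
    ring
  · simp [Matrix.mul_apply, Fin.sum_univ_two]
    field_simp
    ring

theorem tv_one : tv (1 : M2 F) = 0 := by
  unfold tv
  have : (1 : M2 F) 0 1 = 0 := by simp
  have h' : (1 : M2 F) 1 0 = 0 := by simp
  rw [Matrix.one_apply_eq, Matrix.one_apply_eq, sub_self, zero_div, this, h']
  ext i
  rcases i with i | i | i <;> rfl

theorem quad_tv (h2 : (2 : F) ≠ 0) (Y : M2 F) :
    Cfsg.quadFormOdd 1 F (tv Y) = -(Y.det - (Y.trace / 2) ^ 2) := by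
  unfold tv
  rw [quadForm_vec, Matrix.det_fin_two, Matrix.trace_fin_two]
  field_simp
  ring

variable [Fintype F] {V : Type*} [AddCommGroup V] [Module F V] [FiniteDimensional F V] {L : Type*} [Group L]

theorem wPart (h2 : (2 : F) ≠ 0) (hc : 3 < Fintype.card F) (hd : finrank F V = 7) (Q : QuadraticForm F V)
    (nd : Nondeg Q) (R : L →* Module.End F V) (RQ : ∀ x v, Q (R x v) = Q v)
    (a b b' : SL F →* L) (T : Module.End F V) (hTb : R (b (-1)) = T) (hTb' : R (b' (-1)) = T)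
    (hTa : R (a (-1)) = 1) (ab : ∀ A B, a A * b B = b B * a A) (ab' : ∀ A B, a A * b' B = b' B * a A)
    (ak : ∀ X, R (a X) = 1 → X = 1 ∨ X = -1)
    (e : M2 F →ₗ[F] V) (einj : Function.Injective e) (er : ∀ v, T v = -v ↔ ∃ X, e X = v)
    (ea : ∀ A X, R (a A) (e X) = e X) :
    ∃ (κ : F) (w : M2 F →ₗ[F] V) (α : MulAut (SL F)), κ ≠ 0 ∧ w 1 = 0 ∧
      (∀ Y, Q (w Y) = κ * (Y.det - (Y.trace / 2) ^ 2)) ∧ (∀ Y, T (w Y) = w Y) ∧
      (∀ A Y, R (a (α A)) (w Y) = w (A.1 * Y * (A⁻¹).1)) ∧ (∀ A Y, R (b A) (w Y) = w Y) ∧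
      (∀ A Y, R (b' A) (w Y) = w Y) ∧ (∀ v, T v = v → ∃ Y, Y.trace = 0 ∧ w Y = v) ∧
      (∀ Y, w Y = 0 → Y = (Y.trace / 2) • (1 : M2 F)) := by
  have perf := Cfsg.Agent.TwoFusion.SLTwoFacts.commutator_eq_top (F := F) hc
  have hm1 : (-1 : SL F) * -1 = 1 := by rw [neg_mul_neg, one_mul]
  have TT : ∀ v, T (T v) = v := by
    intro v
    rw [← hTb, ← ap_mul, ← map_mul, hm1, map_one, map_one]
    rfl
  have TQ : ∀ v, Q (T v) = Q v := by intro v; rw [← hTb]; exact RQ _ v
  obtain ⟨ε, κ, hκ, εinj, εr, εQ⟩ := wSpace h2 hd Q nd T TT TQ e einj er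
  have bT : ∀ X v, R (b X) (T v) = T (R (b X) v) := by
    intro X v
    rw [← hTb]
    exact ap_comm R (by rw [← map_mul, ← map_mul, neg_one_mul, mul_neg_one]) v
  have b'T : ∀ X v, R (b' X) (T v) = T (R (b' X) v) := by
    intro X v
    rw [← hTb']
    exact ap_comm R (by rw [← map_mul, ← map_mul, neg_one_mul, mul_neg_one]) v
  have aT : ∀ X v, R (a X) (T v) = T (R (a X) v) := by
    intro X v
    rw [← hTb]
    exact ap_comm R (ab _ _) v
  obtain ⟨ω, hω⟩ := omega_of Q R RQ T hκ εinj εr εQ a aT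
  have mext : ∀ x y : Cfsg.isometryGroup F (Cfsg.quadFormOdd 1 F),
      (∀ z, ε (((x : Matrix.GeneralLinearGroup I3 F) : Matrix I3 I3 F) *ᵥ z) =
        ε (((y : Matrix.GeneralLinearGroup I3 F) : Matrix I3 I3 F) *ᵥ z)) → x = y := by
    intro x y h
    apply Subtype.ext
    apply Units.ext
    apply Matrix.toLin'.injective
    apply LinearMap.ext
    intro z
    exact εinj (h z)
  have ω1 : ω (-1) = 1 := by
    apply mext
    intro z
    rw [← hω, hTa]
    change ε z = ε ((1 : Matrix I3 I3 F) *ᵥ z)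
    rw [Matrix.one_mulVec]
  have hF : ∃ x : F, x ≠ 0 ∧ x ≠ 1 := by
    refine ⟨-1, neg_ne_zero.mpr one_ne_zero, ?_⟩
    intro h
    apply h2
    linear_combination -h
  -- `1 + T` kills `U`
  have split : ∀ v, ∃ X z, v = e X + ε z := by
    intro v
    obtain ⟨X, hX⟩ := (er ((2 : F)⁻¹ • (v - T v))).mp (by rw [map_smul, map_sub, TT]; module)
    obtain ⟨z, hz⟩ := (εr ((2 : F)⁻¹ • (v + T v))).mp (by rw [map_smul, map_add, TT, add_comm])
    refine ⟨X, z, ?_⟩
    rw [hX, hz]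
    have : (2 : F)⁻¹ • (v - T v) + (2 : F)⁻¹ • (v + T v) = ((2 : F)⁻¹ * 2) • v := by module
    rw [this, inv_mul_cancel₀ h2, one_smul]
  obtain ⟨ωG, hωG⟩ : ∃ ωG : SL F →* Cfsg.Omega F (Cfsg.quadFormOdd 1 F), ∀ X,
      ((ωG X : Cfsg.Omega F (Cfsg.quadFormOdd 1 F)) : Cfsg.isometryGroup F (Cfsg.quadFormOdd 1 F)) = ω X :=
    ⟨ω.codRestrict _ (mem_omega_of_perfect perf ω), fun X => rfl⟩
  have hkω : ωG.ker = Subgroup.center (SL F) := by
    ext X
    rw [MonoidHom.mem_ker, Cfsg.Agent.ClassicalGeometry.PSL2Basic.mem_center_SL2_iff]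
    constructor
    · intro h
      apply ak
      have h3 : ω X = 1 := by rw [← hωG, h]; rfl
      apply LinearMap.ext
      intro v
      obtain ⟨Y, z, rfl⟩ := split v
      rw [map_add, ea, hω, h3]
      change e Y + ε ((1 : Matrix I3 I3 F) *ᵥ z) = e Y + ε z
      rw [Matrix.one_mulVec]
    · rintro (rfl | rfl)
      · exact map_one _
      · exact Subtype.ext ((hωG _).trans ω1)
  have hcen := center_omega_three (F := F) h2
  have hkπ : (psiOmega (F := F) hF).ker = Subgroup.center (SL F) := by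
    ext X
    rw [MonoidHom.mem_ker]
    constructor
    · intro h
      apply mem_center_of_psi_comm h2
      intro t
      have h3 : psi X = 1 := by rw [← psiOmega_coe hF, h]; rfl
      rw [h3, one_mul, mul_one]
    · intro h
      have h3 : psiOmega hF X ∈ Subgroup.center (Cfsg.Omega F (Cfsg.quadFormOdd 1 F)) := by
        rw [Subgroup.mem_center_iff]
        intro g
        obtain ⟨t, rfl⟩ := psiOmega_surjective hF g
        rw [← map_mul, ← map_mul, Subgroup.mem_center_iff.mp h t]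
      rw [hcen, Subgroup.mem_bot] at h3
      exact h3
  have hfin : Finite (Cfsg.Omega F (Cfsg.quadFormOdd 1 F)) :=
    Finite.of_surjective _ (psiOmega_surjective (F := F) hF)
  obtain ⟨α1, hα1⟩ := exists_aut_of_ker (psiOmega (F := F) hF) ωG (psiOmega_surjective hF) (by rw [hkω, hkπ])
  obtain ⟨g, σ, hg⟩ := exists_gl_ringEquiv (psiOmega (F := F) hF) (psiOmega_surjective hF) hkπ.le α1
  obtain ⟨β, hβ⟩ : ∃ β : MulAut (SL F), β = conjGL g * fieldAut σ := ⟨_, rfl⟩
  have hωβ : ∀ X, ω X = psi (β X) := by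
    intro X
    rw [← hωG, ← hα1, hg, hβ]
    rfl
  have key : ∀ A Y, R (a (β.symm A)) (ε (tv Y)) = ε (tv (A.1 * Y * (A⁻¹).1)) := by
    intro A Y
    rw [hω, hωβ, MulEquiv.apply_symm_apply, phi_tv h2]
  -- the other two act trivially
  have triv : ∀ φ : SL F →* L, (∀ A B, a A * φ B = φ B * a A) → (∀ X v, R (φ X) (T v) = T (R (φ X) v)) →
      ∀ X z, R (φ X) (ε z) = ε z := by
    intro φ hφ hφT X z
    obtain ⟨ρ, hρ⟩ := omega_of Q R RQ T hκ εinj εr εQ φ hφT
    have h3 : (⟨ρ X, mem_omega_of_perfect perf ρ X⟩ : Cfsg.Omega F (Cfsg.quadFormOdd 1 F)) ∈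
        Subgroup.center (Cfsg.Omega F (Cfsg.quadFormOdd 1 F)) := by
      rw [Subgroup.mem_center_iff]
      intro g
      obtain ⟨t, rfl⟩ := psiOmega_surjective hF g
      apply Subtype.ext
      change psi t * ρ X = ρ X * psi t
      have h4 : psi t = ω (β.symm t) := by rw [hωβ, MulEquiv.apply_symm_apply]
      rw [h4]
      apply mext
      intro z
      have h5 : ∀ (x y : Cfsg.isometryGroup F (Cfsg.quadFormOdd 1 F)),
          (((x * y : Cfsg.isometryGroup F (Cfsg.quadFormOdd 1 F)) : Matrix.GeneralLinearGroup I3 F) :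
            Matrix I3 I3 F) *ᵥ z = ((x : Matrix.GeneralLinearGroup I3 F) : Matrix I3 I3 F) *ᵥ
            (((y : Matrix.GeneralLinearGroup I3 F) : Matrix I3 I3 F) *ᵥ z) := by
        intro x y
        rw [Matrix.mulVec_mulVec]
        rfl
      rw [h5, h5, ← hω, ← hρ, ← hρ, ← hω, ap_comm R (hφ _ _)]
    rw [hcen, Subgroup.mem_bot] at h3
    have h4 : ρ X = 1 := congrArg Subtype.val h3
    rw [hρ, h4]
    change ε ((1 : Matrix I3 I3 F) *ᵥ z) = ε z
    rw [Matrix.one_mulVec]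
  have tvlin : ∃ t : M2 F →ₗ[F] (I3 → F), ∀ Y, t Y = tv Y := by
    refine ⟨{ toFun := tv, map_add' := ?_, map_smul' := ?_ }, fun Y => rfl⟩
    · intro X Y
      refine vec_ext ?_ rfl rfl
      change (X 0 0 + Y 0 0 - (X 1 1 + Y 1 1)) / 2 = (X 0 0 - X 1 1) / 2 + (Y 0 0 - Y 1 1) / 2
      ring
    · intro c X
      refine vec_ext ?_ rfl rfl
      change (c * X 0 0 - c * X 1 1) / 2 = c * ((X 0 0 - X 1 1) / 2)
      ring
  obtain ⟨t, ht⟩ := tvlin
  refine ⟨-κ, ε.comp t, β.symm, neg_ne_zero.mpr hκ, ?_, ?_, ?_, ?_, ?_, ?_, ?_, ?_⟩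
  · rw [LinearMap.comp_apply, ht, tv_one, map_zero]
  · intro Y
    rw [LinearMap.comp_apply, ht, εQ, quad_tv h2]
    ring
  · intro Y
    rw [LinearMap.comp_apply]
    exact (εr _).mpr ⟨_, rfl⟩
  · intro A Y
    rw [LinearMap.comp_apply, LinearMap.comp_apply, ht, ht]
    exact key A Y
  · intro A Y
    exact triv b ab bT A _
  · intro A Y
    exact triv b' ab' b'T A _
  · intro v hv
    obtain ⟨z, hz⟩ := (εr v).mp hv
    refine ⟨!![z (.inl ()), z (.inr (.inl 0)); z (.inr (.inr 0)), -z (.inl ())], ?_, ?_⟩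
    · rw [Matrix.trace_fin_two]
      simp
    · rw [LinearMap.comp_apply, ht, ← hz]
      congr 1
      refine vec_ext ?_ rfl rfl
      change (z (.inl ()) - -z (.inl ())) / 2 = z (.inl ())
      field_simp
      ring
  · intro Y hY
    rw [LinearMap.comp_apply, ht] at hY
    have h3 : tv Y = 0 := εinj (by rw [hY, map_zero])
    have e0 : (Y 0 0 - Y 1 1) / 2 = 0 := congrFun h3 (.inl ())
    have e1 : Y 0 1 = 0 := congrFun h3 (.inr (.inl 0))
    have e2 : Y 1 0 = 0 := congrFun h3 (.inr (.inr 0))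
    have e3 : Y 0 0 = Y 1 1 := by
      field_simp at e0
      linear_combination e0
    rw [Matrix.trace_fin_two]
    ext i j
    fin_cases i <;> fin_cases j
    · simp
      field_simp
      linear_combination e3
    · simpa using e1
    · simpa using e2
    · simp
      field_simp
      linear_combination -e3

end Cfsg.Agent.OddHalf.NI.Sol
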