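import Cfsg.Agent.OddHalf.NI.SolModel

/-!
# Sol(q): linear maps commuting with the torus, the element `e₀`, and compatible with `ḡ`

`rigid`: such a map `Z` is `1` or `v̄ ē`.
-/

set_option autoImplicit false

namespace Cfsg.Agent.OddHalf.NI.Sol

open Matrix

variable {F : Type*} [Field F]

namespace QD

variable {D Di N T Ti : M2 F} (h : QD D Di N T Ti)

include h

theorem D_inj {X : M2 F} (hX : D * X = 0) : X = 0 := by
  calc X = Di * (D * X) := by rw [← Matrix.mul_assoc, h.dd', Matrix.one_mul]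
    _ = 0 := by rw [hX, Matrix.mul_zero]

theorem fixT {X : M2 F} (hX : T * X = X) : X = 0 := by
  obtain ⟨a, b, hb, hT, hTi⟩ := h.t
  have h1 : Ti * X = X := by
    conv_lhs => rw [← hX]
    exact h.TT' X
  have h2 : (T - Ti) * X = 0 := by rw [Matrix.sub_mul, hX, h1, sub_self]
  have h3 : T - Ti = (2 * b) • D := by
    rw [hT, hTi, two_mul, add_smul]
    abel
  rw [h3, Matrix.smul_mul] at h2
  exact h.D_inj ((smul_eq_zero.mp h2).resolve_left (mul_ne_zero h.two hb))

theorem surjT (X : M2 F) : ∃ Y, T * Y - Y = X := by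
  let φ : M2 F →ₗ[F] M2 F := LinearMap.mulLeft F T - LinearMap.id
  have h1 : Function.Injective φ := by
    rw [← LinearMap.ker_eq_bot, LinearMap.ker_eq_bot']
    intro Y hY
    have h2 : T * Y - Y = 0 := hY
    exact h.fixT (sub_eq_zero.mp h2)
  obtain ⟨Y, hY⟩ := LinearMap.injective_iff_surjective.mp h1 X
  exact ⟨Y, hY⟩

theorem D_nsc : ∀ c : F, D ≠ c • (1 : M2 F) := by
  intro c hc
  have h1 := h.nd
  rw [hc, Matrix.mul_smul, Matrix.smul_mul, Matrix.mul_one, Matrix.one_mul] at h1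
  have h2 : (2 * c) • N = 0 := by
    rw [two_mul, add_smul]
    nth_rw 1 [h1]
    rw [neg_add_cancel]
  have hN : N ≠ 0 := by
    intro h0
    have := h.nn
    rw [h0, Matrix.mul_zero] at this
    have h4 := congrFun (congrFun this 0) 0
    simp at h4
  have h3 := (smul_eq_zero.mp h2).resolve_right hN
  have hc0 : c = 0 := (mul_eq_zero.mp h3).resolve_left h.two
  have := h.dd
  rw [hc, hc0, zero_smul, Matrix.zero_mul] at this
  have h4 := congrFun (congrFun this 0) 0
  simp at h4

theorem comm_form {A : M2 F} (hA : kap D Di A = A) : ∃ x y : F, A = x • (1 : M2 F) + y • D :=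
  Cfsg.Agent.ClassicalGeometry.NonsplitTorus.commutant D A h.D_nsc (h.comm_D hA)

/-- matrices commuting with `D` and `N` are scalar -/
theorem scalar {A : M2 F} (hA : kap D Di A = A) (hN : N * A = A * N) : ∃ x : F, A = x • (1 : M2 F) := by
  obtain ⟨x, y, hxy⟩ := h.comm_form hA
  refine ⟨x, ?_⟩
  rw [hxy, Matrix.mul_add, Matrix.add_mul, Matrix.mul_smul, Matrix.mul_smul, Matrix.smul_mul, Matrix.smul_mul,
    Matrix.mul_one, Matrix.one_mul, add_right_inj, h.nd, smul_neg] at hN
  have h1 : (2 * y) • (D * N) = 0 := by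
    rw [two_mul, add_smul]
    nth_rw 1 [← hN]
    rw [neg_add_cancel]
  have hDN : D * N ≠ 0 := by
    intro h0
    have h2 := h.D_inj h0
    have := h.nn
    rw [h2, Matrix.mul_zero] at this
    have h4 := congrFun (congrFun this 0) 0
    simp at h4
  have h2 := (smul_eq_zero.mp h1).resolve_right hDN
  have hy : y = 0 := (mul_eq_zero.mp h2).resolve_left h.two
  rw [hxy, hy, zero_smul, add_zero]

/-- elements of `K N` commuting with `N` -/
theorem scalar_N {A : M2 F} (hA : kap D Di A = -A) (hN : N * A = A * N) : ∃ x : F, A = x • N := by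
  obtain ⟨x, hx⟩ := h.scalar (A := A * N) (by rw [h.kap_mul, hA, h.kap_N, neg_mul_neg])
    (by rw [← Matrix.mul_assoc, hN])
  refine ⟨-x, ?_⟩
  have h1 : A * N * N = -A := h.NN A
  rw [hx, Matrix.smul_mul, Matrix.one_mul] at h1
  rw [neg_smul, h1, neg_neg]

theorem N_comm_of {A : M2 F} (hA : N * A * N = -A) : N * A = A * N := by
  have h1 : N * A * N * N = -(A * N) := by rw [hA, Matrix.neg_mul]
  rw [h.NN, neg_inj] at h1
  exact h1

/-- the form of `K N` -/
theorem anti_form {A : M2 F} (hA : kap D Di A = -A) : ∃ x y : F, A = x • N + y • (D * N) := by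
  obtain ⟨x, y, hxy⟩ := h.comm_form (A := A * N) (by rw [h.kap_mul, hA, h.kap_N, neg_mul_neg])
  refine ⟨-x, -y, ?_⟩
  have h1 : A * N * N = -A := h.NN A
  rw [hxy, Matrix.add_mul, Matrix.smul_mul, Matrix.smul_mul, Matrix.one_mul] at h1
  rw [neg_smul, neg_smul, ← neg_add, h1, neg_neg]

theorem kap_D : kap D Di D = D := h.kap_of_comm rfl

/-- the map `f` on the first factor -/
theorem first (f : M2 F →ₗ[F] M2 F) (f1 : ∀ X, f (T * X) = T * f X) (f2 : ∀ X, f (X * Ti) = f X * Ti)
    (f3 : ∀ X, f (N * X * N) = N * f X * N) : ∃ α β : F, ∀ X, f X = α • pl D Di X + β • ql D Di X := by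
  obtain ⟨a, b, hb, hT, hTi⟩ := h.t
  have fD : ∀ X, f (D * X) = D * f X := by
    intro X
    have h1 := f1 X
    rw [hT, Matrix.add_mul, Matrix.add_mul, Matrix.smul_mul, Matrix.smul_mul, Matrix.smul_mul, Matrix.smul_mul,
      Matrix.one_mul, Matrix.one_mul, map_add, map_smul, map_smul, add_right_inj] at h1
    exact smul_right_injective _ hb h1
  have fD' : ∀ X, f (X * D) = f X * D := by
    intro X
    have h1 := f2 X
    rw [hTi, Matrix.mul_sub, Matrix.mul_sub, Matrix.mul_smul, Matrix.mul_smul, Matrix.mul_smul, Matrix.mul_smul,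
      Matrix.mul_one, Matrix.mul_one, map_sub, map_smul, map_smul, sub_right_inj] at h1
    exact smul_right_injective _ hb h1
  obtain ⟨α, hα⟩ := h.scalar (A := f 1) (by
    apply h.kap_of_comm
    rw [← fD, ← fD', Matrix.mul_one, Matrix.one_mul]) (by
    apply h.N_comm_of
    rw [← f3, Matrix.mul_one, h.nn, map_neg])
  obtain ⟨β, hβ⟩ := h.scalar_N (A := f N) (by
    apply h.kap_of_anti
    rw [← fD, ← fD', h.nd, map_neg, neg_neg]) (by
    apply h.N_comm_of
    rw [← f3, h.NN, map_neg])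
  refine ⟨α, β, fun X => ?_⟩
  obtain ⟨x, y, hxy⟩ := h.comm_form (h.kp X)
  obtain ⟨x', y', hxy'⟩ := h.anti_form (h.kq X)
  have e1 : f (pl D Di X) = α • pl D Di X := by
    rw [hxy, map_add, map_smul, map_smul, hα]
    have : f D = D * f 1 := by rw [← fD, Matrix.mul_one]
    rw [this, hα, Matrix.mul_smul, Matrix.mul_one, smul_add, smul_smul, smul_smul, smul_smul, smul_smul,
      mul_comm x, mul_comm y]
  have e2 : f (ql D Di X) = β • ql D Di X := by
    rw [hxy', map_add, map_smul, map_smul, fD, hβ, Matrix.mul_smul, smul_add, smul_smul, smul_smul, smul_smul,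
      smul_smul, mul_comm x', mul_comm y']
  conv_lhs => rw [← h.add_pq X]
  rw [map_add, e1, e2]

/-- the map on the second factor; `R² = T` -/
theorem second {R Ri : M2 F} (h' : QD D Di N R Ri) (hR : R * R = T) (f : M2 F →ₗ[F] M2 F)
    (f1 : ∀ X, f (R * X * Ri) = R * f X * Ri)
    (f3 : ∀ X, f (N * X * N) = N * f X * N) :
    ∃ d γ : F, f D = d • D ∧ ∀ X, kap D Di X = -X → f X = γ • X := by
  obtain ⟨a, b, hb, hT, hTi⟩ := h.t
  obtain ⟨a', b', hb', hR', hRi'⟩ := h'.t
  -- `f D`
  have hD1 : R * D * Ri = D := by rw [h'.comm_T h.kap_D, h'.TT2]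
  have e1 : kap D Di (f D) = f D := by
    have h1 := f1 D
    rw [hD1] at h1
    have h2 : f D * R = R * f D := by
      conv_lhs => rw [h1]
      rw [h'.TT2']
    apply h.kap_of_comm
    rw [hR', Matrix.mul_add, Matrix.add_mul, Matrix.mul_smul, Matrix.mul_smul, Matrix.smul_mul, Matrix.smul_mul,
      Matrix.mul_one, Matrix.one_mul, add_right_inj] at h2
    exact (smul_right_injective _ hb' h2).symm
  have hND : N * D * N = D := by
    rw [h.nd, Matrix.neg_mul, h.NN, neg_neg]
  obtain ⟨x, y, hxy⟩ := h.comm_form e1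
  have hx : x = 0 := by
    have h1 := f3 D
    rw [hND, hxy, Matrix.mul_add, Matrix.add_mul, Matrix.mul_smul, Matrix.mul_smul, Matrix.smul_mul,
      Matrix.smul_mul, Matrix.mul_one, h.nn, hND, add_left_inj] at h1
    have h2 : (2 * x) • (1 : M2 F) = 0 := by
      rw [two_mul, add_smul]
      nth_rw 1 [h1]
      rw [smul_neg, neg_add_cancel]
    have h3 := (smul_eq_zero.mp h2).resolve_right one_ne_zero
    exact (mul_eq_zero.mp h3).resolve_left h.two
  rw [hx, zero_smul, zero_add] at hxy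
  -- `f (K N) ≤ K N`
  have kf : ∀ B, kap D Di B = -B → kap D Di (f B) = -f B := by
    intro B hB
    obtain ⟨C, hC⟩ := h.surjT B
    have hC' : T * ql D Di C - ql D Di C = B := by
      have h1 := congrArg (ql D Di) hC
      rw [map_sub, h.q_of hB] at h1
      have h2 := h.q_mul h.kap_T h.kap_one C
      rw [Matrix.mul_one, Matrix.mul_one] at h2
      rw [← h2, h1]
    have h2 : R * ql D Di C * Ri = T * ql D Di C := by
      rw [Matrix.mul_assoc, ← h'.anti_T (h.kq C), ← Matrix.mul_assoc, hR]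
    have h3 : f B = R * f (ql D Di C) * Ri - f (ql D Di C) := by
      rw [← f1, h2, ← map_sub, hC']
    obtain ⟨W, hW⟩ : ∃ W, W = f (ql D Di C) := ⟨_, rfl⟩
    rw [← hW] at h3
    have h4 : f B = R * ql D Di W * Ri - ql D Di W := by
      rw [h3]
      conv_lhs => rw [← h.add_pq W]
      rw [Matrix.mul_add, Matrix.add_mul, h'.comm_T (h.kp W), h'.TT2]
      abel
    rw [h4, map_sub, h.kq, h.kap_mul, h.kap_mul, h.kq, h'.kap_T, h'.kap_Ti, Matrix.mul_neg, Matrix.neg_mul]
    abel
  -- `f N`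
  obtain ⟨γ, hγ⟩ := h.scalar_N (A := f N) (kf N h.kap_N) (by
    apply h.N_comm_of
    rw [← f3, h.NN, map_neg])
  have fT : ∀ B, kap D Di B = -B → f (T * B) = T * f B := by
    intro B hB
    have h2 : R * B * Ri = T * B := by
      rw [Matrix.mul_assoc, ← h'.anti_T hB, ← Matrix.mul_assoc, hR]
    have h3 : R * f B * Ri = T * f B := by
      rw [Matrix.mul_assoc, ← h'.anti_T (kf B hB), ← Matrix.mul_assoc, hR]
    rw [← h2, f1, h3]
  have fDN : f (D * N) = γ • (D * N) := by
    have h1 := fT N h.kap_N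
    rw [hT, Matrix.add_mul, Matrix.add_mul, Matrix.smul_mul, Matrix.smul_mul, Matrix.smul_mul, Matrix.smul_mul,
      Matrix.one_mul, Matrix.one_mul, map_add, map_smul, map_smul, add_right_inj, hγ, Matrix.mul_smul] at h1
    exact smul_right_injective _ hb h1
  refine ⟨y, γ, hxy, fun X hX => ?_⟩
  obtain ⟨x', y', hxy'⟩ := h.anti_form hX
  rw [hxy', map_add, map_smul, map_smul, hγ, fDN, smul_add, smul_smul, smul_smul, smul_smul, smul_smul,
    mul_comm x', mul_comm y']

/-- **Rigidity.** -/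
theorem rigid {R Ri : M2 F} (h' : QD D Di N R Ri) (hR : R * R = T)
    (Z : (M2 F × M2 F) →ₗ[F] (M2 F × M2 F))
    (Z1 : ∀ X Y, Z (T * X, Y) = (T * (Z (X, Y)).1, (Z (X, Y)).2))
    (Z2 : ∀ X Y, Z (X * Ti, Y) = ((Z (X, Y)).1 * Ti, (Z (X, Y)).2))
    (Z3 : ∀ X Y, Z (X, R * Y * Ri) = ((Z (X, Y)).1, R * (Z (X, Y)).2 * Ri))
    (Z4 : ∀ X Y, Z (N * X * N, N * Y * N) = (N * (Z (X, Y)).1 * N, N * (Z (X, Y)).2 * N))
    (Zdet : ∀ x, (Z x).1.det + (Z x).2.det = x.1.det + x.2.det)
    (Zfix : Z (0, 1) = (0, 1))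
    (Zcube : ∀ x, gb D Di N (Z (gb D Di N (Z (gb D Di N (Z x))))) = x)
    (ZR : ∀ X Y, gb D Di N (Z (N * (gb D Di N (Z (N * X, Y))).1, (gb D Di N (Z (N * X, Y))).2)) =
      (-((gb D Di N (Z (N * (gb D Di N (Z (X, Y))).1, (gb D Di N (Z (X, Y))).2))).1 * N),
        (gb D Di N (Z (N * (gb D Di N (Z (X, Y))).1, (gb D Di N (Z (X, Y))).2))).2)) :
    (∀ x, Z x = x) ∨ (∀ X Y, Z (X, Y) = (-kap D Di X, kap D Di Y)) := by
  -- the blocks
  have b1 : ∀ Y, (Z (0, Y)).1 = 0 := by
    intro Y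
    have h1 := Z1 0 Y
    rw [Matrix.mul_zero] at h1
    exact h.fixT (congrArg Prod.fst h1).symm
  have b2 : ∀ X, (Z (X, 0)).2 = 0 := by
    intro X
    obtain ⟨C, hC⟩ := h.surjT X
    have h1 : (X, (0 : M2 F)) = (T * C, 0) - (C, 0) := by rw [Prod.mk_sub_mk, hC, sub_zero]
    rw [h1, map_sub, Z1, Prod.snd_sub, sub_self]
  let f : M2 F →ₗ[F] M2 F := (LinearMap.fst F (M2 F) (M2 F)) ∘ₗ Z ∘ₗ (LinearMap.inl F (M2 F) (M2 F))
  let k : M2 F →ₗ[F] M2 F := (LinearMap.snd F (M2 F) (M2 F)) ∘ₗ Z ∘ₗ (LinearMap.inr F (M2 F) (M2 F))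
  have hf : ∀ X, Z (X, 0) = (f X, 0) := fun X => Prod.ext rfl (b2 X)
  have hk : ∀ Y, Z (0, Y) = (0, k Y) := fun Y => Prod.ext (b1 Y) rfl
  have hZ : ∀ X Y, Z (X, Y) = (f X, k Y) := by
    intro X Y
    have h1 : (X, Y) = (X, (0 : M2 F)) + ((0 : M2 F), Y) := by rw [Prod.mk_add_mk, add_zero, zero_add]
    rw [h1, map_add, hf, hk, Prod.mk_add_mk, add_zero, zero_add]
  obtain ⟨α, β, hαβ⟩ := h.first f
    (fun X => by have := congrArg Prod.fst (Z1 X 0); rw [hf, hf] at this; exact this)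
    (fun X => by have := congrArg Prod.fst (Z2 X 0); rw [hf, hf] at this; exact this)
    (fun X => by
      have := congrArg Prod.fst (Z4 X 0)
      rw [Matrix.mul_zero, Matrix.zero_mul, hf, hf] at this
      exact this)
  obtain ⟨d, γ, hd, hγ⟩ := h.second h' hR k
    (fun Y => by have := congrArg Prod.snd (Z3 0 Y); rw [hk, hk] at this; exact this)
    (fun Y => by
      have := congrArg Prod.snd (Z4 0 Y)
      rw [Matrix.mul_zero, Matrix.zero_mul, hk, hk] at this
      exact this)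
  have hk1 : k 1 = 1 := by
    have := congrArg Prod.snd Zfix
    rw [hk] at this
    exact this
  have p1 : pl D Di 1 = 1 := h.p_of h.kap_one
  have q1 : ql D Di 1 = 0 := q_of_p h.kap_one
  have pN : pl D Di N = 0 := p_of_q h.kap_N
  have qN : ql D Di N = N := h.q_of h.kap_N
  have pD : pl D Di D = D := h.p_of h.kap_D
  have qD : ql D Di D = 0 := q_of_p h.kap_D
  have f1 : f 1 = α • 1 := by rw [hαβ, p1, q1, smul_zero, add_zero]
  have fN : f N = β • N := by rw [hαβ, pN, qN, smul_zero, zero_add]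
  have kN : k N = γ • N := hγ N h.kap_N
  have g1 : gb D Di N (1, 0) = (0, N) := by
    rw [gb_apply, p1, q1, map_zero, map_zero, Matrix.zero_mul, Matrix.one_mul, sub_zero, zero_add]
  have gN : gb D Di N (N, 0) = (1, 0) := by
    rw [gb_apply, pN, qN, map_zero, map_zero, Matrix.zero_mul, h.nn, zero_sub, neg_neg, zero_add]
  have gN' : gb D Di N (0, N) = (N, 0) := by
    rw [gb_apply, pN, qN, map_zero, map_zero, Matrix.zero_mul, sub_zero, zero_add]
  have gD : gb D Di N (0, D) = (0, D) := by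
    rw [gb_apply, pD, qD, map_zero, map_zero, Matrix.zero_mul, sub_zero, add_zero]
  have sm : ∀ (c : F) (X Y : M2 F), (c • X, c • Y) = c • (X, Y) := fun c X Y => rfl
  have gs : ∀ (c : F) (X : M2 F), gb D Di N (c • X, 0) = c • gb D Di N (X, 0) := by
    intro c X
    rw [← map_smul, ← sm, smul_zero]
  have gs' : ∀ (c : F) (X : M2 F), gb D Di N (0, c • X) = c • gb D Di N (0, X) := by
    intro c X
    rw [← map_smul, ← sm, smul_zero]
  have N0 : N ≠ 0 := by
    intro h0
    have := h.detn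
    rw [h0, det_fin_two] at this
    simp at this
  -- squares
  have α2 : α ^ 2 = 1 := by
    have h1 := Zdet (1, 0)
    rw [hf, f1] at h1
    simpa using h1
  have β2 : β ^ 2 = 1 := by
    have h1 := Zdet (N, 0)
    rw [hf, fN] at h1
    simpa [h.detn] using h1
  have γ2 : γ ^ 2 = 1 := by
    have h1 := Zdet (0, N)
    rw [hk, kN] at h1
    simpa [h.detn] using h1
  have D0 : D.det ≠ 0 := by
    intro h0
    have := congrArg Matrix.det h.dd
    rw [det_mul, h0, zero_mul, det_one] at this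
    exact zero_ne_one this
  have d2 : d ^ 2 = 1 := by
    have h1 := Zdet (0, D)
    rw [hk, hd] at h1
    have h2 : d ^ 2 * D.det = 1 * D.det := by simpa using h1
    exact mul_right_cancel₀ D0 h2
  have zD : Z (0, D) = d • ((0 : M2 F), D) := by rw [hk, hd, ← sm, smul_zero]
  have z1 : Z (1, 0) = α • ((1 : M2 F), (0 : M2 F)) := by rw [hf, f1, ← sm, smul_zero]
  have zN : Z (N, 0) = β • (N, (0 : M2 F)) := by rw [hf, fN, ← sm, smul_zero]
  have zN' : Z (0, N) = γ • ((0 : M2 F), N) := by rw [hk, kN, ← sm, smul_zero]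
  -- the cube
  have d3 : d * d * d = 1 := by
    have h1 := Zcube (0, D)
    simp only [zD, map_smul, gD, smul_smul] at h1
    have h2 := congrArg (fun x => x.2) h1
    have h3 : (d * d * d) • D = (1 : F) • D := by rw [one_smul]; exact h2
    have hDne : D ≠ 0 := by
      intro h0
      apply D0
      rw [h0, det_fin_two]
      simp
    exact smul_left_injective F hDne h3
  have d1 : d = 1 := by
    rw [pow_two] at d2
    rw [d2, one_mul] at d3
    exact d3
  have abc : α * β * γ = 1 := by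
    have h1 := Zcube (N, 0)
    simp only [zN, map_smul, gN, z1, g1, zN', gN', smul_smul] at h1
    have h2 := congrArg (fun x => x.1) h1
    have h3 : (β * α * γ) • N = (1 : F) • N := by rw [one_smul]; exact h2
    rw [← smul_left_injective F N0 h3]
    ring
  -- the relation
  have ac : α * γ = 1 := by
    have h1 := congrArg Prod.fst (ZR 1 0)
    have A1 : gb D Di N (Z (N, 0)) = β • ((1 : M2 F), (0 : M2 F)) := by rw [zN, map_smul, gN]
    have A2 : Z (N * (β • ((1 : M2 F), (0 : M2 F))).1, (β • ((1 : M2 F), (0 : M2 F))).2) =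
        (β * β) • (N, (0 : M2 F)) := by
      have e1 : (N * (β • ((1 : M2 F), (0 : M2 F))).1, (β • ((1 : M2 F), (0 : M2 F))).2) =
          β • (N, (0 : M2 F)) := by
        rw [Prod.smul_fst, Prod.smul_snd, Matrix.mul_smul, Matrix.mul_one]
        rfl
      rw [e1, map_smul, zN, smul_smul]
    have B1 : gb D Di N (Z (1, 0)) = α • ((0 : M2 F), N) := by rw [z1, map_smul, g1]
    have B2 : Z (N * (α • ((0 : M2 F), N)).1, (α • ((0 : M2 F), N)).2) =
        (α * γ) • ((0 : M2 F), N) := by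
      have e1 : (N * (α • ((0 : M2 F), N)).1, (α • ((0 : M2 F), N)).2) = α • ((0 : M2 F), N) := by
        rw [Prod.smul_fst, Prod.smul_snd, smul_zero, Matrix.mul_zero, ← sm, smul_zero]
      rw [e1, map_smul, zN', smul_smul]
    rw [Matrix.mul_one, A1, A2, B1, B2, map_smul, map_smul, gN, gN', Prod.smul_fst, Prod.smul_fst] at h1
    rw [Matrix.smul_mul, h.nn, smul_neg, neg_neg] at h1
    rw [pow_two] at β2
    rw [β2] at h1
    exact (smul_left_injective F (one_ne_zero : (1 : M2 F) ≠ 0) h1).symm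
  have b1' : β = 1 := by
    calc β = β * (α * γ) := by rw [ac, mul_one]
      _ = α * β * γ := by ring
      _ = 1 := abc
  have ag : γ = α := by
    calc γ = (α ^ 2) * γ := by rw [α2, one_mul]
      _ = α * (α * γ) := by ring
      _ = α := by rw [ac, mul_one]
  -- conclusion
  have kp' : ∀ Y, k (pl D Di Y) = pl D Di Y := by
    intro Y
    obtain ⟨x, y, hxy⟩ := h.comm_form (h.kp Y)
    rw [hxy, map_add, map_smul, map_smul, hk1, hd, d1, one_smul]
  have hkY : ∀ Y, k Y = pl D Di Y + α • ql D Di Y := by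
    intro Y
    conv_lhs => rw [← h.add_pq Y]
    rw [map_add, kp', hγ _ (h.kq Y), ag]
  have hfX : ∀ X, f X = α • pl D Di X + ql D Di X := by
    intro X
    rw [hαβ, b1', one_smul]
  rcases (mul_self_eq_one_iff.mp (by rw [← pow_two]; exact α2) : α = 1 ∨ α = -1) with ha | ha
  · left
    rintro ⟨X, Y⟩
    rw [hZ, hfX, hkY, ha, one_smul, one_smul, h.add_pq, h.add_pq]
  · right
    intro X Y
    have kX : ∀ X, kap D Di X = pl D Di X - ql D Di X := by
      intro X
      conv_lhs => rw [← h.add_pq X]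
      rw [map_add, h.kp, h.kq, sub_eq_add_neg]
    rw [hZ, hfX, hkY, ha, neg_one_smul, neg_one_smul, kX, kX, neg_sub, sub_eq_add_neg, sub_eq_add_neg,
      add_comm (-(pl D Di X))]

end QD

end Cfsg.Agent.OddHalf.NI.Sol
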