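import Cfsg.Agent.OddHalf.NI.SolFrameTwo
import Cfsg.Agent.OddHalf.NI.SolKill

/-!
# Sol(q): the frame of a subgroup with a linear model
-/

set_option autoImplicit false

namespace Cfsg.Agent.OddHalf.NI.Sol

open Matrix Cfsg.Agent.Lib.SL2Mat Cfsg.Agent.Lib.AutSL2 Cfsg.Agent.Lib.AutSL2Out

variable {F : Type*} [Field F] {G : Type*} [Group G]

theorem Pos.frame [Finite F] {L : Subgroup G} {u : ↥L} {a b c : SL F →* ↥L}
    {π : ↥L →* ((M2 F × M2 F) ≃ₗ[F] (M2 F × M2 F))} (H : Pos u a b c π) (perf : commutator (SL F) = ⊤)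
    (h2 : (2 : F) ≠ 0) {τ x y : F}
    (hτ : τ ^ 2 ≠ 4) (hxy : x ^ 2 - τ * x * y + y ^ 2 = -1) {m : ℕ}
    (hT : Tor (conjGL (Dgl τ hτ)) (tt τ) (nn τ x y hxy) (-1) m) :
    ∃ g : G, Fr (conjGL (Dgl τ hτ)) (tt τ) (-1) L (L.subtype.comp a) (L.subtype.comp b) (L.subtype.comp c) g := by
  obtain ⟨g, hg⟩ := H.aframe perf h2 hτ hxy hT
  have kk : ∀ {p q : ↥L}, p = q → (p : G) = (q : G) := fun h => by rw [h]
  refine ⟨g,
    { ia := L.subtype_injective.comp (H.ia h2)
      ib := L.subtype_injective.comp H.ib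
      ic := L.subtype_injective.comp H.ic
      ma := fun A => (a A).2
      mb := fun A => (b A).2
      mc := fun A => (c A).2
      mg := g.2
      ab := fun A B => kk (H.ab perf A B)
      ac := fun A B => kk (H.ac perf A B)
      bc := fun A B => kk (H.bc perf A B)
      cen := ?_
      prod := ?_
      gv := ?_
      ea := fun A => kk (hg.ea A)
      eb := fun A => kk (hg.eb A)
      ec := fun A => kk (hg.ec A)
      ga := kk hg.ga
      gb := kk hg.gb
      gc := kk hg.gc
      rig := ?_ }⟩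
  · intro p hp
    have h1 := H.cen ⟨p, hp⟩
    rw [← H.au] at h1
    exact kk h1
  · have h1 := H.bcu
    rw [← H.au] at h1
    exact kk h1
  · rcases hg.gv with h1 | h1
    · left; exact kk h1
    · right
      have h3 := kk h1
      rw [← H.au] at h3
      exact h3
  · intro y hy hc
    obtain ⟨c1, c2, c3⟩ := hc
    have hy' : ∀ p, p ∈ L → y⁻¹ * p * y ∈ L := by
      intro p hp
      rw [hy]
      have : y * (y⁻¹ * p * y) * y⁻¹ = p := by group
      rw [this]
      exact hp
    let β : ↥L ≃* ↥L :=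
      { toFun := fun p => ⟨y * p * y⁻¹, (hy p).mp p.2⟩
        invFun := fun p => ⟨y⁻¹ * p * y, hy' p p.2⟩
        left_inv := fun p => Subtype.ext (by
          change y⁻¹ * (y * (p : G) * y⁻¹) * y = p
          group)
        right_inv := fun p => Subtype.ext (by
          change y * (y⁻¹ * (p : G) * y) * y⁻¹ = p
          group)
        map_mul' := fun p q => Subtype.ext (by
          change y * ((p : G) * q) * y⁻¹ = (y * p * y⁻¹) * (y * q * y⁻¹)
          group) }
    have hβ : ∀ p : ↥L, ((β p : ↥L) : G) = y * p * y⁻¹ := fun p => rfl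
    have fixX : ∀ X : SL F →* ↥L, (∀ A, y * (X A : G) = (X A : G) * y) → ∀ A, β (X A) = X A := by
      intro X hX A
      apply Subtype.ext
      rw [hβ, hX, mul_inv_cancel_right]
    rcases hg.rig β (fixX a c1) (fixX b c2) (fixX c c3) with h1 | h1
    · left
      have h3 := kk h1
      rw [hβ] at h3
      exact mul_inv_eq_iff_eq_mul.mp h3
    · right
      have h3 := kk h1
      rw [hβ] at h3
      have h4 : y * ((b (-1) : ↥L) : G) * g * (y * ((b (-1) : ↥L) : G))⁻¹ = g := by
        refine Eq.trans ?_ h3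
        push_cast
        group
      exact mul_inv_eq_iff_eq_mul.mp h4

end Cfsg.Agent.OddHalf.NI.Sol
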