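import Cfsg.Agent.OddHalf.NI.SolField

/-!
# Sol(q): the structure `Tor` for `SL₂(F)`, three choices of the torus
-/

set_option autoImplicit false

namespace Cfsg.Agent.OddHalf.NI.Sol

open Matrix Cfsg.Agent.Lib.SL2Mat Cfsg.Agent.Lib.AutSL2 Cfsg.Agent.Lib.AutSL2Out
open Cfsg.Agent.LFourR.Mat2
open Cfsg.Agent.LFourR.FieldPart (val_mul val_one val_pow)

variable {F : Type*} [Field F]

theorem trace_aut {τ : F} {α : MulAut (SL F)} {g : GL (Fin 2) F} {σ : F ≃+* F}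
    (h : α = conjGL g * fieldAut σ) : (α (tt τ)).1.trace = σ τ := by
  have h1 : (α (tt τ)).1 = g.1 * (σ.toRingHom.mapMatrix (tt τ).1) * g⁻¹.1 := by
    rw [h]
    rfl
  rw [h1, Matrix.trace_mul_comm, ← Matrix.mul_assoc, inv_val_mul_val, Matrix.one_mul, tt_val, trace_fin_two]
  simp

theorem tor_of [Fintype F] (hq : Odd (Fintype.card F)) (h2 : (2 : F) ≠ 0) {τ : F} (hτ : τ ^ 2 ≠ 4) {x y : F}
    (hxy : x ^ 2 - τ * x * y + y ^ 2 = -1) {m : ℕ} (hodd : Odd m) (hm : 1 < m) (ord : orderOf (tt τ) = m)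
    (Ar1 : ∀ σ : F ≃+* F, ∃ k : ℤ, (tt τ ^ k).1.trace = σ τ)
    (Ar2 : ∀ (σ σ' : F ≃+* F) (k l : ℤ), (tt τ ^ k).1.trace = σ τ → (tt τ ^ l).1.trace = σ' τ →
      ((l : ℤ) : ZMod m) ^ 2 + ((k : ℤ) : ZMod m) * ((l : ℤ) : ZMod m) + 2 * ((k : ℤ) : ZMod m) ^ 2 ≠ 0) :
    Tor (conjGL (Dgl τ hτ)) (tt τ) (nn τ x y hxy) (-1) m where
  odd := hodd
  one_lt := hm
  ord := ord
  zz := by rw [neg_mul_neg, one_mul]
  z1 := (Cfsg.Agent.LFourA.AutTwo.one_ne_neg h2).symm
  zuniq := fun A hA hA1 => (Cfsg.Agent.Lib.PSL2Inv.sq_eq_one h2 hA).resolve_left hA1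
  cen := fun A => by rw [mul_neg, neg_mul, mul_one, one_mul]
  cen2 := fun A hA => (Cfsg.Agent.LFourA.AutTwo.mem_center_iff' h2).mp
    (Subgroup.mem_center_iff.mpr fun g => (hA g).symm)
  nn := nn_sq hxy
  nt := nn_tt hxy
  dt := Dgl_tt hτ
  dn := Dgl_nn hτ hxy
  tor := fun A hA hAm => tor_pow h2 hτ (by omega) ord hA hAm
  conj := by
    intro α
    obtain ⟨g, σ, hgσ⟩ := exists_eq α
    obtain ⟨k, hk⟩ := Ar1 σ
    have hσ : (σ τ) ^ 2 ≠ 4 := by
      intro h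
      apply hτ
      apply σ.injective
      rw [map_pow, h, map_ofNat]
    obtain ⟨s, hs⟩ := exists_slconj hq h2 (A := tt τ ^ k) (B := α (tt τ)) (by rw [hk, trace_aut hgσ])
      (by rw [hk]; exact hσ)
    have h1 : α (α.symm s * tt τ * (α.symm s)⁻¹) = tt τ ^ k := by
      rw [map_mul, map_mul, map_inv, MulEquiv.apply_symm_apply, ← hs, mul_inv_cancel_right]
    exact ⟨α.symm s, k, h1, fun A => aut_comm hτ (α * MulAut.conj (α.symm s)) h1 A⟩
  arith := by
    intro α β k l hα hβ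
    obtain ⟨g, σ, hgσ⟩ := exists_eq α
    obtain ⟨g', σ', hgσ'⟩ := exists_eq β
    exact Ar2 σ σ' k l (by rw [← hα, trace_aut hgσ]) (by rw [← hβ, trace_aut hgσ'])

/-- `k` is not `0` -/
theorem ne_zero_of_trace {τ : F} (hτ : τ ^ 2 ≠ 4) {m : ℕ} (ord : orderOf (tt τ) = m) {σ : F ≃+* F} {k : ℤ}
    (h : (tt τ ^ k).1.trace = σ τ) : ((k : ℤ) : ZMod m) ≠ 0 := by
  intro h0
  rw [ZMod.intCast_zmod_eq_zero_iff_dvd, ← ord, orderOf_dvd_iff_zpow_eq_one] at h0
  rw [h0, val_one, trace_one] at h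
  apply hτ
  apply σ.injective
  rw [map_pow, ← h, map_ofNat, Fintype.card_fin]
  norm_num

/-- the case `p ≠ 3`: `m = 3` -/
theorem exists_tor_three [Fintype F] (hq : Odd (Fintype.card F)) (h2 : (2 : F) ≠ 0) (h3 : (3 : F) ≠ 0) :
    ∃ (τ : F) (hτ : τ ^ 2 ≠ 4) (x y : F) (hxy : x ^ 2 - τ * x * y + y ^ 2 = -1) (m : ℕ),
      Tor (conjGL (Dgl τ hτ)) (tt τ) (nn τ x y hxy) (-1) m := by
  have hτ : (-1 : F) ^ 2 ≠ 4 := by
    intro h
    apply h3
    linear_combination -h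
  obtain ⟨x, y, hxy⟩ := exists_xy hq h2 hτ
  have ord : orderOf (tt (-1 : F)) = 3 := by
    have hp : Fact (Nat.Prime 3) := ⟨Nat.prime_three⟩
    apply orderOf_eq_prime
    · apply Subtype.ext
      rw [val_pow, val_one, tt_val, pow_succ, pow_two, Matrix.mul_fin_two, Matrix.mul_fin_two]
      ext i j
      fin_cases i <;> fin_cases j <;> simp
    · intro h
      have h1 := congrArg (fun A : SL F => A.1 1 0) h
      simp [tt_val] at h1
  refine ⟨-1, hτ, x, y, hxy, 3, tor_of hq h2 hτ hxy (by decide) (by decide) ord ?_ ?_⟩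
  · intro σ
    refine ⟨1, ?_⟩
    rw [zpow_one, tt_val, trace_fin_two, map_neg, map_one]
    simp
  · intro σ σ' k l hk _
    have h4 := ne_zero_of_trace hτ ord hk
    revert h4
    generalize ((k : ℤ) : ZMod 3) = a
    generalize ((l : ℤ) : ZMod 3) = b
    revert a b
    decide

/-- `m = 5` -/
theorem exists_tor_five [Fintype F] (hq : Odd (Fintype.card F)) (h2 : (2 : F) ≠ 0) (h5 : (5 : F) ≠ 0) {τ : F}
    (h : τ ^ 2 + τ - 1 = 0) :
    ∃ (τ : F) (hτ : τ ^ 2 ≠ 4) (x y : F) (hxy : x ^ 2 - τ * x * y + y ^ 2 = -1) (m : ℕ),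
      Tor (conjGL (Dgl τ hτ)) (tt τ) (nn τ x y hxy) (-1) m := by
  have hτ : τ ^ 2 ≠ 4 := by
    intro h4
    have h6 : τ = -3 := by linear_combination h - h4
    rw [h6] at h4
    apply h5
    linear_combination h4
  obtain ⟨x, y, hxy⟩ := exists_xy hq h2 hτ
  have htr2 : (tt τ ^ (2 : ℤ)).1.trace = -1 - τ := by
    rw [show (2 : ℤ) = ((2 : ℕ) : ℤ) from rfl, zpow_natCast, val_pow, tt_val, pow_two, Matrix.mul_fin_two,
      trace_fin_two]
    simp
    linear_combination h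
  have ord : orderOf (tt τ) = 5 := by
    have hp : Fact (Nat.Prime 5) := ⟨Nat.prime_five⟩
    apply orderOf_eq_prime
    · apply Subtype.ext
      rw [val_pow, val_one, tt_val, pow_succ, pow_succ, pow_succ, pow_two, Matrix.mul_fin_two, Matrix.mul_fin_two,
        Matrix.mul_fin_two, Matrix.mul_fin_two]
      ext i j
      fin_cases i <;> fin_cases j <;> simp <;> grind
    · intro h
      have h1 := congrArg (fun A : SL F => A.1 1 0) h
      simp [tt_val] at h1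
  refine ⟨τ, hτ, x, y, hxy, 5, tor_of hq h2 hτ hxy (by decide) (by decide) ord ?_ ?_⟩
  · intro σ
    have h6 : (σ τ - τ) * (σ τ + 1 + τ) = 0 := by
      have h7 := congrArg σ h
      simp only [map_add, map_sub, map_pow, map_one, map_zero] at h7
      linear_combination h7 - h
    rcases mul_eq_zero.mp h6 with h7 | h7
    · refine ⟨1, ?_⟩
      rw [zpow_one, tt_val, trace_fin_two]
      simp
      linear_combination -h7
    · refine ⟨2, ?_⟩
      rw [htr2]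
      linear_combination -h7
  · intro σ σ' k l hk _
    have h4 := ne_zero_of_trace hτ ord hk
    revert h4
    generalize ((k : ℤ) : ZMod 5) = a
    generalize ((l : ℤ) : ZMod 5) = b
    revert a b
    decide

end Cfsg.Agent.OddHalf.NI.Sol
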