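import Cfsg.Agent.OddHalf.NI.SolArith

/-!
# Sol(q): frames, the action of `s = g⁻¹ b(n) g` on the `m`-torus

`S` is `SL₂(F)`. A frame of `L` (`≃ Spin₇(F)`): `a b c : S →* G` (the `Spin₃` and the two factors of the `Spin₄⁺`) and
`g` of order 3, a 3-cycle of the three planes of the torus.
-/

set_option autoImplicit false

namespace Cfsg.Agent.OddHalf.NI.Sol

open Subgroup

variable {S : Type*} [Group S] {G : Type*} [Group G]

/-- The torus data of `S = SL₂(F)`: `t` of odd order `m`, `n² = z`, `t ^ n = t⁻¹`, `δ` the diagonal automorphism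
centralizing the torus. -/
structure Tor (δ : MulAut S) (t n z : S) (m : ℕ) : Prop where
  odd : Odd m
  one_lt : 1 < m
  ord : orderOf t = m
  zz : z * z = 1
  z1 : z ≠ 1
  zuniq : ∀ x : S, x * x = 1 → x ≠ 1 → x = z
  cen : ∀ x : S, x * z = z * x
  cen2 : ∀ x : S, (∀ y, x * y = y * x) → x = 1 ∨ x = z
  nn : n * n = z
  nt : n * t * n⁻¹ = t⁻¹
  dt : δ t = t
  dn : δ n = z * n
  tor : ∀ A, δ A = A → A ^ m = 1 → ∃ k : ℤ, A = t ^ k
  conj : ∀ α : MulAut S, ∃ (h : S) (k : ℤ), α (h * t * h⁻¹) = t ^ k ∧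
    ∀ A, α (h * δ A * h⁻¹) = δ (α (h * A * h⁻¹))
  arith : ∀ (α β : MulAut S) (k l : ℤ), α t = t ^ k → β t = t ^ l →
    ((l : ℤ) : ZMod m) ^ 2 + ((k : ℤ) : ZMod m) * ((l : ℤ) : ZMod m) + 2 * ((k : ℤ) : ZMod m) ^ 2 ≠ 0

/-- `y` centralizes the images of `a`, `b`, `c`. -/
def Cen (a b c : S →* G) (y : G) : Prop :=
  (∀ A, y * a A = a A * y) ∧ (∀ A, y * b A = b A * y) ∧ (∀ A, y * c A = c A * y)

/-- A frame of `L`. -/
structure Fr (δ : MulAut S) (t z : S) (L : Subgroup G) (a b c : S →* G) (g : G) : Prop where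
  ia : Function.Injective a
  ib : Function.Injective b
  ic : Function.Injective c
  ma : ∀ A, a A ∈ L
  mb : ∀ A, b A ∈ L
  mc : ∀ A, c A ∈ L
  mg : g ∈ L
  ab : ∀ A B, a A * b B = b B * a A
  ac : ∀ A B, a A * c B = c B * a A
  bc : ∀ A B, b A * c B = c B * b A
  cen : ∀ x ∈ L, x * a z = a z * x
  prod : b z * c z = a z
  gv : g * b z * g⁻¹ = b z * (g⁻¹ * b z * g) ∨ g * b z * g⁻¹ = b z * (g⁻¹ * b z * g) * a z
  ea : ∀ A, (g⁻¹ * b z * g) * a A = a (δ A) * (g⁻¹ * b z * g)
  eb : ∀ A, (g⁻¹ * b z * g) * b A = b (δ A) * (g⁻¹ * b z * g)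
  ec : ∀ A, (g⁻¹ * b z * g) * c A = c (δ A) * (g⁻¹ * b z * g)
  ga : g * a t * g⁻¹ = b t * c t
  gb : g * (b t * c t) * g⁻¹ = b t * (c t)⁻¹
  gc : g * (b t * (c t)⁻¹) * g⁻¹ = a t
  rig : ∀ y : G, (∀ x, x ∈ L ↔ y * x * y⁻¹ ∈ L) → Cen a b c y →
    y * g = g * y ∨ (y * b z) * g = g * (y * b z)

theorem Fr.conj {δ : MulAut S} {t z : S} {L : Subgroup G} {a b c : S →* G} {g : G} (h : Fr δ t z L a b c g)
    {x : G} (hx : x ∈ L) :
    Fr δ t z L ((MulAut.conj x).toMonoidHom.comp a) ((MulAut.conj x).toMonoidHom.comp b)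
      ((MulAut.conj x).toMonoidHom.comp c) (MulAut.conj x g) := by
  have key : ∀ {p q : G}, p = q → MulAut.conj x p = MulAut.conj x q := fun h => by rw [h]
  have kk : ∀ {p q : G} {P Q : G}, p = q → P = MulAut.conj x p → Q = MulAut.conj x q → P = Q := by
    intro p q P Q h1 h2 h3
    rw [h2, h3, h1]
  have hL : ∀ y, y ∈ L ↔ MulAut.conj x y ∈ L := by
    intro y
    rw [MulAut.conj_apply]
    constructor
    · intro hy
      exact mul_mem (mul_mem hx hy) (inv_mem hx)
    · intro hy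
      have := mul_mem (mul_mem (inv_mem hx) hy) hx
      convert this using 1
      group
  refine
    { ia := (MulAut.conj x).injective.comp h.ia
      ib := (MulAut.conj x).injective.comp h.ib
      ic := (MulAut.conj x).injective.comp h.ic
      ma := fun A => (hL _).mp (h.ma A)
      mb := fun A => (hL _).mp (h.mb A)
      mc := fun A => (hL _).mp (h.mc A)
      mg := (hL _).mp h.mg
      ab := fun A B => kk (h.ab A B) (by rw [map_mul]; rfl) (by rw [map_mul]; rfl)
      ac := fun A B => kk (h.ac A B) (by rw [map_mul]; rfl) (by rw [map_mul]; rfl)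
      bc := fun A B => kk (h.bc A B) (by rw [map_mul]; rfl) (by rw [map_mul]; rfl)
      cen := ?_
      prod := kk h.prod (by rw [map_mul]; rfl) rfl
      gv := ?_
      ea := fun A => kk (h.ea A) (by simp only [map_mul, map_inv]; rfl) (by simp only [map_mul, map_inv]; rfl)
      eb := fun A => kk (h.eb A) (by simp only [map_mul, map_inv]; rfl) (by simp only [map_mul, map_inv]; rfl)
      ec := fun A => kk (h.ec A) (by simp only [map_mul, map_inv]; rfl) (by simp only [map_mul, map_inv]; rfl)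
      ga := kk h.ga (by simp only [map_mul, map_inv]; rfl) (by simp only [map_mul, map_inv]; rfl)
      gb := kk h.gb (by simp only [map_mul, map_inv]; rfl) (by simp only [map_mul, map_inv]; rfl)
      gc := kk h.gc (by simp only [map_mul, map_inv]; rfl) rfl
      rig := ?_ }
  · intro y hy
    have h1 : y * a z = a z * y := h.cen y hy
    have h2 : x * a z = a z * x := h.cen x hx
    have h3 : ((MulAut.conj x).toMonoidHom.comp a) z = a z := by
      change x * a z * x⁻¹ = a z
      rw [h2, mul_inv_cancel_right]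
    rw [h3, h1]
  · rcases h.gv with h1 | h1
    · left; exact kk h1 (by simp only [map_mul, map_inv]; rfl) (by simp only [map_mul, map_inv]; rfl)
    · right; exact kk h1 (by simp only [map_mul, map_inv]; rfl) (by simp only [map_mul, map_inv]; rfl)
  · intro y hy hc
    obtain ⟨h1, h2, h3⟩ := hc
    -- `y' = x⁻¹ y x`
    have e1 : ∀ p q : G, y * (MulAut.conj x p) = (MulAut.conj x q) * y ↔
        (x⁻¹ * y * x) * p = q * (x⁻¹ * y * x) := by
      intro p q
      rw [MulAut.conj_apply, MulAut.conj_apply]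
      constructor
      · intro h5
        have h6 : x⁻¹ * (y * (x * p * x⁻¹)) * x = x⁻¹ * ((x * q * x⁻¹) * y) * x := by rw [h5]
        convert h6 using 1 <;> group
      · intro h5
        have h6 : x * ((x⁻¹ * y * x) * p) * x⁻¹ = x * (q * (x⁻¹ * y * x)) * x⁻¹ := by rw [h5]
        convert h6 using 1 <;> group
    have hN : ∀ p, p ∈ L ↔ (x⁻¹ * y * x) * p * (x⁻¹ * y * x)⁻¹ ∈ L := by
      intro p
      have h5 : (x⁻¹ * y * x) * p * (x⁻¹ * y * x)⁻¹ = x⁻¹ * (y * (x * p * x⁻¹) * y⁻¹) * x := by group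
      have h6 : ∀ q, q ∈ L ↔ x⁻¹ * q * x ∈ L := by
        intro q
        rw [hL (x⁻¹ * q * x), MulAut.conj_apply]
        have : x * (x⁻¹ * q * x) * x⁻¹ = q := by group
        rw [this]
      rw [h5, ← h6, ← hy, hL p, MulAut.conj_apply]
    rcases h.rig (x⁻¹ * y * x) hN ⟨fun A => (e1 _ _).mp (h1 A), fun A => (e1 _ _).mp (h2 A),
      fun A => (e1 _ _).mp (h3 A)⟩ with h4 | h4
    · left; exact (e1 _ _).mpr h4
    · right
      change (y * (x * b z * x⁻¹)) * (x * g * x⁻¹) = (x * g * x⁻¹) * (y * (x * b z * x⁻¹))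
      have h6 : x * ((x⁻¹ * y * x) * b z * g) * x⁻¹ = x * (g * ((x⁻¹ * y * x) * b z)) * x⁻¹ := by rw [h4]
      convert h6 using 1 <;> group

section torus

variable {m : ℕ} [NeZero m]

theorem pw_add {t : S} (ht : t ^ m = 1) (x y : ZMod m) : t ^ (x + y).val = t ^ x.val * t ^ y.val := by
  rw [ZMod.val_add, ← pow_add]
  conv_rhs => rw [← Nat.mod_add_div (x.val + y.val) m, pow_add, pow_mul, ht, one_pow, mul_one]

omit [NeZero m] in
theorem pw_natCast {t : S} (ht : t ^ m = 1) (k : ℕ) : t ^ (k : ZMod m).val = t ^ k := by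
  rw [ZMod.val_natCast]
  conv_rhs => rw [← Nat.mod_add_div k m, pow_add, pow_mul, ht, one_pow, mul_one]

theorem pw_intCast {t : S} (ht : t ^ m = 1) (k : ℤ) : t ^ ((k : ℤ) : ZMod m).val = t ^ k := by
  have h1 : ((((k : ℤ) : ZMod m).val : ℕ) : ℤ) = k % m := ZMod.val_intCast k
  rw [← zpow_natCast, h1]
  conv_rhs => rw [← Int.emod_add_mul_ediv k m, zpow_add, zpow_mul, zpow_natCast, ht, one_zpow, mul_one]

theorem pw_inj {t : S} (ht : orderOf t = m) {x y : ZMod m} (h : t ^ x.val = t ^ y.val) : x = y := by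
  have h1 : x.val % orderOf t = y.val % orderOf t := pow_inj_mod.mp h
  rw [ht, Nat.mod_eq_of_lt (ZMod.val_lt x), Nat.mod_eq_of_lt (ZMod.val_lt y)] at h1
  exact ZMod.val_injective m h1

/-- the torus -/
def P (t : S) (a b c : S →* G) (x : Fin 3 → ZMod m) : G :=
  a (t ^ (x 0).val) * b (t ^ (x 1).val) * c (t ^ (x 2).val)

variable {δ : MulAut S} {t z : S} {L : Subgroup G} {a b c : S →* G} {g : G}

theorem P_add (ht : t ^ m = 1) (ab : ∀ A B, a A * b B = b B * a A) (ac : ∀ A B, a A * c B = c B * a A)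
    (bc : ∀ A B, b A * c B = c B * b A) (x y : Fin 3 → ZMod m) :
    P t a b c (x + y) = P t a b c x * P t a b c y := by
  unfold P
  rw [Pi.add_apply, Pi.add_apply, Pi.add_apply, pw_add ht, pw_add ht, pw_add ht, map_mul, map_mul, map_mul]
  generalize t ^ (x 0).val = x0
  generalize t ^ (y 0).val = y0
  generalize t ^ (x 1).val = x1
  generalize t ^ (y 1).val = y1
  generalize t ^ (x 2).val = x2
  generalize t ^ (y 2).val = y2
  calc a x0 * a y0 * (b x1 * b y1) * (c x2 * c y2) = a x0 * (a y0 * b x1) * (b y1 * c x2) * c y2 := by group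
    _ = a x0 * (b x1 * a y0) * (c x2 * b y1) * c y2 := by rw [ab, bc]
    _ = a x0 * b x1 * (a y0 * c x2) * b y1 * c y2 := by group
    _ = a x0 * b x1 * (c x2 * a y0) * b y1 * c y2 := by rw [ac]
    _ = a x0 * b x1 * c x2 * (a y0 * b y1 * c y2) := by group

/-- the torus as a homomorphism -/
def Phom (t : S) (a b c : S →* G) (ht : t ^ m = 1) (ab : ∀ A B, a A * b B = b B * a A)
    (ac : ∀ A B, a A * c B = c B * a A) (bc : ∀ A B, b A * c B = c B * b A) :
    Multiplicative (Fin 3 → ZMod m) →* G where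
  toFun x := P t a b c x.toAdd
  map_one' := by simp [P]
  map_mul' x y := P_add ht ab ac bc _ _

theorem P_pow (ht : t ^ m = 1) (ab : ∀ A B, a A * b B = b B * a A) (ac : ∀ A B, a A * c B = c B * a A)
    (bc : ∀ A B, b A * c B = c B * b A) (x : Fin 3 → ZMod m) (k : ZMod m) :
    P t a b c (k • x) = P t a b c x ^ k.val := by
  have h1 : (Phom t a b c ht ab ac bc) (Multiplicative.ofAdd x ^ k.val) =
      (Phom t a b c ht ab ac bc) (Multiplicative.ofAdd x) ^ k.val := map_pow _ _ _
  have h2 : Multiplicative.ofAdd x ^ k.val = Multiplicative.ofAdd (k • x) := by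
    rw [← ofAdd_nsmul]
    congr 1
    ext i
    rw [Pi.smul_apply, Pi.smul_apply, nsmul_eq_mul, smul_eq_mul, ZMod.natCast_zmod_val]
  rw [h2] at h1
  exact h1

/-- an element acting on the images of the unit vectors by the columns of `M` acts as `M` -/
theorem act_of (ht : t ^ m = 1) (ab : ∀ A B, a A * b B = b B * a A) (ac : ∀ A B, a A * c B = c B * a A)
    (bc : ∀ A B, b A * c B = c B * b A) (M : Matrix (Fin 3) (Fin 3) (ZMod m)) (s : G)
    (h : ∀ i, s * P t a b c (Pi.single i 1 : Fin 3 → ZMod m) * s⁻¹ = P t a b c (fun j => M j i)) (x : Fin 3 → ZMod m) :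
    s * P t a b c x * s⁻¹ = P t a b c (M.mulVec x) := by
  have hx : x = x 0 • Pi.single 0 1 + x 1 • Pi.single 1 1 + x 2 • (Pi.single 2 1 : Fin 3 → ZMod m) := by
    ext i
    fin_cases i <;> simp
  have hM : M.mulVec x = x 0 • (fun j => M j 0) + x 1 • (fun j => M j 1) + x 2 • (fun j => M j 2) := by
    ext i
    simp [Matrix.mulVec, dotProduct, Fin.sum_univ_three]
    ring
  rw [hM, P_add ht ab ac bc, P_add ht ab ac bc, P_pow ht ab ac bc, P_pow ht ab ac bc, P_pow ht ab ac bc,
    ← h 0, ← h 1, ← h 2, conj_pow, conj_pow, conj_pow]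
  conv_lhs => rw [hx]
  rw [P_add ht ab ac bc, P_add ht ab ac bc, P_pow ht ab ac bc, P_pow ht ab ac bc, P_pow ht ab ac bc]
  group

theorem P_inj (ht : orderOf t = m) (hodd : Odd m) (ia : Function.Injective a) (ib : Function.Injective b)
    (ic : Function.Injective c) (ab : ∀ A B, a A * b B = b B * a A) (ac : ∀ A B, a A * c B = c B * a A)
    (bc : ∀ A B, b A * c B = c B * b A) (hz : z * z = 1)
    (hcen : ∀ x : S, (∀ y, x * y = y * x) → x = 1 ∨ x = z) {x : Fin 3 → ZMod m}
    (h : P t a b c x = 1) : x = 0 := by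
  have ht1 : t ^ m = 1 := by rw [← ht, pow_orderOf_eq_one]
  have h2 : ∀ A : S, A ^ m = 1 → A = z → A = 1 := by
    intro A h3 h4
    obtain ⟨k, hk⟩ := hodd
    rw [hk, pow_succ, pow_mul, pow_two, h4, hz, one_pow, one_mul] at h3
    rw [h4, h3]
  have hp : ∀ k : ZMod m, (t ^ k.val) ^ m = 1 := by
    intro k
    rw [← pow_mul, mul_comm, pow_mul, ht1, one_pow]
  have h3 : ∀ k : ZMod m, t ^ k.val = 1 → k = 0 := by
    intro k hk
    apply pw_inj (t := t) ht
    rw [hk, ZMod.val_zero, pow_zero]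
  unfold P at h
  -- first coordinate
  have e0 : t ^ (x 0).val = 1 := by
    have h4 : ∀ y, t ^ (x 0).val * y = y * t ^ (x 0).val := by
      intro y
      apply ia
      rw [map_mul, map_mul]
      have h5 : a (t ^ (x 0).val) = (b (t ^ (x 1).val) * c (t ^ (x 2).val))⁻¹ := by
        rw [eq_inv_iff_mul_eq_one, ← mul_assoc, h]
      rw [h5]
      have h6 : Commute (b (t ^ (x 1).val) * c (t ^ (x 2).val)) (a y) :=
        Commute.mul_left (ab y _).symm (ac y _).symm
      exact h6.inv_left.eq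
    rcases hcen _ h4 with h5 | h5
    · exact h5
    · exact h2 _ (hp _) h5
  have e1 : t ^ (x 1).val = 1 := by
    rw [e0, map_one, one_mul] at h
    have h4 : ∀ y, t ^ (x 1).val * y = y * t ^ (x 1).val := by
      intro y
      apply ib
      rw [map_mul, map_mul]
      have h5 : b (t ^ (x 1).val) = (c (t ^ (x 2).val))⁻¹ := by
        rw [eq_inv_iff_mul_eq_one, h]
      rw [h5]
      have h6 : Commute (c (t ^ (x 2).val)) (b y) := (bc y _).symm
      exact h6.inv_left.eq
    rcases hcen _ h4 with h5 | h5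
    · exact h5
    · exact h2 _ (hp _) h5
  have e2 : t ^ (x 2).val = 1 := by
    rw [e0, e1, map_one, one_mul, map_one, one_mul, ← map_one c] at h
    exact ic h
  funext i
  fin_cases i
  · exact h3 _ e0
  · exact h3 _ e1
  · exact h3 _ e2

theorem P_inj' (ht : orderOf t = m) (hodd : Odd m) (ia : Function.Injective a) (ib : Function.Injective b)
    (ic : Function.Injective c) (ab : ∀ A B, a A * b B = b B * a A) (ac : ∀ A B, a A * c B = c B * a A)
    (bc : ∀ A B, b A * c B = c B * b A) (hz : z * z = 1)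
    (hcen : ∀ x : S, (∀ y, x * y = y * x) → x = 1 ∨ x = z) {x y : Fin 3 → ZMod m}
    (h : P t a b c x = P t a b c y) : x = y := by
  have ht1 : t ^ m = 1 := by rw [← ht, pow_orderOf_eq_one]
  have h1 : P t a b c (x - y) = 1 := by
    have h2 : P t a b c (x - y) * P t a b c y = P t a b c y := by
      rw [← P_add ht1 ab ac bc, sub_add_cancel, h]
    exact mul_eq_right.mp h2
  exact sub_eq_zero.mp (P_inj ht hodd ia ib ic ab ac bc hz hcen h1)

end torus

end Cfsg.Agent.OddHalf.NI.Sol
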