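import Cfsg.Agent.OddHalf.NI.NoFamOf
import Cfsg.Agent.OddHalf.NI.QuotOdd

/-!
# THEOREM X: `LieCl` from S1310, and the form consumed by `Niv`
-/

set_option autoImplicit false

namespace Cfsg.Agent.OddHalf.NI.ThmXInst

open Subgroup Cfsg Cfsg.Agent.OddHalf.NI

universe u

theorem lieCl (P : Stmts.P1310.{u}) : FrameKill.LieCl.{u} := fun _ _ _ hq _ _ hb hbZ hB hbB hS =>
  Quot.lieOdd P hq hb hbZ hbB hB hS

/-- **THEOREM X**: `NoFam G` for all `G` in the world `Ctx`. -/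
theorem noFam (hft : ∀ (X : Type u) [Group X] [Finite X], Odd (Nat.card X) → Group.IsSolvable X)
    (P : Stmts.P1310.{u}) {S7 : ∀ (N : Type u) [Group N], N → N → Subgroup N → Subgroup N → Subgroup N → Prop}
    (hF2 : F2' S7) (hA : AutM S7) (hS : NI.Sol S7) : ∀ (G : Type u) [Group G], Iface.Ctx G → NoFam G :=
  NI.noFam hF2 hA hS (lieCl P) hft

end Cfsg.Agent.OddHalf.NI.ThmXInst
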